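import Mathlib
import Cfsg.Agent.Lib.Helper13.HermTv
import Cfsg.Agent.Lib.Helper13.HermStd

/-!
# U2 project (S2335): definitions

Minimal degree of `SU_{2m}(q)` via the abelian unipotent radical of the Siegel parabolic.
-/

set_option autoImplicit false

namespace Cfsg.Agent.Helper93.U2

open Matrix Cfsg.Agent.Helper13

section Defs

variable {F : Type*} [Field F] [Fintype F] {q : ℕ}

/-- conjugate transpose with respect to `x ↦ x ^ q` -/
noncomputable def cT (hF : Fintype.card F = q ^ 2) {α β : Type*} (M : Matrix α β F) :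
    Matrix β α F := (M.map (frobQ hF))ᵀ

theorem cT_apply (hF : Fintype.card F = q ^ 2) {α β : Type*} (M : Matrix α β F) (i : β) (j : α) :
    cT hF M i j = (M j i) ^ q := rfl

theorem cT_cT (hF : Fintype.card F = q ^ 2) {α β : Type*} (M : Matrix α β F) :
    cT hF (cT hF M) = M := by
  ext i j
  rw [cT_apply, cT_apply]
  exact frob_frob hF _

theorem cT_add (hF : Fintype.card F = q ^ 2) {α β : Type*} (M N : Matrix α β F) :
    cT hF (M + N) = cT hF M + cT hF N := by
  ext i j
  simp only [cT_apply, Matrix.add_apply]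
  exact map_add (frobQ hF) _ _

theorem cT_zero (hF : Fintype.card F = q ^ 2) {α β : Type*} :
    cT hF (0 : Matrix α β F) = 0 := by
  ext i j
  simp only [cT_apply, Matrix.zero_apply]
  exact map_zero (frobQ hF)

theorem cT_neg (hF : Fintype.card F = q ^ 2) {α β : Type*} (M : Matrix α β F) :
    cT hF (-M) = -cT hF M := by
  ext i j
  simp only [cT_apply, Matrix.neg_apply]
  exact map_neg (frobQ hF) _

theorem cT_sub (hF : Fintype.card F = q ^ 2) {α β : Type*} (M N : Matrix α β F) :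
    cT hF (M - N) = cT hF M - cT hF N := by
  rw [sub_eq_add_neg, cT_add, cT_neg, ← sub_eq_add_neg]

theorem cT_smul (hF : Fintype.card F = q ^ 2) {α β : Type*} (c : F) (M : Matrix α β F) :
    cT hF (c • M) = (c ^ q) • cT hF M := by
  ext i j
  simp only [cT_apply, Matrix.smul_apply, smul_eq_mul, mul_pow]

theorem cT_mul (hF : Fintype.card F = q ^ 2) {α β γ : Type*} [Fintype β]
    (M : Matrix α β F) (N : Matrix β γ F) :
    cT hF (M * N) = cT hF N * cT hF M := by
  unfold cT
  rw [Matrix.map_mul, Matrix.transpose_mul]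

theorem cT_one (hF : Fintype.card F = q ^ 2) {α : Type*} [DecidableEq α] :
    cT hF (1 : Matrix α α F) = 1 := by
  unfold cT
  rw [Matrix.map_one _ (map_zero _) (map_one _), Matrix.transpose_one]

/-- additive group of Hermitian `m × m` matrices -/
noncomputable def hermSub (hF : Fintype.card F = q ^ 2) (m : ℕ) :
    AddSubgroup (Matrix (Fin m) (Fin m) F) where
  carrier := {H | cT hF H = H}
  zero_mem' := cT_zero hF
  add_mem' := by
    intro a b ha hb
    change cT hF (a + b) = a + b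
    rw [cT_add, ha, hb]
  neg_mem' := by
    intro a ha
    change cT hF (-a) = -a
    rw [cT_neg, ha]

theorem mem_hermSub (hF : Fintype.card F = q ^ 2) (m : ℕ) (H : Matrix (Fin m) (Fin m) F) :
    H ∈ hermSub hF m ↔ cT hF H = H := Iff.rfl

/-- congruence `a ↦ t a t*` on Hermitian matrices -/
noncomputable def congH (hF : Fintype.card F = q ^ 2) {m : ℕ} (t : Matrix (Fin m) (Fin m) F)
    (a : ↥(hermSub hF m)) : ↥(hermSub hF m) :=
  ⟨t * a.1 * cT hF t, by
    change cT hF (t * a.1 * cT hF t) = t * a.1 * cT hF t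
    rw [cT_mul, cT_mul, cT_cT, a.2, Matrix.mul_assoc]⟩

theorem congH_val (hF : Fintype.card F = q ^ 2) {m : ℕ} (t : Matrix (Fin m) (Fin m) F)
    (a : ↥(hermSub hF m)) : (congH hF t a).1 = t * a.1 * cT hF t := rfl

/-- a hyperbolic frame: two totally isotropic `m`-frames `P`, `Q` in `F^n`, in duality,
with `P Q* + Q P* = 1` (so `n = 2m`). -/
structure Frame (hF : Fintype.card F = q ^ 2) (n m : ℕ) where
  P : Matrix (Fin n) (Fin m) F
  Q : Matrix (Fin n) (Fin m) F
  pp : cT hF P * P = 0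
  qq : cT hF Q * Q = 0
  pq : cT hF P * Q = 1
  res : P * cT hF Q + Q * cT hF P = 1

/-- matrix of the element of the abelian radical `A` with parameter `H` -/
noncomputable def aMat (hF : Fintype.card F = q ^ 2) {n m : ℕ} (fr : Frame hF n m) (ε : F)
    (H : Matrix (Fin m) (Fin m) F) : Matrix (Fin n) (Fin n) F :=
  1 + ε • (fr.P * H * cT hF fr.P)

/-- matrix of the Levi element attached to `1 + E`, `E * E = 0` -/
noncomputable def lMat (hF : Fintype.card F = q ^ 2) {n m : ℕ} (fr : Frame hF n m)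
    (E : Matrix (Fin m) (Fin m) F) : Matrix (Fin n) (Fin n) F :=
  1 + (fr.P * E * cT hF fr.Q - fr.Q * cT hF E * cT hF fr.P)

open Classical in
/-- the element of `SU` with matrix `M` if `M` is special unitary, `1` otherwise -/
noncomputable def suOf {n : ℕ} (q : ℕ) (M : Matrix (Fin n) (Fin n) F) : ↥(Cfsg.SU n F q) :=
  if h : M.det = 1 ∧ ∀ u v, Cfsg.hermForm n F q (M *ᵥ u) (M *ᵥ v) = Cfsg.hermForm n F q u v
  then mkSU M h.1 h.2 else 1

theorem suOf_val {n : ℕ} (M : Matrix (Fin n) (Fin n) F) (hdet : M.det = 1)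
    (hiso : ∀ u v, Cfsg.hermForm n F q (M *ᵥ u) (M *ᵥ v) = Cfsg.hermForm n F q u v) :
    (((suOf q M : ↥(Cfsg.SU n F q)) : Matrix.SpecialLinearGroup (Fin n) F) :
      Matrix (Fin n) (Fin n) F) = M := by
  unfold suOf
  rw [dif_pos ⟨hdet, hiso⟩]
  rfl

/-- the element of `A` with Hermitian parameter `a` -/
noncomputable def aEl (hF : Fintype.card F = q ^ 2) {n m : ℕ} (fr : Frame hF n m) (ε : F)
    (a : ↥(hermSub hF m)) : ↥(Cfsg.SU n F q) :=
  suOf q (aMat hF fr ε a.1)

/-- the Levi element attached to `1 + E` -/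
noncomputable def lEl (hF : Fintype.card F = q ^ 2) {n m : ℕ} (fr : Frame hF n m)
    (E : Matrix (Fin m) (Fin m) F) : ↥(Cfsg.SU n F q) :=
  suOf q (lMat hF fr E)

/-- the value `x* H x` of the Hermitian form with Gram matrix `H` -/
def hq (q : ℕ) {m : ℕ} (H : Matrix (Fin m) (Fin m) F)
    (x : Fin m → F) : F :=
  (fun i => (x i) ^ q) ⬝ᵥ (H *ᵥ x)

/-- the sesquilinear value `x* H y` -/
def hb (q : ℕ) {m : ℕ} (H : Matrix (Fin m) (Fin m) F)
    (x y : Fin m → F) : F :=
  (fun i => (x i) ^ q) ⬝ᵥ (H *ᵥ y)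

end Defs

section Rep

/-- a symmetric nondegenerate bicharacter on a finite abelian group -/
structure Pairing (𝓐 : Type*) [AddCommGroup 𝓐] where
  β : 𝓐 → 𝓐 → ℂ
  zero_right : ∀ a, β a 0 = 1
  add_right : ∀ a b c, β a (b + c) = β a b * β a c
  symm : ∀ a b, β a b = β b a
  nondeg : ∀ a, (∀ b, β a b = 1) → a = 0

variable {G : Type*} [Group G] {𝓐 : Type*} [AddCommGroup 𝓐]
  {V : Type*} [AddCommGroup V] [Module ℂ V]

/-- the weight space of weight `a` -/
def wsp (pr : Pairing 𝓐) (el : 𝓐 → G) (ρ : Representation ℂ G V) (a : 𝓐) : Submodule ℂ V where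
  carrier := {v | ∀ b, ρ (el b) v = pr.β a b • v}
  zero_mem' := by
    intro b
    rw [map_zero, smul_zero]
  add_mem' := by
    intro v w hv hw b
    rw [map_add, hv b, hw b, smul_add]
  smul_mem' := by
    intro c v hv b
    rw [map_smul, hv b, smul_comm]

theorem mem_wsp (pr : Pairing 𝓐) (el : 𝓐 → G) (ρ : Representation ℂ G V) (a : 𝓐) (v : V) :
    v ∈ wsp pr el ρ a ↔ ∀ b, ρ (el b) v = pr.β a b • v := Iff.rfl

/-- the projector onto the weight space of weight `a` -/
noncomputable def eOp [Fintype 𝓐] (pr : Pairing 𝓐) (el : 𝓐 → G) (ρ : Representation ℂ G V)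
    (a : 𝓐) : V →ₗ[ℂ] V :=
  ((Fintype.card 𝓐 : ℂ)⁻¹) • ∑ b : 𝓐, (pr.β a (-b)) • ρ (el b)

end Rep

end Cfsg.Agent.Helper93.U2
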