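import Mathlib
import Cfsg.Agent.Lib.Helper93.U20

/-!
# U3 project (S2334): definitions (odd-dimensional unitary groups)

`n = 2m + 1`: frame `P, Q` (totally isotropic, dual) and an anisotropic unit vector `w`
orthogonal to both.
-/

set_option autoImplicit false

namespace Cfsg.Agent.Helper93.U3

open Matrix Cfsg.Agent.Helper13 Cfsg.Agent.Helper93.U2

section Defs

variable {F : Type*} [Field F] [Fintype F] {q : ℕ}

/-- an "odd" frame -/
structure FrameO (hF : Fintype.card F = q ^ 2) (n m : ℕ) where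
  P : Matrix (Fin n) (Fin m) F
  Q : Matrix (Fin n) (Fin m) F
  w : Matrix (Fin n) (Fin 1) F
  pp : cT hF P * P = 0
  qq : cT hF Q * Q = 0
  pq : cT hF P * Q = 1
  pw : cT hF P * w = 0
  qw : cT hF Q * w = 0
  ww : cT hF w * w = 1

/-- a vector as a column matrix -/
def colM {m : ℕ} (y : Fin m → F) : Matrix (Fin m) (Fin 1) F := Matrix.of fun i _ => y i

theorem colM_apply {m : ℕ} (y : Fin m → F) (i : Fin m) (j : Fin 1) : colM y i j = y i := rfl

/-- matrix of the central element `a(H)` of the unipotent radical -/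
noncomputable def aMatO (hF : Fintype.card F = q ^ 2) {n m : ℕ} (fr : FrameO hF n m) (ε : F)
    (H : Matrix (Fin m) (Fin m) F) : Matrix (Fin n) (Fin n) F :=
  1 + ε • (fr.P * H * cT hF fr.P)

/-- matrix of the Levi element attached to `1 + E`, `E * E = 0` -/
noncomputable def lMatO (hF : Fintype.card F = q ^ 2) {n m : ℕ} (fr : FrameO hF n m)
    (E : Matrix (Fin m) (Fin m) F) : Matrix (Fin n) (Fin n) F :=
  1 + (fr.P * E * cT hF fr.Q - fr.Q * cT hF E * cT hF fr.P)

/-- matrix of the non-central radical element `u(y)` (`c₀ + c₀^q = -1`) -/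
noncomputable def uMat (hF : Fintype.card F = q ^ 2) {n m : ℕ} (fr : FrameO hF n m) (c₀ : F)
    (y : Fin m → F) : Matrix (Fin n) (Fin n) F :=
  1 + (fr.P * colM y * cT hF fr.w - fr.w * cT hF (colM y) * cT hF fr.P)
    + c₀ • (fr.P * colM y * cT hF (colM y) * cT hF fr.P)

/-- matrix of the torus element: `P ↦ t P`, `Q ↦ t^{-q} Q`, `w ↦ μ w` -/
noncomputable def hMat (hF : Fintype.card F = q ^ 2) {n m : ℕ} (fr : FrameO hF n m) (t μ : F) :
    Matrix (Fin n) (Fin n) F :=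
  1 + (t - 1) • (fr.P * cT hF fr.Q) + ((t ^ q)⁻¹ - 1) • (fr.Q * cT hF fr.P)
    + (μ - 1) • (fr.w * cT hF fr.w)

noncomputable def aElO (hF : Fintype.card F = q ^ 2) {n m : ℕ} (fr : FrameO hF n m) (ε : F)
    (a : ↥(hermSub hF m)) : ↥(Cfsg.SU n F q) :=
  suOf q (aMatO hF fr ε a.1)

noncomputable def lElO (hF : Fintype.card F = q ^ 2) {n m : ℕ} (fr : FrameO hF n m)
    (E : Matrix (Fin m) (Fin m) F) : ↥(Cfsg.SU n F q) :=
  suOf q (lMatO hF fr E)

noncomputable def uEl (hF : Fintype.card F = q ^ 2) {n m : ℕ} (fr : FrameO hF n m) (c₀ : F)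
    (y : Fin m → F) : ↥(Cfsg.SU n F q) :=
  suOf q (uMat hF fr c₀ y)

noncomputable def hEl (hF : Fintype.card F = q ^ 2) {n m : ℕ} (fr : FrameO hF n m) (t μ : F) :
    ↥(Cfsg.SU n F q) :=
  suOf q (hMat hF fr t μ)

/-- the Hermitian matrix `ε⁻¹ (y' y* − y y'*)` (commutator of `u(y)`, `u(y')`) -/
noncomputable def kH (hF : Fintype.card F = q ^ 2) {m : ℕ} (ε : F) (hε : ε ^ q = -ε)
    (y y' : Fin m → F) : ↥(hermSub hF m) :=
  ⟨ε⁻¹ • (colM y' * cT hF (colM y) - colM y * cT hF (colM y')), by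
    change cT hF (ε⁻¹ • (colM y' * cT hF (colM y) - colM y * cT hF (colM y'))) = _
    rw [cT_smul, cT_sub, cT_mul, cT_mul, cT_cT, cT_cT, inv_pow, hε, inv_neg, neg_smul,
      ← smul_neg, neg_sub]⟩

theorem kH_val (hF : Fintype.card F = q ^ 2) {m : ℕ} (ε : F) (hε : ε ^ q = -ε)
    (y y' : Fin m → F) :
    (kH hF ε hε y y').1 = ε⁻¹ • (colM y' * cT hF (colM y) - colM y * cT hF (colM y')) := rfl

end Defs

end Cfsg.Agent.Helper93.U3
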