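import Mathlib

/-!
# RU project (S2280): SL_n(F) is generated by three conjugate regular unipotent elements.
Shared definitions.  Everything is stated for `n = m + 3`, index type `Fin (m + 3)`.
Vectors (columns) and functionals (rows) are both `Fin (m+3) → F`.
-/

set_option autoImplicit false

namespace Cfsg.Agent.Helper93.RU

open Matrix
open Classical in
attribute [local instance] Classical.propDecidable

variable {F : Type*} [Field F] {m : ℕ}

/-- abbreviation for the group -/
abbrev SLm (m : ℕ) (F : Type*) [Field F] := Matrix.SpecialLinearGroup (Fin (m + 3)) F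

/-- the matrix `1 + v φᵀ` -/
def tvM (v φ : Fin (m + 3) → F) : Matrix (Fin (m + 3)) (Fin (m + 3)) F :=
  1 + Matrix.vecMulVec v φ

/-- the transvection `1 + v φᵀ` as an element of `SL` (junk value `1` unless `φ ⬝ᵥ v = 0`) -/
noncomputable def tvS (v φ : Fin (m + 3) → F) : SLm m F :=
  if h : (tvM v φ).det = 1 then ⟨tvM v φ, h⟩ else 1

/-- standard basis vector `e_k` (as a column or as a row) -/
def eV (k : Fin (m + 3)) : Fin (m + 3) → F := Pi.single k 1

/-- the upper shift `N = Σ E_{i,i+1}` -/
def Nmat (m : ℕ) (F : Type*) [Field F] : Matrix (Fin (m + 3)) (Fin (m + 3)) F :=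
  Matrix.of fun i j => if i.val + 1 = j.val then 1 else 0

/-- the lower shift with a sign `ε` in position `(1,0)`: `L = ε E_{1,0} + Σ_{r ≥ 1} E_{r+1,r}` -/
def Lmat (ε : F) : Matrix (Fin (m + 3)) (Fin (m + 3)) F :=
  Matrix.of fun i j => if j.val + 1 = i.val then (if j.val = 0 then ε else 1) else 0

/-- the upper Jordan block `u = 1 + N` -/
noncomputable def uEl (m : ℕ) (F : Type*) [Field F] : SLm m F :=
  if h : (1 + Nmat m F).det = 1 then ⟨1 + Nmat m F, h⟩ else 1

/-- the lower Jordan block `l = 1 + L_ε` -/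
noncomputable def lEl (ε : F) : SLm m F :=
  if h : (1 + Lmat (m := m) ε).det = 1 then ⟨1 + Lmat ε, h⟩ else 1

/-- `x_{0,2}(a) = 1 + a E_{0,2}` -/
noncomputable def t13 (a : F) : SLm m F := tvS (eV 0) (a • eV 2)

/-- `x_{0,1}(a) = 1 + a E_{0,1}` -/
noncomputable def t12 (a : F) : SLm m F := tvS (eV 0) (a • eV 1)

/-- the right shift of a functional: `(φ N)_j = φ_{j-1}`, `(φ N)_0 = 0` -/
def shR (φ : Fin (m + 3) → F) : Fin (m + 3) → F :=
  fun j => if h : j.val = 0 then 0 else φ ⟨j.val - 1, by have := j.isLt; omega⟩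

/-- the set of centres `v` all of whose transvections lie in `H` -/
def Wset (H : Subgroup (SLm m F)) : Set (Fin (m + 3) → F) :=
  {v | ∀ φ : Fin (m + 3) → F, φ ⬝ᵥ v = 0 → tvS v φ ∈ H}

end Cfsg.Agent.Helper93.RU
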