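import Cfsg.Agent.Lib.Helper93.OTS

set_option autoImplicit false
set_option linter.unusedSectionVars false

namespace Cfsg.Agent.Helper93

open Matrix QuadraticMap Cfsg.Geo
open Cfsg.Agent.S0794 Cfsg.Agent.Helper14.ReflGen

section bundle

variable {F : Type*} [Field F] {ι : Type} [Fintype ι] [DecidableEq ι]

/-- the bundled quadratic form of a non-degenerate quadratic form given as a function -/
noncomputable def bundleQ {Q : (ι → F) → F} (hQ : IsNondegenerateQuadraticForm Q) :
    QuadraticForm F (ι → F) where
  toFun := Q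
  toFun_smul := fun a x => by rw [hQ.smul, smul_eq_mul, _root_.sq]
  exists_companion' :=
    ⟨LinearMap.mk₂ F (QuadraticMap.polar Q) hQ.polar_bilinear.add_left
      (fun c x v => by rw [hQ.polar_bilinear.smul_left, smul_eq_mul])
      hQ.polar_bilinear.add_right
      (fun c v x => by rw [hQ.polar_bilinear.smul_right, smul_eq_mul]),
      fun x y => by
        rw [LinearMap.mk₂_apply]
        unfold QuadraticMap.polar
        ring⟩

lemma bundleQ_coe {Q : (ι → F) → F} (hQ : IsNondegenerateQuadraticForm Q) :
    ⇑(bundleQ hQ) = Q := rfl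

lemma bundleQ_nondeg {Q : (ι → F) → F} (hQ : IsNondegenerateQuadraticForm Q) :
    (polarBilin (bundleQ hQ)).Nondegenerate := by
  constructor
  · intro x hx
    by_contra hx0
    obtain ⟨_, ⟨y, hy⟩⟩ := hQ.nondegenerate x hx0
    apply hy
    have := hx y
    rwa [polarBilin_apply_apply] at this
  · intro y hy
    by_contra hy0
    obtain ⟨⟨x, hx⟩, _⟩ := hQ.nondegenerate y hy0
    apply hx
    have := hy x
    rwa [polarBilin_apply_apply] at this

variable (Q : QuadraticForm F (ι → F))

lemma ots_sup_span_ts (W : Submodule F (ι → F)) (hW : ∀ w ∈ W, Q w = 0) {y : ι → F}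
    (hyQ : Q y = 0) (hyp : ∀ w ∈ W, polar (⇑Q) w y = 0) :
    ∀ t ∈ W ⊔ Submodule.span F {y}, Q t = 0 := by
  intro t ht
  obtain ⟨a, ha, b, hb, rfl⟩ := Submodule.mem_sup.1 ht
  obtain ⟨k, rfl⟩ := Submodule.mem_span_singleton.1 hb
  rw [Q_add', hW a ha, Q_smul', hyQ, polar_smul_right, hyp a ha]
  simp

lemma finrank_sup_span_eq (W : Submodule F (ι → F)) {y : ι → F} (hy : y ∉ W) :
    Module.finrank F (W ⊔ Submodule.span F {y} : Submodule F (ι → F))
      = Module.finrank F W + 1 := by
  have h1 := finrank_sup_span_le W y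
  have h5 : Module.finrank F W
      < Module.finrank F (W ⊔ Submodule.span F {y} : Submodule F (ι → F)) := by
    apply Submodule.finrank_lt_finrank_of_lt
    refine lt_of_le_of_ne le_sup_left ?_
    intro heq
    apply hy
    rw [heq]
    exact Submodule.mem_sup_right (Submodule.mem_span_singleton_self y)
  omega

end bundle

end Cfsg.Agent.Helper93
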