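import Cfsg.Agent.Lib.Helper93.McL0

/-!
# Minimal permutation degree of `SL_n(q)`: definitions

`SLV F V` is `SL(V)` inside `V ≃ₗ[F] V`; `stv u φ` is the total transvection `tv u φ` as an element
of `SLV F V`.  All packs of the `MD` project work with a finite type `Ω` carrying an action of
`↥(SLV F V)`.
-/

set_option autoImplicit false

namespace Cfsg.Agent.Helper93.MD

open Module Cfsg.Agent.Helper93.McL

variable (F V : Type*) [Field F] [AddCommGroup V] [Module F V]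

/-- `SL(V)` as a subgroup of `V ≃ₗ[F] V`. -/
noncomputable def SLV : Subgroup (V ≃ₗ[F] V) := (LinearEquiv.det : (V ≃ₗ[F] V) →* Fˣ).ker

variable {F V}

lemma mem_SLV {g : V ≃ₗ[F] V} : g ∈ SLV F V ↔ LinearEquiv.det g = 1 := MonoidHom.mem_ker

lemma tv_mem_SLV (u : V) (φ : Dual F V) : tv u φ ∈ SLV F V := by
  rw [mem_SLV]
  by_cases h : φ u = 0
  · unfold tv
    rw [dif_pos h]
    exact LinearEquiv.transvection.det_eq_one h
  · rw [tv_of_ne h, map_one]

/-- The total transvection as an element of `SL(V)`. -/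
noncomputable def stv (u : V) (φ : Dual F V) : ↥(SLV F V) := ⟨tv u φ, tv_mem_SLV u φ⟩

@[simp] lemma coe_stv (u : V) (φ : Dual F V) : ((stv u φ : ↥(SLV F V)) : V ≃ₗ[F] V) = tv u φ := rfl

section action

variable {Ω : Type*} [MulAction ↥(SLV F V) Ω]

/-- Number of fixed points of `g` on `Ω`. -/
noncomputable def fp (Ω : Type*) [MulAction ↥(SLV F V) Ω] (g : ↥(SLV F V)) : ℕ :=
  Nat.card (MulAction.fixedBy Ω g)

/-- `Bst u ω`: the functionals `φ` with `φ u = 0` whose transvection `stv u φ` fixes `ω`, as an additive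
subgroup of the dual space. -/
def Bst (u : V) (ω : Ω) : AddSubgroup (Dual F V) where
  carrier := {φ | φ u = 0 ∧ stv u φ • ω = ω}
  zero_mem' := by
    refine ⟨by simp, ?_⟩
    have : (stv u (0 : Dual F V) : ↥(SLV F V)) = 1 := Subtype.ext (tv_zero_right u)
    rw [this, one_smul]
  add_mem' := by
    rintro φ ψ ⟨h1, h2⟩ ⟨h3, h4⟩
    refine ⟨by simp [h1, h3], ?_⟩
    have : (stv u (φ + ψ) : ↥(SLV F V)) = stv u φ * stv u ψ :=
      Subtype.ext (tv_mul_axis h1 h3).symm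
    rw [this, mul_smul, h4, h2]
  neg_mem' := by
    rintro φ ⟨h1, h2⟩
    refine ⟨by simp [h1], ?_⟩
    have : (stv u (-φ) : ↥(SLV F V)) = (stv u φ)⁻¹ := Subtype.ext (tv_inv u φ).symm
    rw [this, inv_smul_eq_iff, h2]

lemma mem_Bst {u : V} {ω : Ω} {φ : Dual F V} : φ ∈ Bst u ω ↔ φ u = 0 ∧ stv u φ • ω = ω := Iff.rfl

end action

/-- All functionals vanishing at `u`, as an additive subgroup of the dual space. -/
def PhiA (u : V) : AddSubgroup (Dual F V) where
  carrier := {φ | φ u = 0}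
  zero_mem' := by simp
  add_mem' := by
    intro φ ψ h1 h2
    simp only [Set.mem_ofPred_eq] at h1 h2 ⊢
    simp [h1, h2]
  neg_mem' := by
    intro φ h1
    simp only [Set.mem_ofPred_eq] at h1 ⊢
    simp [h1]

lemma mem_PhiA {u : V} {φ : Dual F V} : φ ∈ PhiA u ↔ φ u = 0 := Iff.rfl

/-- `Mt τ u v`: functionals `φ` with `φ u = 0` and `τ (φ v) = 0`. -/
def Mt {p : ℕ} (τ : F →+ ZMod p) (u v : V) : AddSubgroup (Dual F V) where
  carrier := {φ | φ u = 0 ∧ τ (φ v) = 0}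
  zero_mem' := by simp
  add_mem' := by
    rintro φ ψ ⟨h1, h2⟩ ⟨h3, h4⟩
    refine ⟨by simp [h1, h3], ?_⟩
    simp [map_add, h2, h4]
  neg_mem' := by
    rintro φ ⟨h1, h2⟩
    refine ⟨by simp [h1], ?_⟩
    simp [map_neg, h2]

lemma mem_Mt {p : ℕ} {τ : F →+ ZMod p} {u v : V} {φ : Dual F V} :
    φ ∈ Mt τ u v ↔ φ u = 0 ∧ τ (φ v) = 0 := Iff.rfl

/-- `perp τ B`: vectors `x` with `τ (φ x) = 0` for all `φ ∈ B`. -/
def perp {p : ℕ} (τ : F →+ ZMod p) (B : AddSubgroup (Dual F V)) : AddSubgroup V where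
  carrier := {x | ∀ φ ∈ B, τ (φ x) = 0}
  zero_mem' := by
    intro φ _
    simp
  add_mem' := by
    intro x y hx hy φ hφ
    simp [map_add, hx φ hφ, hy φ hφ]
  neg_mem' := by
    intro x hx φ hφ
    simp [map_neg, hx φ hφ]

lemma mem_perp {p : ℕ} {τ : F →+ ZMod p} {B : AddSubgroup (Dual F V)} {x : V} :
    x ∈ perp τ B ↔ ∀ φ ∈ B, τ (φ x) = 0 := Iff.rfl

/-- Data produced by piece (F0) of the `MD` project: for `c` vanishing on `u, v`, `b c` is the unique
functional with `b c u = 0` and `tv u (b c) * tv v c ∈ K`. -/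
structure CData (K : Subgroup (V ≃ₗ[F] V)) (u v : V) where
  b : Dual F V → Dual F V
  b_u : ∀ c : Dual F V, c u = 0 → c v = 0 → b c u = 0
  b_mem : ∀ c : Dual F V, c u = 0 → c v = 0 → tv u (b c) * tv v c ∈ K
  b_uniq : ∀ c φ : Dual F V, c u = 0 → c v = 0 → φ u = 0 → tv u φ * tv v c ∈ K → φ = b c
  b_add : ∀ c c' : Dual F V, c u = 0 → c v = 0 → c' u = 0 → c' v = 0 →
    b (c + c') = b c + b c' - (b c' v) • c
  b_equiv : ∀ k ∈ K, ∀ α δ ε : F, k u = α • u → k v = δ • v + ε • u →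
    ∀ c : Dual F V, c u = 0 → c v = 0 →
      b (δ • (c ∘ₗ (k.symm : V →ₗ[F] V))) =
        α • (b c ∘ₗ (k.symm : V →ₗ[F] V)) + ε • (c ∘ₗ (k.symm : V →ₗ[F] V))

end Cfsg.Agent.Helper93.MD
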