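import Cfsg.Agent.Lib.Helper93.MD0

/-!
# MD project: generic lemmas (conjugation of `stv`, alternatives (I)/(II) are `SL(V)`-equivariant)
-/

set_option autoImplicit false

namespace Cfsg.Agent.Helper93.MD

open Module Cfsg.Agent.Helper93.McL

variable {F V : Type*} [Field F] [AddCommGroup V] [Module F V]

lemma stv_conj (g : ↥(SLV F V)) (u : V) (φ : Dual F V) :
    g * stv u φ * g⁻¹ =
      stv ((g : V ≃ₗ[F] V) u) (φ ∘ₗ (((g : V ≃ₗ[F] V).symm : V ≃ₗ[F] V) : V →ₗ[F] V)) := by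
  apply Subtype.ext
  have := conj_tv (g : V ≃ₗ[F] V) u φ
  simpa using this

lemma stv_map_eq (g : ↥(SLV F V)) (u : V) (φ : Dual F V) :
    stv ((g : V ≃ₗ[F] V) u) φ =
      g * stv u (φ ∘ₗ ((g : V ≃ₗ[F] V) : V →ₗ[F] V)) * g⁻¹ := by
  rw [stv_conj]
  congr 1
  apply LinearMap.ext
  intro x
  simp

lemma stv_smul_iff {Ω : Type*} [MulAction ↥(SLV F V) Ω] (g : ↥(SLV F V)) (u : V) (φ : Dual F V)
    (ω : Ω) :
    stv ((g : V ≃ₗ[F] V) u) φ • ω = ω ↔
      stv u (φ ∘ₗ ((g : V ≃ₗ[F] V) : V →ₗ[F] V)) • (g⁻¹ • ω) = g⁻¹ • ω := by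
  rw [stv_map_eq, mul_smul, mul_smul, smul_eq_iff_eq_inv_smul]

variable (F) in
/-- Alternative (I) of the trichotomy. -/
def PI (Ω : Type*) [MulAction ↥(SLV F V) Ω] (u : V) : Prop :=
  ∀ ω : Ω, ∃ v : V, v ∉ Submodule.span F {u} ∧
    ∀ φ : Dual F V, φ u = 0 → (stv u φ • ω = ω ↔ φ v = 0)

variable (F) in
/-- Alternative (II) of the trichotomy. -/
def PII (Ω : Type*) [MulAction ↥(SLV F V) Ω] (u : V) : Prop :=
  ∀ ω : Ω, (∀ φ : Dual F V, φ u = 0 → stv u φ • ω = ω) ∨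
    (∀ φ : Dual F V, φ u = 0 → stv u φ • ω = ω → φ = 0)

lemma PI_map {Ω : Type*} [MulAction ↥(SLV F V) Ω] (g : ↥(SLV F V)) {u : V} (h : PI F Ω u) :
    PI F Ω ((g : V ≃ₗ[F] V) u) := by
  intro ω
  obtain ⟨v, hv, hφ⟩ := h (g⁻¹ • ω)
  refine ⟨(g : V ≃ₗ[F] V) v, ?_, ?_⟩
  · intro hmem
    apply hv
    rw [Submodule.mem_span_singleton] at hmem ⊢
    obtain ⟨c, hc⟩ := hmem
    refine ⟨c, ?_⟩
    apply (g : V ≃ₗ[F] V).injective
    rw [map_smul, hc]
  · intro φ hφu
    rw [stv_smul_iff]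
    have h0 : (φ ∘ₗ ((g : V ≃ₗ[F] V) : V →ₗ[F] V)) u = 0 := by simpa using hφu
    rw [hφ _ h0]
    simp

lemma PII_map {Ω : Type*} [MulAction ↥(SLV F V) Ω] (g : ↥(SLV F V)) {u : V} (h : PII F Ω u) :
    PII F Ω ((g : V ≃ₗ[F] V) u) := by
  intro ω
  rcases h (g⁻¹ • ω) with h1 | h1
  · left
    intro φ hφu
    rw [stv_smul_iff]
    exact h1 _ (by simpa using hφu)
  · right
    intro φ hφu hfix
    rw [stv_smul_iff] at hfix
    have h0 := h1 _ (by simpa using hφu) hfix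
    apply LinearMap.ext
    intro x
    have := LinearMap.congr_fun h0 ((g : V ≃ₗ[F] V).symm x)
    simpa using this

variable [Fintype F] [FiniteDimensional F V]

omit [Fintype F] in
lemma exists_ne_zero_dual (hn : 2 ≤ finrank F V) {u : V} :
    ∃ φ : Dual F V, φ ≠ 0 ∧ φ u = 0 := by
  have hex : ∃ v : V, v ∉ Submodule.span F {u} := by
    by_contra h
    push Not at h
    have htop : Submodule.span F {u} = ⊤ := Submodule.eq_top_iff'.mpr h
    have h1 : finrank F (Submodule.span F {u}) ≤ 1 := by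
      by_cases hu : u = 0
      · rw [hu, Submodule.span_zero_singleton, finrank_bot]
        exact Nat.zero_le 1
      · exact (finrank_span_singleton hu).le
    rw [htop, finrank_top] at h1
    omega
  obtain ⟨v, hv⟩ := hex
  obtain ⟨φ, hφv, hφ⟩ := Submodule.exists_dual_map_eq_bot_of_notMem hv inferInstance
  refine ⟨φ, fun h0 => hφv (by rw [h0]; rfl), ?_⟩
  have : φ u ∈ (Submodule.span F {u}).map φ :=
    Submodule.mem_map_of_mem (Submodule.mem_span_singleton_self u)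
  rw [hφ] at this
  simpa using this


omit [Fintype F] in
lemma exists_not_mem_span_singleton (hn : 2 ≤ finrank F V) (u : V) :
    ∃ v : V, v ∉ Submodule.span F {u} := by
  by_contra h
  push Not at h
  have htop : Submodule.span F {u} = ⊤ := Submodule.eq_top_iff'.mpr h
  have h1 : finrank F (Submodule.span F {u}) ≤ 1 := by
    by_cases hu : u = 0
    · rw [hu, Submodule.span_zero_singleton, finrank_bot]
      exact Nat.zero_le 1
    · exact (finrank_span_singleton hu).le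
  rw [htop, finrank_top] at h1
  omega

end Cfsg.Agent.Helper93.MD
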