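import Cfsg.Agent.Lib.Helper93.MD1
import Cfsg.Agent.Lib.Helper96.MDF0
import Cfsg.Agent.Lib.Helper48.MDF3
import Cfsg.Agent.Lib.Helper82.MDFa
import Cfsg.Agent.Lib.Helper82.MDF5
import Cfsg.Agent.Lib.Helper96.MDF4

/-!
# MD project, piece (F): a complement to `E_u` in the line stabiliser contains a transvection
-/

set_option autoImplicit false

namespace Cfsg.Agent.Helper93.MD

open Module Cfsg.Agent.Helper93.McL

variable {F V : Type*} [Field F] [Fintype F] [AddCommGroup V] [Module F V] [FiniteDimensional F V]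

/-- (F) -/
theorem exists_tv_mem_of_complement (hn : 3 ≤ finrank F V)
    (hexc : ¬ (finrank F V = 4 ∧ Fintype.card F = 2)) {u : V} (hu : u ≠ 0)
    (K : Subgroup (V ≃ₗ[F] V)) (hKS : K ≤ SLV F V) (hKu : ∀ k ∈ K, ∃ α : F, k u = α • u)
    (hKE : ∀ φ : Dual F V, φ u = 0 → tv u φ ∈ K → φ = 0)
    (hcov : ∀ g ∈ SLV F V, (∃ α : F, g u = α • u) → ∃ φ : Dual F V, φ u = 0 ∧ tv u φ * g ∈ K) :
    ∃ (z : V) (ψ : Dual F V), z ∉ Submodule.span F {u} ∧ ψ ≠ 0 ∧ ψ z = 0 ∧ tv z ψ ∈ K := by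
  obtain ⟨v, hv⟩ := exists_not_mem_span_singleton (F := F) (by omega : 2 ≤ finrank F V) u
  obtain ⟨D⟩ := Cfsg.Agent.Helper96.MD.exists_cdata hu hv K hKS hKu hKE hcov
  have key : ∃ (c : Dual F V) (μ : F), c ≠ 0 ∧ c u = 0 ∧ c v = 0 ∧ D.b c = μ • c := by
    rcases Nat.lt_or_ge (finrank F V) 4 with h3 | h4
    · exact Cfsg.Agent.Helper48.MD.f3 (by omega) hu hv K hKS hKu hKE hcov D
    · have ha := Cfsg.Agent.Helper82.MD.fa h4 hu hv K hKS hKu hKE hcov D
      rcases Nat.lt_or_ge (finrank F V) 5 with h4' | h5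
      · have h4e : finrank F V = 4 := by omega
        have hq : Fintype.card F ≠ 2 := fun hq => hexc ⟨h4e, hq⟩
        exact Cfsg.Agent.Helper96.MD.f4 h4e hq hu hv K hKS hKu hKE hcov D ha
      · exact Cfsg.Agent.Helper82.MD.f5 h5 hu hv K hKS hKu hKE hcov D ha
  obtain ⟨c, μ, hc0, hcu, hcv, hb⟩ := key
  refine ⟨μ • u + v, c, ?_, hc0, by simp [hcu, hcv], ?_⟩
  · intro hz
    apply hv
    have h1 : μ • u ∈ Submodule.span F {u} :=
      Submodule.smul_mem _ _ (Submodule.mem_span_singleton_self u)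
    have := Submodule.sub_mem _ hz h1
    simpa using this
  · have hmem := D.b_mem c hcu hcv
    rw [hb, ← tv_smul_swap, tv_mul_center (by simp [hcu]) hcv] at hmem
    exact hmem

end Cfsg.Agent.Helper93.MD
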