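import Mathlib

/-! # OR3 project (S2459): definitions.  Sourour-type LU factorisation for 3 x 3 matrices. -/

set_option autoImplicit false

namespace Cfsg.Agent.Helper93.OR

open Matrix

/-- Schur complement of a 3 x 3 matrix with respect to its (0,0) entry. -/
def schur {F : Type*} [Field F] (M : Matrix (Fin 3) (Fin 3) F) : Matrix (Fin 2) (Fin 2) F :=
  fun i j => M i.succ j.succ - M i.succ 0 * M 0 j.succ / M 0 0

/-- The matrix `1 ⊕ T`. -/
def blk {F : Type*} [Field F] (T : Matrix (Fin 2) (Fin 2) F) : Matrix (Fin 3) (Fin 3) F :=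
  !![1, 0, 0; 0, T 0 0, T 0 1; 0, T 1 0, T 1 1]

/-- The raw matrix of the chosen element of order 4 of `SL₃(𝔽₃)`. -/
def X3mat : Matrix (Fin 3) (Fin 3) (ZMod 3) := !![0, 0, 1; 0, 1, 0; -1, 0, 0]

theorem X3mat_det : X3mat.det = 1 := by
  rw [Matrix.det_fin_three]; decide

/-- The chosen element of order 4 of `SL₃(𝔽₃)`. -/
def X3 : Matrix.SpecialLinearGroup (Fin 3) (ZMod 3) := ⟨X3mat, X3mat_det⟩

end Cfsg.Agent.Helper93.OR
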