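import Cfsg.Agent.Lib.Helper93.SpGen
import Cfsg.Prelude.Def_ClassicalGeometry

set_option autoImplicit false

namespace Cfsg.Agent.Helper93

open Matrix Cfsg.Geo

section std

variable {F : Type*} [Field F]

lemma sympForm_bilinear (m : ℕ) : IsBilinearForm (Cfsg.sympForm m F) := by
  refine ⟨?_, ?_, ?_, ?_⟩
  · intro x y v; unfold Cfsg.sympForm; rw [add_dotProduct]
  · intro c x v; unfold Cfsg.sympForm; rw [smul_dotProduct, smul_eq_mul]
  · intro v x y; unfold Cfsg.sympForm; rw [Matrix.mulVec_add, dotProduct_add]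
  · intro c v x; unfold Cfsg.sympForm; rw [Matrix.mulVec_smul, dotProduct_smul, smul_eq_mul]

lemma sympForm_skew (m : ℕ) (u v : Fin m ⊕ Fin m → F) :
    Cfsg.sympForm m F u v = - Cfsg.sympForm m F v u := by
  unfold Cfsg.sympForm
  rw [Matrix.dotProduct_mulVec, ← Matrix.mulVec_transpose, Matrix.J_transpose, Matrix.neg_mulVec,
    neg_dotProduct, dotProduct_comm]

lemma sympForm_explicit (m : ℕ) (u v : Fin m ⊕ Fin m → F) :
    Cfsg.sympForm m F u v = ∑ i, (u (Sum.inr i) * v (Sum.inl i) - u (Sum.inl i) * v (Sum.inr i)) := by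
  unfold Cfsg.sympForm Matrix.J
  rw [Matrix.fromBlocks_mulVec]
  simp only [dotProduct, Fintype.sum_sum_type, Sum.elim_inl, Sum.elim_inr]
  simp only [Matrix.zero_mulVec, Matrix.neg_mulVec, Matrix.one_mulVec, zero_add, add_zero,
    Pi.neg_apply, Function.comp_apply]
  rw [Finset.sum_sub_distrib]
  simp only [mul_neg, Finset.sum_neg_distrib]
  ring_nf

lemma sympForm_alt (m : ℕ) (v : Fin m ⊕ Fin m → F) : Cfsg.sympForm m F v v = 0 := by
  rw [sympForm_explicit]
  apply Finset.sum_eq_zero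
  intro i _
  ring

lemma sympForm_nondeg (m : ℕ) : IsNondegenerateForm (Cfsg.sympForm m F) := by
  intro v hv
  have hJ : Matrix.J (Fin m) F *ᵥ v ≠ 0 := by
    intro h
    apply hv
    have h2 : (Matrix.J (Fin m) F * Matrix.J (Fin m) F) *ᵥ v = 0 := by
      rw [← Matrix.mulVec_mulVec, h, Matrix.mulVec_zero]
    rw [Matrix.J_squared, Matrix.neg_mulVec, Matrix.one_mulVec, neg_eq_zero] at h2
    exact h2
  have h1 : ∃ x, Cfsg.sympForm m F x v ≠ 0 := by
    obtain ⟨j, hj⟩ := Function.ne_iff.mp hJ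
    refine ⟨Pi.single j 1, ?_⟩
    unfold Cfsg.sympForm
    rw [single_dotProduct, one_mul]
    exact hj
  refine ⟨h1, ?_⟩
  obtain ⟨x, hx⟩ := h1
  refine ⟨x, ?_⟩
  rw [sympForm_skew]
  exact neg_ne_zero.mpr hx

theorem sympForm_symplectic (m : ℕ) : IsSymplecticForm (Cfsg.sympForm m F) :=
  ⟨sympForm_bilinear m, sympForm_skew m, sympForm_alt m, sympForm_nondeg m⟩

lemma mem_spGL_iff (m : ℕ) (g : GL (Fin m ⊕ Fin m) F) :
    g ∈ Cfsg.spGL m F ↔ Isom (Cfsg.sympForm m F) g := Iff.rfl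

end std

variable {ι : Type} [Fintype ι] [DecidableEq ι] {F : Type*} [Field F]
variable {f : (ι → F) → (ι → F) → F}

lemma gl_ext {g h : GL ι F}
    (H : ∀ x, (g : Matrix ι ι F) *ᵥ x = (h : Matrix ι ι F) *ᵥ x) : g = h := by
  apply Units.ext
  apply Matrix.mulVec_injective
  funext x
  exact H x

lemma gl_mul_apply (g h : GL ι F) (x : ι → F) :
    ((g * h : GL ι F) : Matrix ι ι F) *ᵥ x = (g : Matrix ι ι F) *ᵥ ((h : Matrix ι ι F) *ᵥ x) := by
  rw [Units.val_mul, Matrix.mulVec_mulVec]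

lemma gl_one_apply (x : ι → F) : ((1 : GL ι F) : Matrix ι ι F) *ᵥ x = x := by
  rw [Units.val_one, Matrix.one_mulVec]

lemma gl_inv_apply_apply (g : GL ι F) (x : ι → F) :
    ((g⁻¹ : GL ι F) : Matrix ι ι F) *ᵥ ((g : Matrix ι ι F) *ᵥ x) = x := by
  rw [Matrix.mulVec_mulVec, ← Units.val_mul, inv_mul_cancel, Units.val_one, Matrix.one_mulVec]

lemma gl_apply_inv_apply (g : GL ι F) (x : ι → F) :
    (g : Matrix ι ι F) *ᵥ (((g⁻¹ : GL ι F) : Matrix ι ι F) *ᵥ x) = x := by
  rw [Matrix.mulVec_mulVec, ← Units.val_mul, mul_inv_cancel, Units.val_one, Matrix.one_mulVec]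

lemma Isom.inv_left {g : GL ι F} (hg : Isom f g) (x y : ι → F) :
    f (((g⁻¹ : GL ι F) : Matrix ι ι F) *ᵥ x) y = f x ((g : Matrix ι ι F) *ᵥ y) := by
  have := hg (((g⁻¹ : GL ι F) : Matrix ι ι F) *ᵥ x) y
  rw [gl_apply_inv_apply] at this
  exact this.symm

lemma Isom.inv_right {g : GL ι F} (hg : Isom f g) (x y : ι → F) :
    f x (((g⁻¹ : GL ι F) : Matrix ι ι F) *ᵥ y) = f ((g : Matrix ι ι F) *ᵥ x) y := by
  have := hg x (((g⁻¹ : GL ι F) : Matrix ι ι F) *ᵥ y)
  rw [gl_apply_inv_apply] at this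
  exact this.symm

lemma stv_isom (hf : IsSymplecticForm f) (v : ι → F) (c : F) : Isom f (stv hf v c) :=
  fun x y => stv_isometry hf v c x y

theorem conj_stv (hf : IsSymplecticForm f) (p : GL ι F) (hp : Isom f p) (u : ι → F) (c : F) :
    p * stv hf u c * p⁻¹ = stv hf ((p : Matrix ι ι F) *ᵥ u) c := by
  apply gl_ext
  intro x
  rw [gl_mul_apply, gl_mul_apply, stv_apply, stv_apply, Matrix.mulVec_add, Matrix.mulVec_smul,
    gl_apply_inv_apply, hp.inv_left]

lemma stv_smul (hf : IsSymplecticForm f) (a : F) (u : ι → F) (c : F) :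
    stv hf (a • u) c = stv hf u (a * a * c) := by
  apply gl_ext
  intro x
  rw [stv_apply, stv_apply, hf.bilinear.smul_right, smul_smul]
  congr 1
  ring

lemma stv_zero_vec (hf : IsSymplecticForm f) (c : F) : stv hf (0 : ι → F) c = 1 := by
  apply gl_ext
  intro x
  rw [stv_apply, gl_one_apply, smul_zero, add_zero]

lemma stv_mul_neg (hf : IsSymplecticForm f) (u : ι → F) (c : F) :
    stv hf u c * stv hf u (-c) = 1 := by
  apply gl_ext
  intro x
  rw [gl_mul_apply, stv_apply, stv_apply, gl_one_apply, hf.bilinear.add_left,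
    hf.bilinear.smul_left, hf.alternating, mul_zero, add_zero, add_assoc, ← add_smul]
  have : -c * f x u + c * f x u = 0 := by ring
  rw [this, zero_smul, add_zero]

lemma stv_inv (hf : IsSymplecticForm f) (u : ι → F) (c : F) :
    (stv hf u c)⁻¹ = stv hf u (-c) :=
  inv_eq_of_mul_eq_one_right (stv_mul_neg hf u c)

/-- `u` is a centre for `M`: all symplectic transvections along `u` lie in `M` -/
def Ctr (hf : IsSymplecticForm f) (M : Subgroup (GL ι F)) (u : ι → F) : Prop :=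
  ∀ c : F, stv hf u c ∈ M

lemma Ctr.conj (hf : IsSymplecticForm f) {M : Subgroup (GL ι F)} {u : ι → F} (hu : Ctr hf M u)
    (p : GL ι F) (hpM : p ∈ M) (hp : Isom f p) : Ctr hf M ((p : Matrix ι ι F) *ᵥ u) := by
  intro c
  rw [← conj_stv hf p hp]
  exact M.mul_mem (M.mul_mem hpM (hu c)) (M.inv_mem hpM)

lemma Ctr.smul (hf : IsSymplecticForm f) {M : Subgroup (GL ι F)} {u : ι → F} (hu : Ctr hf M u)
    (a : F) : Ctr hf M (a • u) := by
  intro c
  rw [stv_smul]
  exact hu _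

lemma Ctr.zero (hf : IsSymplecticForm f) (M : Subgroup (GL ι F)) : Ctr hf M 0 := by
  intro c
  rw [stv_zero_vec]
  exact M.one_mem

/-- closure rule -/
lemma Ctr.add_smul (hf : IsSymplecticForm f) {M : Subgroup (GL ι F)} {a b : ι → F}
    (ha : Ctr hf M a) (hb : Ctr hf M b) (hab : f a b ≠ 0) (t : F) : Ctr hf M (a + t • b) := by
  have h1 := ha.conj hf (stv hf b (t / f a b)) (hb _) (stv_isom hf _ _)
  rw [stv_apply, div_mul_cancel₀ t hab] at h1
  exact h1

lemma Ctr.add (hf : IsSymplecticForm f) {M : Subgroup (GL ι F)} {a b : ι → F}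
    (ha : Ctr hf M a) (hb : Ctr hf M b) (hab : f a b ≠ 0) : Ctr hf M (a + b) := by
  have := ha.add_smul hf hb hab 1
  rwa [one_smul] at this

theorem isom_mem_of_all_ctr (hf : IsSymplecticForm f) (M : Subgroup (GL ι F))
    (h : ∀ u, Ctr hf M u) (g : GL ι F) (hg : Isom f g) : g ∈ M := by
  have h1 := isom_mem_stvGroup hf g hg
  have hle : stvGroup hf ≤ M := by
    unfold stvGroup
    rw [Subgroup.closure_le]
    rintro g ⟨v, c, rfl⟩
    exact h v c
  exact hle h1

/-- two additive functions, each non-zero somewhere on `S`, are simultaneously non-zero somewhere -/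
lemma exists_both_ne (S : Submodule F (ι → F)) (φ ψ : (ι → F) → F)
    (hφ : ∀ x y, φ (x + y) = φ x + φ y) (hψ : ∀ x y, ψ (x + y) = ψ x + ψ y)
    {p q : ι → F} (hp : p ∈ S) (hq : q ∈ S) (h1 : φ p ≠ 0) (h2 : ψ q ≠ 0) :
    ∃ z ∈ S, φ z ≠ 0 ∧ ψ z ≠ 0 := by
  by_cases h3 : ψ p = 0
  · by_cases h4 : φ q = 0
    · refine ⟨p + q, S.add_mem hp hq, ?_, ?_⟩
      · rw [hφ, h4, add_zero]; exact h1
      · rw [hψ, h3, zero_add]; exact h2
    · exact ⟨q, hq, h4, h2⟩
  · exact ⟨p, hp, h1, h3⟩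

/-- an isometry stabilising `W` (forwards and backwards) -/
lemma stv_mem_stab (hf : IsSymplecticForm f) (W : Submodule F (ι → F)) (u : ι → F)
    (h : ∀ x ∈ W, ∀ c : F, x + (c * f x u) • u ∈ W) (c : F) :
    stv hf u c ∈ subspaceStabilizer W := by
  apply mem_subspaceStabilizer_of_maps
  · intro x hx
    rw [stv_apply]
    exact h x hx c
  · intro x hx
    rw [stv_inv, stv_apply]
    exact h x hx (-c)

/-- the Siegel-type element `x ↦ x + f(x,a) b + f(x,b) a` for `f(a,b)=0` -/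
noncomputable def rho (hf : IsSymplecticForm f) (a b : ι → F) : GL ι F :=
  stv hf (a + b) 1 * stv hf a (-1) * stv hf b (-1)

lemma rho_isom (hf : IsSymplecticForm f) (a b : ι → F) : Isom f (rho hf a b) :=
  ((stv_isom hf _ _).mul (stv_isom hf _ _)).mul (stv_isom hf _ _)

lemma rho_apply (hf : IsSymplecticForm f) (a b : ι → F) (hab : f a b = 0) (x : ι → F) :
    ((rho hf a b : GL ι F) : Matrix ι ι F) *ᵥ x = x + f x a • b + f x b • a := by
  have hb := hf.bilinear
  have hba : f b a = 0 := by rw [hf.skew, hab, neg_zero]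
  unfold rho
  rw [gl_mul_apply, gl_mul_apply, stv_apply, stv_apply, stv_apply]
  simp only [hb.add_left, hb.smul_left, hb.add_right, hb.smul_right, hf.alternating, hab, hba,
    mul_zero, add_zero, zero_add, one_mul]
  ext i
  simp only [Pi.add_apply, Pi.smul_apply, smul_eq_mul]
  ring

end Cfsg.Agent.Helper93
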