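import Mathlib
import Cfsg.Agent.Lib.Helper62.SLN0
import Cfsg.Agent.Lib.Helper3.SLN_S0
import Cfsg.Agent.Lib.Helper60.SLN_S3
import Cfsg.Agent.Lib.Helper60.SLN_S2
import Cfsg.Agent.Lib.Helper88.SLN_S4
import Cfsg.Agent.Lib.Helper5.SLN_S6
import Cfsg.Agent.Lib.Helper21.SLN_S7
import Cfsg.Agent.Lib.Helper70.SLN_ORB
import Cfsg.Agent.Lib.Helper57.SLN_K1a
import Cfsg.Agent.Lib.Helper57.SLN_K1b
import Cfsg.Agent.Lib.Helper60.SLN_S1
import Cfsg.Agent.Lib.Helper66.SLN_G1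
import Cfsg.Agent.Lib.Helper47.SLN_R8
import Cfsg.Agent.Lib.Helper9.SLNC_SIG
import Cfsg.Agent.Lib.Helper78.SLNC_GGEN
import Cfsg.Agent.Lib.Helper66.SLNC_CARD
import Cfsg.Agent.Lib.Helper66.SLNC_LIN
import Cfsg.Agent.Lib.Helper33.SLNC_INDX
import Cfsg.Agent.Lib.Helper42.SLNC_GENS
import Cfsg.Agent.Lib.Helper61.SLNC_KGEN
import Cfsg.Agent.Lib.Helper63.SLNC_KS
import Cfsg.Agent.Lib.Helper40.SLNC_L1
import Cfsg.Agent.Lib.Helper40.SLNC_L2
import Cfsg.Agent.Lib.Helper68.SLNC_LOW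

/-!
# SLN project (S2332), piece TOP-C: assembly (helper93)
-/

set_option autoImplicit false

namespace Cfsg.Agent.Helper93.SLN

open Matrix Module Cfsg.Agent.Helper93.U2 Cfsg.Agent.Helper62.SLN

open Cfsg.Agent.Helper3.SLN (exists_pairing)
open Cfsg.Agent.Helper60.SLN (exists_wt_ne_bot finrank_wt_const map_wt_lEl)
open Cfsg.Agent.Helper88.SLN (dim_formula)
open Cfsg.Agent.Helper5.SLN (div_transvections)
open Cfsg.Agent.Helper21.SLN (finrank_fix_U0)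
open Cfsg.Agent.Helper70.SLN (orb)
open Cfsg.Agent.Helper57.SLN (k1a k1b)
open Cfsg.Agent.Helper66.SLN (uEl_add lEl_mul qEl_add)
open Cfsg.Agent.Helper47.SLN (irreducible_comp_equiv)
open Cfsg.Agent.Helper9.SLNC (exists_sigma)
open Cfsg.Agent.Helper78.SLNC (tvEl_comm_fix_gen)
open Cfsg.Agent.Helper66.SLNC (card_weights_one card_weights_two eq_smul_single_of_card_three finrank_le_inf_add upper_bound)
open Cfsg.Agent.Helper33.SLNC (sum_finrank_inf_wsp_le)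
open Cfsg.Agent.Helper42.SLNC (mem_fixSp_of_gens mem_wt_zero_of_gens)
open Cfsg.Agent.Helper61.SLNC (kgen)
open Cfsg.Agent.Helper63.SLNC (kstarA kstarB)
open Cfsg.Agent.Helper40.SLNC (mirror_line_fixed A1_le)
open Cfsg.Agent.Helper68.SLNC (lower_bound)
section TOP

variable {F : Type*} [Field F] [Fintype F] [DecidableEq F] {κ : Type} [Fintype κ] [DecidableEq κ]

/-- piece TOP-C (the `F_2` bound): `n ≥ 4`, `(n, q) ≠ (4,2), (4,3)`. -/
theorem topC (hκ : 3 ≤ Fintype.card κ) (hq : Fintype.card κ = 3 → 4 ≤ Fintype.card F) {k : ℕ}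
    (ρ : Representation ℂ (SpecialLinearGroup (Unit ⊕ κ) F) (Fin k → ℂ)) (hρ : ρ.IsIrreducible)
    (hk : 2 ≤ k) :
    2 * (Fintype.card F ^ Fintype.card κ - 1) ≤ k ∨
    ∃ c : ℕ, k = c + (Fintype.card F ^ Fintype.card κ - 1) ∧
      ((k : ℤ) ∣ ((gs (Fintype.card F) (Fintype.card κ + 1) *
          (Fintype.card F ^ Fintype.card κ - 1) : ℕ) : ℤ) * ((c : ℤ) - 1)) ∧
      Fintype.card F ^ (Fintype.card κ - 1) + Fintype.card F ^ (Fintype.card κ - 2) - 2 ≤ c := by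
  classical
  obtain ⟨ψ, pr, hpr⟩ := exists_pairing F κ
  -- the common dimension of the non-zero weight spaces
  have key : ∀ ρ₁ : Representation ℂ (SpecialLinearGroup (Unit ⊕ κ) F) (Fin k → ℂ),
      ρ₁.IsIrreducible →
      ∃ d : ℕ, 1 ≤ d ∧ (∀ w : κ → F, w ≠ 0 → finrank ℂ (wt pr ρ₁ w) = d) ∧
        k = finrank ℂ (wt pr ρ₁ 0) + d * (Fintype.card F ^ Fintype.card κ - 1) := by
    intro ρ₁ hρ₁
    obtain ⟨w0, hw0, hne⟩ := exists_wt_ne_bot ψ pr hpr ρ₁ hρ₁ hk (by omega)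
    have hconst : ∀ w : κ → F, w ≠ 0 → finrank ℂ (wt pr ρ₁ w) = finrank ℂ (wt pr ρ₁ w0) :=
      fun w hw => finrank_wt_const ψ pr hpr ρ₁ (by omega) w w0 hw hw0
    refine ⟨finrank ℂ (wt pr ρ₁ w0), ?_, hconst, ?_⟩
    · rw [Nat.one_le_iff_ne_zero]
      intro h0
      exact hne (Submodule.finrank_eq_zero.mp h0)
    · have h := dim_formula ψ pr hpr ρ₁ (finrank ℂ (wt pr ρ₁ w0)) hconst
      rw [Module.finrank_fin_fun] at h
      exact h
  have hqpos : 1 ≤ Fintype.card F ^ Fintype.card κ := Nat.one_le_pow _ _ Fintype.card_pos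
  obtain ⟨d, hd1, hd, hdim⟩ := key ρ hρ
  by_cases hd2 : 2 ≤ d
  · left
    have h1 : 2 * (Fintype.card F ^ Fintype.card κ - 1) ≤
        d * (Fintype.card F ^ Fintype.card κ - 1) := Nat.mul_le_mul_right _ hd2
    omega
  have hd_one : d = 1 := by omega
  subst hd_one
  -- the mirror
  obtain ⟨jn⟩ : Nonempty κ := Fintype.card_pos_iff.mp (by omega)
  obtain ⟨j, hjn⟩ : ∃ j : κ, j ≠ jn := Fintype.exists_ne_of_one_lt_card (by omega) jn
  obtain ⟨σ, hσ2, hσ1, hσ3, hσ4⟩ := exists_sigma (F := F) jn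
  have hρ' : Representation.IsIrreducible (ρ.comp σ.toMonoidHom) := irreducible_comp_equiv σ ρ hρ
  obtain ⟨d', hd1', hd', hdim'⟩ := key (ρ.comp σ.toMonoidHom) hρ'
  by_cases hd2' : 2 ≤ d'
  · left
    have h1 : 2 * (Fintype.card F ^ Fintype.card κ - 1) ≤
        d' * (Fintype.card F ^ Fintype.card κ - 1) := Nat.mul_le_mul_right _ hd2'
    omega
  have hd_one' : d' = 1 := by omega
  subst hd_one'
  right
  refine ⟨finrank ℂ (wt pr ρ 0), by simpa using hdim, ?_, ?_⟩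
  · have h := div_transvections ψ pr hpr ρ hρ (by omega) 1 hd
    rw [Module.finrank_fin_fun] at h
    simpa using h
  · -- the K-lemmas for both representations
    have hgen : ∀ ρ₁ : Representation ℂ (SpecialLinearGroup (Unit ⊕ κ) F) (Fin k → ℂ),
        (∀ w : κ → F, w ≠ 0 → finrank ℂ (wt pr ρ₁ w) = 1) →
        4 ≤ Fintype.card κ → ∀ (i : κ) (w : κ → F), w ≠ 0 → ∀ t : κ → F,
        Function.update t i 0 ⬝ᵥ w = 0 → ∀ v ∈ wt pr ρ₁ w, ρ₁ (qEl i t) v = v := by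
      intro ρ₁ h1 h4 i w hw t ht v hv
      exact kgen ψ pr hpr ρ₁ h4 (fun i w t ht => tvEl_comm_fix_gen h4 i w t ht) lEl_mul
        (fun A w v hv => map_wt_lEl ψ pr hpr ρ₁ A w v hv) h1 i w hw t ht v hv
    have h1a : ∀ ρ₁ : Representation ℂ (SpecialLinearGroup (Unit ⊕ κ) F) (Fin k → ℂ),
        (∀ w : κ → F, w ≠ 0 → finrank ℂ (wt pr ρ₁ w) = 1) →
        ∀ (j : κ) (a : F), a ≠ 0 → ∀ (t : κ → F),
        ∀ v ∈ wt pr ρ₁ (a • (Pi.single j 1 : κ → F)), ρ₁ (qEl j t) v = v :=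
      fun ρ₁ h1 j a ha t v hv => k1a ψ pr hpr ρ₁ hκ h1 j a ha t v hv
    have h1b : ∀ ρ₁ : Representation ℂ (SpecialLinearGroup (Unit ⊕ κ) F) (Fin k → ℂ),
        (∀ w : κ → F, w ≠ 0 → finrank ℂ (wt pr ρ₁ w) = 1) →
        ∀ (j : κ) (w : κ → F), w j = 0 → w ≠ 0 → ∀ t : κ → F,
        t ⬝ᵥ w = 0 → ∀ v ∈ wt pr ρ₁ w, ρ₁ (qEl j t) v = v :=
      fun ρ₁ h1 j w hwj hw t ht v hv => k1b ψ pr hpr ρ₁ hκ hq h1 j w hwj hw t ht v hv
    have hgens : ∀ (j : κ) (v : Fin k → ℂ),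
        (∀ i : κ, i ≠ j → ∀ s : F, ρ (uEl (s • (Pi.single i 1 : κ → F))) v = v) →
        (∀ i : κ, i ≠ j → ∀ s : F, ρ (qEl j (s • (Pi.single i 1 : κ → F))) v = v) →
        v ∈ fixSp ρ (U0set (F := F) j ∪ Qset (F := F) j) :=
      fun j v h1 h2 => mem_fixSp_of_gens ρ uEl_add qEl_add j v h1 h2
    have hgenu : ∀ v : Fin k → ℂ,
        (∀ i : κ, ∀ s : F,
          (ρ.comp σ.toMonoidHom) (uEl (s • (Pi.single i 1 : κ → F))) v = v) →
        v ∈ wt pr (ρ.comp σ.toMonoidHom) 0 :=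
      fun v h => mem_wt_zero_of_gens pr (ρ.comp σ.toMonoidHom) uEl_add v h
    have hstar : ∀ w : κ → F, w ≠ 0 → w j = 0 → w jn = 0 →
        ∀ i : κ, i ≠ j → i ≠ jn → ∀ c : κ, (c = j ∨ c = jn) → ∀ s : F,
        ∀ v ∈ wt pr (ρ.comp σ.toMonoidHom) w,
          (ρ.comp σ.toMonoidHom) (qEl i (s • (Pi.single c 1 : κ → F))) v = v := by
      intro w hw hwj hwn i hij hin c hc s v hv
      exact kstarA pr (ρ.comp σ.toMonoidHom) hκ (hgen _ hd') (h1a _ hd')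
        (fun h3 j jn i h1 h2 h3' w hwj hwn =>
          eq_smul_single_of_card_three h3 j jn i h1 h2 h3' w hwj hwn)
        j jn i hij hin hjn w hw hwj hwn c hc s v hv
    have hB : ∀ a : F, a ≠ 0 → ∀ i : κ, i ≠ j → i ≠ jn → ∀ s : F,
        ∀ v ∈ wt pr ρ (a • (Pi.single j 1 : κ → F)),
          ρ (qEl i (s • (Pi.single jn 1 : κ → F))) v = v := by
      intro a ha i hij hin s v hv
      exact kstarB pr ρ hκ (hgen ρ hd) (fun _ => h1b ρ hd) j jn i hij hin hjn a ha s v hv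
    have hL1 : ∀ w : κ → F, w j = 0 → w jn = 0 → w ≠ 0 →
        wt pr (ρ.comp σ.toMonoidHom) w ≤ fixSp ρ (U0set (F := F) j ∪ Qset (F := F) j) := by
      intro w hwj hwn hw v hv
      exact mirror_line_fixed ψ pr hpr ρ σ jn hσ2 hσ1 hσ3 hσ4 hgens j hjn w hwj hwn
        (hstar w hw hwj hwn) v hv
    have hL2 : ∀ a : F, a ≠ 0 → wt pr ρ (a • (Pi.single j 1 : κ → F)) ≤
        fixSp ρ (U0set (F := F) j ∪ Qset (F := F) j) ⊓ wt pr (ρ.comp σ.toMonoidHom) 0 := by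
      intro a ha v hv
      exact A1_le ψ pr hpr ρ σ jn hσ2 hσ1 hσ3 hgenu j hjn a ha (h1a ρ hd j a ha) (hB a ha) v hv
    have hlow := lower_bound pr ρ (ρ.comp σ.toMonoidHom) j jn hjn
      (fixSp ρ (U0set (F := F) j ∪ Qset (F := F) j))
      (fun Y S => sum_finrank_inf_wsp_le pr uEl ρ uEl_add Y S)
      (fun Y S => sum_finrank_inf_wsp_le pr uEl (ρ.comp σ.toMonoidHom) uEl_add Y S)
      (card_weights_two j jn hjn) hd hd' hL1 hL2
    have hup := upper_bound ψ pr hpr ρ j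
      (fun X Y W h1 h2 => finrank_le_inf_add X Y W h1 h2) (finrank_fix_U0 ψ pr hpr ρ j 1 hd)
    have horb := orb ψ pr hpr ρ j hd (fun a ha t v hv => h1a ρ hd j a ha t v hv)
      (Finset.univ.filter (fun w : κ → F => w j = 0 ∧ w ≠ 0))
      (fun w hw => (Finset.mem_filter.mp hw).2)
      (fun w hw t ht v hv => h1b ρ hd j w (Finset.mem_filter.mp hw).2.1
        (Finset.mem_filter.mp hw).2.2 t ht v hv)
    rw [card_weights_one j] at horb
    have hp1 : 1 ≤ Fintype.card F ^ (Fintype.card κ - 1) := Nat.one_le_pow _ _ Fintype.card_pos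
    have hp2 : 1 ≤ Fintype.card F ^ (Fintype.card κ - 2) := Nat.one_le_pow _ _ Fintype.card_pos
    have hp3 : 1 ≤ Fintype.card F := Fintype.card_pos
    omega

end TOP

end Cfsg.Agent.Helper93.SLN
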