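import Mathlib

/-!
# A fundamental theorem of projective geometry (vector form)

A map `Φ : V → V` on a vector space of dimension at least `3` that sends nonzero vectors to
nonzero vectors and both preserves and reflects "`x` lies in the span of `u`, `w`" is induced,
up to nonzero scalars, by a semilinear map.
-/

namespace Cfsg.Agent.Helper93.FTPG

section Defs

variable (F : Type*) [Field F] {V : Type*} [AddCommGroup V] [Module F V]

/-- `u`, `w` are linearly independent. -/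
def Ind2 (u w : V) : Prop := ∀ a b : F, a • u + b • w = 0 → a = 0 ∧ b = 0

/-- `u`, `v`, `w` are linearly independent. -/
def Ind3 (u v w : V) : Prop :=
  ∀ a b c : F, a • u + b • v + c • w = 0 → a = 0 ∧ b = 0 ∧ c = 0

end Defs

section Basic

variable {F : Type*} [Field F] {V : Type*} [AddCommGroup V] [Module F V]

theorem smul_cancel {x : V} (hx : x ≠ 0) {s t : F} (h : s • x = t • x) : s = t := by
  have : (s - t) • x = 0 := by rw [sub_smul, h, sub_self]
  exact sub_eq_zero.1 ((smul_eq_zero.1 this).resolve_right hx)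

theorem Ind2.left_ne {u w : V} (h : Ind2 F u w) : u ≠ 0 := by
  intro hu
  have := (h 1 0 (by simp [hu])).1
  exact one_ne_zero this

theorem Ind2.right_ne {u w : V} (h : Ind2 F u w) : w ≠ 0 := by
  intro hw
  have := (h 0 1 (by simp [hw])).2
  exact one_ne_zero this

theorem Ind2.symm {u w : V} (h : Ind2 F u w) : Ind2 F w u := by
  intro a b hab
  have := h b a (by rw [add_comm]; exact hab)
  exact ⟨this.2, this.1⟩

theorem Ind2.smul {u w : V} (h : Ind2 F u w) {a b : F} (ha : a ≠ 0) (hb : b ≠ 0) :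
    Ind2 F (a • u) (b • w) := by
  intro x y hxy
  rw [smul_smul, smul_smul] at hxy
  have := h (x * a) (y * b) hxy
  exact ⟨(mul_eq_zero.1 this.1).resolve_right ha, (mul_eq_zero.1 this.2).resolve_right hb⟩

theorem Ind2.eq_coeff {u w : V} (h : Ind2 F u w) {a b a' b' : F}
    (hab : a • u + b • w = a' • u + b' • w) : a = a' ∧ b = b' := by
  have h1 : (a - a') • u + (b - b') • w = 0 := by
    rw [sub_smul, sub_smul]
    have : a • u - a' • u + (b • w - b' • w) = (a • u + b • w) - (a' • u + b' • w) := by abel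
    rw [this, hab, sub_self]
  have := h _ _ h1
  exact ⟨sub_eq_zero.1 this.1, sub_eq_zero.1 this.2⟩

theorem Ind3.eq_coeff {u v w : V} (h : Ind3 F u v w) {a b c a' b' c' : F}
    (hab : a • u + b • v + c • w = a' • u + b' • v + c' • w) :
    a = a' ∧ b = b' ∧ c = c' := by
  have h1 : (a - a') • u + (b - b') • v + (c - c') • w = 0 := by
    rw [sub_smul, sub_smul, sub_smul]
    have : a • u - a' • u + (b • v - b' • v) + (c • w - c' • w)
        = (a • u + b • v + c • w) - (a' • u + b' • v + c' • w) := by abel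
    rw [this, hab, sub_self]
  have := h _ _ _ h1
  exact ⟨sub_eq_zero.1 this.1, sub_eq_zero.1 this.2.1, sub_eq_zero.1 this.2.2⟩

theorem Ind3.right {u v w : V} (h : Ind3 F u v w) : Ind2 F v w := by
  intro b c hbc
  exact (h 0 b c (by rw [zero_smul, zero_add]; exact hbc)).2

theorem Ind3.left_ne {u v w : V} (h : Ind3 F u v w) : u ≠ 0 := by
  intro hu
  have := (h 1 0 0 (by simp [hu])).1
  exact one_ne_zero this

theorem exists_smul_of_not_ind2 {u w : V} (hu : u ≠ 0) (h : ¬ Ind2 F u w) :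
    ∃ b : F, w = b • u := by
  by_contra hne
  apply h
  intro a b hab
  have hb : b = 0 := by
    by_contra hb
    apply hne
    refine ⟨-(b⁻¹ * a), ?_⟩
    have : b • w = -(a • u) := eq_neg_of_add_eq_zero_right hab
    calc w = b⁻¹ • (b • w) := by rw [smul_smul, inv_mul_cancel₀ hb, one_smul]
      _ = (-(b⁻¹ * a)) • u := by rw [this, smul_neg, smul_smul, neg_smul]
  refine ⟨?_, hb⟩
  rw [hb, zero_smul, add_zero] at hab
  exact (smul_eq_zero.1 hab).resolve_right hu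

theorem key1 {E p q X : V} (h : Ind3 F E p q) {a b a' b' : F}
    (h1 : X = a • (E + p) + b • q) (h2 : X = a' • (E + q) + b' • p) :
    X = a • (E + p + q) := by
  have h3 : a • E + a • p + b • q = a' • E + b' • p + a' • q := by
    have e1 : a • E + a • p + b • q = a • (E + p) + b • q := by rw [smul_add]
    have e2 : a' • E + b' • p + a' • q = a' • (E + q) + b' • p := by rw [smul_add]; abel
    rw [e1, e2, ← h1, ← h2]
  obtain ⟨h4, _, h6⟩ := h.eq_coeff h3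
  rw [h1, h6, ← h4]
  simp only [smul_add]

theorem key2 {E p q y : V} (h : Ind3 F E p q) {a α s t : F} (hα : α ≠ 0)
    (h1 : a • (E + p + q) = α • (E + y)) (hy : y = s • p + t • q) : y = p + q := by
  have h3 : a • E + a • p + a • q = α • E + (α * s) • p + (α * t) • q := by
    have e1 : a • E + a • p + a • q = a • (E + p + q) := by simp only [smul_add]
    have e2 : α • E + (α * s) • p + (α * t) • q = α • (E + y) := by
      rw [hy]; simp only [smul_add, smul_smul, add_assoc]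
    rw [e1, e2, h1]
  obtain ⟨h4, h5, h6⟩ := h.eq_coeff h3
  have hs : s = 1 := by
    have : α * s = α * 1 := by rw [← h5, h4, mul_one]
    exact mul_left_cancel₀ hα this
  have ht : t = 1 := by
    have : α * t = α * 1 := by rw [← h6, h4, mul_one]
    exact mul_left_cancel₀ hα this
  rw [hy, hs, ht, one_smul, one_smul]

end Basic

section Lam

variable {F : Type*} [Field F] {V : Type*} [AddCommGroup V] [Module F V]
  (e : V) (lam : V →ₗ[F] F) (hlam : lam e = 1)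

include hlam

theorem e_ne : e ≠ 0 := by
  intro h
  rw [h, map_zero] at hlam
  exact zero_ne_one hlam

theorem e_add_ne {v : V} (hv : lam v = 0) : e + v ≠ 0 := by
  intro h
  have := congrArg lam h
  rw [map_add, hlam, hv, add_zero, map_zero] at this
  exact one_ne_zero this

theorem proj_mem (x : V) : lam (x - lam x • e) = 0 := by
  rw [map_sub, map_smul, hlam, smul_eq_mul, mul_one, sub_self]

theorem ind2_e {v : V} (hv : lam v = 0) (hv0 : v ≠ 0) : Ind2 F e v := by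
  intro a b hab
  have h1 := congrArg lam hab
  simp only [map_add, map_smul, hlam, hv, smul_eq_mul, mul_one, mul_zero, add_zero,
    map_zero] at h1
  refine ⟨h1, ?_⟩
  rw [h1, zero_smul, zero_add] at hab
  exact (smul_eq_zero.1 hab).resolve_right hv0

theorem ind3_e {v w : V} (hv : lam v = 0) (hw : lam w = 0) (h : Ind2 F v w) :
    Ind3 F e v w := by
  intro a b c habc
  have h1 := congrArg lam habc
  simp only [map_add, map_smul, hlam, hv, hw, smul_eq_mul, mul_one, mul_zero, add_zero,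
    map_zero] at h1
  refine ⟨h1, ?_⟩
  rw [h1, zero_smul, zero_add] at habc
  exact h b c habc

end Lam

section ExistsInd

variable {F : Type*} [Field F] {V : Type*} [AddCommGroup V] [Module F V]

theorem exists_ind [FiniteDimensional F V] (hdim : 3 ≤ Module.finrank F V) (lam : V →ₗ[F] F)
    {v : V} (hv0 : v ≠ 0) : ∃ w : V, lam w = 0 ∧ Ind2 F v w := by
  have hker : 2 ≤ Module.finrank F (LinearMap.ker lam) := by
    have h1 := LinearMap.finrank_range_add_finrank_ker lam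
    have h2 : Module.finrank F (LinearMap.range lam) ≤ 1 := by
      have := Submodule.finrank_le (LinearMap.range lam)
      rwa [Module.finrank_self] at this
    omega
  have hnot : ¬ LinearMap.ker lam ≤ Submodule.span F {v} := by
    intro hle
    have h1 := Submodule.finrank_mono hle
    have h2 : Module.finrank F (Submodule.span F {v}) = 1 := finrank_span_singleton hv0
    omega
  obtain ⟨w, hw, hwn⟩ := SetLike.not_le_iff_exists.1 hnot
  refine ⟨w, LinearMap.mem_ker.1 hw, ?_⟩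
  intro a b hab
  have hb : b = 0 := by
    by_contra hb
    apply hwn
    rw [Submodule.mem_span_singleton]
    refine ⟨-(b⁻¹ * a), ?_⟩
    have : b • w = -(a • v) := eq_neg_of_add_eq_zero_right hab
    calc (-(b⁻¹ * a)) • v = b⁻¹ • (b • w) := by rw [this, smul_neg, smul_smul, neg_smul]
      _ = w := by rw [smul_smul, inv_mul_cancel₀ hb, one_smul]
  refine ⟨?_, hb⟩
  rw [hb, zero_smul, add_zero] at hab
  exact (smul_eq_zero.1 hab).resolve_right hv0

end ExistsInd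

section Main

variable {F : Type*} [Field F] {V : Type*} [AddCommGroup V] [Module F V]
  (Φ : V → V)
  (h0 : ∀ v, v ≠ 0 → Φ v ≠ 0)
  (hcol : ∀ u w x : V, u ≠ 0 → w ≠ 0 → x ≠ 0 → x ∈ Submodule.span F {u, w} →
    Φ x ∈ Submodule.span F {Φ u, Φ w})
  (hcol' : ∀ u w x : V, u ≠ 0 → w ≠ 0 → x ≠ 0 → Φ x ∈ Submodule.span F {Φ u, Φ w} →
    x ∈ Submodule.span F {u, w})

include h0 hcol hcol'

theorem col {u w x : V} (hu : u ≠ 0) (hw : w ≠ 0) (hx : x ≠ 0) (a b : F)
    (h : x = a • u + b • w) : ∃ a' b' : F, Φ x = a' • Φ u + b' • Φ w := by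
  have h1 := hcol u w x hu hw hx (by rw [Submodule.mem_span_pair]; exact ⟨a, b, h.symm⟩)
  rw [Submodule.mem_span_pair] at h1
  obtain ⟨a', b', h'⟩ := h1
  exact ⟨a', b', h'.symm⟩

theorem col' {u w x : V} (hu : u ≠ 0) (hw : w ≠ 0) (hx : x ≠ 0) (a b : F)
    (h : Φ x = a • Φ u + b • Φ w) : ∃ a' b' : F, x = a' • u + b' • w := by
  have h1 := hcol' u w x hu hw hx (by rw [Submodule.mem_span_pair]; exact ⟨a, b, h.symm⟩)
  rw [Submodule.mem_span_pair] at h1
  obtain ⟨a', b', h'⟩ := h1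
  exact ⟨a', b', h'.symm⟩

theorem col1 {u x : V} (hu : u ≠ 0) (hx : x ≠ 0) (a : F) (h : x = a • u) :
    ∃ a' : F, Φ x = a' • Φ u := by
  obtain ⟨a', b', h'⟩ := col Φ h0 hcol hcol' hu hu hx a 0
    (by rw [zero_smul, add_zero]; exact h)
  exact ⟨a' + b', by rw [h', add_smul]⟩

theorem col1' {u x : V} (hu : u ≠ 0) (hx : x ≠ 0) (a : F) (h : Φ x = a • Φ u) :
    ∃ a' : F, x = a' • u := by
  obtain ⟨a', b', h'⟩ := col' Φ h0 hcol hcol' hu hu hx a 0
    (by rw [zero_smul, add_zero]; exact h)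
  exact ⟨a' + b', by rw [h', add_smul]⟩

theorem ind2_map {u w : V} (h : Ind2 F u w) : Ind2 F (Φ u) (Φ w) := by
  have hu := h.left_ne
  have hw := h.right_ne
  intro a b hab
  have ha : a = 0 := by
    by_contra ha
    have h1 : Φ u = (-(a⁻¹ * b)) • Φ w := by
      have : a • Φ u = -(b • Φ w) := eq_neg_of_add_eq_zero_left hab
      calc Φ u = a⁻¹ • (a • Φ u) := by rw [smul_smul, inv_mul_cancel₀ ha, one_smul]
        _ = (-(a⁻¹ * b)) • Φ w := by rw [this, smul_neg, smul_smul, neg_smul]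
    obtain ⟨c, hc⟩ := col1' Φ h0 hcol hcol' hw hu _ h1
    have := (h 1 (-c) (by rw [one_smul, neg_smul, ← hc, add_neg_cancel])).1
    exact one_ne_zero this
  refine ⟨ha, ?_⟩
  rw [ha, zero_smul, zero_add] at hab
  exact (smul_eq_zero.1 hab).resolve_right (h0 w hw)

theorem ind3_map {u v w : V} (h : Ind3 F u v w) : Ind3 F (Φ u) (Φ v) (Φ w) := by
  have h2 : Ind2 F v w := h.right
  have hu : u ≠ 0 := h.left_ne
  intro a b c habc
  have ha : a = 0 := by
    by_contra ha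
    have h1 : Φ u = (-(a⁻¹ * b)) • Φ v + (-(a⁻¹ * c)) • Φ w := by
      have : a • Φ u = -(b • Φ v + c • Φ w) := by
        rw [add_assoc] at habc
        exact eq_neg_of_add_eq_zero_left habc
      calc Φ u = a⁻¹ • (a • Φ u) := by rw [smul_smul, inv_mul_cancel₀ ha, one_smul]
        _ = (-(a⁻¹ * b)) • Φ v + (-(a⁻¹ * c)) • Φ w := by
          rw [this, smul_neg, smul_add, smul_smul, smul_smul, neg_add, neg_smul, neg_smul]
    obtain ⟨x, y, hxy⟩ := col' Φ h0 hcol hcol' h2.left_ne h2.right_ne hu _ _ h1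
    have := (h 1 (-x) (-y) (by rw [one_smul, neg_smul, neg_smul, hxy]; abel)).1
    exact one_ne_zero this
  refine ⟨ha, ?_⟩
  rw [ha, zero_smul, zero_add] at habc
  exact ind2_map Φ h0 hcol hcol' h2 b c habc

variable (e : V) (lam : V →ₗ[F] F) (hlam : lam e = 1)

include hlam

theorem exists_c (v : V) : ∃ c : F, lam v = 0 → v ≠ 0 →
    c ≠ 0 ∧ ∃ α : F, α ≠ 0 ∧ Φ (e + v) = α • (Φ e + c • Φ v) := by
  by_cases hv : lam v = 0 ∧ v ≠ 0
  · obtain ⟨hv, hv0⟩ := hv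
    have he := e_ne e lam hlam
    have hev : e + v ≠ 0 := e_add_ne e lam hlam hv
    obtain ⟨α, β, hαβ⟩ := col Φ h0 hcol hcol' he hv0 hev 1 1 (by rw [one_smul, one_smul])
    have hi := ind2_e e lam hlam hv hv0
    have hα : α ≠ 0 := by
      intro hα
      rw [hα, zero_smul, zero_add] at hαβ
      obtain ⟨d, hd⟩ := col1' Φ h0 hcol hcol' hv0 hev _ hαβ
      have := (hi 1 (1 - d) (by rw [one_smul, sub_smul, one_smul, ← hd]; abel)).1
      exact one_ne_zero this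
    have hβ : β ≠ 0 := by
      intro hβ
      rw [hβ, zero_smul, add_zero] at hαβ
      obtain ⟨d, hd⟩ := col1' Φ h0 hcol hcol' he hev _ hαβ
      have := (hi (1 - d) 1 (by rw [one_smul, sub_smul, one_smul, ← hd]; abel)).2
      exact one_ne_zero this
    refine ⟨α⁻¹ * β, fun _ _ => ⟨mul_ne_zero (inv_ne_zero hα) hβ, α, hα, ?_⟩⟩
    rw [hαβ, smul_add, smul_smul, ← mul_assoc, mul_inv_cancel₀ hα, one_mul]
  · exact ⟨0, fun h1 h2 => absurd ⟨h1, h2⟩ hv⟩

variable (L₀ : V → V)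
  (hP : ∀ v, lam v = 0 → ∃ α : F, α ≠ 0 ∧ Φ (e + v) = α • (Φ e + L₀ v))
  (hQ : ∀ v, lam v = 0 → v ≠ 0 → ∃ c : F, c ≠ 0 ∧ L₀ v = c • Φ v)
  (hZ : L₀ 0 = 0)

include hP hQ hZ

theorem L_ne {v : V} (hv : lam v = 0) (hv0 : v ≠ 0) : L₀ v ≠ 0 := by
  obtain ⟨c, hc, hL⟩ := hQ v hv hv0
  rw [hL]
  exact smul_ne_zero hc (h0 v hv0)

theorem ind3_L {v w : V} (hv : lam v = 0) (hw : lam w = 0) (h : Ind2 F v w) :
    Ind3 F (Φ e) (L₀ v) (L₀ w) := by
  have h3 := ind3_map Φ h0 hcol hcol' (ind3_e e lam hlam hv hw h)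
  obtain ⟨cv, hcv, hLv⟩ := hQ v hv h.left_ne
  obtain ⟨cw, hcw, hLw⟩ := hQ w hw h.right_ne
  intro a b c habc
  rw [hLv, hLw, smul_smul, smul_smul] at habc
  have := h3 a (b * cv) (c * cw) habc
  exact ⟨this.1, (mul_eq_zero.1 this.2.1).resolve_right hcv,
    (mul_eq_zero.1 this.2.2).resolve_right hcw⟩

theorem ind2_L {v w : V} (hv : lam v = 0) (hw : lam w = 0) (h : Ind2 F v w) :
    Ind2 F (L₀ v) (L₀ w) :=
  (ind3_L Φ h0 hcol hcol' e lam hlam L₀ hP hQ hZ hv hw h).right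

theorem L_add_ind {v w : V} (hv : lam v = 0) (hw : lam w = 0) (h : Ind2 F v w) :
    L₀ (v + w) = L₀ v + L₀ w := by
  have hv0 := h.left_ne
  have hw0 := h.right_ne
  have hvw : lam (v + w) = 0 := by rw [map_add, hv, hw, add_zero]
  have hvw0 : v + w ≠ 0 := by
    intro h1
    have := (h 1 1 (by rw [one_smul, one_smul]; exact h1)).1
    exact one_ne_zero this
  have h3 := ind3_L Φ h0 hcol hcol' e lam hlam L₀ hP hQ hZ hv hw h
  obtain ⟨cv, hcv, hLv⟩ := hQ v hv hv0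
  obtain ⟨cw, hcw, hLw⟩ := hQ w hw hw0
  obtain ⟨c', _, hLvw⟩ := hQ (v + w) hvw hvw0
  obtain ⟨αv, _, hΦv⟩ := hP v hv
  obtain ⟨αw, _, hΦw⟩ := hP w hw
  obtain ⟨α, hα, hΦ⟩ := hP (v + w) hvw
  have hΦv' : Φ v = cv⁻¹ • L₀ v := by rw [hLv, smul_smul, inv_mul_cancel₀ hcv, one_smul]
  have hΦw' : Φ w = cw⁻¹ • L₀ w := by rw [hLw, smul_smul, inv_mul_cancel₀ hcw, one_smul]
  have hx0 : e + (v + w) ≠ 0 := e_add_ne e lam hlam hvw
  have hev0 : e + v ≠ 0 := e_add_ne e lam hlam hv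
  have hew0 : e + w ≠ 0 := e_add_ne e lam hlam hw
  obtain ⟨a₁, b₁, h1⟩ := col Φ h0 hcol hcol' hev0 hw0 hx0 1 1
    (by rw [one_smul, one_smul, add_assoc])
  obtain ⟨a₂, b₂, h2⟩ := col Φ h0 hcol hcol' hew0 hv0 hx0 1 1
    (by rw [one_smul, one_smul]; abel)
  rw [hΦv, hΦw', smul_smul, smul_smul] at h1
  rw [hΦw, hΦv', smul_smul, smul_smul] at h2
  have h4 := key1 h3 h1 h2
  obtain ⟨s, t, hst⟩ := col Φ h0 hcol hcol' hv0 hw0 hvw0 1 1 (by rw [one_smul, one_smul])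
  have hy : L₀ (v + w) = (c' * (s * cv⁻¹)) • L₀ v + (c' * (t * cw⁻¹)) • L₀ w := by
    rw [hLvw, hst, hΦv', hΦw']
    simp only [smul_add, smul_smul, mul_assoc]
  rw [hΦ] at h4
  exact key2 h3 hα h4.symm hy

theorem L_add_ind' {v w : V} (hv : lam v = 0) (hw : lam w = 0) (h : Ind2 F v w) (a b : F) :
    L₀ (a • v + b • w) = L₀ (a • v) + L₀ (b • w) := by
  by_cases ha : a = 0
  · rw [ha, zero_smul, zero_add, hZ, zero_add]
  by_cases hb : b = 0
  · rw [hb, zero_smul, add_zero, hZ, add_zero]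
  exact L_add_ind Φ h0 hcol hcol' e lam hlam L₀ hP hQ hZ (by rw [map_smul, hv, smul_zero])
    (by rw [map_smul, hw, smul_zero]) (h.smul ha hb)

theorem exists_smul_L {v : V} (hv : lam v = 0) (hv0 : v ≠ 0) (a : F) :
    ∃ s : F, L₀ (a • v) = s • L₀ v := by
  by_cases ha : a = 0
  · exact ⟨0, by rw [ha, zero_smul, zero_smul, hZ]⟩
  · have hav0 : a • v ≠ 0 := smul_ne_zero ha hv0
    have hav : lam (a • v) = 0 := by rw [map_smul, hv, smul_zero]
    obtain ⟨c₁, _, h₁⟩ := hQ (a • v) hav hav0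
    obtain ⟨c, hc, h₂⟩ := hQ v hv hv0
    obtain ⟨m, hm⟩ := col1 Φ h0 hcol hcol' hv0 hav0 a rfl
    refine ⟨c₁ * m * c⁻¹, ?_⟩
    rw [h₁, hm, h₂, smul_smul, smul_smul, inv_mul_cancel_right₀ hc]

theorem S_eq {v w : V} (hv : lam v = 0) (hw : lam w = 0) (h : Ind2 F v w) {a s t : F}
    (hs : L₀ (a • v) = s • L₀ v) (ht : L₀ (a • w) = t • L₀ w) : s = t := by
  have hi := ind2_L Φ h0 hcol hcol' e lam hlam L₀ hP hQ hZ hv hw h
  have h1 := L_add_ind' Φ h0 hcol hcol' e lam hlam L₀ hP hQ hZ hv hw h a a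
  have hvw : lam (v + w) = 0 := by rw [map_add, hv, hw, add_zero]
  have hvw0 : v + w ≠ 0 := by
    intro h1
    have := (h 1 1 (by rw [one_smul, one_smul]; exact h1)).1
    exact one_ne_zero this
  obtain ⟨r, hr⟩ := exists_smul_L Φ h0 hcol hcol' e lam hlam L₀ hP hQ hZ hvw hvw0 a
  rw [smul_add, L_add_ind Φ h0 hcol hcol' e lam hlam L₀ hP hQ hZ hv hw h, smul_add, h1, hs,
    ht] at hr
  have := hi.eq_coeff hr
  exact this.1.trans this.2.symm

variable [FiniteDimensional F V] (hdim : 3 ≤ Module.finrank F V)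

include hdim

theorem L_add_line {v : V} (hv : lam v = 0) (hv0 : v ≠ 0) (a b : F) :
    L₀ ((a + b) • v) = L₀ (a • v) + L₀ (b • v) := by
  obtain ⟨w, hw, hi⟩ := exists_ind hdim lam hv0
  have hi2 : Ind2 F v (b • v + w) := by
    intro x y hxy
    have h1 : (x + y * b) • v + y • w = 0 := by
      rw [← hxy, add_smul, smul_add, smul_smul]; abel
    have h2 := hi _ _ h1
    refine ⟨?_, h2.2⟩
    have h3 := h2.1
    rw [h2.2, zero_mul, add_zero] at h3
    exact h3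
  have hbw : lam (b • v + w) = 0 := by rw [map_add, map_smul, hv, hw, smul_zero, add_zero]
  have e1 := L_add_ind' Φ h0 hcol hcol' e lam hlam L₀ hP hQ hZ hv hw hi (a + b) 1
  have e2 := L_add_ind' Φ h0 hcol hcol' e lam hlam L₀ hP hQ hZ hv hbw hi2 a 1
  have e3 := L_add_ind' Φ h0 hcol hcol' e lam hlam L₀ hP hQ hZ hv hw hi b 1
  rw [one_smul] at e1
  rw [one_smul] at e2
  rw [one_smul] at e3
  have e4 : (a + b) • v + w = a • v + (b • v + w) := by rw [add_smul, add_assoc]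
  rw [e4, e2, e3, ← add_assoc] at e1
  exact (add_right_cancel e1).symm

theorem L_add {v w : V} (hv : lam v = 0) (hw : lam w = 0) :
    L₀ (v + w) = L₀ v + L₀ w := by
  by_cases h : Ind2 F v w
  · exact L_add_ind Φ h0 hcol hcol' e lam hlam L₀ hP hQ hZ hv hw h
  by_cases hv0 : v = 0
  · rw [hv0, zero_add, hZ, zero_add]
  obtain ⟨b, hb⟩ := exists_smul_of_not_ind2 hv0 h
  have h1 := L_add_line Φ h0 hcol hcol' e lam hlam L₀ hP hQ hZ hdim hv hv0 1 b
  rw [one_smul] at h1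
  rw [hb, ← h1, add_smul, one_smul]

variable (v₀ : V) (hv₀ : lam v₀ = 0) (hv₀0 : v₀ ≠ 0) (σ : F → F)
  (hσ : ∀ a, L₀ (a • v₀) = σ a • L₀ v₀)

include hv₀ hv₀0 hσ

theorem L_smul {v : V} (hv : lam v = 0) (a : F) : L₀ (a • v) = σ a • L₀ v := by
  by_cases hv0 : v = 0
  · rw [hv0, smul_zero, hZ, smul_zero]
  obtain ⟨s, hs⟩ := exists_smul_L Φ h0 hcol hcol' e lam hlam L₀ hP hQ hZ hv hv0 a
  by_cases h : Ind2 F v₀ v
  · have h1 := S_eq Φ h0 hcol hcol' e lam hlam L₀ hP hQ hZ hv₀ hv h (hσ a) hs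
    rw [hs, h1]
  · obtain ⟨b, hb⟩ := exists_smul_of_not_ind2 hv₀0 h
    have hb0 : b ≠ 0 := by
      intro hb0
      rw [hb0, zero_smul] at hb
      exact hv0 hb
    obtain ⟨w, hw, hi⟩ := exists_ind hdim lam hv₀0
    have hi' : Ind2 F v w := by
      have h1 := hi.smul hb0 (one_ne_zero (α := F))
      rw [one_smul, ← hb] at h1
      exact h1
    obtain ⟨t, ht⟩ := exists_smul_L Φ h0 hcol hcol' e lam hlam L₀ hP hQ hZ hw hi.right_ne a
    have h1 := S_eq Φ h0 hcol hcol' e lam hlam L₀ hP hQ hZ hv₀ hw hi (hσ a) ht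
    have h2 := S_eq Φ h0 hcol hcol' e lam hlam L₀ hP hQ hZ hv hw hi' hs ht
    rw [hs, h2, ← h1]

theorem sigma_one : σ 1 = 1 := by
  have h := hσ 1
  rw [one_smul] at h
  have hL := L_ne Φ h0 hcol hcol' e lam hlam L₀ hP hQ hZ hv₀ hv₀0
  exact smul_cancel hL (by rw [one_smul]; exact h.symm)

theorem sigma_zero : σ 0 = 0 := by
  have h := hσ 0
  rw [zero_smul, hZ] at h
  have hL := L_ne Φ h0 hcol hcol' e lam hlam L₀ hP hQ hZ hv₀ hv₀0
  exact (smul_eq_zero.1 h.symm).resolve_right hL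

theorem sigma_mul (a b : F) : σ (a * b) = σ a * σ b := by
  have hL := L_ne Φ h0 hcol hcol' e lam hlam L₀ hP hQ hZ hv₀ hv₀0
  have h1 := hσ (a * b)
  have hb : lam (b • v₀) = 0 := by rw [map_smul, hv₀, smul_zero]
  have h2 := L_smul Φ h0 hcol hcol' e lam hlam L₀ hP hQ hZ hdim v₀ hv₀ hv₀0 σ hσ hb a
  rw [hσ b, smul_smul, smul_smul] at h2
  exact smul_cancel hL (h1.symm.trans h2)

theorem sigma_add (a b : F) : σ (a + b) = σ a + σ b := by
  have hL := L_ne Φ h0 hcol hcol' e lam hlam L₀ hP hQ hZ hv₀ hv₀0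
  have h1 := L_add_line Φ h0 hcol hcol' e lam hlam L₀ hP hQ hZ hdim hv₀ hv₀0 a b
  rw [hσ, hσ, hσ, ← add_smul] at h1
  exact smul_cancel hL h1

theorem final_prop {x : V} (hx0 : x ≠ 0) :
    ∃ b : F, b ≠ 0 ∧ Φ x = b • (σ (lam x) • Φ e + L₀ (x - lam x • e)) := by
  by_cases hx : lam x = 0
  · obtain ⟨c, hc, hLx⟩ := hQ x hx hx0
    have hσ0 := sigma_zero Φ h0 hcol hcol' e lam hlam L₀ hP hQ hZ hdim v₀ hv₀ hv₀0 σ hσ
    refine ⟨c⁻¹, inv_ne_zero hc, ?_⟩
    rw [hx, zero_smul, sub_zero, hσ0, zero_smul, zero_add, hLx, smul_smul, inv_mul_cancel₀ hc,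
      one_smul]
  · have hh : lam (x - lam x • e) = 0 := proj_mem e lam hlam x
    obtain ⟨a, ha⟩ : ∃ a : F, a = lam x := ⟨_, rfl⟩
    rw [← ha] at hx hh ⊢
    have hy : x = a • (e + a⁻¹ • (x - a • e)) := by
      rw [smul_add, smul_smul, mul_inv_cancel₀ hx, one_smul]; abel
    have hy' : lam (a⁻¹ • (x - a • e)) = 0 := by rw [map_smul, hh, smul_zero]
    have hy0 : e + a⁻¹ • (x - a • e) ≠ 0 := e_add_ne e lam hlam hy'
    obtain ⟨m, hm⟩ := col1 Φ h0 hcol hcol' hy0 hx0 a hy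
    obtain ⟨α, hα, hΦ⟩ := hP (a⁻¹ • (x - a • e)) hy'
    rw [hΦ, L_smul Φ h0 hcol hcol' e lam hlam L₀ hP hQ hZ hdim v₀ hv₀ hv₀0 σ hσ hh a⁻¹] at hm
    have hm0 : m ≠ 0 := by
      intro hm0
      rw [hm0, zero_smul] at hm
      exact h0 x hx0 hm
    have hσa : σ a * σ a⁻¹ = 1 := by
      rw [← sigma_mul Φ h0 hcol hcol' e lam hlam L₀ hP hQ hZ hdim v₀ hv₀ hv₀0 σ hσ,
        mul_inv_cancel₀ hx, sigma_one Φ h0 hcol hcol' e lam hlam L₀ hP hQ hZ hdim v₀ hv₀ hv₀0 σ hσ]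
    have hσa0 : σ a ≠ 0 := left_ne_zero_of_mul_eq_one hσa
    have hinv : σ a⁻¹ = (σ a)⁻¹ := eq_inv_of_mul_eq_one_right hσa
    refine ⟨m * α * (σ a)⁻¹, mul_ne_zero (mul_ne_zero hm0 hα) (inv_ne_zero hσa0), ?_⟩
    have e1 : σ a • Φ e + L₀ (x - a • e) = σ a • (Φ e + (σ a)⁻¹ • L₀ (x - a • e)) := by
      rw [smul_add, smul_smul, mul_inv_cancel₀ hσa0, one_smul]
    rw [hm, hinv, e1, smul_smul, smul_smul, inv_mul_cancel_right₀ hσa0]

end Main

/-- **Fundamental theorem of projective geometry**, vector form. -/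
theorem ftpg {F : Type*} [Field F] {V : Type*} [AddCommGroup V] [Module F V]
    [FiniteDimensional F V] (hdim : 3 ≤ Module.finrank F V) (Φ : V → V)
    (h0 : ∀ v, v ≠ 0 → Φ v ≠ 0)
    (hcol : ∀ u w x : V, u ≠ 0 → w ≠ 0 → x ≠ 0 → x ∈ Submodule.span F {u, w} →
      Φ x ∈ Submodule.span F {Φ u, Φ w})
    (hcol' : ∀ u w x : V, u ≠ 0 → w ≠ 0 → x ≠ 0 → Φ x ∈ Submodule.span F {Φ u, Φ w} →
      x ∈ Submodule.span F {u, w}) :
    ∃ (σ : F →+* F) (L : V →+ V), (∀ (a : F) (v : V), L (a • v) = σ a • L v) ∧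
      ∀ v, v ≠ 0 → ∃ b : F, b ≠ 0 ∧ Φ v = b • L v := by
  classical
  obtain ⟨e, he⟩ : ∃ e : V, e ≠ 0 := by
    have hpos : 0 < Module.finrank F V := by omega
    exact Module.finrank_pos_iff_exists_ne_zero.1 hpos
  obtain ⟨lam, hlam⟩ : ∃ lam : V →ₗ[F] F, lam e = 1 :=
    Module.Projective.exists_dual_eq_one F he
  choose c hc using exists_c Φ h0 hcol hcol' e lam hlam
  obtain ⟨L₀, hP, hQ, hZ⟩ : ∃ L₀ : V → V,
      (∀ v, lam v = 0 → ∃ α : F, α ≠ 0 ∧ Φ (e + v) = α • (Φ e + L₀ v)) ∧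
      (∀ v, lam v = 0 → v ≠ 0 → ∃ c : F, c ≠ 0 ∧ L₀ v = c • Φ v) ∧ L₀ 0 = 0 := by
    refine ⟨fun v => if v = 0 then 0 else c v • Φ v, ?_, ?_, ?_⟩
    · intro v hv
      by_cases hv0 : v = 0
      · refine ⟨1, one_ne_zero, ?_⟩
        simp only [hv0, if_true, add_zero, one_smul]
      · obtain ⟨_, α, hα, h⟩ := hc v hv hv0
        refine ⟨α, hα, ?_⟩
        simp only [hv0, if_false]
        exact h
    · intro v hv hv0
      refine ⟨c v, (hc v hv hv0).1, ?_⟩
      simp only [hv0, if_false]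
    · simp only [if_true]
  obtain ⟨v₀, hv₀, hiv₀⟩ := exists_ind hdim lam he
  have hv₀0 := hiv₀.right_ne
  choose σ hσ using fun a : F =>
    exists_smul_L Φ h0 hcol hcol' e lam hlam L₀ hP hQ hZ hv₀ hv₀0 a
  have hσ1 := sigma_one Φ h0 hcol hcol' e lam hlam L₀ hP hQ hZ hdim v₀ hv₀ hv₀0 σ hσ
  have hσ0 := sigma_zero Φ h0 hcol hcol' e lam hlam L₀ hP hQ hZ hdim v₀ hv₀ hv₀0 σ hσ
  have hσm := sigma_mul Φ h0 hcol hcol' e lam hlam L₀ hP hQ hZ hdim v₀ hv₀ hv₀0 σ hσ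
  have hσa := sigma_add Φ h0 hcol hcol' e lam hlam L₀ hP hQ hZ hdim v₀ hv₀ hv₀0 σ hσ
  obtain ⟨σ', hσ'⟩ : ∃ σ' : F →+* F, ∀ a, σ' a = σ a :=
    ⟨{ toFun := σ, map_one' := hσ1, map_mul' := hσm, map_zero' := hσ0, map_add' := hσa },
      fun _ => rfl⟩
  have hπ : ∀ z, lam (z - lam z • e) = 0 := proj_mem e lam hlam
  have hadd : ∀ x y : V, σ (lam (x + y)) • Φ e + L₀ (x + y - lam (x + y) • e)
      = (σ (lam x) • Φ e + L₀ (x - lam x • e)) + (σ (lam y) • Φ e + L₀ (y - lam y • e)) := by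
    intro x y
    have e1 : x + y - lam (x + y) • e = (x - lam x • e) + (y - lam y • e) := by
      rw [map_add, add_smul]; abel
    rw [e1, L_add Φ h0 hcol hcol' e lam hlam L₀ hP hQ hZ hdim (hπ x) (hπ y), map_add, hσa,
      add_smul]
    abel
  obtain ⟨L, hL⟩ : ∃ L : V →+ V, ∀ x, L x = σ (lam x) • Φ e + L₀ (x - lam x • e) :=
    ⟨AddMonoidHom.mk' (fun x => σ (lam x) • Φ e + L₀ (x - lam x • e)) hadd, fun _ => rfl⟩
  refine ⟨σ', L, ?_, ?_⟩
  · intro a x
    have e1 : a • x - lam (a • x) • e = a • (x - lam x • e) := by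
      rw [map_smul, smul_eq_mul, smul_sub, smul_smul]
    rw [hL, hL, hσ', e1,
      L_smul Φ h0 hcol hcol' e lam hlam L₀ hP hQ hZ hdim v₀ hv₀ hv₀0 σ hσ (hπ x) a,
      map_smul, smul_eq_mul, hσm, smul_add, smul_smul]
  · intro x hx0
    obtain ⟨b, hb, h⟩ :=
      final_prop Φ h0 hcol hcol' e lam hlam L₀ hP hQ hZ hdim v₀ hv₀ hv₀0 σ hσ hx0
    exact ⟨b, hb, by rw [hL]; exact h⟩

end Cfsg.Agent.Helper93.FTPG
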