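import Mathlib

set_option autoImplicit false

namespace Cfsg.Agent.Helper93

open Finset

/-- support of a binary word of length 24 -/
def supp (u : Fin 24 → ZMod 2) : Finset (Fin 24) := Finset.univ.filter fun i => u i ≠ 0

lemma hammingNorm_eq_card_supp (u : Fin 24 → ZMod 2) : hammingNorm u = (supp u).card := by
  unfold hammingNorm supp
  congr

lemma zmod2_cases (x : ZMod 2) : x = 0 ∨ x = 1 := by
  revert x; decide

lemma mem_supp {u : Fin 24 → ZMod 2} {i : Fin 24} : i ∈ supp u ↔ u i = 1 := by
  unfold supp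
  rw [Finset.mem_filter]
  rcases zmod2_cases (u i) with h | h <;> simp [h]

lemma notMem_supp {u : Fin 24 → ZMod 2} {i : Fin 24} : i ∉ supp u ↔ u i = 0 := by
  rw [mem_supp]
  rcases zmod2_cases (u i) with h | h <;> simp [h]

lemma supp_injective : Function.Injective supp := by
  intro u v h
  funext i
  have h1 : i ∈ supp u ↔ i ∈ supp v := by rw [h]
  rw [mem_supp, mem_supp] at h1
  rcases zmod2_cases (u i) with hu | hu <;> rcases zmod2_cases (v i) with hv | hv <;> simp_all

/-- indicator word of a finset -/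
def ind (s : Finset (Fin 24)) : Fin 24 → ZMod 2 := fun i => if i ∈ s then 1 else 0

lemma supp_ind (s : Finset (Fin 24)) : supp (ind s) = s := by
  ext i
  rw [mem_supp]
  unfold ind
  by_cases h : i ∈ s <;> simp [h]

lemma ind_supp (u : Fin 24 → ZMod 2) : ind (supp u) = u :=
  supp_injective (supp_ind _)

/-- words ↔ subsets -/
def suppEquiv : (Fin 24 → ZMod 2) ≃ Finset (Fin 24) where
  toFun := supp
  invFun := ind
  left_inv := ind_supp
  right_inv := supp_ind

lemma supp_sub (u v : Fin 24 → ZMod 2) : supp (u - v) = symmDiff (supp u) (supp v) := by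
  ext i
  rw [Finset.mem_symmDiff, mem_supp, mem_supp, mem_supp, Pi.sub_apply]
  rcases zmod2_cases (u i) with hu | hu <;> rcases zmod2_cases (v i) with hv | hv <;>
    simp [hu, hv]

lemma supp_add (u v : Fin 24 → ZMod 2) : supp (u + v) = symmDiff (supp u) (supp v) := by
  ext i
  rw [Finset.mem_symmDiff, mem_supp, mem_supp, mem_supp, Pi.add_apply]
  rcases zmod2_cases (u i) with hu | hu <;> rcases zmod2_cases (v i) with hv | hv <;>
    simp [hu, hv]

lemma card_symmDiff_add (s t : Finset (Fin 24)) :
    (symmDiff s t).card + 2 * (s ∩ t).card = s.card + t.card := by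
  have h1 : (symmDiff s t) = (s \ t) ∪ (t \ s) := rfl
  have h2 : Disjoint (s \ t) (t \ s) := disjoint_sdiff_sdiff
  rw [h1, Finset.card_union_of_disjoint h2]
  have h3 := Finset.card_sdiff_add_card_inter s t
  have h4 := Finset.card_sdiff_add_card_inter t s
  rw [Finset.inter_comm t s] at h4
  omega

lemma wt_sub_add (u v : Fin 24 → ZMod 2) :
    hammingNorm (u - v) + 2 * (supp u ∩ supp v).card = hammingNorm u + hammingNorm v := by
  rw [hammingNorm_eq_card_supp, hammingNorm_eq_card_supp, hammingNorm_eq_card_supp, supp_sub]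
  exact card_symmDiff_add _ _

lemma wt_add_add (u v : Fin 24 → ZMod 2) :
    hammingNorm (u + v) + 2 * (supp u ∩ supp v).card = hammingNorm u + hammingNorm v := by
  rw [hammingNorm_eq_card_supp, hammingNorm_eq_card_supp, hammingNorm_eq_card_supp, supp_add]
  exact card_symmDiff_add _ _

lemma wt_sub_le (u v : Fin 24 → ZMod 2) : hammingNorm (u - v) ≤ hammingNorm u + hammingNorm v := by
  have := wt_sub_add u v
  omega


/-! ### counting words of small weight -/

lemma card_wt_eq (k : ℕ) :
    (Finset.univ.filter fun u : Fin 24 → ZMod 2 => hammingNorm u = k).card = Nat.choose 24 k := by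
  have h : (Finset.univ.filter fun u : Fin 24 → ZMod 2 => hammingNorm u = k) =
      (Finset.powersetCard k (Finset.univ : Finset (Fin 24))).map suppEquiv.symm.toEmbedding := by
    ext u
    simp only [Finset.mem_filter, Finset.mem_univ, true_and, Finset.mem_map, Finset.mem_powersetCard,
      Finset.subset_univ, Equiv.coe_toEmbedding]
    constructor
    · intro h
      exact ⟨supp u, by rw [← hammingNorm_eq_card_supp]; exact h, ind_supp u⟩
    · rintro ⟨s, hs, rfl⟩
      rw [hammingNorm_eq_card_supp]
      show (supp (ind s)).card = k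
      rw [supp_ind]; exact hs
  rw [h, Finset.card_map, Finset.card_powersetCard, Finset.card_univ, Fintype.card_fin]

lemma card_wt_le (k : ℕ) :
    (Finset.univ.filter fun u : Fin 24 → ZMod 2 => hammingNorm u ≤ k).card =
      ∑ j ∈ Finset.range (k + 1), Nat.choose 24 j := by
  have h := Finset.card_eq_sum_card_fiberwise (f := fun u : Fin 24 → ZMod 2 => hammingNorm u)
    (s := Finset.univ.filter fun u : Fin 24 → ZMod 2 => hammingNorm u ≤ k) (t := Finset.range (k + 1))
    (by
      intro u hu
      simp only [Finset.coe_filter, Finset.mem_univ, true_and, Set.mem_ofPred_eq] at hu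
      simp only [Finset.coe_range, Set.mem_Iio]
      omega)
  rw [h]
  apply Finset.sum_congr rfl
  intro j hj
  rw [← card_wt_eq j]
  congr 1
  ext u
  simp only [Finset.mem_filter, Finset.mem_univ, true_and]
  rw [Finset.mem_range] at hj
  constructor
  · rintro ⟨_, h2⟩; exact h2
  · intro h2; exact ⟨by omega, h2⟩

lemma card_wt_le_three :
    (Finset.univ.filter fun u : Fin 24 → ZMod 2 => hammingNorm u ≤ 3).card = 2325 := by
  rw [card_wt_le]; decide

lemma card_wt_le_four :
    (Finset.univ.filter fun u : Fin 24 → ZMod 2 => hammingNorm u ≤ 4).card = 12951 := by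
  rw [card_wt_le]; decide


/-! ### codes of minimum weight at least 8 -/

section code

variable {C : Submodule (ZMod 2) (Fin 24 → ZMod 2)}

lemma eq_of_close (hmin : ∀ w ∈ C, w ≠ 0 → 8 ≤ hammingNorm w) {u u' : Fin 24 → ZMod 2}
    (h : u - u' ∈ C) (hw : hammingNorm u + hammingNorm u' < 8) : u = u' := by
  by_contra hne
  have h1 := hmin _ h (sub_ne_zero.mpr hne)
  have h2 := wt_sub_le u u'
  omega

lemma disjoint_of_wt4 (hmin : ∀ w ∈ C, w ≠ 0 → 8 ≤ hammingNorm w) {u u' : Fin 24 → ZMod 2}
    (h : u - u' ∈ C) (hne : u ≠ u') (hu : hammingNorm u ≤ 4) (hu' : hammingNorm u' ≤ 4) :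
    Disjoint (supp u) (supp u') ∧ hammingNorm u = 4 ∧ hammingNorm u' = 4 := by
  have h1 := hmin _ h (sub_ne_zero.mpr hne)
  have h2 := wt_sub_add u u'
  refine ⟨?_, by omega, by omega⟩
  rw [Finset.disjoint_iff_inter_eq_empty, ← Finset.card_eq_zero]
  omega

lemma card_quotient (hdim : Module.finrank (ZMod 2) C = 12) :
    Nat.card ((Fin 24 → ZMod 2) ⧸ C) = 4096 := by
  have h1 := Submodule.card_eq_card_quotient_mul_card C
  have h2 : Nat.card (Fin 24 → ZMod 2) = 2 ^ 24 := by
    rw [Nat.card_eq_fintype_card, Fintype.card_fun, ZMod.card, Fintype.card_fin]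
  have h3 : Nat.card C = 2 ^ 12 := by
    rw [Module.natCard_eq_pow_finrank (K := ZMod 2) (V := C), Nat.card_zmod, hdim]
  rw [h2, h3] at h1
  have : (2:ℕ) ^ 24 = 2 ^ 12 * 4096 := by norm_num
  rw [this] at h1
  exact (Nat.eq_of_mul_eq_mul_left (by norm_num) h1).symm


/-- the words of weight at most 4 in the coset of `w` -/
def leaders (C : Submodule (ZMod 2) (Fin 24 → ZMod 2)) (w : Fin 24 → ZMod 2) : Set (Fin 24 → ZMod 2) :=
  {u | u - w ∈ C ∧ hammingNorm u ≤ 4}

lemma leaders_light (hmin : ∀ w ∈ C, w ≠ 0 → 8 ≤ hammingNorm w) (w u : Fin 24 → ZMod 2)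
    (hu : u - w ∈ C) (hu3 : hammingNorm u ≤ 3) : leaders C w = {u} := by
  ext u'
  simp only [leaders, Set.mem_ofPred_eq, Set.mem_singleton_iff]
  constructor
  · rintro ⟨h1, h2⟩
    have : u' - u ∈ C := by
      have := C.sub_mem h1 hu
      simpa using this
    exact eq_of_close hmin this (by omega)
  · rintro rfl
    exact ⟨hu, by omega⟩

lemma leaders_heavy_props (hmin : ∀ w ∈ C, w ≠ 0 → 8 ≤ hammingNorm w) (w : Fin 24 → ZMod 2)
    (hw : ¬ ∃ u, u - w ∈ C ∧ hammingNorm u ≤ 3) :
    ∀ u ∈ leaders C w, hammingNorm u = 4 ∧ ∀ u' ∈ leaders C w, u ≠ u' → Disjoint (supp u) (supp u') := by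
  intro u hu
  obtain ⟨hu1, hu2⟩ := hu
  constructor
  · by_contra h
    exact hw ⟨u, hu1, by omega⟩
  · intro u' hu' hne
    obtain ⟨hu'1, hu'2⟩ := hu'
    have : u - u' ∈ C := by
      have := C.sub_mem hu1 hu'1
      simpa using this
    exact (disjoint_of_wt4 hmin this hne hu2 hu'2).1

theorem leaders_heavy_card (hdim : Module.finrank (ZMod 2) C = 12)
    (hmin : ∀ w ∈ C, w ≠ 0 → 8 ≤ hammingNorm w) (w : Fin 24 → ZMod 2)
    (hw : ¬ ∃ u, u - w ∈ C ∧ hammingNorm u ≤ 3) : (leaders C w).ncard = 6 := by
  classical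
  have : Fintype ((Fin 24 → ZMod 2) ⧸ C) := Fintype.ofFinite _
  let π : (Fin 24 → ZMod 2) → (Fin 24 → ZMod 2) ⧸ C := Submodule.Quotient.mk
  have hπ : ∀ x y, π x = π y ↔ x - y ∈ C := fun x y => Submodule.Quotient.eq C
  let L : Finset (Fin 24 → ZMod 2) := Finset.univ.filter (fun u => hammingNorm u ≤ 4)
  let S : Finset (Fin 24 → ZMod 2) := Finset.univ.filter (fun u => hammingNorm u ≤ 3)
  let n : (Fin 24 → ZMod 2) ⧸ C → ℕ := fun c => (L.filter (fun u => π u = c)).card
  let P : (Fin 24 → ZMod 2) ⧸ C → Prop := fun c => ∃ u, hammingNorm u ≤ 3 ∧ π u = c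
  let g : (Fin 24 → ZMod 2) ⧸ C → ℕ := fun c => if P c then 1 else 6
  have hng : ∀ c, n c ≤ g c := by
    intro c
    by_cases hP : P c
    · obtain ⟨u0, hu0, hc⟩ := hP
      have : L.filter (fun u => π u = c) ⊆ {u0} := by
        intro u hu
        simp only [L, Finset.mem_filter, Finset.mem_univ, true_and] at hu
        rw [Finset.mem_singleton]
        have h1 : u - u0 ∈ C := by rw [← hπ, hu.2, hc]
        exact eq_of_close hmin h1 (by omega)
      have h2 := Finset.card_le_card this
      simp only [g, n, if_pos (show P c from ⟨u0, hu0, hc⟩)]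
      simpa using h2
    · simp only [g, n, if_neg hP]
      set Fb := L.filter (fun u => π u = c) with hFb
      have hF4 : ∀ u ∈ Fb, (supp u).card = 4 := by
        intro u hu
        simp only [hFb, L, Finset.mem_filter, Finset.mem_univ, true_and] at hu
        rw [← hammingNorm_eq_card_supp]
        by_contra h
        exact hP ⟨u, by omega, hu.2⟩
      have hdisj : (Fb : Set (Fin 24 → ZMod 2)).PairwiseDisjoint supp := by
        intro u hu u' hu' hne
        simp only [hFb, L, Finset.coe_filter, Finset.mem_filter, Finset.mem_univ, true_and,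
          Set.mem_ofPred_eq] at hu hu'
        have h1 : u - u' ∈ C := by rw [← hπ, hu.2, hu'.2]
        exact (disjoint_of_wt4 hmin h1 hne hu.1 hu'.1).1
      have h1 := Finset.card_biUnion hdisj
      rw [Finset.sum_congr rfl hF4, Finset.sum_const, smul_eq_mul] at h1
      have h2 : (Fb.biUnion supp).card ≤ 24 := by
        have := Finset.card_le_univ (Fb.biUnion supp)
        simpa using this
      omega
  have hsum_n : ∑ c, n c = 12951 := by
    rw [← card_wt_le_four]
    exact (Finset.card_eq_sum_card_fiberwise (f := π) (s := L) (t := Finset.univ)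
      (fun _ _ => Finset.mem_coe.mpr (Finset.mem_univ _))).symm
  have hP : (Finset.univ.filter P).card = 2325 := by
    have h1 : Finset.univ.filter P = S.image π := by
      ext c
      simp only [P, S, Finset.mem_filter, Finset.mem_univ, true_and, Finset.mem_image]
    rw [h1, Finset.card_image_of_injOn, card_wt_le_three]
    intro u hu u' hu' h
    simp only [S, Finset.coe_filter, Finset.mem_univ, true_and, Set.mem_ofPred_eq] at hu hu'
    exact eq_of_close hmin ((hπ _ _).mp h) (by omega)
  have hcard : (Finset.univ : Finset ((Fin 24 → ZMod 2) ⧸ C)).card = 4096 := by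
    rw [Finset.card_univ, ← Nat.card_eq_fintype_card, card_quotient hdim]
  have hPn : (Finset.univ.filter (fun c => ¬ P c)).card = 1771 := by
    have := Finset.card_filter_add_card_filter_not (s := (Finset.univ : Finset ((Fin 24 → ZMod 2) ⧸ C))) P
    rw [hP, hcard] at this
    omega
  have hsum_g : ∑ c, g c = 12951 := by
    simp only [g]
    rw [Finset.sum_ite, Finset.sum_const, Finset.sum_const, smul_eq_mul, smul_eq_mul, hP, hPn]
  have heq : ∀ c, n c = g c := by
    have := (Finset.sum_eq_sum_iff_of_le (s := Finset.univ) (f := n) (g := g) (fun c _ => hng c)).mp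
      (hsum_n.trans hsum_g.symm)
    exact fun c => this c (Finset.mem_univ c)
  have h1 := heq (π w)
  have hnP : ¬ P (π w) := by
    rintro ⟨u, hu, hc⟩
    exact hw ⟨u, (hπ _ _).mp hc, hu⟩
  simp only [g, n, if_neg hnP] at h1
  rw [← h1, ← Set.ncard_coe_finset]
  congr 1
  ext u
  simp only [leaders, L, Set.mem_ofPred_eq, Finset.coe_filter, Finset.mem_filter, Finset.mem_univ, true_and]
  rw [hπ]
  tauto

end code

end Cfsg.Agent.Helper93
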