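import Cfsg.Agent.Lib.Helper93.Golay

set_option autoImplicit false

namespace Cfsg.Agent.Helper93

open Finset

variable {C : Submodule (ZMod 2) (Fin 24 → ZMod 2)}

lemma exists_leader_mem (hdim : Module.finrank (ZMod 2) C = 12)
    (hmin : ∀ w ∈ C, w ≠ 0 → 8 ≤ hammingNorm w) (w : Fin 24 → ZMod 2)
    (hw : ¬ ∃ u, u - w ∈ C ∧ hammingNorm u ≤ 3) (a : Fin 24) :
    ∃ u ∈ leaders C w, a ∈ supp u := by
  classical
  have hfin : (leaders C w).Finite := Set.toFinite _
  set Fb : Finset (Fin 24 → ZMod 2) := hfin.toFinset with hFb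
  have hmem : ∀ u, u ∈ Fb ↔ u ∈ leaders C w := fun u => Set.Finite.mem_toFinset hfin
  have hcard : Fb.card = 6 := by
    rw [← leaders_heavy_card hdim hmin w hw, Set.ncard_eq_toFinset_card _ hfin]
  have hprops := leaders_heavy_props hmin w hw
  have hF4 : ∀ u ∈ Fb, (supp u).card = 4 := by
    intro u hu
    rw [← hammingNorm_eq_card_supp]
    exact (hprops u ((hmem u).mp hu)).1
  have hdisj : (Fb : Set (Fin 24 → ZMod 2)).PairwiseDisjoint supp := by
    intro u hu u' hu' hne
    exact (hprops u ((hmem u).mp hu)).2 u' ((hmem u').mp hu') hne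
  have h1 := Finset.card_biUnion hdisj
  rw [Finset.sum_congr rfl hF4, Finset.sum_const, smul_eq_mul, hcard] at h1
  have h2 : Fb.biUnion supp = Finset.univ := by
    apply Finset.eq_univ_of_card
    rw [h1]; simp
  have h3 : a ∈ Fb.biUnion supp := by rw [h2]; exact Finset.mem_univ a
  rw [Finset.mem_biUnion] at h3
  obtain ⟨u, hu, ha⟩ := h3
  exact ⟨u, (hmem u).mp hu, ha⟩

lemma octad_exists (hdim : Module.finrank (ZMod 2) C = 12)
    (hmin : ∀ w ∈ C, w ≠ 0 → 8 ≤ hammingNorm w) (s : Finset (Fin 24)) (hs : s.card = 5) :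
    ∃ c ∈ C, hammingNorm c = 8 ∧ s ⊆ supp c := by
  have hne : s.Nonempty := by rw [← Finset.card_pos]; omega
  obtain ⟨a, ha⟩ := hne
  set s' := s.erase a with hs'
  have hs'card : s'.card = 4 := by rw [hs', Finset.card_erase_of_mem ha, hs]
  set w := ind s' with hwdef
  have hwt : hammingNorm w = 4 := by rw [hammingNorm_eq_card_supp, hwdef, supp_ind, hs'card]
  have hwmem : w ∈ leaders C w := ⟨by simp, by omega⟩
  have hw : ¬ ∃ u, u - w ∈ C ∧ hammingNorm u ≤ 3 := by
    rintro ⟨u, hu, hu3⟩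
    have h1 := leaders_light hmin w u hu hu3
    rw [h1, Set.mem_singleton_iff] at hwmem
    rw [hwmem] at hwt
    omega
  obtain ⟨u, hu, hau⟩ := exists_leader_mem hdim hmin w hw a
  have hne : u ≠ w := by
    rintro rfl
    rw [hwdef, supp_ind, hs'] at hau
    exact Finset.notMem_erase a s hau
  obtain ⟨hu4, hd⟩ := leaders_heavy_props hmin w hw u hu
  have hdisj := hd w hwmem hne
  refine ⟨u - w, hu.1, ?_, ?_⟩
  · have h1 := wt_sub_add u w
    rw [Finset.disjoint_iff_inter_eq_empty] at hdisj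
    rw [hdisj, Finset.card_empty] at h1
    omega
  · rw [supp_sub]
    intro x hx
    rw [Finset.mem_symmDiff]
    by_cases hxa : x = a
    · left
      subst hxa
      exact ⟨hau, fun h => (Finset.disjoint_left.mp hdisj) hau h⟩
    · right
      have hxs' : x ∈ supp w := by
        rw [hwdef, supp_ind, hs']
        exact Finset.mem_erase.mpr ⟨hxa, hx⟩
      exact ⟨hxs', fun h => (Finset.disjoint_left.mp hdisj) h hxs'⟩

lemma octad_unique (hmin : ∀ w ∈ C, w ≠ 0 → 8 ≤ hammingNorm w) {c c' : Fin 24 → ZMod 2}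
    (hc : c ∈ C) (hc' : c' ∈ C) (h8 : hammingNorm c = 8) (h8' : hammingNorm c' = 8)
    (hs : 5 ≤ (supp c ∩ supp c').card) : c = c' := by
  by_contra hne
  have h1 := hmin _ (C.sub_mem hc hc') (sub_ne_zero.mpr hne)
  have h2 := wt_sub_add c c'
  omega

end Cfsg.Agent.Helper93
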