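import Cfsg.Agent.Lib.Helper93.Golay2

set_option autoImplicit false

namespace Cfsg.Agent.Helper93

open Finset

variable {C : Submodule (ZMod 2) (Fin 24 → ZMod 2)}

lemma mem_span_octads (hdim : Module.finrank (ZMod 2) C = 12)
    (hmin : ∀ w ∈ C, w ≠ 0 → 8 ≤ hammingNorm w) :
    ∀ n : ℕ, ∀ w ∈ C, hammingNorm w = n →
      w ∈ Submodule.span (ZMod 2) {w : Fin 24 → ZMod 2 | w ∈ C ∧ hammingNorm w = 8} := by
  intro n
  induction n using Nat.strong_induction_on with
  | _ n ih =>
    intro w hw hn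
    by_cases h0 : w = 0
    · rw [h0]; exact Submodule.zero_mem _
    · have h8 := hmin w hw h0
      have h5 : 5 ≤ (supp w).card := by rw [← hammingNorm_eq_card_supp]; omega
      obtain ⟨s, hsub, hs⟩ := Finset.exists_subset_card_eq h5
      obtain ⟨c, hc, hc8, hsc⟩ := octad_exists hdim hmin s hs
      have h1 := wt_sub_add w c
      have h2 : 5 ≤ (supp w ∩ supp c).card := by
        rw [← hs]
        exact Finset.card_le_card (Finset.subset_inter hsub hsc)
      have h3 : hammingNorm (w - c) < n := by omega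
      have h4 := ih _ h3 (w - c) (C.sub_mem hw hc) rfl
      have h5 : c ∈ Submodule.span (ZMod 2) {w : Fin 24 → ZMod 2 | w ∈ C ∧ hammingNorm w = 8} :=
        Submodule.subset_span ⟨hc, hc8⟩
      have := Submodule.add_mem _ h4 h5
      simpa using this

theorem span_octads_eq (hdim : Module.finrank (ZMod 2) C = 12)
    (hmin : ∀ w ∈ C, w ≠ 0 → 8 ≤ hammingNorm w) :
    Submodule.span (ZMod 2) {w : Fin 24 → ZMod 2 | w ∈ C ∧ hammingNorm w = 8} = C := by
  apply le_antisymm
  · rw [Submodule.span_le]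
    intro w hw
    exact hw.1
  · intro w hw
    exact mem_span_octads hdim hmin _ w hw rfl

lemma dot_eq_card (u v : Fin 24 → ZMod 2) :
    ∑ i, u i * v i = ((supp u ∩ supp v).card : ZMod 2) := by
  have h1 : ∀ i, u i * v i = if i ∈ supp u ∩ supp v then (1 : ZMod 2) else 0 := by
    intro i
    have h2 : i ∈ supp u ∩ supp v ↔ (u i = 1 ∧ v i = 1) := by
      rw [Finset.mem_inter, mem_supp, mem_supp]
    rcases zmod2_cases (u i) with hu | hu <;> rcases zmod2_cases (v i) with hv | hv <;>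
      simp [h2, hu, hv]
  rw [Finset.sum_congr rfl (fun i _ => h1 i), Finset.sum_boole]
  congr 2
  ext i
  simp

lemma even_inter_of_dot (u v : Fin 24 → ZMod 2) (h : ∑ i, u i * v i = 0) :
    2 ∣ (supp u ∩ supp v).card := by
  rw [dot_eq_card] at h
  exact (ZMod.natCast_eq_zero_iff _ 2).mp h

theorem doubly_even (hdim : Module.finrank (ZMod 2) C = 12)
    (horth : ∀ v ∈ C, ∀ w ∈ C, ∑ i, v i * w i = 0)
    (hmin : ∀ w ∈ C, w ≠ 0 → 8 ≤ hammingNorm w) : ∀ w ∈ C, 4 ∣ hammingNorm w := by
  have key : ∀ w ∈ Submodule.span (ZMod 2) {w : Fin 24 → ZMod 2 | w ∈ C ∧ hammingNorm w = 8},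
      w ∈ C ∧ 4 ∣ hammingNorm w := by
    intro w hw'
    induction hw' using Submodule.span_induction with
    | mem x hx => exact ⟨hx.1, by rw [hx.2]; norm_num⟩
    | zero => exact ⟨C.zero_mem, by simp⟩
    | add x y _ _ hx hy =>
      refine ⟨C.add_mem hx.1 hy.1, ?_⟩
      have h1 := wt_add_add x y
      have h2 := even_inter_of_dot x y (horth x hx.1 y hy.1)
      obtain ⟨a, ha⟩ := hx.2
      obtain ⟨b, hb⟩ := hy.2
      obtain ⟨c, hc⟩ := h2
      omega
    | smul a x _ hx =>
      rcases zmod2_cases a with ha | ha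
      · rw [ha, zero_smul]; exact ⟨C.zero_mem, by simp⟩
      · rw [ha, one_smul]; exact hx
  intro w hw
  have hw' : w ∈ Submodule.span (ZMod 2) {w : Fin 24 → ZMod 2 | w ∈ C ∧ hammingNorm w = 8} := by
    rw [span_octads_eq hdim hmin]; exact hw
  exact (key w hw').2

end Cfsg.Agent.Helper93
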