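import Cfsg.Agent.Lib.Helper93.MD1
import Cfsg.Agent.Lib.Helper4.MDC
import Cfsg.Agent.Lib.Helper23.MDT2
import Cfsg.Agent.Lib.Helper86.MDT3
import Cfsg.Agent.Lib.Helper48.MDT5
import Cfsg.Agent.Lib.Helper16.MDT4

/-!
# MD project, piece (T6): the trichotomy
-/

set_option autoImplicit false

namespace Cfsg.Agent.Helper93.MD

open Module Cfsg.Agent.Helper93.McL

lemma t6_arith_small (q s Q f : ℕ) (hs : 2 ≤ s) (hsq : 2 * s ≤ q) (hQ : q * q ≤ Q)
    (h : Q ≤ (s - 1) * f + s) : Q - 1 ≤ (q - 1) * f := by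
  obtain ⟨s', rfl⟩ : ∃ s', s = s' + 2 := ⟨s - 2, by omega⟩
  obtain ⟨d, rfl⟩ : ∃ d, q = 2 * (s' + 2) + d := ⟨q - 2 * (s' + 2), by omega⟩
  have e1 : s' + 2 - 1 = s' + 1 := by omega
  have e2 : 2 * (s' + 2) + d - 1 = (s' + 1) + (s' + 2 + d) := by omega
  rw [e1] at h
  rw [e2, add_mul]
  have hf : 1 ≤ f := by
    by_contra h0
    have hf0 : f = 0 := by omega
    subst hf0
    have h5 : 2 * (s' + 2) + d ≤ (2 * (s' + 2) + d) * (2 * (s' + 2) + d) := Nat.le_mul_self _
    rw [Nat.mul_zero] at h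
    omega
  have h3 : s' + 2 + d ≤ (s' + 2 + d) * f := Nat.le_mul_of_pos_right _ hf
  omega

lemma t6_arith_eq (a c s b f Q m : ℕ) (hb : 0 < b) (hQ : Q = s * b) (hs : 1 ≤ s) (hm : m = f + Q)
    (hac : a + c = m) (hE : a * Q + c * b = m + (Q - 1) * f) :
    a * (s - 1) + Q = (s - 1) * f + s := by
  subst hQ hm
  obtain ⟨s', rfl⟩ : ∃ s', s = s' + 1 := ⟨s - 1, by omega⟩
  have hpos : 0 < (s' + 1) * b := Nat.mul_pos (by omega) hb
  have e1 : ((s' + 1) * b - 1) * f + f = (s' + 1) * b * f := by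
    obtain ⟨k, hk⟩ : ∃ k, (s' + 1) * b = k + 1 := ⟨(s' + 1) * b - 1, by omega⟩
    rw [hk, Nat.add_sub_cancel]
    ring
  have e2 : b * (a * (s' + 1) + c) = b * ((s' + 1) + (s' + 1) * f) := by
    calc b * (a * (s' + 1) + c) = a * ((s' + 1) * b) + c * b := by ring
      _ = f + (s' + 1) * b + ((s' + 1) * b - 1) * f := hE
      _ = (s' + 1) * b + (((s' + 1) * b - 1) * f + f) := by
          generalize ((s' + 1) * b - 1) * f = X
          ring
      _ = (s' + 1) * b + (s' + 1) * b * f := by rw [e1]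
      _ = b * ((s' + 1) + (s' + 1) * f) := by ring
  have e3 := Nat.eq_of_mul_eq_mul_left hb e2
  have e4 : a * (s' + 1) = a * s' + a := by ring
  have e5 : (s' + 1) * f = s' * f + f := by ring
  rw [e4, e5] at e3
  rw [Nat.add_sub_cancel]
  omega

variable {F V : Type*} [Field F] [Fintype F] [AddCommGroup V] [Module F V] [FiniteDimensional F V]

omit [Fintype F] [FiniteDimensional F V] in
lemma t6_finrank_span_pair {u v : V} (hu : u ≠ 0) (hv : v ∉ Submodule.span F {u}) :
    finrank F ↥(Submodule.span F {u, v}) = 2 := by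
  have hli : LinearIndependent F ![u, v] := by
    rw [LinearIndependent.pair_iff' hu]
    intro a ha
    exact hv (Submodule.mem_span_singleton.mpr ⟨a, ha⟩)
  have := finrank_span_eq_card hli
  have hr : Set.range ![u, v] = {u, v} := by
    rw [Matrix.range_cons, Matrix.range_cons, Matrix.range_empty, Set.union_empty]
    rfl
  rw [hr] at this
  simpa using this

/-- (T6) THE TRICHOTOMY. -/
theorem trichotomy {Ω : Type*} [Fintype Ω] [MulAction ↥(SLV F V) Ω] (hn : 3 ≤ finrank F V) {u : V}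
    (hu : u ≠ 0) (f : ℕ) (hf : ∀ φ : Dual F V, φ u = 0 → φ ≠ 0 → fp Ω (stv u φ) = f)
    (hm : Fintype.card Ω = f + Fintype.card F ^ (finrank F V - 1)) :
    (Fintype.card F ^ (finrank F V - 1) - 1 ≤ (Fintype.card F - 1) * f) ∨
    (∀ ω : Ω, ∃ v : V, v ∉ Submodule.span F {u} ∧
        ∀ φ : Dual F V, φ u = 0 → (stv u φ • ω = ω ↔ φ v = 0)) ∨
    (∀ ω : Ω, (∀ φ : Dual F V, φ u = 0 → stv u φ • ω = ω) ∨
        (∀ φ : Dual F V, φ u = 0 → stv u φ • ω = ω → φ = 0)) := by
  classical
  have : Finite V := Module.finite_of_finite F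
  have : Finite (Dual F V) := Module.finite_of_finite F
  have hBP : ∀ ω : Ω, Bst (F := F) u ω ≤ PhiA u := fun ω φ hφ => hφ.1
  have hcardP : Nat.card ↥(PhiA u : AddSubgroup (Dual F V)) = Fintype.card F ^ (finrank F V - 1) :=
    Cfsg.Agent.Helper4.MD.card_PhiA hu
  by_cases hall : ∀ ω : Ω, Bst (F := F) u ω = PhiA u
  · right; right
    intro ω
    left
    intro φ hφ
    have : φ ∈ Bst (F := F) u ω := by
      rw [hall ω]
      exact hφ
    exact this.2
  push Not at hall
  obtain ⟨ω₁, hω₁⟩ := hall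
  obtain ⟨p, hp⟩ := CharP.exists F
  have : CharP F p := hp
  have : Fact p.Prime := ⟨CharP.char_is_prime F p⟩
  obtain ⟨τ, hτ⟩ := Cfsg.Agent.Helper86.MD.exists_tau (F := F) (p := p)
  have hT5 : ∀ ω : Ω, Bst (F := F) u ω ≠ PhiA u →
      Nat.card ↥(Bst (F := F) u ω) = Nat.card ↥(Bst (F := F) u ω₁) ∧
        (perp τ (Bst u ω) = ⊤ ↔ perp τ (Bst u ω₁) = ⊤) :=
    fun ω hω => Cfsg.Agent.Helper48.MD.card_Bst_eq_core hn hu τ
      (fun v hv => Cfsg.Agent.Helper23.MD.exists_unique_orbit_below hn hu f hf hm τ hτ hv)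
      (fun B hB => Cfsg.Agent.Helper86.MD.card_mul_card_perp hu τ hτ B hB)
      (Cfsg.Agent.Helper4.MD.card_PhiA hu) ω ω₁ hω hω₁
  have hT3 : ∀ B : AddSubgroup (Dual F V), B ≤ PhiA u →
      Nat.card ↥B * Nat.card ↥(perp τ B) = Fintype.card F ^ finrank F V :=
    fun B hB => Cfsg.Agent.Helper86.MD.card_mul_card_perp hu τ hτ B hB
  by_cases htop : perp τ (Bst u ω₁) = ⊤
  · -- alternative (II)
    right; right
    intro ω
    by_cases hω : Bst (F := F) u ω = PhiA u
    · left
      intro φ hφ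
      have : φ ∈ Bst (F := F) u ω := by
        rw [hω]
        exact hφ
      exact this.2
    · right
      intro φ hφ hfix
      have htop' : perp τ (Bst u ω) = ⊤ := (hT5 ω hω).2.mpr htop
      have h3 := hT3 (Bst u ω) (hBP ω)
      rw [htop', AddSubgroup.card_top, Module.natCard_eq_pow_finrank (K := F) (V := V),
        Nat.card_eq_fintype_card (α := F)] at h3
      have hcard1 : Nat.card ↥(Bst (F := F) u ω) = 1 := by
        have hpos : 0 < Fintype.card F ^ finrank F V := pow_pos Fintype.card_pos _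
        exact Nat.eq_of_mul_eq_mul_right hpos (by rw [h3, one_mul])
      have hmem : φ ∈ Bst (F := F) u ω := ⟨hφ, hfix⟩
      have hsub : Subsingleton ↥(Bst (F := F) u ω) := (Nat.card_eq_one_iff_unique.mp hcard1).1
      have := Subsingleton.elim (⟨φ, hmem⟩ : ↥(Bst (F := F) u ω)) ⟨0, (Bst u ω).zero_mem⟩
      exact congrArg Subtype.val this
  -- now `perp ≠ ⊤` for every non-fixed point
  have hT4 : ∀ ω : Ω, Bst (F := F) u ω ≠ PhiA u → ∃ v : V, v ∉ Submodule.span F {u} ∧
      ∀ x ∈ perp τ (Bst (F := F) u ω), x ∈ Submodule.span F {u, v} := by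
    intro ω hω
    rcases Cfsg.Agent.Helper16.MD.perp_structure hn hu f hf hm τ hτ ω hω with h | h
    · exact h
    · exact absurd ((hT5 ω hω).2.mp h) htop
  -- numerical data
  have hq2 : 2 ≤ Fintype.card F := Fintype.one_lt_card
  have hqpos : 0 < Fintype.card F := by omega
  have hQpos : 0 < Fintype.card F ^ (finrank F V - 1) := pow_pos hqpos _
  have hb_dvd : Nat.card ↥(Bst (F := F) u ω₁) ∣ Fintype.card F ^ (finrank F V - 1) := by
    rw [← hcardP]
    exact AddSubgroup.card_dvd_of_le (hBP ω₁)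
  have hbpos : 0 < Nat.card ↥(Bst (F := F) u ω₁) := Nat.pos_of_dvd_of_pos hb_dvd hQpos
  obtain ⟨s, hs⟩ := hb_dvd
  have hbne : Nat.card ↥(Bst (F := F) u ω₁) ≠ Fintype.card F ^ (finrank F V - 1) := by
    intro hbQ
    apply hω₁
    exact AddSubgroup.eq_of_le_of_card_ge (hBP ω₁) (by rw [hcardP, ← hbQ])
  have hs2 : 2 ≤ s := by
    by_contra hlt
    have h01 : s = 0 ∨ s = 1 := by omega
    rcases h01 with h | h
    · rw [h, mul_zero] at hs
      omega
    · rw [h, mul_one] at hs
      exact hbne hs.symm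
  have hQs : Fintype.card F ^ (finrank F V - 1) = s * Nat.card ↥(Bst (F := F) u ω₁) := by
    rw [hs, mul_comm]
  have hqn : Fintype.card F ^ finrank F V = Fintype.card F * Fintype.card F ^ (finrank F V - 1) := by
    rw [← pow_succ']
    congr 1
    omega
  have hperp_card : ∀ ω : Ω, Bst (F := F) u ω ≠ PhiA u →
      Nat.card ↥(perp τ (Bst (F := F) u ω)) = Fintype.card F * s := by
    intro ω hω
    have h3 := hT3 (Bst u ω) (hBP ω)
    rw [(hT5 ω hω).1, hqn, hQs] at h3
    have h4 : Nat.card ↥(Bst (F := F) u ω₁) * Nat.card ↥(perp τ (Bst (F := F) u ω)) =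
        Nat.card ↥(Bst (F := F) u ω₁) * (Fintype.card F * s) := by
      rw [h3]
      ring
    exact Nat.eq_of_mul_eq_mul_left hbpos h4
  have hspan_card : ∀ v : V, v ∉ Submodule.span F {u} →
      Nat.card ↥(Submodule.span F {u, v}) = Fintype.card F * Fintype.card F := by
    intro v hv
    rw [Module.natCard_eq_pow_finrank (K := F), t6_finrank_span_pair hu hv,
      Nat.card_eq_fintype_card (α := F), pow_two]
  -- `s ≤ q`
  have hsq : s ≤ Fintype.card F := by
    obtain ⟨v, hv, hsub⟩ := hT4 ω₁ hω₁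
    have h1 : Nat.card ↥(perp τ (Bst (F := F) u ω₁)) ≤ Nat.card ↥(Submodule.span F {u, v}) := by
      apply Nat.card_le_card_of_injective
        (fun x : ↥(perp τ (Bst (F := F) u ω₁)) => (⟨x.1, hsub x.1 x.2⟩ : ↥(Submodule.span F {u, v})))
      intro x y hxy
      apply Subtype.ext
      exact congrArg (fun z : ↥(Submodule.span F {u, v}) => (z : V)) hxy
    rw [hperp_card ω₁ hω₁, hspan_card v hv] at h1
    exact Nat.le_of_mul_le_mul_left h1 hqpos
  -- the counting identity
  have hsumB : ∑ ω : Ω, Nat.card ↥(Bst (F := F) u ω) =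
      Fintype.card Ω + (Fintype.card F ^ (finrank F V - 1) - 1) * f := by
    have h1 := Cfsg.Agent.Helper4.MD.sum_card_inf_Bst (Ω := Ω) hu f hf (PhiA u) le_rfl
    rw [hcardP] at h1
    rw [← h1]
    apply Finset.sum_congr rfl
    intro ω _
    rw [inf_eq_right.mpr (hBP ω)]
  have hsplit : ∑ ω : Ω, Nat.card ↥(Bst (F := F) u ω) =
      (Finset.univ.filter (fun ω : Ω => Bst (F := F) u ω = PhiA u)).card *
          Fintype.card F ^ (finrank F V - 1) +
        (Finset.univ.filter (fun ω : Ω => ¬ Bst (F := F) u ω = PhiA u)).card *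
          Nat.card ↥(Bst (F := F) u ω₁) := by
    have h1 : ∀ ω : Ω, Nat.card ↥(Bst (F := F) u ω) =
        if Bst (F := F) u ω = PhiA u then Fintype.card F ^ (finrank F V - 1)
        else Nat.card ↥(Bst (F := F) u ω₁) := by
      intro ω
      split_ifs with h
      · rw [h, hcardP]
      · exact (hT5 ω h).1
    rw [Finset.sum_congr rfl (fun ω _ => h1 ω), Finset.sum_ite, Finset.sum_const, Finset.sum_const,
      smul_eq_mul, smul_eq_mul]
  have hac : (Finset.univ.filter (fun ω : Ω => Bst (F := F) u ω = PhiA u)).card +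
      (Finset.univ.filter (fun ω : Ω => ¬ Bst (F := F) u ω = PhiA u)).card = Fintype.card Ω := by
    rw [Finset.card_filter_add_card_filter_not, Finset.card_univ]
  have hkey := t6_arith_eq _ _ s _ f _ _ hbpos hQs (by omega) hm hac (by rw [← hsplit, hsumB])
  -- `q * q ≤ Q`
  have hqqQ : Fintype.card F * Fintype.card F ≤ Fintype.card F ^ (finrank F V - 1) := by
    rw [← pow_two]
    exact Nat.pow_le_pow_right hqpos (by omega)
  by_cases hsq' : s = Fintype.card F
  · -- `s = q`: stabilisers are `D_v`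
    have hD : ∀ ω : Ω, Bst (F := F) u ω ≠ PhiA u → ∃ v : V, v ∉ Submodule.span F {u} ∧
        ∀ φ : Dual F V, φ u = 0 → (stv u φ • ω = ω ↔ φ v = 0) := by
      intro ω hω
      obtain ⟨v, hv, hsub⟩ := hT4 ω hω
      refine ⟨v, hv, ?_⟩
      -- `perp = span {u, v}` as sets
      have hset : ((perp τ (Bst (F := F) u ω) : AddSubgroup V) : Set V) =
          ((Submodule.span F {u, v} : Submodule F V) : Set V) := by
        apply Set.eq_of_subset_of_ncard_le (fun x hx => hsub x hx) _ (Set.toFinite _)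
        rw [← Nat.card_coe_set_eq, ← Nat.card_coe_set_eq]
        change Nat.card ↥(Submodule.span F {u, v}) ≤ Nat.card ↥(perp τ (Bst (F := F) u ω))
        rw [hperp_card ω hω, hspan_card v hv, hsq']
      have hfwd : ∀ φ ∈ Bst (F := F) u ω, φ v = 0 := by
        intro φ hφ
        by_contra hne
        apply hτ
        ext a
        have hmem : (a / φ v) • v ∈ ((perp τ (Bst (F := F) u ω) : AddSubgroup V) : Set V) := by
          rw [hset]
          exact Submodule.smul_mem _ _ (Submodule.subset_span (by simp))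
        have h1 := hmem φ hφ
        rw [map_smul, smul_eq_mul, div_mul_cancel₀ _ hne] at h1
        simpa using h1
      -- the subgroup `D`
      have hDle : Bst (F := F) u ω ≤ PhiA u ⊓ PhiA v := fun φ hφ => ⟨hφ.1, hfwd φ hφ⟩
      have hperp_le : perp τ (Bst (F := F) u ω) ≤
          perp τ ((PhiA u ⊓ PhiA v : AddSubgroup (Dual F V))) := by
        intro x hx φ hφ
        obtain ⟨a, c, rfl⟩ := Submodule.mem_span_pair.mp (hsub x hx)
        have h1 : φ u = 0 := hφ.1
        have h2 : φ v = 0 := hφ.2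
        simp [h1, h2]
      have hcard_le : Nat.card ↥(PhiA u ⊓ PhiA v : AddSubgroup (Dual F V)) ≤
          Nat.card ↥(Bst (F := F) u ω) := by
        have h1 := hT3 (PhiA u ⊓ PhiA v) inf_le_left
        have h2 := hT3 (Bst u ω) (hBP ω)
        have h3 : Nat.card ↥(perp τ (Bst (F := F) u ω)) ≤
            Nat.card ↥(perp τ ((PhiA u ⊓ PhiA v : AddSubgroup (Dual F V)))) :=
          AddSubgroup.card_le_of_le hperp_le
        have hpos : 0 < Nat.card ↥(perp τ (Bst (F := F) u ω)) := Nat.card_pos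
        have h4 : Nat.card ↥(PhiA u ⊓ PhiA v : AddSubgroup (Dual F V)) *
            Nat.card ↥(perp τ (Bst (F := F) u ω)) ≤
            Nat.card ↥(Bst (F := F) u ω) * Nat.card ↥(perp τ (Bst (F := F) u ω)) := by
          rw [h2, ← h1]
          exact Nat.mul_le_mul_left _ h3
        exact Nat.le_of_mul_le_mul_right h4 hpos
      have hBD : Bst (F := F) u ω = PhiA u ⊓ PhiA v :=
        AddSubgroup.eq_of_le_of_card_ge hDle hcard_le
      intro φ hφ
      constructor
      · intro hfix
        exact hfwd φ ⟨hφ, hfix⟩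
      · intro hφv
        have : φ ∈ Bst (F := F) u ω := by
          rw [hBD]
          exact ⟨hφ, hφv⟩
        exact this.2
    by_cases hA : ∃ ω : Ω, Bst (F := F) u ω = PhiA u
    · -- good
      left
      have ha : 1 ≤ (Finset.univ.filter (fun ω : Ω => Bst (F := F) u ω = PhiA u)).card := by
        obtain ⟨ω, hω⟩ := hA
        exact Finset.card_pos.mpr ⟨ω, by simp [hω]⟩
      rw [hsq'] at hkey
      have h5 := Nat.le_mul_of_pos_left (Fintype.card F - 1) ha
      omega
    · -- alternative (I)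
      right; left
      push Not at hA
      intro ω
      exact hD ω (hA ω)
  · -- `s < q`: good
    left
    have hslt : s < Fintype.card F := lt_of_le_of_ne hsq hsq'
    have h2s : 2 * s ≤ Fintype.card F := by
      obtain ⟨e, hpp, hpe⟩ := FiniteField.card F p
      have hsdvd : s ∣ p ^ ((e : ℕ) * (finrank F V - 1)) := by
        rw [pow_mul, ← hpe, hQs]
        exact Dvd.intro _ rfl
      obtain ⟨i, _, hi⟩ := (Nat.dvd_prime_pow hpp).mp hsdvd
      rw [hi, hpe] at hslt
      have hie : i < (e : ℕ) := (Nat.pow_lt_pow_iff_right hpp.one_lt).mp hslt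
      have h1 : p ^ (i + 1) ≤ p ^ (e : ℕ) := Nat.pow_le_pow_right hpp.pos hie
      rw [hpe, hi]
      have h2 : 2 * p ^ i ≤ p ^ (i + 1) := by
        rw [pow_succ, mul_comm]
        exact Nat.mul_le_mul_left _ hpp.two_le
      omega
    apply t6_arith_small (Fintype.card F) s _ f hs2 h2s hqqQ
    omega

end Cfsg.Agent.Helper93.MD
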