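import Cfsg.Agent.Lib.Helper93.MD1
import Cfsg.Agent.Lib.Helper95.MDA
import Cfsg.Agent.Lib.Helper90.MDA5
import Cfsg.Agent.Lib.Helper21.MDGEN
import Cfsg.Agent.Lib.Helper4.MDC
import Cfsg.Agent.Lib.Helper56.MDE
import Cfsg.Agent.Lib.Helper93.MDT6
import Cfsg.Agent.Lib.Helper93.MDF
import Cfsg.Agent.Lib.Helper59.MDGAux

/-!
# MD project: the main inequality `q ^ n - 1 ≤ (q - 1) * |Ω|` for nontrivial `SL(V)`-sets
-/

set_option autoImplicit false

namespace Cfsg.Agent.Helper93.MD

open Module Cfsg.Agent.Helper93.McL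

variable {F V : Type*} [Field F] [AddCommGroup V] [Module F V] [Fintype F] [FiniteDimensional F V]

/-- The main inequality. -/
theorem main (hn : 3 ≤ finrank F V) (hexc : ¬ (finrank F V = 4 ∧ Fintype.card F = 2))
    {Ω : Type*} [Fintype Ω] [MulAction ↥(SLV F V) Ω]
    (hnt : ∃ (g : ↥(SLV F V)) (ω : Ω), g • ω ≠ ω) :
    Fintype.card F ^ finrank F V - 1 ≤ (Fintype.card F - 1) * Fintype.card Ω := by
  classical
  have hV : Nontrivial V := Module.nontrivial_of_finrank_pos (R := F) (by omega)
  obtain ⟨u₀, hu₀⟩ : ∃ u : V, u ≠ 0 := exists_ne 0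
  obtain ⟨φ₀, hφ₀, h₀⟩ := exists_ne_zero_dual (F := F) (by omega : 2 ≤ finrank F V) (u := u₀)
  set f := fp Ω (stv u₀ φ₀) with hfdef
  have hfall : ∀ (u : V) (φ : Dual F V), u ≠ 0 → φ ≠ 0 → φ u = 0 → fp Ω (stv u φ) = f :=
    fun u φ hu hφ h => Cfsg.Agent.Helper90.MD.fp_stv_eq hn hu hφ h hu₀ hφ₀ h₀
  -- `f < m`
  have hlt : f < Fintype.card Ω := by
    by_contra hge
    push Not at hge
    let N : Subgroup ↥(SLV F V) :=
      { carrier := {g | ∀ ω : Ω, g • ω = ω}
        one_mem' := fun ω => one_smul _ ω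
        mul_mem' := by
          intro a b ha hb ω
          rw [mul_smul, hb ω, ha ω]
        inv_mem' := by
          intro a ha ω
          rw [inv_smul_eq_iff, ha ω] }
    have hNtop : N = ⊤ := by
      rw [eq_top_iff, ← Cfsg.Agent.Helper21.MD.closure_stv (F := F) (V := V), Subgroup.closure_le]
      rintro g ⟨u, φ, hφu, rfl⟩
      by_cases hu : u = 0
      · have : (stv u φ : ↥(SLV F V)) = 1 := by
          apply Subtype.ext
          rw [hu]
          exact tv_zero_left φ
        rw [this]
        exact N.one_mem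
      by_cases hφ : φ = 0
      · have : (stv u φ : ↥(SLV F V)) = 1 := by
          apply Subtype.ext
          rw [hφ]
          exact tv_zero_right u
        rw [this]
        exact N.one_mem
      have hfp := hfall u φ hu hφ hφu
      have hcard : (MulAction.fixedBy Ω (stv u φ)).ncard = Nat.card Ω := by
        apply le_antisymm
        · rw [← Set.ncard_univ]
          exact Set.ncard_le_ncard (Set.subset_univ _)
        · rw [Nat.card_eq_fintype_card]
          have : fp Ω (stv u φ) = (MulAction.fixedBy Ω (stv u φ)).ncard := by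
            unfold fp
            exact Nat.card_coe_set_eq _
          rw [← this, hfp]
          exact hge
      have huniv := (Set.eq_univ_iff_ncard _).mpr hcard
      intro ω
      have : ω ∈ MulAction.fixedBy Ω (stv u φ) := by
        rw [huniv]
        exact Set.mem_univ ω
      exact this
    obtain ⟨g, ω, hgω⟩ := hnt
    have : g ∈ N := by
      rw [hNtop]
      exact Subgroup.mem_top g
    exact hgω (this ω)
  have hq : 1 < Fintype.card F := Fintype.one_lt_card
  obtain ⟨q', hq'⟩ : ∃ q', Fintype.card F = q' + 1 := ⟨Fintype.card F - 1, by omega⟩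
  obtain ⟨n', hn'⟩ : ∃ n', finrank F V = n' + 1 := ⟨finrank F V - 1, by omega⟩
  have hQpos : 0 < Fintype.card F ^ n' := pow_pos (by omega) _
  -- `good` gives the bound
  have hgood : Fintype.card F ^ (finrank F V - 1) - 1 ≤ (Fintype.card F - 1) * f →
      Fintype.card Ω = f + Fintype.card F ^ (finrank F V - 1) →
      Fintype.card F ^ finrank F V - 1 ≤ (Fintype.card F - 1) * Fintype.card Ω := by
    intro h1 h2
    rw [h2]
    have e1 : finrank F V - 1 = n' := by omega
    rw [e1] at h1 ⊢
    rw [hn', pow_succ]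
    have e2 : Fintype.card F - 1 = q' := by omega
    rw [e2] at h1 ⊢
    generalize Fintype.card F ^ n' = Q at *
    rw [hq']
    have e3 : Q * (q' + 1) = q' * Q + Q := by ring
    have e4 : q' * (f + Q) = q' * f + q' * Q := by ring
    rw [e3, e4]
    omega
  rcases Cfsg.Agent.Helper4.MD.reduce hn hu₀ f (fun φ h hφ => hfall u₀ φ hu₀ hφ h) hlt with hb | hm
  · exact hb
  by_cases hg : Fintype.card F ^ (finrank F V - 1) - 1 ≤ (Fintype.card F - 1) * f
  · exact hgood hg hm
  have htri : ∀ u : V, u ≠ 0 → PI F Ω u ∨ PII F Ω u := by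
    intro u hu
    rcases trichotomy hn hu f (fun φ h hφ => hfall u φ hu hφ h) hm with h1 | h1 | h1
    · exact absurd h1 hg
    · exact Or.inl h1
    · exact Or.inr h1
  have hne : Nonempty Ω := by
    obtain ⟨g, ω, _⟩ := hnt
    exact ⟨ω⟩
  rcases htri u₀ hu₀ with hI | hII
  · exfalso
    apply Cfsg.Agent.Helper56.MD.caseI_false (F := F) (V := V) (Ω := Ω) hn
    intro u hu
    obtain ⟨g, hg⟩ := Cfsg.Agent.Helper95.MD.exists_sl_map (F := F) (by omega : 2 ≤ finrank F V) hu₀ hu
    have := PI_map g hI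
    rw [hg] at this
    exact this
  · apply hgood _ hm
    refine Cfsg.Agent.Helper59.MD.caseII_good_aux hn f hfall hm ?_
      (fun hu K h1 h2 h3 h4 => exists_tv_mem_of_complement hn hexc hu K h1 h2 h3 h4)
      (fun hu hv hv' => Cfsg.Agent.Helper95.MD.exists_sl_fix_map hn hu hv hv')
      (fun hu => Cfsg.Agent.Helper4.MD.card_PhiA hu)
    intro u hu
    obtain ⟨g, hg⟩ := Cfsg.Agent.Helper95.MD.exists_sl_map (F := F) (by omega : 2 ≤ finrank F V) hu₀ hu
    have := PII_map g hII
    rw [hg] at this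
    exact this

end Cfsg.Agent.Helper93.MD
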