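import Mathlib

/-!
# McLaughlin's theorem (groups generated by transvections), basic API

`tv u φ` is the total transvection `x ↦ x + φ x • u` (the identity when `φ u ≠ 0`).
-/

set_option autoImplicit false

namespace Cfsg.Agent.Helper93.McL

open Module

variable {F V : Type*} [Field F] [AddCommGroup V] [Module F V]

/-- Total transvection `x ↦ x + φ x • u`; the identity when `φ u ≠ 0`. -/
noncomputable def tv (u : V) (φ : Dual F V) : V ≃ₗ[F] V := by
  classical exact if h : φ u = 0 then LinearEquiv.transvection h else 1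

lemma tv_apply {u : V} {φ : Dual F V} (h : φ u = 0) (x : V) : tv u φ x = x + φ x • u := by
  unfold tv
  rw [dif_pos h]
  rfl

lemma tv_of_ne {u : V} {φ : Dual F V} (h : φ u ≠ 0) : tv u φ = 1 := by
  unfold tv
  rw [dif_neg h]

lemma tv_zero_left (φ : Dual F V) : tv (0 : V) φ = 1 := by
  apply LinearEquiv.ext
  intro x
  rw [tv_apply (map_zero φ)]
  simp

lemma tv_zero_right (u : V) : tv u (0 : Dual F V) = 1 := by
  apply LinearEquiv.ext
  intro x
  rw [tv_apply (LinearMap.zero_apply u)]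
  simp

lemma tv_mul_axis {u : V} {φ ψ : Dual F V} (h : φ u = 0) (h' : ψ u = 0) :
    tv u φ * tv u ψ = tv u (φ + ψ) := by
  have h2 : (φ + ψ) u = 0 := by simp [h, h']
  apply LinearEquiv.ext
  intro x
  rw [LinearEquiv.mul_apply, tv_apply h', tv_apply h, tv_apply h2]
  simp only [map_add, map_smul, h, smul_eq_mul, mul_zero, add_zero, LinearMap.add_apply, add_smul]
  abel

lemma tv_mul_center {u v : V} {φ : Dual F V} (h : φ u = 0) (h' : φ v = 0) :
    tv u φ * tv v φ = tv (u + v) φ := by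
  have h2 : φ (u + v) = 0 := by simp [h, h']
  apply LinearEquiv.ext
  intro x
  rw [LinearEquiv.mul_apply, tv_apply h', tv_apply h, tv_apply h2]
  simp only [map_add, map_smul, h', smul_eq_mul, mul_zero, add_zero, smul_add]
  abel

lemma tv_smul_swap (c : F) (u : V) (φ : Dual F V) : tv (c • u) φ = tv u (c • φ) := by
  by_cases hc : c = 0
  · subst hc
    simp [tv_zero_left, tv_zero_right]
  by_cases h : φ u = 0
  · have h1 : φ (c • u) = 0 := by simp [h]
    have h2 : (c • φ) u = 0 := by simp [h]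
    apply LinearEquiv.ext
    intro x
    rw [tv_apply h1, tv_apply h2]
    simp only [LinearMap.smul_apply, smul_eq_mul, mul_smul]
    rw [smul_comm]
  · have h1 : φ (c • u) ≠ 0 := by simp [h, hc]
    have h2 : (c • φ) u ≠ 0 := by simp [h, hc]
    rw [tv_of_ne h1, tv_of_ne h2]

lemma tv_inv (u : V) (φ : Dual F V) : (tv u φ)⁻¹ = tv u (-φ) := by
  by_cases h : φ u = 0
  · have h2 : (-φ) u = 0 := by simp [h]
    rw [inv_eq_iff_mul_eq_one, tv_mul_axis h h2]
    simp [tv_zero_right]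
  · have h2 : (-φ) u ≠ 0 := by simpa using h
    rw [tv_of_ne h, tv_of_ne h2, inv_one]

lemma conj_tv (g : V ≃ₗ[F] V) (u : V) (φ : Dual F V) :
    g * tv u φ * g⁻¹ = tv (g u) (φ ∘ₗ (g.symm : V →ₗ[F] V)) := by
  have hk : (φ ∘ₗ (g.symm : V →ₗ[F] V)) (g u) = φ u := by simp
  by_cases h : φ u = 0
  · have h2 : (φ ∘ₗ (g.symm : V →ₗ[F] V)) (g u) = 0 := by rw [hk, h]
    apply LinearEquiv.ext
    intro x
    rw [LinearEquiv.mul_apply, LinearEquiv.mul_apply, tv_apply h, tv_apply h2]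
    have : g⁻¹ x = g.symm x := rfl
    rw [this]
    simp
  · have h2 : (φ ∘ₗ (g.symm : V →ₗ[F] V)) (g u) ≠ 0 := by rw [hk]; exact h
    rw [tv_of_ne h, tv_of_ne h2]
    simp

/-- Commutator relation: if `φ v = 0` then `[τ(u,φ), τ(v,ψ)] = τ(v, -ψ(u) φ)`. -/
lemma comm_tv {u v : V} {φ ψ : Dual F V} (hu : φ u = 0) (hv : ψ v = 0) (hφv : φ v = 0) :
    tv u φ * tv v ψ * (tv u φ)⁻¹ * (tv v ψ)⁻¹ = tv v ((-(ψ u)) • φ) := by
  rw [tv_inv, tv_inv]
  have hu' : (-φ) u = 0 := by simp [hu]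
  have hv' : (-ψ) v = 0 := by simp [hv]
  have h3 : ((-(ψ u)) • φ) v = 0 := by simp [hφv]
  apply LinearEquiv.ext
  intro x
  simp only [LinearEquiv.mul_apply]
  rw [tv_apply hv', tv_apply hu', tv_apply hv, tv_apply hu, tv_apply h3]
  simp only [map_add, map_smul, LinearMap.neg_apply, LinearMap.smul_apply, smul_eq_mul, hu, hv,
    hφv, mul_zero, add_zero, neg_zero, zero_smul, smul_add, smul_smul, neg_smul, smul_neg, map_neg]
  module

lemma tv_axis_injective {u : V} {φ ψ : Dual F V} (hu : u ≠ 0) (h : φ u = 0) (h' : ψ u = 0)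
    (he : tv u φ = tv u ψ) : φ = ψ := by
  apply LinearMap.ext
  intro x
  have := congrArg (fun g : V ≃ₗ[F] V => g x) he
  simp only [tv_apply h, tv_apply h'] at this
  have h2 : (φ x - ψ x) • u = 0 := by
    rw [sub_smul]
    have := add_left_cancel this
    rw [this, sub_self]
  rcases smul_eq_zero.mp h2 with h3 | h3
  · exact sub_eq_zero.mp h3
  · exact absurd h3 hu

/-- `(u, φ)` is a root pair of `G`: a genuine transvection datum whose full root subgroup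
`{τ(u, c φ)}` lies in `G`. -/
def RP (G : Subgroup (V ≃ₗ[F] V)) (u : V) (φ : Dual F V) : Prop :=
  u ≠ 0 ∧ φ ≠ 0 ∧ φ u = 0 ∧ ∀ c : F, tv u (c • φ) ∈ G

/-- Every root pair has an opposite root pair. -/
structure Good (G : Subgroup (V ≃ₗ[F] V)) : Prop where
  opp : ∀ u φ, RP G u φ → ∃ v ψ, RP G v ψ ∧ φ v ≠ 0 ∧ ψ u ≠ 0

/-- `G` contains every transvection `τ(u, φ)` with `u ∈ U` and `φ` vanishing on `C`
(i.e. `G ⊇ SL(U) ⊕ 1_C`), where `V = U ⊕ C`. -/
def HasSL (G : Subgroup (V ≃ₗ[F] V)) (U C : Submodule F V) : Prop :=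
  IsCompl U C ∧ ∀ u ∈ U, ∀ φ : Dual F V, (∀ c ∈ C, φ c = 0) → φ u = 0 → tv u φ ∈ G

/-- `G` contains every symplectic transvection `τ(u, B(u, ·))`, `u ∈ U`, for an alternating form
`B` on `V` with radical `C`, where `V = U ⊕ C` (i.e. `G ⊇ Sp(U, B) ⊕ 1_C`). -/
def HasSp (G : Subgroup (V ≃ₗ[F] V)) (U C : Submodule F V) (B : LinearMap.BilinForm F V) : Prop :=
  IsCompl U C ∧ B.IsAlt ∧ (∀ x, (∀ y, B x y = 0) ↔ x ∈ C) ∧ ∀ u ∈ U, ∀ a : F, tv u (a • B u) ∈ G

lemma RP.smul {G : Subgroup (V ≃ₗ[F] V)} {u : V} {φ : Dual F V} (h : RP G u φ) {c : F}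
    (hc : c ≠ 0) : RP G u (c • φ) := by
  obtain ⟨h1, h2, h3, h4⟩ := h
  refine ⟨h1, smul_ne_zero hc h2, by simp [h3], fun a => ?_⟩
  rw [smul_smul]
  exact h4 _

lemma RP.smul_left {G : Subgroup (V ≃ₗ[F] V)} {u : V} {φ : Dual F V} (h : RP G u φ) {c : F}
    (hc : c ≠ 0) : RP G (c • u) φ := by
  obtain ⟨h1, h2, h3, h4⟩ := h
  refine ⟨smul_ne_zero hc h1, h2, by simp [h3], fun a => ?_⟩
  rw [tv_smul_swap, smul_smul]
  exact h4 _

lemma RP.conj {G : Subgroup (V ≃ₗ[F] V)} {u : V} {φ : Dual F V} (h : RP G u φ)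
    {g : V ≃ₗ[F] V} (hg : g ∈ G) : RP G (g u) (φ ∘ₗ (g.symm : V →ₗ[F] V)) := by
  obtain ⟨h1, h2, h3, h4⟩ := h
  refine ⟨by simpa using h1, ?_, by simp [h3], fun a => ?_⟩
  · intro h0
    apply h2
    apply LinearMap.ext
    intro x
    have := congrArg (fun f : Dual F V => f (g x)) h0
    simpa using this
  · have : (a • (φ ∘ₗ (g.symm : V →ₗ[F] V))) = (a • φ) ∘ₗ (g.symm : V →ₗ[F] V) := by
      ext x; simp
    rw [this, ← conj_tv]
    exact G.mul_mem (G.mul_mem hg (h4 a)) (G.inv_mem hg)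

/-- Same centre: root pairs add in the axis. -/
lemma RP.add_axis {G : Subgroup (V ≃ₗ[F] V)} {u : V} {φ ψ : Dual F V} (h : RP G u φ)
    (h' : RP G u ψ) (hne : φ + ψ ≠ 0) : RP G u (φ + ψ) := by
  obtain ⟨h1, h2, h3, h4⟩ := h
  obtain ⟨_, k2, k3, k4⟩ := h'
  refine ⟨h1, hne, by simp [h3, k3], fun a => ?_⟩
  rw [smul_add, ← tv_mul_axis (by simp [h3]) (by simp [k3])]
  exact G.mul_mem (h4 a) (k4 a)

/-- Unipotent pair: if `φ v = 0 ≠ ψ u` then `(v, φ)` is a root pair. -/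
lemma RP.comm {G : Subgroup (V ≃ₗ[F] V)} {u v : V} {φ ψ : Dual F V} (h : RP G u φ)
    (h' : RP G v ψ) (hφv : φ v = 0) (hψu : ψ u ≠ 0) : RP G v φ := by
  obtain ⟨h1, h2, h3, h4⟩ := h
  obtain ⟨k1, k2, k3, k4⟩ := h'
  refine ⟨k1, h2, hφv, fun a => ?_⟩
  have hc := comm_tv (u := u) (v := v) (φ := (-(a / ψ u)) • φ) (ψ := ψ) (by simp [h3]) k3
    (by simp [hφv])
  have h5 : (-(ψ u)) • ((-(a / ψ u)) • φ) = a • φ := by
    rw [smul_smul]
    congr 1
    field_simp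
  rw [h5] at hc
  rw [← hc]
  have hk : tv v ψ ∈ G := by simpa using k4 1
  exact G.mul_mem (G.mul_mem (G.mul_mem (h4 _) hk) (G.inv_mem (h4 _))) (G.inv_mem hk)

end Cfsg.Agent.Helper93.McL
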