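import Cfsg.Agent.Lib.Helper93.McL0

/-!
# McL pack 2: an opposite pair of root pairs generates `SL₂ = Sp₂` on the plane `⟨u, v⟩`
-/

set_option autoImplicit false

namespace Cfsg.Agent.Helper93.McL

open Module

variable {F V : Type*} [Field F] [AddCommGroup V] [Module F V] [FiniteDimensional F V]

/-- A functional vanishing on `ker φ ⊓ ker ψ` is `a φ + b ψ` (opposite pair). -/
private lemma helper41_eq_comb {u v : V} {φ ψ χ : Dual F V} (hφu : φ u = 0) (hψv : ψ v = 0)
    (hφv : φ v ≠ 0) (hψu : ψ u ≠ 0)
    (hχ : ∀ c ∈ LinearMap.ker φ ⊓ LinearMap.ker ψ, χ c = 0) :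
    χ = (χ v / φ v) • φ + (χ u / ψ u) • ψ := by
  apply LinearMap.ext
  intro x
  have hc : x - (ψ x / ψ u) • u - (φ x / φ v) • v ∈ LinearMap.ker φ ⊓ LinearMap.ker ψ := by
    refine Submodule.mem_inf.mpr ⟨?_, ?_⟩
    · rw [LinearMap.mem_ker]
      simp only [map_sub, map_smul, smul_eq_mul, hφu, mul_zero, sub_zero]
      field_simp
      ring
    · rw [LinearMap.mem_ker]
      simp only [map_sub, map_smul, smul_eq_mul, hψv, mul_zero, sub_zero]
      field_simp
      ring
  have h0 := hχ _ hc
  simp only [map_sub, map_smul, smul_eq_mul] at h0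
  simp only [LinearMap.add_apply, LinearMap.smul_apply, smul_eq_mul]
  have : χ x = ψ x / ψ u * χ u + φ x / φ v * χ v := by linear_combination h0
  rw [this]
  field_simp
  ring

/-- Proof: `IsCompl (span {u,v}) (ker φ ⊓ ker ψ)` by hand (`φ u = 0`, `ψ v = 0`, `φ v ≠ 0`, `ψ u ≠ 0`).
A functional vanishing on `ker φ ⊓ ker ψ` is `a φ + b ψ`.  For `w = u + s v`: conjugating `τ(u, aφ)` by
`τ(v, tψ)` (`conj_tv`, `RP.conj`) gives the root group with centre `u + t ψ(u) v` and axis
`φ - t φ(v) ψ`, which is the unique line of `⟨φ,ψ⟩` killing that centre; centre `v` has axis `ψ`;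
scalar multiples of centres by `tv_smul_swap`. -/
theorem hasSL_of_opp {G : Subgroup (V ≃ₗ[F] V)} {u v : V} {φ ψ : Dual F V} (h1 : RP G u φ)
    (h2 : RP G v ψ) (hφv : φ v ≠ 0) (hψu : ψ u ≠ 0) :
    HasSL G (Submodule.span F {u, v}) (LinearMap.ker φ ⊓ LinearMap.ker ψ) ∧
      finrank F ↥(Submodule.span F {u, v}) = 2 := by
  obtain ⟨hu0, hφ0, hφu, hG1⟩ := h1
  obtain ⟨hv0, hψ0, hψv, hG2⟩ := h2
  have hind : ∀ s t : F, s • u + t • v = 0 → s = 0 ∧ t = 0 := by
    intro s t hst
    have e1 := congrArg φ hst
    have e2 := congrArg ψ hst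
    simp only [map_add, map_smul, smul_eq_mul, hφu, hψv, mul_zero, zero_add, add_zero,
      map_zero] at e1 e2
    exact ⟨(mul_eq_zero.mp e2).resolve_right hψu, (mul_eq_zero.mp e1).resolve_right hφv⟩
  refine ⟨⟨?_, ?_⟩, ?_⟩
  · -- IsCompl
    refine ⟨?_, ?_⟩
    · rw [Submodule.disjoint_def]
      intro x hx hxC
      obtain ⟨s, t, rfl⟩ := Submodule.mem_span_pair.mp hx
      have e1 : φ (s • u + t • v) = 0 := LinearMap.mem_ker.mp hxC.1
      have e2 : ψ (s • u + t • v) = 0 := LinearMap.mem_ker.mp hxC.2
      simp only [map_add, map_smul, smul_eq_mul, hφu, hψv, mul_zero, zero_add, add_zero] at e1 e2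
      have ht : t = 0 := (mul_eq_zero.mp e1).resolve_right hφv
      have hs : s = 0 := (mul_eq_zero.mp e2).resolve_right hψu
      simp [ht, hs]
    · rw [codisjoint_iff, Submodule.eq_top_iff']
      intro x
      rw [Submodule.mem_sup]
      refine ⟨(ψ x / ψ u) • u + (φ x / φ v) • v,
        Submodule.mem_span_pair.mpr ⟨_, _, rfl⟩,
        x - (ψ x / ψ u) • u - (φ x / φ v) • v, Submodule.mem_inf.mpr ⟨?_, ?_⟩, by abel⟩
      · rw [LinearMap.mem_ker]
        simp only [map_sub, map_smul, smul_eq_mul, hφu, mul_zero, sub_zero]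
        field_simp
        ring
      · rw [LinearMap.mem_ker]
        simp only [map_sub, map_smul, smul_eq_mul, hψv, mul_zero, sub_zero]
        field_simp
        ring
  · -- transvections
    intro w hw χ hχC hχw
    obtain ⟨s, t, rfl⟩ := Submodule.mem_span_pair.mp hw
    have hcomb := helper41_eq_comb (χ := χ) hφu hψv hφv hψu hχC
    set a : F := χ v / φ v with ha
    set b : F := χ u / ψ u with hb
    have hχu : χ u = b * ψ u := by rw [hb]; field_simp
    have hχv : χ v = a * φ v := by rw [ha]; field_simp
    have hrel : s * (b * ψ u) + t * (a * φ v) = 0 := by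
      have := hχw
      simp only [map_add, map_smul, smul_eq_mul] at this
      rw [hχu, hχv] at this
      exact this
    by_cases hs : s = 0
    · subst hs
      by_cases ht : t = 0
      · subst ht
        simp only [zero_smul, add_zero]
        rw [tv_zero_left]
        exact G.one_mem
      · have ha0 : a = 0 := by
          have : t * (a * φ v) = 0 := by simpa using hrel
          rcases mul_eq_zero.mp this with h | h
          · exact absurd h ht
          · exact (mul_eq_zero.mp h).resolve_right hφv
        have hχ' : χ = b • ψ := by rw [hcomb, ha0]; simp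
        rw [zero_smul, zero_add, hχ', tv_smul_swap, smul_smul]
        exact hG2 _
    · -- s ≠ 0
      set c : F := t / s / ψ u with hc
      have hgG : tv v (c • ψ) ∈ G := hG2 c
      have hcv : (c • ψ) v = 0 := by simp [hψv]
      have hRP := RP.conj (G := G) (u := u) (φ := φ) ⟨hu0, hφ0, hφu, hG1⟩ hgG
      have hgu : tv v (c • ψ) u = u + (t / s) • v := by
        rw [tv_apply hcv]
        congr 1
        simp only [LinearMap.smul_apply, smul_eq_mul]
        congr 1
        rw [hc]
        field_simp
      have hw' : s • u + t • v = s • (tv v (c • ψ) u) := by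
        rw [hgu, smul_add, smul_smul]
        congr 2
        field_simp
      have hbc : b + c * a * φ v = 0 := by
        have h3 : s * ψ u ≠ 0 := mul_ne_zero hs hψu
        have : (s * ψ u) * (b + c * a * φ v) = 0 := by
          rw [hc]
          field_simp
          linear_combination hrel
        exact (mul_eq_zero.mp this).resolve_left h3
      have hχg : ∀ x, χ (tv v (c • ψ) x) = a * φ x := by
        intro x
        rw [tv_apply hcv]
        simp only [map_add, map_smul, smul_eq_mul, LinearMap.smul_apply]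
        rw [hχv]
        have hx : χ x = a * φ x + b * ψ x := by
          conv_lhs => rw [hcomb]
          simp
        rw [hx]
        linear_combination (ψ x) * hbc
      have hχ' : χ = a • (φ ∘ₗ ((tv v (c • ψ)).symm : V →ₗ[F] V)) := by
        apply LinearMap.ext
        intro y
        have := hχg ((tv v (c • ψ)).symm y)
        simp only [LinearEquiv.apply_symm_apply] at this
        rw [this]
        simp
      rw [hw', hχ', tv_smul_swap, smul_smul]
      exact hRP.2.2.2 _
  · -- finrank
    have hli : LinearIndependent F ![u, v] := LinearIndependent.pair_iff.mpr hind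
    have := finrank_span_eq_card hli
    have hr : Set.range ![u, v] = {u, v} := by
      ext x
      constructor
      · rintro ⟨i, rfl⟩
        fin_cases i <;> simp
      · rintro (rfl | rfl)
        · exact ⟨0, rfl⟩
        · exact ⟨1, rfl⟩
    rw [hr] at this
    rw [this]
    simp

/-- In dimension 2, `SL = Sp`: take `B x y = φ x * ψ y - ψ x * φ y` for a basis `φ, ψ` of `C⁰`. -/
theorem hasSp_of_hasSL_two {G : Subgroup (V ≃ₗ[F] V)} {U C : Submodule F V} (h : HasSL G U C)
    (h2 : finrank F U = 2) : ∃ B : LinearMap.BilinForm F V, HasSp G U C B := by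
  obtain ⟨hUC, hG⟩ := h
  let b : Basis (Fin 2) F U := Module.finBasisOfFinrankEq F U h2
  let π : V →ₗ[F] U := U.linearProjOfIsCompl C hUC
  let φ : Dual F V := (b.coord 0) ∘ₗ π
  let ψ : Dual F V := (b.coord 1) ∘ₗ π
  have hφC : ∀ c ∈ C, φ c = 0 := by
    intro c hc
    have : π c = 0 := (Submodule.linearProjOfIsCompl_apply_eq_zero_iff hUC).mpr hc
    simp [φ, this]
  have hψC : ∀ c ∈ C, ψ c = 0 := by
    intro c hc
    have : π c = 0 := (Submodule.linearProjOfIsCompl_apply_eq_zero_iff hUC).mpr hc
    simp [ψ, this]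
  have hπb : ∀ i, π (b i : V) = b i := fun i => Submodule.linearProjOfIsCompl_apply_left hUC (b i)
  have hφ0 : φ (b 0 : V) = 1 := by simp [φ, hπb]
  have hφ1 : φ (b 1 : V) = 0 := by simp [φ, hπb]
  have hψ0 : ψ (b 0 : V) = 0 := by simp [ψ, hπb]
  have hψ1 : ψ (b 1 : V) = 1 := by simp [ψ, hπb]
  let B : LinearMap.BilinForm F V := φ.smulRight ψ - ψ.smulRight φ
  have hB : ∀ x y, B x y = φ x * ψ y - ψ x * φ y := by
    intro x y
    simp [B]
  refine ⟨B, hUC, ?_, ?_, ?_⟩
  · intro x
    rw [hB]
    ring
  · intro x
    constructor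
    · intro hx
      have e0 := hx (b 0 : V)
      have e1 := hx (b 1 : V)
      rw [hB, hφ0, hψ0] at e0
      rw [hB, hφ1, hψ1] at e1
      have hψx : ψ x = 0 := by linear_combination -e0
      have hφx : φ x = 0 := by linear_combination e1
      have hπx : π x = 0 := by
        apply b.ext_elem
        intro i
        fin_cases i
        · simpa [φ] using hφx
        · simpa [ψ] using hψx
      exact (Submodule.linearProjOfIsCompl_apply_eq_zero_iff hUC).mp hπx
    · intro hx y
      rw [hB, hφC x hx, hψC x hx]
      ring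
  · intro w hw a
    apply hG w hw
    · intro c hc
      simp only [LinearMap.smul_apply, smul_eq_mul]
      rw [hB, hφC c hc, hψC c hc]
      ring
    · simp only [LinearMap.smul_apply, smul_eq_mul]
      rw [hB]
      ring

end Cfsg.Agent.Helper93.McL
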