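import Cfsg.Agent.Lib.Helper93.McLN

/-!
# McL pack A: the key lemma for a maximal `SL`-block (KL-A)
-/

set_option autoImplicit false
set_option linter.unusedSectionVars false

namespace Cfsg.Agent.Helper93.McL

open Module

variable {F V : Type*} [Field F] [AddCommGroup V] [Module F V] [FiniteDimensional F V]

/-- decomposition of a vector along a complement -/
lemma h9_decomp {U C : Submodule F V} (hUC : IsCompl U C) (z : V) :
    ∃ zU ∈ U, ∃ zC ∈ C, z = zU + zC := by
  have hz : z ∈ U ⊔ C := by rw [hUC.sup_eq_top]; trivial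
  obtain ⟨a, ha, b, hb, hab⟩ := Submodule.mem_sup.mp hz
  exact ⟨a, ha, b, hb, hab.symm⟩

lemma h9_inf_zero {U C : Submodule F V} (hUC : IsCompl U C) {x : V} (hU : x ∈ U) (hC : x ∈ C) :
    x = 0 :=
  Submodule.disjoint_def.mp hUC.disjoint x hU hC

/-- the `C`-part of a functional: `0` on `U`, `ω` on `C` -/
noncomputable def h9_partC {U C : Submodule F V} (hUC : IsCompl U C) (ω : Dual F V) : Dual F V :=
  LinearMap.ofIsCompl hUC 0 (ω ∘ₗ C.subtype)

lemma h9_partC_left {U C : Submodule F V} (hUC : IsCompl U C) (ω : Dual F V) {u : V} (hu : u ∈ U) :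
    h9_partC hUC ω u = 0 := by
  have := LinearMap.ofIsCompl_apply_left hUC (φ := (0 : U →ₗ[F] F)) (ψ := ω ∘ₗ C.subtype) ⟨u, hu⟩
  simpa [h9_partC] using this

lemma h9_partC_right {U C : Submodule F V} (hUC : IsCompl U C) (ω : Dual F V) {c : V} (hc : c ∈ C) :
    h9_partC hUC ω c = ω c := by
  have := LinearMap.ofIsCompl_apply_right hUC (φ := (0 : U →ₗ[F] F)) (ψ := ω ∘ₗ C.subtype) ⟨c, hc⟩
  simpa [h9_partC] using this

/-- the `U`-part of a functional: `ω` on `U`, `0` on `C` -/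
noncomputable def h9_partU {U C : Submodule F V} (hUC : IsCompl U C) (ω : Dual F V) : Dual F V :=
  LinearMap.ofIsCompl hUC (ω ∘ₗ U.subtype) 0

lemma h9_partU_left {U C : Submodule F V} (hUC : IsCompl U C) (ω : Dual F V) {u : V} (hu : u ∈ U) :
    h9_partU hUC ω u = ω u := by
  have := LinearMap.ofIsCompl_apply_left hUC (φ := ω ∘ₗ U.subtype) (ψ := (0 : C →ₗ[F] F)) ⟨u, hu⟩
  simpa [h9_partU] using this

lemma h9_partU_right {U C : Submodule F V} (hUC : IsCompl U C) (ω : Dual F V) {c : V} (hc : c ∈ C) :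
    h9_partU hUC ω c = 0 := by
  have := LinearMap.ofIsCompl_apply_right hUC (φ := ω ∘ₗ U.subtype) (ψ := (0 : C →ₗ[F] F)) ⟨c, hc⟩
  simpa [h9_partU] using this

/-- a nonzero vector of `U` when `finrank U ≥ 1` -/
lemma h9_exists_ne_zero {U : Submodule F V} (h : 1 ≤ finrank F U) : ∃ u ∈ U, u ≠ 0 := by
  have hpos : 0 < finrank F U := h
  obtain ⟨x, hx⟩ := Module.finrank_pos_iff_exists_ne_zero.mp hpos
  exact ⟨x, x.2, fun h0 => hx (Subtype.ext h0)⟩

/-- the contradiction step: a one-dimensional enlargement of a maximal `SL`-block -/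
lemma h9_enlarge_false {G : Subgroup (V ≃ₗ[F] V)} {U C : Submodule F V} (h : HasSL G U C)
    (hmax : ∀ U' C' : Submodule F V, HasSL G U' C' → finrank F U' ≤ finrank F U)
    {c : V} {γ : Dual F V} (hc : c ∈ C) (hγ : ∀ u ∈ U, γ u = 0) (hγc : γ c ≠ 0)
    (h1 : ∀ φ : Dual F V, (∀ c' ∈ C, φ c' = 0) → tv c φ ∈ G)
    (h2 : ∀ u ∈ U, ∀ a : F, tv u (a • γ) ∈ G) : False := by
  have hc0 : c ≠ 0 := by
    intro h0
    apply hγc
    rw [h0, map_zero]
  have hS := hasSL_succ h hc hγ hγc h1 h2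
  have hle := hmax _ _ hS
  rw [finrank_sup_span h.1 hc hc0] at hle
  omega

/-- (KL-A) If `HasSL G U C` with `dim U ≥ 3` maximal, then every root pair `(z, ζ)` of `G` lives
in `U` or in `C`. -/
theorem kl_sl {G : Subgroup (V ≃ₗ[F] V)} (hG : Good G) {U C : Submodule F V} (h : HasSL G U C)
    (h3 : 3 ≤ finrank F U)
    (hmax : ∀ U' C' : Submodule F V, HasSL G U' C' → finrank F U' ≤ finrank F U)
    {z : V} {ζ : Dual F V} (hz : RP G z ζ) :
    (z ∈ U ∧ ∀ c ∈ C, ζ c = 0) ∨ (z ∈ C ∧ ∀ u ∈ U, ζ u = 0) := by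
  classical
  have hUC : IsCompl U C := h.1
  obtain ⟨zU, hzU, zC, hzC, hzdec⟩ := h9_decomp hUC z
  by_contra hcon
  rw [not_or] at hcon
  obtain ⟨hcon1, hcon2⟩ := hcon
  -- the two bad configurations
  have hcases : (zC ≠ 0 ∧ ∃ u ∈ U, ζ u ≠ 0) ∨ (zU ≠ 0 ∧ ∃ c ∈ C, ζ c ≠ 0) := by
    by_cases hzC0 : zC = 0
    · -- `z ∈ U`
      have hzmem : z ∈ U := by rw [hzdec, hzC0, add_zero]; exact hzU
      right
      constructor
      · intro h0
        apply hz.1
        rw [hzdec, h0, hzC0, add_zero]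
      · by_contra hno
        push Not at hno
        exact hcon1 ⟨hzmem, hno⟩
    · by_cases hζU : ∃ u ∈ U, ζ u ≠ 0
      · exact Or.inl ⟨hzC0, hζU⟩
      · push Not at hζU
        right
        constructor
        · intro h0
          apply hcon2
          refine ⟨?_, hζU⟩
          rw [hzdec, h0, zero_add]; exact hzC
        · by_contra hno
          push Not at hno
          apply hz.2.1
          apply LinearMap.ext
          intro x
          obtain ⟨xU, hxU, xC, hxC, hx⟩ := h9_decomp hUC x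
          rw [hx, map_add, hζU xU hxU, hno xC hxC]
          simp
  have hzr : RP G (zU + zC) ζ := by rw [← hzdec]; exact hz
  rcases hcases with ⟨hzC0, hζU⟩ | ⟨hzU0, hζC⟩
  · -- case (i)
    have hcp := rp_center_part h h3 hzU hzC hzr hζU
    -- a nonzero functional vanishing on `C`
    obtain ⟨u₁, hu₁, hu₁0⟩ := h9_exists_ne_zero (U := U) (by omega)
    obtain ⟨f, hf⟩ := Projective.exists_dual_ne_zero F hu₁0
    set φ₀ : Dual F V := h9_partU hUC f with hφ₀
    have hφ₀C : ∀ c ∈ C, φ₀ c = 0 := fun c hc => h9_partU_right hUC f hc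
    have hφ₀ne : φ₀ ≠ 0 := by
      intro h0
      apply hf
      have := h9_partU_left hUC f hu₁
      rw [← hφ₀, h0] at this
      simpa using this.symm
    have hrp : RP G zC φ₀ := by
      refine ⟨hzC0, hφ₀ne, hφ₀C zC hzC, fun a => ?_⟩
      apply hcp
      intro c hc
      simp [hφ₀C c hc]
    obtain ⟨w, ω, hwω, hφw, hωz⟩ := hG.opp zC φ₀ hrp
    obtain ⟨wU, hwU, wC, hwC, hwdec⟩ := h9_decomp hUC w
    have hwU0 : wU ≠ 0 := by
      intro h0
      apply hφw
      rw [hwdec, h0, zero_add]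
      exact hφ₀C wC hwC
    have hwr : RP G (wU + wC) ω := by rw [← hwdec]; exact hwω
    set γ : Dual F V := h9_partC hUC ω with hγdef
    have hγU : ∀ u ∈ U, γ u = 0 := fun u hu => h9_partC_left hUC ω hu
    have hγC : ∀ c ∈ C, γ c = ω c := fun c hc => h9_partC_right hUC ω hc
    have hap := rp_axis_part h h3 hwU hwC hwU0 hwr hγU hγC
    have hγz : γ zC ≠ 0 := by rw [hγC zC hzC]; exact hωz
    exact h9_enlarge_false h hmax hzC hγU hγz hcp hap
  · -- case (ii)
    set γ : Dual F V := h9_partC hUC ζ with hγdef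
    have hγU : ∀ u ∈ U, γ u = 0 := fun u hu => h9_partC_left hUC ζ hu
    have hγC : ∀ c ∈ C, γ c = ζ c := fun c hc => h9_partC_right hUC ζ hc
    have hap := rp_axis_part h h3 hzU hzC hzU0 hzr hγU hγC
    obtain ⟨c₀, hc₀, hζc₀⟩ := hζC
    have hγne : γ ≠ 0 := by
      intro h0
      apply hζc₀
      rw [← hγC c₀ hc₀, h0]
      simp
    obtain ⟨u₀, hu₀, hu₀0⟩ := h9_exists_ne_zero (U := U) (by omega)
    have hrp : RP G u₀ γ := by
      refine ⟨hu₀0, hγne, hγU u₀ hu₀, fun a => hap u₀ hu₀ a⟩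
    obtain ⟨w, ω, hwω, hγw, hωu⟩ := hG.opp u₀ γ hrp
    obtain ⟨wU, hwU, wC, hwC, hwdec⟩ := h9_decomp hUC w
    have hγwC : γ wC ≠ 0 := by
      intro h0
      apply hγw
      rw [hwdec, map_add, hγU wU hwU, h0, add_zero]
    have hwr : RP G (wU + wC) ω := by rw [← hwdec]; exact hwω
    have hcp := rp_center_part h h3 hwU hwC hwr ⟨u₀, hu₀, hωu⟩
    exact h9_enlarge_false h hmax hwC hγU hγwC hcp hap

end Cfsg.Agent.Helper93.McL
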