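import Cfsg.Agent.Lib.Helper93.McL0
import Cfsg.Agent.Lib.Helper93.McL2

/-!
# McL pack S: the Sp-side toolbox: transitivity of symplectic transvections and (N2-B)
-/

set_option autoImplicit false
set_option linter.unusedSectionVars false

namespace Cfsg.Agent.Helper93.McL

open Module

variable {F V : Type*} [Field F] [AddCommGroup V] [Module F V] [FiniteDimensional F V]

omit [FiniteDimensional F V] in
lemma h63_alt_swap {B : LinearMap.BilinForm F V} (hB : B.IsAlt) (x y : V) : B x y = - B y x := by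
  have := LinearMap.BilinForm.IsAlt.neg_eq hB y x
  rw [← this]

omit [FiniteDimensional F V] in
/-- the symplectic transvection `τ(w, a B w)` -/
lemma h63_tvB_apply {B : LinearMap.BilinForm F V} (hB : B.IsAlt) (w : V) (a : F) (z : V) :
    tv w (a • B w) z = z + (a * B w z) • w := by
  have h0 : (a • B w) w = 0 := by simp [hB w]
  rw [tv_apply h0]
  simp

omit [FiniteDimensional F V] in
/-- symplectic transvections preserve the form -/
lemma h63_tvB_preserves {B : LinearMap.BilinForm F V} (hB : B.IsAlt) (w : V) (a : F) (z z' : V) :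
    B (tv w (a • B w) z) (tv w (a • B w) z') = B z z' := by
  have e1 : B z w = - B w z := h63_alt_swap hB z w
  rw [h63_tvB_apply hB, h63_tvB_apply hB]
  simp only [map_add, map_smul, LinearMap.add_apply, LinearMap.smul_apply, smul_eq_mul, hB w, e1]
  ring

/-- `g` fixes `C` pointwise, preserves `B` and moves every vector by an element of `U`. -/
def h63_Nice (U C : Submodule F V) (B : LinearMap.BilinForm F V) (g : V ≃ₗ[F] V) : Prop :=
  (∀ c ∈ C, g c = c) ∧ (∀ a b : V, B (g a) (g b) = B a b) ∧ ∀ a : V, g a - a ∈ U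

omit [FiniteDimensional F V] in
lemma h63_nice_mul {U C : Submodule F V} {B : LinearMap.BilinForm F V} {g g' : V ≃ₗ[F] V}
    (hg : h63_Nice U C B g) (hg' : h63_Nice U C B g') : h63_Nice U C B (g * g') := by
  refine ⟨fun c hc => ?_, fun a b => ?_, fun a => ?_⟩
  · rw [LinearEquiv.mul_apply, hg'.1 c hc, hg.1 c hc]
  · rw [LinearEquiv.mul_apply, LinearEquiv.mul_apply, hg.2.1, hg'.2.1]
  · rw [LinearEquiv.mul_apply]
    have : g (g' a) - a = (g (g' a) - g' a) + (g' a - a) := by abel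
    rw [this]
    exact U.add_mem (hg.2.2 _) (hg'.2.2 _)

omit [FiniteDimensional F V] in
lemma h63_nice_tvB {G : Subgroup (V ≃ₗ[F] V)} {U C : Submodule F V} {B : LinearMap.BilinForm F V}
    (h : HasSp G U C B) {w : V} (hw : w ∈ U) (a : F) :
    tv w (a • B w) ∈ G ∧ h63_Nice U C B (tv w (a • B w)) := by
  obtain ⟨-, hB, hrad, hG⟩ := h
  refine ⟨hG w hw a, fun c hc => ?_, fun z z' => h63_tvB_preserves hB w a z z', fun z => ?_⟩
  · rw [h63_tvB_apply hB, h63_alt_swap hB w c, (hrad c).mpr hc w]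
    simp
  · rw [h63_tvB_apply hB, add_sub_cancel_left]
    exact U.smul_mem _ hw

omit [FiniteDimensional F V] in
/-- one step: if `B x y ≠ 0` a single symplectic transvection moves `x` to `y`. -/
lemma h63_sp_step {G : Subgroup (V ≃ₗ[F] V)} {U C : Submodule F V} {B : LinearMap.BilinForm F V}
    (h : HasSp G U C B) {x y : V} (hx : x ∈ U) (hy : y ∈ U) (hxy : B x y ≠ 0) :
    ∃ g ∈ G, g x = y ∧ h63_Nice U C B g := by
  have hB : B.IsAlt := h.2.1
  obtain ⟨hG, hN⟩ := h63_nice_tvB h (U.sub_mem hx hy) (-1 / B x y)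
  refine ⟨_, hG, ?_, hN⟩
  rw [h63_tvB_apply hB]
  have e1 : B (x - y) x = B x y := by
    rw [map_sub, LinearMap.sub_apply, hB x, zero_sub, ← h63_alt_swap hB x y]
  rw [e1]
  have e2 : -1 / B x y * B x y = -1 := by field_simp
  rw [e2]
  module

omit [FiniteDimensional F V] in
lemma h63_exists_nonperp {G : Subgroup (V ≃ₗ[F] V)} {U C : Submodule F V}
    {B : LinearMap.BilinForm F V} (h : HasSp G U C B) {x : V} (hx : x ∈ U) (hx0 : x ≠ 0) :
    ∃ u ∈ U, B x u ≠ 0 := by
  obtain ⟨hcompl, hB, hrad, -⟩ := h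
  have hxC : x ∉ C := fun hxC => hx0 (Submodule.disjoint_def.mp hcompl.disjoint x hx hxC)
  have h1 : ¬ ∀ y, B x y = 0 := fun h1 => hxC ((hrad x).mp h1)
  push Not at h1
  obtain ⟨v, hv⟩ := h1
  obtain ⟨u, k, hu, hk, rfl⟩ := Submodule.codisjoint_iff_exists_add_eq.mp hcompl.codisjoint v
  refine ⟨u, hu, ?_⟩
  have hk0 : B x k = 0 := by rw [h63_alt_swap hB x k, (hrad k).mpr hk x, neg_zero]
  rwa [map_add, hk0, add_zero] at hv

/-- The symplectic transvections `τ(w, a B w)`, `w ∈ U`, act transitively on `U \ {0}`.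
If `B x y ≠ 0` use `w = x - y`, `a = -1 / B x y`; else go through `z ∈ U` with `B x z ≠ 0 ≠ B z y`
(`U` is not the union of `x^⊥ ∩ U` and `y^⊥ ∩ U`; `B` is nondegenerate on `U` since its radical is
`C` and `IsCompl U C`).  Each `τ(w, a B w)` fixes `C` pointwise, preserves `B`, and moves vectors
by elements of `U`. -/
theorem sp_trans {G : Subgroup (V ≃ₗ[F] V)} {U C : Submodule F V} {B : LinearMap.BilinForm F V}
    (h : HasSp G U C B) {x y : V} (hx : x ∈ U) (hy : y ∈ U) (hx0 : x ≠ 0) (hy0 : y ≠ 0) :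
    ∃ g ∈ G, g x = y ∧ (∀ c ∈ C, g c = c) ∧ (∀ a b : V, B (g a) (g b) = B a b) ∧
      (∀ a : V, g a - a ∈ U) := by
  have hB : B.IsAlt := h.2.1
  suffices hs : ∃ g ∈ G, g x = y ∧ h63_Nice U C B g by
    obtain ⟨g, hg, hgx, hN⟩ := hs
    exact ⟨g, hg, hgx, hN.1, hN.2.1, hN.2.2⟩
  by_cases hxy : B x y = 0
  · -- find `z ∈ U` with `B x z ≠ 0 ≠ B z y`
    obtain ⟨u1, hu1, h1⟩ := h63_exists_nonperp h hx hx0
    obtain ⟨u2, hu2, h2⟩ := h63_exists_nonperp h hy hy0
    have h2' : B u2 y ≠ 0 := by rw [h63_alt_swap hB u2 y]; exact neg_ne_zero.mpr h2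
    obtain ⟨z, hz, hxz, hzy⟩ : ∃ z ∈ U, B x z ≠ 0 ∧ B z y ≠ 0 := by
      by_cases k1 : B u1 y = 0
      · by_cases k2 : B x u2 = 0
        · refine ⟨u1 + u2, U.add_mem hu1 hu2, ?_, ?_⟩
          · rw [map_add, k2, add_zero]; exact h1
          · rw [map_add, LinearMap.add_apply, k1, zero_add]; exact h2'
        · exact ⟨u2, hu2, k2, h2'⟩
      · exact ⟨u1, hu1, h1, k1⟩
    obtain ⟨g1, hg1, hg1x, hN1⟩ := h63_sp_step h hx hz hxz
    obtain ⟨g2, hg2, hg2z, hN2⟩ := h63_sp_step h hz hy hzy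
    refine ⟨g2 * g1, G.mul_mem hg2 hg1, ?_, h63_nice_mul hN2 hN1⟩
    rw [LinearEquiv.mul_apply, hg1x, hg2z]
  · exact h63_sp_step h hx hy hxy

/-- (N2-B): enlarging `Sp(U)` by a hyperbolic plane `⟨c, c'⟩ ⊆ C`.
Here `(c, γ)`, `(c', γ')` are opposite root pairs inside `C` (`γ, γ'` vanish on `U`), and the mixed
root group with centre `zU + c` and axis `B zU + γ` lies in `G`.
Proof sketch: `κ := -1 / γ' c`, `B' x y := B x y + κ * (γ x * γ' y - γ' x * γ y)`; then
`B' c = γ`, `B' c' = (κ * γ c') • γ'`, `B' u = B u` for `u ∈ U`; alternating; radical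
`C ⊓ ker γ ⊓ ker γ'`; `IsCompl` by hand.  Every `h ∈ span {c, c'}` is a centre with axis `B' h`
(the two opposite root groups generate `SL₂` on that plane: conjugate as in `hasSL_of_opp`).
For `x = u + h`, `u ≠ 0 ≠ h`: conjugate the mixed root group by `g ∈ G` from `sp_trans` (moving `zU`
to `u`) and by an element of the `SL₂` on `⟨c,c'⟩` moving `c` to `h`; both preserve `B'`. -/
theorem hasSp_succ {G : Subgroup (V ≃ₗ[F] V)} {U C : Submodule F V} {B : LinearMap.BilinForm F V}
    (h : HasSp G U C B) {c c' : V} {γ γ' : Dual F V} (hc : c ∈ C) (hc' : c' ∈ C)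
    (hγ : ∀ u ∈ U, γ u = 0) (hγ' : ∀ u ∈ U, γ' u = 0)
    (h1 : RP G c γ) (h2 : RP G c' γ') (hγc' : γ c' ≠ 0) (hγ'c : γ' c ≠ 0)
    {zU : V} (hzU : zU ∈ U) (hzU0 : zU ≠ 0)
    (hmix : ∀ a : F, tv (zU + c) (a • (B zU + γ)) ∈ G) :
    ∃ (U' C' : Submodule F V) (B' : LinearMap.BilinForm F V), HasSp G U' C' B' ∧
      finrank F U' = finrank F U + 2 := by
  have hSp := h
  obtain ⟨hcompl, hB, hrad, hG⟩ := h
  have hγc : γ c = 0 := h1.2.2.1
  have hγ'c' : γ' c' = 0 := h2.2.2.1
  obtain ⟨A, hA⟩ : ∃ A : F, A = γ c' := ⟨_, rfl⟩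
  obtain ⟨A', hA'⟩ : ∃ A' : F, A' = γ' c := ⟨_, rfl⟩
  have hA0 : A ≠ 0 := hA ▸ hγc'
  have hA'0 : A' ≠ 0 := hA' ▸ hγ'c
  obtain ⟨κ, hκ⟩ : ∃ κ : F, κ = -1 / A' := ⟨_, rfl⟩
  have hκ0 : κ ≠ 0 := by rw [hκ]; exact div_ne_zero (by norm_num) hA'0
  -- the radical of `B`
  have hBC : ∀ k ∈ C, ∀ y, B k y = 0 := fun k hk => (hrad k).mpr hk
  have hBC' : ∀ k ∈ C, ∀ y, B y k = 0 := fun k hk y => by
    rw [h63_alt_swap hB y k, hBC k hk y, neg_zero]
  -- the new form
  obtain ⟨B', hB'⟩ : ∃ B' : LinearMap.BilinForm F V,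
      ∀ x y, B' x y = B x y + κ * (γ x * γ' y - γ' x * γ y) :=
    ⟨B + κ • (LinearMap.BilinForm.linMulLin γ γ' - LinearMap.BilinForm.linMulLin γ' γ),
      fun x y => by simp [LinearMap.BilinForm.linMulLin_apply]⟩
  have hB'alt : B'.IsAlt := by
    intro x
    rw [hB', hB x]
    ring
  have hB'U : ∀ u ∈ U, B' u = B u := by
    intro u hu
    apply LinearMap.ext
    intro y
    rw [hB', hγ u hu, hγ' u hu]
    ring
  have hB'c : B' c = γ := by
    apply LinearMap.ext
    intro y
    rw [hB', hBC c hc, hγc, ← hA', hκ]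
    field_simp
    ring
  have hB'c' : B' c' = (κ * A) • γ' := by
    apply LinearMap.ext
    intro y
    rw [hB', hBC c' hc', hγ'c', ← hA]
    simp only [LinearMap.smul_apply, smul_eq_mul]
    ring
  -- nice elements preserve `B'`
  have hnice : ∀ g : V ≃ₗ[F] V, h63_Nice U C B g → ∀ a b, B' (g a) (g b) = B' a b := by
    intro g hN a b
    have e1 : ∀ a, γ (g a) = γ a := fun a => by
      have := hγ _ (hN.2.2 a)
      rw [map_sub] at this
      exact sub_eq_zero.mp this
    have e2 : ∀ a, γ' (g a) = γ' a := fun a => by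
      have := hγ' _ (hN.2.2 a)
      rw [map_sub] at this
      exact sub_eq_zero.mp this
    rw [hB', hB', hN.2.1, e1, e1, e2, e2]
  -- good centres
  have hW_U : ∀ u ∈ U, ∀ a : F, tv u (a • B' u) ∈ G := by
    intro u hu a
    rw [hB'U u hu]
    exact hG u hu a
  have hW_c : ∀ a : F, tv c (a • B' c) ∈ G := by
    intro a
    rw [hB'c]
    exact h1.2.2.2 a
  have hW_smul : ∀ (w : V) (s : F), (∀ a : F, tv w (a • B' w) ∈ G) →
      ∀ a : F, tv (s • w) (a • B' (s • w)) ∈ G := by
    intro w s hw a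
    rw [tv_smul_swap, map_smul, smul_smul, smul_smul]
    exact hw _
  have hW_conj : ∀ g ∈ G, (∀ a b, B' (g a) (g b) = B' a b) → ∀ w : V,
      (∀ a : F, tv w (a • B' w) ∈ G) → ∀ a : F, tv (g w) (a • B' (g w)) ∈ G := by
    intro g hg hpres w hw a
    have e : (a • B' w) ∘ₗ (g.symm : V →ₗ[F] V) = a • B' (g w) := by
      apply LinearMap.ext
      intro y
      have := hpres w (g.symm y)
      simp only [LinearEquiv.apply_symm_apply] at this
      simp [this]
    rw [← e, ← conj_tv]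
    exact G.mul_mem (G.mul_mem hg (hw a)) (G.inv_mem hg)
  have hW_mix : ∀ a : F, tv (zU + c) (a • B' (zU + c)) ∈ G := by
    intro a
    rw [map_add, hB'U zU hzU, hB'c]
    exact hmix a
  -- Claim A
  have hA_claim : ∀ u ∈ U, ∀ a : F, tv (u + c) (a • B' (u + c)) ∈ G := by
    intro u hu
    by_cases hu0 : u = 0
    · rw [hu0, zero_add]; exact hW_c
    · obtain ⟨g1, hg1G, hg1, hfix, hpres, hmove⟩ := sp_trans hSp hzU hu hzU0 hu0
      have e : g1 (zU + c) = u + c := by rw [map_add, hg1, hfix c hc]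
      rw [← e]
      exact hW_conj g1 hg1G (hnice g1 ⟨hfix, hpres, hmove⟩) _ hW_mix
  -- the two root groups on the plane preserve `B'`
  have hT1 : ∀ t : F, tv c' (t • γ') ∈ G ∧ ∀ a b, B' (tv c' (t • γ') a) (tv c' (t • γ') b) = B' a b := by
    intro t
    refine ⟨h2.2.2.2 t, ?_⟩
    have e : t • γ' = (t / (κ * A)) • B' c' := by
      rw [hB'c', smul_smul]
      congr 1
      field_simp
    rw [e]
    exact h63_tvB_preserves hB'alt c' _
  have hT2 : ∀ t : F, tv c (t • γ) ∈ G ∧ ∀ a b, B' (tv c (t • γ) a) (tv c (t • γ) b) = B' a b := by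
    intro t
    refine ⟨h1.2.2.2 t, ?_⟩
    rw [← hB'c]
    exact h63_tvB_preserves hB'alt c _
  -- Claim B
  have hB_claim : ∀ u ∈ U, ∀ s s' : F, s' ≠ 0 →
      ∀ a : F, tv (u + (s • c + s' • c')) (a • B' (u + (s • c + s' • c'))) ∈ G := by
    intro u hu s s' hs'
    obtain ⟨t1, ht1⟩ : ∃ t1 : F, t1 = s' / A' := ⟨_, rfl⟩
    obtain ⟨t2, ht2⟩ : ∃ t2 : F, t2 = (s - 1) / (s' * A) := ⟨_, rfl⟩
    have k1 : (t1 • γ') c' = 0 := by simp [hγ'c']
    have k2 : (t2 • γ) c = 0 := by simp [hγc]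
    have e : (tv c (t2 • γ) * tv c' (t1 • γ')) (u + c) = u + (s • c + s' • c') := by
      rw [LinearEquiv.mul_apply, tv_apply k1, tv_apply k2]
      simp only [map_add, map_smul, LinearMap.smul_apply, smul_eq_mul, hγ u hu, hγ' u hu, hγc,
        ← hA, ← hA', mul_zero, add_zero, zero_add]
      have e1 : t1 * A' = s' := by rw [ht1]; field_simp
      have e2 : t1 * A' * (t2 * A) = s - 1 := by rw [e1, ht2]; field_simp
      rw [e2, e1]
      module
    rw [← e]
    apply hW_conj _ (G.mul_mem (hT2 t2).1 (hT1 t1).1) _ _ (hA_claim u hu)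
    intro a b
    rw [LinearEquiv.mul_apply, LinearEquiv.mul_apply, (hT2 t2).2, (hT1 t1).2]
  -- Claim C
  have hC_claim : ∀ u ∈ U, ∀ s : F, s ≠ 0 → ∀ a : F, tv (u + s • c) (a • B' (u + s • c)) ∈ G := by
    intro u hu s hs
    have e : u + s • c = s • (s⁻¹ • u + c) := by
      rw [smul_add, smul_smul, mul_inv_cancel₀ hs, one_smul]
    rw [e]
    exact hW_smul _ s (hA_claim _ (U.smul_mem _ hu))
  -- the plane
  have hind : ∀ s s' : F, s • c + s' • c' = 0 → s = 0 ∧ s' = 0 := by
    intro s s' h0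
    have e1 := congrArg γ h0
    have e2 := congrArg γ' h0
    simp only [map_add, map_smul, smul_eq_mul, hγc, hγ'c', mul_zero, zero_add, add_zero,
      map_zero] at e1 e2
    exact ⟨(mul_eq_zero.mp e2).resolve_right hγ'c, (mul_eq_zero.mp e1).resolve_right hγc'⟩
  obtain ⟨P, hP⟩ : ∃ P : Submodule F V, P = Submodule.span F {c, c'} := ⟨_, rfl⟩
  have hPC : P ≤ C := by
    rw [hP, Submodule.span_le]
    intro x hx
    rcases hx with rfl | rfl
    · exact hc
    · exact hc'
  have hPfin : finrank F P = 2 := by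
    have hli : LinearIndependent F ![c, c'] := LinearIndependent.pair_iff.mpr hind
    have := finrank_span_eq_card hli
    rw [Matrix.range_cons_cons_empty] at this
    rw [hP, this]
    simp
  have hUP : U ⊓ P = ⊥ := by
    rw [eq_bot_iff]
    intro x hx
    exact (Submodule.mem_bot F).mpr
      (Submodule.disjoint_def.mp hcompl.disjoint x hx.1 (hPC hx.2))
  refine ⟨U ⊔ P, C ⊓ LinearMap.ker γ ⊓ LinearMap.ker γ', B', ⟨?_, hB'alt, ?_, ?_⟩, ?_⟩
  · -- IsCompl
    rw [isCompl_iff]
    constructor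
    · rw [Submodule.disjoint_def]
      intro x hx hx'
      obtain ⟨u, hu, p, hp, rfl⟩ := Submodule.mem_sup.mp hx
      rw [hP] at hp
      obtain ⟨s, s', rfl⟩ := Submodule.mem_span_pair.mp hp
      have hxC : u + (s • c + s' • c') ∈ C := hx'.1.1
      have hxγ := LinearMap.mem_ker.mp hx'.1.2
      have hxγ' := LinearMap.mem_ker.mp hx'.2
      have huC : u ∈ C := by
        have := C.sub_mem hxC (C.add_mem (C.smul_mem s hc) (C.smul_mem s' hc'))
        rwa [add_sub_cancel_right] at this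
      have hu0 : u = 0 := Submodule.disjoint_def.mp hcompl.disjoint u hu huC
      simp only [map_add, map_smul, smul_eq_mul, hγ u hu, hγ' u hu, hγc, hγ'c', mul_zero,
        zero_add, add_zero] at hxγ hxγ'
      have hs' : s' = 0 := (mul_eq_zero.mp hxγ).resolve_right hγc'
      have hs : s = 0 := (mul_eq_zero.mp hxγ').resolve_right hγ'c
      rw [hu0, hs, hs']
      simp
    · rw [Submodule.codisjoint_iff_exists_add_eq]
      intro v
      obtain ⟨u, k, hu, hk, rfl⟩ := Submodule.codisjoint_iff_exists_add_eq.mp hcompl.codisjoint v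
      obtain ⟨p, hp⟩ : ∃ p : V, p = (γ' k / A') • c + (γ k / A) • c' := ⟨_, rfl⟩
      have hpP : p ∈ P := by
        rw [hp, hP]
        exact Submodule.mem_span_pair.mpr ⟨_, _, rfl⟩
      refine ⟨u + p, k - p, Submodule.add_mem_sup hu hpP, ⟨⟨C.sub_mem hk (hPC hpP), ?_⟩, ?_⟩, by abel⟩
      · refine LinearMap.mem_ker.mpr ?_
        rw [hp]
        simp only [map_sub, map_add, map_smul, smul_eq_mul, hγc, mul_zero, zero_add, ← hA]
        field_simp
        ring
      · refine LinearMap.mem_ker.mpr ?_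
        rw [hp]
        simp only [map_sub, map_add, map_smul, smul_eq_mul, hγ'c', mul_zero, add_zero, ← hA']
        field_simp
        ring
  · -- the radical of `B'`
    intro x
    constructor
    · intro hx
      obtain ⟨u, k, hu, hk, rfl⟩ := Submodule.codisjoint_iff_exists_add_eq.mp hcompl.codisjoint x
      have hu0 : u = 0 := by
        apply Submodule.disjoint_def.mp hcompl.disjoint u hu
        apply (hrad u).mp
        intro y
        obtain ⟨u', k', hu', hk', rfl⟩ := Submodule.codisjoint_iff_exists_add_eq.mp hcompl.codisjoint y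
        have e := hx u'
        rw [hB', hγ u' hu', hγ' u' hu', map_add, LinearMap.add_apply, hBC k hk] at e
        rw [map_add, hBC' k' hk', add_zero]
        linear_combination e
      rw [hu0, zero_add] at hx ⊢
      have e1 := hx c
      have e2 := hx c'
      rw [hB', hBC k hk, hγc, ← hA'] at e1
      rw [hB', hBC k hk, hγ'c', ← hA] at e2
      have hγk : γ k = 0 := by
        have : κ * (γ k * A') = 0 := by linear_combination e1
        rcases mul_eq_zero.mp this with h0 | h0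
        · exact absurd h0 hκ0
        · exact (mul_eq_zero.mp h0).resolve_right hA'0
      have hγ'k : γ' k = 0 := by
        have : κ * (γ' k * A) = 0 := by linear_combination -e2
        rcases mul_eq_zero.mp this with h0 | h0
        · exact absurd h0 hκ0
        · exact (mul_eq_zero.mp h0).resolve_right hA0
      exact ⟨⟨hk, LinearMap.mem_ker.mpr hγk⟩, LinearMap.mem_ker.mpr hγ'k⟩
    · intro hx' y
      have hxC : x ∈ C := hx'.1.1
      have hxγ := LinearMap.mem_ker.mp hx'.1.2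
      have hxγ' := LinearMap.mem_ker.mp hx'.2
      rw [hB', hBC x hxC, hxγ, hxγ']
      ring
  · -- all of `U ⊔ P` consists of good centres
    intro w hw a
    obtain ⟨u, hu, p, hp, rfl⟩ := Submodule.mem_sup.mp hw
    rw [hP] at hp
    obtain ⟨s, s', rfl⟩ := Submodule.mem_span_pair.mp hp
    by_cases hs' : s' = 0
    · by_cases hs : s = 0
      · rw [hs, hs', zero_smul, zero_smul, add_zero, add_zero]
        exact hW_U u hu a
      · rw [hs', zero_smul, add_zero]
        exact hC_claim u hu s hs a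
    · exact hB_claim u hu s s' hs' a
  · -- the rank
    have := Submodule.finrank_sup_add_finrank_inf_eq U P
    rw [hUP, finrank_bot, add_zero, hPfin] at this
    exact this

end Cfsg.Agent.Helper93.McL
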