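import Cfsg.Agent.Lib.Helper93.McLF
import Cfsg.Agent.Lib.Helper93.McLS

/-!
# McL pack B: the key lemma for a maximal `Sp`-block (KL-B)
-/

set_option autoImplicit false

namespace Cfsg.Agent.Helper93.McL

open Module

variable {F V : Type*} [Field F] [AddCommGroup V] [Module F V] [FiniteDimensional F V]

set_option linter.unusedSectionVars false
set_option linter.unusedVariables false

/-- elements of the radical `C` are killed on both sides -/
private lemma h32_B_right_zero {G : Subgroup (V ≃ₗ[F] V)} {U C : Submodule F V}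
    {B : LinearMap.BilinForm F V} (h : HasSp G U C B) {c : V} (hc : c ∈ C) (x : V) :
    B x c = 0 := by
  obtain ⟨_, halt, hrad, _⟩ := h
  have h1 : B c x = 0 := (hrad c).mpr hc x
  have h2 := halt.neg_eq c x
  rw [h1, neg_zero] at h2
  exact h2.symm

private lemma h32_B_left_zero {G : Subgroup (V ≃ₗ[F] V)} {U C : Submodule F V}
    {B : LinearMap.BilinForm F V} (h : HasSp G U C B) {c : V} (hc : c ∈ C) (x : V) :
    B c x = 0 := by
  obtain ⟨_, _, hrad, _⟩ := h
  exact (hrad c).mpr hc x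

/-- a nonzero vector of `U` is not perpendicular to all of `U` -/
private lemma h32_exists_ne {G : Subgroup (V ≃ₗ[F] V)} {U C : Submodule F V}
    {B : LinearMap.BilinForm F V} (h : HasSp G U C B) {u : V} (hu : u ∈ U) (hu0 : u ≠ 0) :
    ∃ w ∈ U, B u w ≠ 0 := by
  have hUC := h.1
  have hrad := h.2.2.1
  have hnC : u ∉ C := by
    intro hc
    have : u ∈ U ⊓ C := ⟨hu, hc⟩
    rw [hUC.inf_eq_bot, Submodule.mem_bot] at this
    exact hu0 this
  have : ¬ ∀ y, B u y = 0 := fun hall => hnC ((hrad u).mp hall)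
  push Not at this
  obtain ⟨y, hy⟩ := this
  have hy' : y ∈ U ⊔ C := by rw [hUC.sup_eq_top]; exact Submodule.mem_top
  obtain ⟨yU, hyU, yC, hyC, rfl⟩ := Submodule.mem_sup.mp hy'
  refine ⟨yU, hyU, ?_⟩
  intro h0
  apply hy
  rw [map_add, h0, h32_B_right_zero h hyC, add_zero]

/-- `(u, B u)` is a root pair for `u ∈ U`, `u ≠ 0` -/
private lemma h32_rp_sp {G : Subgroup (V ≃ₗ[F] V)} {U C : Submodule F V}
    {B : LinearMap.BilinForm F V} (h : HasSp G U C B) {u : V} (hu : u ∈ U) (hu0 : u ≠ 0) :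
    RP G u (B u) := by
  obtain ⟨w, _, hw⟩ := h32_exists_ne h hu hu0
  refine ⟨hu0, ?_, h.2.1.self_eq_zero u, fun a => h.2.2.2 u hu a⟩
  intro h0
  apply hw
  rw [h0]
  rfl

/-- Step A: the `U`-part of the axis of a root pair is proportional to `B zU`. -/
private lemma h32_split {G : Subgroup (V ≃ₗ[F] V)} (hG : Good G)
    (hno : ∀ U C : Submodule F V, HasSL G U C → finrank F U ≤ 2)
    {U C : Submodule F V} {B : LinearMap.BilinForm F V} (h : HasSp G U C B)
    {z : V} {ζ : Dual F V} (hz : RP G z ζ) :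
    ∃ zU ∈ U, ∃ zC ∈ C, z = zU + zC ∧
      ((zU = 0 ∧ ∀ u ∈ U, ζ u = 0) ∨
       (zU ≠ 0 ∧ ∃ l : F, l ≠ 0 ∧ ∀ u ∈ U, ζ u = l * B zU u)) := by
  have hUC := h.1
  have halt := h.2.1
  have hz' : z ∈ U ⊔ C := by rw [hUC.sup_eq_top]; exact Submodule.mem_top
  obtain ⟨zU, hzU, zC, hzC, hzz⟩ := Submodule.mem_sup.mp hz'
  refine ⟨zU, hzU, zC, hzC, hzz.symm, ?_⟩
  -- the key equivalence
  have key : ∀ u ∈ U, (B zU u = 0 ↔ ζ u = 0) := by
    intro u hu
    by_cases hu0 : u = 0
    · subst hu0; simp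
    have hrp := h32_rp_sp h hu hu0
    have hBz : B u z = B u zU := by
      rw [← hzz, map_add, h32_B_right_zero h hzC, add_zero]
    have hsk : B u zU = - B zU u := by
      have := halt.neg_eq zU u
      rw [← this]
    constructor
    · intro h0
      have h1 : (B u) z = 0 := by rw [hBz, hsk, h0, neg_zero]
      exact symm_perp hG hno hrp hz h1
    · intro h0
      have h1 : (B u) z = 0 := symm_perp hG hno hz hrp h0
      rw [hBz, hsk, neg_eq_zero] at h1
      exact h1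
  by_cases hzU0 : zU = 0
  · left
    refine ⟨hzU0, fun u hu => ?_⟩
    apply (key u hu).mp
    rw [hzU0]
    simp
  · right
    refine ⟨hzU0, ?_⟩
    obtain ⟨u₀, hu₀, hne⟩ := h32_exists_ne h hzU hzU0
    have hζ0 : ζ u₀ ≠ 0 := fun h0 => hne ((key u₀ hu₀).mpr h0)
    refine ⟨ζ u₀ / B zU u₀, div_ne_zero hζ0 hne, fun u hu => ?_⟩
    have hmem : u - (B zU u / B zU u₀) • u₀ ∈ U := U.sub_mem hu (U.smul_mem _ hu₀)
    have hk : B zU (u - (B zU u / B zU u₀) • u₀) = 0 := by
      rw [map_sub, map_smul, smul_eq_mul, div_mul_cancel₀ _ hne, sub_self]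
    have := (key _ hmem).mp hk
    rw [map_sub, map_smul, smul_eq_mul, sub_eq_zero] at this
    rw [this]
    field_simp

/-- Step B: a mixed root pair (normalized) gives a root pair inside `C`. -/
private lemma h32_mixed (h2 : (2 : F) ≠ 0) {G : Subgroup (V ≃ₗ[F] V)} (hG : Good G)
    (hno : ∀ U C : Submodule F V, HasSL G U C → finrank F U ≤ 2)
    {U C : Submodule F V} {B : LinearMap.BilinForm F V} (h : HasSp G U C B)
    {zU zC : V} {ζ : Dual F V} (hzU : zU ∈ U) (hzC : zC ∈ C) (hzU0 : zU ≠ 0) (hzC0 : zC ≠ 0)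
    (hz : RP G (zU + zC) ζ) (hζU : ∀ u ∈ U, ζ u = B zU u) :
    (∀ u ∈ U, (ζ - B zU) u = 0) ∧ RP G zC (ζ - B zU) := by
  have hUC := h.1
  have halt := h.2.1
  have hsp := h.2.2.2
  set γ : Dual F V := ζ - B zU with hγ
  have hγU : ∀ u ∈ U, γ u = 0 := by
    intro u hu
    rw [hγ, LinearMap.sub_apply, hζU u hu, sub_self]
  have hζzC : ζ zC = 0 := by
    have := hz.2.2.1
    rw [map_add, hζU zU hzU, halt.self_eq_zero, zero_add] at this
    exact this
  have hγzC : γ zC = 0 := by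
    rw [hγ, LinearMap.sub_apply, hζzC, h32_B_right_zero h hzC, sub_zero]
  refine ⟨hγU, ?_⟩
  -- `γ ≠ 0`
  have hγ0 : γ ≠ 0 := by
    intro h0
    have hζ : ζ = B zU := by
      have := sub_eq_zero.mp (hγ ▸ h0 : ζ - B zU = 0)
      exact this
    have hrpC : RP G zC (B zU) := by
      refine ⟨hzC0, (h32_rp_sp h hzU hzU0).2.1, h32_B_right_zero h hzC zU, fun a => ?_⟩
      have e1 : (a • B zU) zU = 0 := by simp [halt.self_eq_zero]
      have e2 : (a • B zU) zC = 0 := by simp [h32_B_right_zero h hzC]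
      have hm := tv_mul_center (u := zU) (v := zC) (φ := a • B zU) e1 e2
      have hin : tv (zU + zC) (a • B zU) ∈ G := by
        have := hz.2.2.2 a
        rwa [hζ] at this
      have hin2 : tv zU (a • B zU) ∈ G := hsp zU hzU a
      have : tv zC (a • B zU) = (tv zU (a • B zU))⁻¹ * tv (zU + zC) (a • B zU) := by
        rw [← hm, inv_mul_cancel_left]
      rw [this]
      exact G.mul_mem (G.inv_mem hin2) hin
    obtain ⟨u₀, hu₀, hne⟩ := h32_exists_ne h hzU hzU0
    have hu₀0 : u₀ ≠ 0 := by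
      intro h0; apply hne; rw [h0, map_zero]
    have hrp0 := h32_rp_sp h hu₀ hu₀0
    have : (B zU) u₀ = 0 :=
      symm_perp hG hno hrp0 hrpC (h32_B_right_zero h hzC u₀)
    exact hne this
  -- conjugates: `(u + zC, B u + γ)` is a root pair for `u ∈ U`, `u ≠ 0`
  have hconj : ∀ u ∈ U, u ≠ 0 → RP G (u + zC) (B u + γ) := by
    intro u hu hu0
    obtain ⟨g, hgG, hgz, hgC, hgB, hgU⟩ := sp_trans h hzU hu hzU0 hu0
    have hc := hz.conj hgG
    have e1 : g (zU + zC) = u + zC := by rw [map_add, hgz, hgC zC hzC]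
    have e2 : ζ ∘ₗ (g.symm : V →ₗ[F] V) = B u + γ := by
      apply LinearMap.ext
      intro x
      have hx : g (g.symm x) = x := g.apply_symm_apply x
      have hd : x - g.symm x ∈ U := by
        have := hgU (g.symm x)
        rwa [hx] at this
      have hγx : γ (g.symm x) = γ x := by
        have := hγU _ hd
        rw [map_sub, sub_eq_zero] at this
        exact this.symm
      have hBx : B zU (g.symm x) = B u x := by
        have := hgB zU (g.symm x)
        rw [hgz, hx] at this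
        exact this.symm
      have hζx : ζ (g.symm x) = B zU (g.symm x) + γ (g.symm x) := by
        rw [hγ, LinearMap.sub_apply]; ring
      simp only [LinearMap.coe_comp, LinearEquiv.coe_coe, Function.comp_apply,
        LinearMap.add_apply]
      rw [hζx, hBx, hγx]
    rw [e1, e2] at hc
    exact hc
  refine ⟨hzC0, hγ0, hγzC, fun b => ?_⟩
  -- the product identity
  have hm := hconj zU hzU hzU0
  have hm' := hconj (-zU) (U.neg_mem hzU) (neg_ne_zero.mpr hzU0)
  set a : F := b / 2 with ha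
  have hp := hm.2.2.2 a
  have hp' := hm'.2.2.2 a
  have hs : tv zU ((2 * a) • B zU) ∈ G := hsp zU hzU (2 * a)
  have e1 : (a • (B zU + γ)) (zU + zC) = 0 := by
    simp [halt.self_eq_zero, h32_B_right_zero h hzC, hγU zU hzU, hγzC]
  have e2 : (a • (B (-zU) + γ)) (-zU + zC) = 0 := by
    simp [halt.self_eq_zero, h32_B_right_zero h hzC, hγU zU hzU, hγzC]
  have e3 : ((2 * a) • B zU) zU = 0 := by simp [halt.self_eq_zero]
  have e4 : ((2 * a) • γ) zC = 0 := by simp [hγzC]
  have hid : tv (zU + zC) (a • (B zU + γ)) * tv (-zU + zC) (a • (B (-zU) + γ)) =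
      tv zU ((2 * a) • B zU) * tv zC ((2 * a) • γ) := by
    apply LinearEquiv.ext
    intro x
    rw [LinearEquiv.mul_apply, LinearEquiv.mul_apply, tv_apply e2, tv_apply e1, tv_apply e4,
      tv_apply e3]
    simp only [map_add, map_smul, map_neg, LinearMap.add_apply, LinearMap.smul_apply,
      LinearMap.neg_apply, smul_eq_mul, halt.self_eq_zero, h32_B_right_zero h hzC,
      hγU zU hzU, hγzC, mul_zero, add_zero, neg_zero, smul_add, smul_neg]
    module
  have hb : (2 * a) = b := by rw [ha]; field_simp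
  have : tv zC (b • γ) = (tv zU ((2 * a) • B zU))⁻¹ *
      (tv (zU + zC) (a • (B zU + γ)) * tv (-zU + zC) (a • (B (-zU) + γ))) := by
    rw [hid, inv_mul_cancel_left, hb]
  rw [this]
  exact G.mul_mem (G.inv_mem hs) (G.mul_mem hp hp')

/-- (KL-B) No `SL`-block of dimension `≥ 3`, `HasSp G U C B` with `dim U` maximal, `U ≠ ⊥`, `2 ≠ 0`.
Then every root pair `(z, ζ)` is symplectic in `U` or lives in `C`.
Proof (see board post for details): write `z = zU + zC`, and `ζ = B y + ζC` on `U ⊕ C`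
(`y ∈ U`; `B` nondegenerate on `U`).  `symm_perp` against the root pairs `(u, B u)`, `u ∈ U`, gives
`B u zU = 0 ↔ B y u = 0`, hence `y = λ zU` (`y = 0` if `zU = 0`).
* `zU = 0`: then `ζ` vanishes on `U`: second alternative.
* `zU ≠ 0`, `zC = 0`: `z ∈ U`, `axis_unique` with `(z, B z)`: first alternative.
* `zU ≠ 0`, `zC ≠ 0`: scale so `λ = 1`: `ζ = B zU + γ`, `γ := ζC`, `γ zC = 0`.  `γ ≠ 0` (else
  `τ(zC, a B zU) = τ(z, ·) τ(zU, ·)⁻¹ ∈ G` and `symm_perp` against `(u, B u)` with `B u zU ≠ 0` fails).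
  Conjugating by `sp_trans`: `(u + zC, B u + γ)` is a root pair for every `u ∈ U`, `u ≠ 0`.
  `τ(u+zC, a(B u+γ)) * τ(-u+zC, a(-B u+γ)) = τ(u, 2a B u) * τ(zC, 2a γ)`, so `RP G zC γ` (`2 ≠ 0`).
  `hG.opp`: `(w, ω)` opposite to `(zC, γ)`; by the same analysis for `(w, ω)`: `wU = 0` (then
  `(c', γ') := (w, ω)`), or `wU ≠ 0 ≠ wC` and `(c', γ') := (wC, ωC)` is a root pair in `C` opposite to
  `(zC, γ)`; (`w ∈ U` is impossible as `γ w ≠ 0`).  `hasSp_succ` contradicts `hmax`. -/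
theorem kl_sp (h2 : (2 : F) ≠ 0) {G : Subgroup (V ≃ₗ[F] V)} (hG : Good G)
    (hno : ∀ U C : Submodule F V, HasSL G U C → finrank F U ≤ 2)
    {U C : Submodule F V} {B : LinearMap.BilinForm F V} (h : HasSp G U C B) (hU : U ≠ ⊥)
    (hmax : ∀ (U' C' : Submodule F V) (B' : LinearMap.BilinForm F V), HasSp G U' C' B' →
      finrank F U' ≤ finrank F U)
    {z : V} {ζ : Dual F V} (hz : RP G z ζ) :
    (z ∈ U ∧ ∃ a : F, ζ = a • B z) ∨ (z ∈ C ∧ ∀ u ∈ U, ζ u = 0) := by
  obtain ⟨zU, hzU, zC, hzC, hzz, hcase⟩ := h32_split hG hno h hz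
  rcases hcase with ⟨hzU0, hζU⟩ | ⟨hzU0, l, hl, hζU⟩
  · right
    refine ⟨?_, hζU⟩
    rw [hzz, hzU0, zero_add]
    exact hzC
  by_cases hzC0 : zC = 0
  · left
    have hzeq : z = zU := by rw [hzz, hzC0, add_zero]
    refine ⟨hzeq ▸ hzU, ?_⟩
    have hrp := h32_rp_sp h hzU hzU0
    rw [hzeq] at hz ⊢
    exact axis_unique hG hno hrp hz
  -- the mixed case is impossible
  exfalso
  -- normalize
  have hz1 : RP G (zU + zC) (l⁻¹ • ζ) := by
    have := hz.smul (inv_ne_zero hl)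
    rwa [hzz] at this
  have hζ1 : ∀ u ∈ U, (l⁻¹ • ζ) u = B zU u := by
    intro u hu
    rw [LinearMap.smul_apply, hζU u hu, smul_eq_mul, inv_mul_cancel_left₀ hl]
  obtain ⟨hγU, hrpC⟩ := h32_mixed h2 hG hno h hzU hzC hzU0 hzC0 hz1 hζ1
  set γ : Dual F V := l⁻¹ • ζ - B zU with hγ
  have hmix : ∀ a : F, tv (zU + zC) (a • (B zU + γ)) ∈ G := by
    intro a
    have : B zU + γ = l⁻¹ • ζ := by rw [hγ]; abel
    rw [this]
    exact hz1.2.2.2 a
  obtain ⟨w, ω, hw, hγw, hωz⟩ := hG.opp zC γ hrpC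
  obtain ⟨wU, hwU, wC, hwC, hww, hcasew⟩ := h32_split hG hno h hw
  have hγwC : γ wC ≠ 0 := by
    intro h0
    apply hγw
    rw [hww, map_add, hγU wU hwU, h0, add_zero]
  rcases hcasew with ⟨hwU0, hωU⟩ | ⟨hwU0, l', hl', hωU⟩
  · -- `w ∈ C`, `ω` vanishes on `U`
    have hweq : w = wC := by rw [hww, hwU0, zero_add]
    rw [hweq] at hw
    obtain ⟨U', C', B', hSp', hdim⟩ :=
      hasSp_succ h hzC hwC hγU hωU hrpC hw hγwC hωz hzU hzU0 hmix
    have := hmax U' C' B' hSp'
    omega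
  · by_cases hwC0 : wC = 0
    · apply hγwC
      rw [hwC0, map_zero]
    have hw1 : RP G (wU + wC) (l'⁻¹ • ω) := by
      have := hw.smul (inv_ne_zero hl')
      rwa [hww] at this
    have hω1 : ∀ u ∈ U, (l'⁻¹ • ω) u = B wU u := by
      intro u hu
      rw [LinearMap.smul_apply, hωU u hu, smul_eq_mul, inv_mul_cancel_left₀ hl']
    obtain ⟨hγ'U, hrpC'⟩ := h32_mixed h2 hG hno h hwU hwC hwU0 hwC0 hw1 hω1
    have hγ'z : (l'⁻¹ • ω - B wU) zC ≠ 0 := by
      rw [LinearMap.sub_apply, LinearMap.smul_apply, h32_B_right_zero h hzC, sub_zero,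
        smul_eq_mul]
      exact mul_ne_zero (inv_ne_zero hl') hωz
    obtain ⟨U', C', B', hSp', hdim⟩ :=
      hasSp_succ h hzC hwC hγU hγ'U hrpC hrpC' hγwC hγ'z hzU hzU0 hmix
    have := hmax U' C' B' hSp'
    omega

end Cfsg.Agent.Helper93.McL
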