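import Cfsg.Agent.Lib.Helper93.McL0
import Cfsg.Agent.Lib.Helper67.BaerSuzuki
import Cfsg.Prelude.Def_Solvable

/-!
# McL pack BS: opposites exist when `O_p(G) = 1` (Baer–Suzuki); `O_p` of a commuting factor
-/

set_option autoImplicit false

namespace Cfsg.Agent.Helper93.McL

open Module

section Flag

variable {F V : Type*} [Field F] [AddCommGroup V] [Module F V]

/-- The unitriangular group of the flag `0 ≤ span {v} ≤ span {u, v} ≤ V`. -/
def helper57_flagSub (u v : V) : Subgroup (V ≃ₗ[F] V) where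
  carrier := {g | (∀ x, ∃ a b : F, g x = x + a • u + b • v) ∧ (∃ c : F, g u = u + c • v) ∧ g v = v}
  one_mem' := ⟨fun x => ⟨0, 0, by simp⟩, ⟨0, by simp⟩, rfl⟩
  mul_mem' := by
    rintro g h ⟨hg1, ⟨cg, hg2⟩, hg3⟩ ⟨hh1, ⟨ch, hh2⟩, hh3⟩
    refine ⟨fun x => ?_, ⟨cg + ch, ?_⟩, ?_⟩
    · obtain ⟨a, b, hab⟩ := hh1 x
      obtain ⟨a', b', hab'⟩ := hg1 x
      refine ⟨a' + a, b' + a * cg + b, ?_⟩
      rw [LinearEquiv.mul_apply, hab, map_add, map_add, map_smul, map_smul, hab', hg2, hg3]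
      module
    · rw [LinearEquiv.mul_apply, hh2, map_add, map_smul, hg2, hg3]
      module
    · rw [LinearEquiv.mul_apply, hh3, hg3]
  inv_mem' := by
    rintro g ⟨hg1, ⟨cg, hg2⟩, hg3⟩
    have hv : g⁻¹ v = v := by
      have h1 : g.symm (g v) = v := g.symm_apply_apply v
      rw [hg3] at h1
      exact h1
    refine ⟨fun x => ?_, ⟨-cg, ?_⟩, hv⟩
    · obtain ⟨a, b, hab⟩ := hg1 (g⁻¹ x)
      have h1 : g (g⁻¹ x) = x := g.apply_symm_apply x
      rw [h1] at hab
      refine ⟨-a, -b, ?_⟩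
      have h2 : g⁻¹ x = x - a • u - b • v := by
        rw [eq_sub_iff_add_eq, eq_sub_iff_add_eq, add_right_comm]
        exact hab.symm
      rw [h2]
      module
    · have h1 : g.symm (g u) = u := g.symm_apply_apply u
      rw [hg2, map_add, map_smul] at h1
      have h2 : g.symm v = v := hv
      rw [h2] at h1
      have h3 : g⁻¹ u = u - cg • v := by
        rw [eq_sub_iff_add_eq]
        exact h1
      rw [h3]
      module

lemma helper57_flag_pow {u v : V} {g : V ≃ₗ[F] V} {x : V} {a b c : F}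
    (hx : g x = x + a • u + b • v) (hu : g u = u + c • v) (hv : g v = v) (n : ℕ) :
    (g ^ n) x = x + (n : F) • (a • u + b • v) + ((n.choose 2 : ℕ) : F) • (a * c) • v := by
  induction n with
  | zero => simp
  | succ n ih =>
    have hch : (((n + 1).choose 2 : ℕ) : F) = (n : F) + ((n.choose 2 : ℕ) : F) := by
      rw [Nat.choose_succ_succ' n 1, Nat.choose_one_right]
      push_cast
      rfl
    rw [pow_succ', LinearEquiv.mul_apply, ih, hch]
    simp only [map_add, map_smul, hx, hu, hv]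
    push_cast
    module

end Flag

/-- the case `φ v = 0` of `isPGroup_of_not_opp`. -/
theorem helper57_isPGroup_aux {p : ℕ} [Fact p.Prime] {V : Type*} [AddCommGroup V]
    [Module (ZMod p) V] {u v : V} {φ ψ : Dual (ZMod p) V} (hu : φ u = 0) (hv : ψ v = 0)
    (h : φ v = 0) :
    IsPGroup p ↥(Subgroup.closure {tv u φ, tv v ψ} : Subgroup (V ≃ₗ[ZMod p] V)) := by
  have hp : p.Prime := Fact.out
  have hle : (Subgroup.closure {tv u φ, tv v ψ} : Subgroup (V ≃ₗ[ZMod p] V)) ≤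
      helper57_flagSub u v := by
    rw [Subgroup.closure_le]
    rintro g (rfl | rfl)
    · refine ⟨fun x => ⟨φ x, 0, ?_⟩, ⟨0, ?_⟩, ?_⟩
      · rw [tv_apply hu]; simp
      · rw [tv_apply hu, hu]; simp
      · rw [tv_apply hu, h]; simp
    · refine ⟨fun x => ⟨0, ψ x, ?_⟩, ⟨ψ u, ?_⟩, ?_⟩
      · rw [tv_apply hv]; simp
      · rw [tv_apply hv]
      · rw [tv_apply hv, hv]; simp
  rintro ⟨g, hg⟩
  refine ⟨2, Subtype.ext ?_⟩
  obtain ⟨hg1, ⟨c, hg2⟩, hg3⟩ := hle hg
  show g ^ p ^ 2 = 1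
  apply LinearEquiv.ext
  intro x
  obtain ⟨a, b, hab⟩ := hg1 x
  rw [helper57_flag_pow hab hg2 hg3 (p ^ 2)]
  have h1 : ((p ^ 2 : ℕ) : ZMod p) = 0 := by
    rw [ZMod.natCast_eq_zero_iff]
    exact dvd_pow_self p two_ne_zero
  have h2 : (((p ^ 2).choose 2 : ℕ) : ZMod p) = 0 := by
    rw [ZMod.natCast_eq_zero_iff]
    apply hp.dvd_choose_pow two_ne_zero
    intro h3
    have h4 : 2 ≤ p := hp.two_le
    nlinarith
  rw [h1, h2]
  simp

/-- Two transvections that are not opposite generate a `p`-group (`char = p`): if `φ v = 0`, every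
element `g` of the subgroup maps `x` into `x + span {u, v}`, `span {u,v}` into `· + span {v}`... more
simply `(g - 1)^3 = 0`; the set of `g` with `g x - x ∈ span {u, v}`, `g u - u ∈ span {v}`, `g v = v`
is a subgroup containing both, and each of its elements has `g ^ (p ^ 2) = 1` (or `g ^ p = 1`, `p ≥ 3`). -/
theorem isPGroup_of_not_opp {p : ℕ} [Fact p.Prime] {V : Type*} [AddCommGroup V]
    [Module (ZMod p) V] {u v : V} {φ ψ : Dual (ZMod p) V} (hu : φ u = 0) (hv : ψ v = 0)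
    (h : φ v = 0 ∨ ψ u = 0) :
    IsPGroup p ↥(Subgroup.closure {tv u φ, tv v ψ} : Subgroup (V ≃ₗ[ZMod p] V)) := by
  rcases h with h | h
  · exact helper57_isPGroup_aux hu hv h
  · rw [Set.pair_comm]
    exact helper57_isPGroup_aux hv hu h

/-- If `O_p(G) = 1` then every root pair of `G` has an opposite root pair.
Proof: `t := τ(u, φ) ∈ G`, `X := zpowers ⟨t, _⟩ ≤ ↥G`.  If `X ⊔ X^g` were a `p`-group for all `g : ↥G`,
`Helper67.baer_suzuki` puts `X` in a normal `p`-subgroup, which is `≤ pCore = ⊥`, so `t = 1`,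
contradicting `u ≠ 0`, `φ ≠ 0` (`tv_apply`).  So some `g ∈ G` has `⟨t, g t g⁻¹⟩` not a `p`-group;
`g t g⁻¹ = τ(g u, φ ∘ g⁻¹)` (`conj_tv`), a root pair by `RP.conj`, opposite by `isPGroup_of_not_opp`. -/
theorem good_of_pCore {p : ℕ} [Fact p.Prime] {V : Type*} [AddCommGroup V] [Module (ZMod p) V]
    [Finite V] (G : Subgroup (V ≃ₗ[ZMod p] V)) (hG : Cfsg.pCore p ↥G = ⊥) : Good G := by
  haveI : Finite (V ≃ₗ[ZMod p] V) :=
    Finite.of_injective (fun g : V ≃ₗ[ZMod p] V => (g : V → V)) DFunLike.coe_injective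
  refine ⟨fun u φ hRP => ?_⟩
  by_contra hno
  push Not at hno
  obtain ⟨hu0, hφ0, hφu, hmem⟩ := hRP
  have ht : tv u φ ∈ G := by
    have h1 := hmem 1
    rwa [one_smul] at h1
  set t : ↥G := ⟨tv u φ, ht⟩ with htdef
  have hpair : ∀ g : ↥G, IsPGroup p
      ↥(Subgroup.zpowers t ⊔ (Subgroup.zpowers t).map (MulAut.conj g).toMonoidHom) := by
    intro g
    have hRPg : RP G ((g : V ≃ₗ[ZMod p] V) u)
        (φ ∘ₗ (((g : V ≃ₗ[ZMod p] V).symm : V ≃ₗ[ZMod p] V) : V →ₗ[ZMod p] V)) :=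
      RP.conj ⟨hu0, hφ0, hφu, hmem⟩ g.2
    have hψv : (φ ∘ₗ (((g : V ≃ₗ[ZMod p] V).symm : V ≃ₗ[ZMod p] V) : V →ₗ[ZMod p] V))
        ((g : V ≃ₗ[ZMod p] V) u) = 0 := by
      simp [hφu]
    have hor : φ ((g : V ≃ₗ[ZMod p] V) u) = 0 ∨
        (φ ∘ₗ (((g : V ≃ₗ[ZMod p] V).symm : V ≃ₗ[ZMod p] V) : V →ₗ[ZMod p] V)) u = 0 := by
      by_contra hcon
      push Not at hcon
      exact hcon.2 (hno _ _ hRPg hcon.1)
    have hK := isPGroup_of_not_opp (p := p) hφu hψv hor
    have hcomap := hK.comap_of_injective G.subtype G.subtype_injective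
    refine hcomap.to_le ?_
    apply sup_le
    · rw [Subgroup.zpowers_le, Subgroup.mem_comap]
      exact Subgroup.subset_closure (Set.mem_insert _ _)
    · rw [MonoidHom.map_zpowers, Subgroup.zpowers_le, Subgroup.mem_comap]
      have h1 : G.subtype ((MulAut.conj g).toMonoidHom t) =
          tv ((g : V ≃ₗ[ZMod p] V) u)
            (φ ∘ₗ (((g : V ≃ₗ[ZMod p] V).symm : V ≃ₗ[ZMod p] V) : V →ₗ[ZMod p] V)) := by
        rw [← conj_tv]
        rfl
      rw [h1]
      exact Subgroup.subset_closure (Set.mem_insert_of_mem _ rfl)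
  obtain ⟨N, hNn, hNp, hXN⟩ := Cfsg.Agent.Helper67.baer_suzuki (p := p) (Subgroup.zpowers t) hpair
  have hN : N ≤ Cfsg.pCore p ↥G := le_sSup ⟨hNn, hNp⟩
  rw [hG, le_bot_iff] at hN
  have ht1 : t = 1 := by
    have h1 : t ∈ N := hXN (Subgroup.mem_zpowers t)
    rwa [hN, Subgroup.mem_bot] at h1
  have ht2 : tv u φ = 1 := congrArg Subtype.val ht1
  obtain ⟨x, hx⟩ : ∃ x, φ x ≠ 0 := by
    by_contra h
    push Not at h
    exact hφ0 (LinearMap.ext h)
  have h2 : tv u φ x = x := by rw [ht2]; rfl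
  rw [tv_apply hφu] at h2
  have h3 : φ x • u = 0 := by
    have h4 : x + φ x • u = x + 0 := by rw [h2, add_zero]
    exact add_left_cancel h4
  rcases smul_eq_zero.mp h3 with h | h
  · exact hx h
  · exact hu0 h

/-- `O_p` of a commuting factor is trivial. -/
theorem pCore_eq_bot_of_factor {Γ : Type*} [Group Γ] [Finite Γ] (p : ℕ) [Fact p.Prime]
    (G A B : Subgroup Γ) (hsup : A ⊔ B = G) (hcomm : ∀ a ∈ A, ∀ b ∈ B, a * b = b * a)
    (hG : Cfsg.pCore p ↥G = ⊥) : Cfsg.pCore p ↥B = ⊥ := by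
  have hBG : B ≤ G := hsup ▸ le_sup_right
  unfold Cfsg.pCore
  rw [sSup_eq_bot]
  rintro N ⟨hNn, hNp⟩
  -- the image of `N` in `Γ`
  set N' : Subgroup Γ := N.map B.subtype with hN'
  have hN'B : N' ≤ B := by
    rintro _ ⟨b, _, rfl⟩
    exact b.2
  have hN'p : IsPGroup p N' := hNp.map B.subtype
  -- `A` and `B` normalize `N'`
  have key : ∀ g : Γ, g ∈ A ∨ g ∈ B → ∀ x ∈ N', g * x * g⁻¹ ∈ N' := by
    rintro g (hg | hg) x hx
    · have h1 : g * x = x * g := hcomm g hg x (hN'B hx)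
      rw [h1, mul_inv_cancel_right]
      exact hx
    · obtain ⟨b, hb, rfl⟩ := hx
      refine ⟨⟨g, hg⟩ * b * ⟨g, hg⟩⁻¹, hNn.conj_mem b hb ⟨g, hg⟩, ?_⟩
      simp
  have hnorm : ∀ g : Γ, g ∈ A ∨ g ∈ B → g ∈ Subgroup.normalizer (N' : Set Γ) := by
    intro g hg
    rw [Subgroup.mem_normalizer_iff]
    intro x
    constructor
    · exact key g hg x
    · intro hx
      have hg' : g⁻¹ ∈ A ∨ g⁻¹ ∈ B := by
        rcases hg with hg | hg
        · exact Or.inl (A.inv_mem hg)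
        · exact Or.inr (B.inv_mem hg)
      have h1 := key g⁻¹ hg' _ hx
      have h2 : g⁻¹ * (g * x * g⁻¹) * g⁻¹⁻¹ = x := by group
      rwa [h2] at h1
  have hGN : G ≤ Subgroup.normalizer (N' : Set Γ) := by
    rw [← hsup]
    exact sup_le (fun a ha => hnorm a (Or.inl ha)) (fun b hb => hnorm b (Or.inr hb))
  -- the corresponding normal `p`-subgroup of `↥G`
  set M : Subgroup ↥G := N'.comap G.subtype with hM
  have hMp : IsPGroup p M := hN'p.comap_of_injective G.subtype G.subtype_injective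
  have hMn : M.Normal := by
    refine ⟨fun m hm g => ?_⟩
    rw [hM, Subgroup.mem_comap] at hm ⊢
    have h1 := (Subgroup.mem_normalizer_iff.mp (hGN g.2) _).mp hm
    simpa using h1
  have hMle : M ≤ Cfsg.pCore p ↥G := le_sSup ⟨hMn, hMp⟩
  rw [hG, le_bot_iff] at hMle
  rw [eq_bot_iff]
  intro n hn
  have h1 : (⟨(n : Γ), hBG n.2⟩ : ↥G) ∈ M := by
    rw [hM, Subgroup.mem_comap]
    exact ⟨n, hn, rfl⟩
  rw [hMle, Subgroup.mem_bot] at h1
  rw [Subgroup.mem_bot]
  have h2 : (n : Γ) = 1 := congrArg Subtype.val h1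
  exact Subtype.ext h2

end Cfsg.Agent.Helper93.McL
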