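import Cfsg.Agent.Lib.Helper93.McLA
import Cfsg.Agent.Lib.Helper93.McLB

/-!
# McL: existence of a block (SL or Sp) splitting off
-/

set_option autoImplicit false

namespace Cfsg.Agent.Helper93.McL

open Module

variable {F V : Type*} [Field F] [AddCommGroup V] [Module F V] [FiniteDimensional F V]

/-- a nonempty family of submodule-indexed data has a member of maximal `finrank` -/
private lemma helper41_exists_max_finrank (P : Submodule F V → Prop) (h : ∃ U, P U) :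
    ∃ U, P U ∧ ∀ U', P U' → finrank F U' ≤ finrank F U := by
  classical
  have hbdd : ∀ n, (∃ U, P U ∧ finrank F U = n) → n ≤ finrank F V := by
    rintro n ⟨U, -, rfl⟩
    exact Submodule.finrank_le U
  have hex : ∃ n, ∃ U, P U ∧ finrank F U = n := by
    obtain ⟨U, hU⟩ := h
    exact ⟨_, U, hU, rfl⟩
  obtain ⟨U, hU, hn⟩ := Nat.findGreatest_spec (P := fun n => ∃ U, P U ∧ finrank F U = n)
    (hbdd _ hex.choose_spec) hex.choose_spec
  refine ⟨U, hU, fun U' hU' => ?_⟩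
  rw [hn]
  exact Nat.le_findGreatest (hbdd _ ⟨U', hU', rfl⟩) ⟨U', hU', rfl⟩

/-- If `G` is good and has a root pair, there is a decomposition `V = U ⊕ C`, `2 ≤ dim U`, such that
either `G ⊇ SL(U) ⊕ 1` and every root pair lives in `U` or in `C`, or `G ⊇ Sp(U,B) ⊕ 1` and every
root pair is symplectic in `U` or lives in `C`. -/
theorem exists_block (h2 : (2 : F) ≠ 0) {G : Subgroup (V ≃ₗ[F] V)} (hG : Good G)
    (hne : ∃ (u : V) (φ : Dual F V), RP G u φ) :
    ∃ U C : Submodule F V, 2 ≤ finrank F U ∧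
      ((HasSL G U C ∧ ∀ (z : V) (ζ : Dual F V), RP G z ζ →
          (z ∈ U ∧ ∀ c ∈ C, ζ c = 0) ∨ (z ∈ C ∧ ∀ u ∈ U, ζ u = 0)) ∨
       (∃ B : LinearMap.BilinForm F V, HasSp G U C B ∧ ∀ (z : V) (ζ : Dual F V), RP G z ζ →
          (z ∈ U ∧ ∃ a : F, ζ = a • B z) ∨ (z ∈ C ∧ ∀ u ∈ U, ζ u = 0))) := by
  obtain ⟨u, φ, hu⟩ := hne
  obtain ⟨v, ψ, hv, hφv, hψu⟩ := hG.opp u φ hu
  obtain ⟨hSL2, hfr2⟩ := hasSL_of_opp hu hv hφv hψu
  by_cases h3 : ∃ U C : Submodule F V, HasSL G U C ∧ 3 ≤ finrank F U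
  · -- a maximal SL-block of dimension at least 3
    obtain ⟨U, ⟨⟨C, hUC, hU3⟩, hmax⟩⟩ := helper41_exists_max_finrank
      (fun U => ∃ C : Submodule F V, HasSL G U C ∧ 3 ≤ finrank F U)
      (by obtain ⟨U, C, h⟩ := h3; exact ⟨U, C, h⟩)
    have hmax' : ∀ U' C' : Submodule F V, HasSL G U' C' → finrank F U' ≤ finrank F U := by
      intro U' C' h'
      by_cases h'3 : 3 ≤ finrank F U'
      · exact hmax U' ⟨C', h', h'3⟩
      · omega
    refine ⟨U, C, by omega, Or.inl ⟨hUC, fun z ζ hz => kl_sl hG hUC hU3 hmax' hz⟩⟩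
  · -- no SL-block of dimension at least 3: a maximal Sp-block
    have hno : ∀ U C : Submodule F V, HasSL G U C → finrank F U ≤ 2 := by
      intro U C h
      by_contra hc
      exact h3 ⟨U, C, h, by omega⟩
    obtain ⟨B0, hB0⟩ := hasSp_of_hasSL_two hSL2 hfr2
    obtain ⟨U, ⟨⟨C, B, hUCB⟩, hmax⟩⟩ := helper41_exists_max_finrank
      (fun U => ∃ (C : Submodule F V) (B : LinearMap.BilinForm F V), HasSp G U C B)
      ⟨_, _, B0, hB0⟩
    have hmax' : ∀ (U' C' : Submodule F V) (B' : LinearMap.BilinForm F V), HasSp G U' C' B' →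
        finrank F U' ≤ finrank F U := fun U' C' B' h' => hmax U' ⟨C', B', h'⟩
    have hU2 : 2 ≤ finrank F U := by
      have := hmax' _ _ _ hB0
      omega
    have hUne : U ≠ ⊥ := by
      rintro rfl
      rw [finrank_bot] at hU2
      omega
    exact ⟨U, C, hU2, Or.inr ⟨B, hUCB, fun z ζ hz => kl_sp h2 hG hno hUCB hUne hmax' hz⟩⟩

end Cfsg.Agent.Helper93.McL
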