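import Cfsg.Agent.Lib.Helper93.McL0

/-!
# McL: the (strengthened) conclusion of S5075 as a predicate
-/

set_option autoImplicit false

namespace Cfsg.Agent.Helper93.McL

open Module

/-- The conclusion of S5075 for the group `G` (verbatim, with `H := G`), strengthened by
(S1) `W 0` is the fixed space of `G` and (S2) `W j.succ ≤ [V, G]`. -/
def Concl (p : ℕ) [Fact p.Prime] {V : Type*} [AddCommGroup V] [Module (ZMod p) V]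
    (G : Subgroup (V ≃ₗ[ZMod p] V)) : Prop :=
  ∃ (n : ℕ) (W : Fin (n + 1) → Submodule (ZMod p) V) (K : Fin n → Subgroup (V ≃ₗ[ZMod p] V)),
      (1 ≤ n ∧ DirectSum.IsInternal W ∧
      (∀ h ∈ G, ∀ i, (W i).map (h : V →ₗ[ZMod p] V) = W i) ∧
      (∀ j, K j ≤ G ∧ ((K j).subgroupOf G).Normal) ∧ ⨆ j, K j = G ∧
      (∀ j, K j ⊓ (⨆ j' ∈ {j' : Fin n | j' ≠ j}, K j') = ⊥) ∧
      (∀ j j', j ≠ j' → ∀ a ∈ K j, ∀ b ∈ K j', a * b = b * a) ∧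
      (∀ j, ∀ h ∈ K j, ∀ i : Fin (n + 1), i ≠ j.succ → ∀ v ∈ W i, h v = v) ∧
      (∀ j, ∃ ρ : ↥(K j) →* (↥(W j.succ) ≃ₗ[ZMod p] ↥(W j.succ)),
        (∀ (h : ↥(K j)) (v : ↥(W j.succ)), ((ρ h v : ↥(W j.succ)) : V) = (h : V ≃ₗ[ZMod p] V) (v : V)) ∧
        ((ρ.range : Set (↥(W j.succ) ≃ₗ[ZMod p] ↥(W j.succ))) =
            {f : ↥(W j.succ) ≃ₗ[ZMod p] ↥(W j.succ) | LinearMap.det (f : ↥(W j.succ) →ₗ[ZMod p] ↥(W j.succ)) = 1} ∨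
          ∃ B : LinearMap.BilinForm (ZMod p) ↥(W j.succ), B.IsAlt ∧ B.Nondegenerate ∧
            (ρ.range : Set (↥(W j.succ) ≃ₗ[ZMod p] ↥(W j.succ))) = {f : ↥(W j.succ) ≃ₗ[ZMod p] ↥(W j.succ) | ∀ x y, B (f x) (f y) = B x y}))) ∧
      (∀ v : V, v ∈ W 0 ↔ ∀ g ∈ G, g v = v) ∧
      (∀ j : Fin n, ∀ v ∈ W j.succ,
        v ∈ Submodule.span (ZMod p) {y : V | ∃ g ∈ G, ∃ x : V, y = g x - x})

end Cfsg.Agent.Helper93.McL
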