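import Cfsg.Agent.Lib.Helper93.McLC0

/-!
# McL pack Concl: the base case and the inductive step for `Concl`
-/

set_option autoImplicit false
set_option linter.style.haveILetI false
set_option linter.unusedSectionVars false
set_option linter.unusedVariables false

namespace Cfsg.Agent.Helper93.McL

open Module

section h22

variable {p : ℕ} [Fact p.Prime] {V : Type*} [AddCommGroup V] [Module (ZMod p) V]

/-- pointwise fixer of a submodule. -/
def h22_fixer (S : Submodule (ZMod p) V) : Subgroup (V ≃ₗ[ZMod p] V) where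
  carrier := {g | ∀ v ∈ S, g v = v}
  mul_mem' := fun {a b} ha hb v hv => by
    show a (b v) = v
    rw [hb v hv, ha v hv]
  one_mem' := fun v _ => rfl
  inv_mem' := fun {a} ha v hv => by
    show a.symm v = v
    rw [LinearEquiv.symm_apply_eq]
    exact (ha v hv).symm

theorem h22_mem_fixer {S : Submodule (ZMod p) V} {g : V ≃ₗ[ZMod p] V} :
    g ∈ h22_fixer S ↔ ∀ v ∈ S, g v = v := Iff.rfl

/-- fixer of a vector. -/
def h22_fixv (v : V) : Subgroup (V ≃ₗ[ZMod p] V) where
  carrier := {g | g v = v}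
  mul_mem' := fun {a b} ha hb => by
    show a (b v) = v
    rw [Set.mem_ofPred_eq.mp hb, Set.mem_ofPred_eq.mp ha]
  one_mem' := rfl
  inv_mem' := fun {a} ha => by
    show a.symm v = v
    rw [LinearEquiv.symm_apply_eq]
    exact (Set.mem_ofPred_eq.mp ha).symm

/-- setwise stabilizer of a submodule. -/
def h22_stab (S : Submodule (ZMod p) V) : Subgroup (V ≃ₗ[ZMod p] V) where
  carrier := {g | ∀ v, v ∈ S ↔ g v ∈ S}
  mul_mem' := fun {a b} ha hb v => by
    show v ∈ S ↔ a (b v) ∈ S
    rw [hb v, ha (b v)]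
  one_mem' := fun v => Iff.rfl
  inv_mem' := fun {a} ha v => by
    show v ∈ S ↔ a.symm v ∈ S
    rw [ha (a.symm v), LinearEquiv.apply_symm_apply]

theorem h22_map_eq_of_mem_stab {S : Submodule (ZMod p) V} {g : V ≃ₗ[ZMod p] V}
    (hg : g ∈ h22_stab S) : S.map (g : V →ₗ[ZMod p] V) = S := by
  ext x
  rw [Submodule.mem_map]
  constructor
  · rintro ⟨y, hy, rfl⟩
    exact (hg y).mp hy
  · intro hx
    refine ⟨g.symm x, ?_, by simp⟩
    have := (hg (g.symm x))
    rw [this]
    simpa using hx

theorem h22_fixer_le_stab (S : Submodule (ZMod p) V) : h22_fixer S ≤ h22_stab S := by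
  intro g hg v
  constructor
  · intro hv
    rw [hg v hv]
    exact hv
  · intro hv
    have h1 : g.symm (g v) = g v := (Subgroup.inv_mem _ hg) (g v) hv
    rw [LinearEquiv.symm_apply_apply] at h1
    rw [h1]
    exact hv

theorem h22_fixer_anti {S T : Submodule (ZMod p) V} (h : S ≤ T) : h22_fixer T ≤ h22_fixer S :=
  fun g hg v hv => hg v (h hv)

theorem h22_mem_stab_of_map_eq {S : Submodule (ZMod p) V} {g : V ≃ₗ[ZMod p] V}
    (hg : S.map (g : V →ₗ[ZMod p] V) = S) : g ∈ h22_stab S := by
  intro v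
  constructor
  · intro hv
    rw [← hg]
    exact Submodule.mem_map_of_mem hv
  · intro hv
    rw [← hg, Submodule.mem_map] at hv
    obtain ⟨y, hy, hyv⟩ := hv
    have : y = v := g.injective hyv
    rw [← this]
    exact hy

theorem h22_le_normalizer_of_comm {Γ : Type*} [Group Γ] {A B : Subgroup Γ}
    (h : ∀ a ∈ A, ∀ b ∈ B, a * b = b * a) : B ≤ Subgroup.normalizer (A : Set Γ) := by
  intro b hb
  rw [Subgroup.mem_normalizer_iff]
  intro n
  constructor
  · intro hn
    have : b * n * b⁻¹ = n := by rw [← h n hn b hb, mul_inv_cancel_right]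
    rw [this]
    exact hn
  · intro hn
    have h1 := h _ hn b hb
    have : n = b * n * b⁻¹ := by
      have h2 : b * n * b⁻¹ * b = b * (b * n * b⁻¹) := h1
      have h3 : b * n = b * (b * n * b⁻¹) := by simpa using h2
      exact mul_left_cancel h3
    rw [this]
    exact hn

theorem h22_eq_one_of_fixes {ι : Type*} {W : ι → Submodule (ZMod p) V} (htop : iSup W = ⊤)
    {g : V ≃ₗ[ZMod p] V} (hg : ∀ i, ∀ v ∈ W i, g v = v) : g = 1 := by
  have h1 : iSup W ≤ LinearMap.eqLocus (g : V →ₗ[ZMod p] V) LinearMap.id := by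
    apply iSup_le
    intro i v hv
    rw [LinearMap.mem_eqLocus]
    exact hg i v hv
  apply LinearEquiv.ext
  intro x
  have h2 : x ∈ LinearMap.eqLocus (g : V →ₗ[ZMod p] V) LinearMap.id := h1 (htop ▸ Submodule.mem_top)
  rw [LinearMap.mem_eqLocus] at h2
  exact h2

/-- the `ρ`-clause of `Concl`. -/
def h22_RhoOK (K0 : Subgroup (V ≃ₗ[ZMod p] V)) (W1 : Submodule (ZMod p) V) : Prop :=
  ∃ ρ : ↥K0 →* (↥W1 ≃ₗ[ZMod p] ↥W1),
    (∀ (h : ↥K0) (v : ↥W1), ((ρ h v : ↥W1) : V) = (h : V ≃ₗ[ZMod p] V) (v : V)) ∧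
    ((ρ.range : Set (↥W1 ≃ₗ[ZMod p] ↥W1)) =
        {f : ↥W1 ≃ₗ[ZMod p] ↥W1 | LinearMap.det (f : ↥W1 →ₗ[ZMod p] ↥W1) = 1} ∨
      ∃ B : LinearMap.BilinForm (ZMod p) ↥W1, B.IsAlt ∧ B.Nondegenerate ∧
        (ρ.range : Set (↥W1 ≃ₗ[ZMod p] ↥W1)) =
          {f : ↥W1 ≃ₗ[ZMod p] ↥W1 | ∀ x y, B (f x) (f y) = B x y})

theorem h22_rhoOK_bot (K0 : Subgroup (V ≃ₗ[ZMod p] V)) (W1 : Submodule (ZMod p) V)
    (hK : K0 = ⊥) (hW : W1 = ⊥) : h22_RhoOK K0 W1 := by
  subst hK hW
  refine ⟨1, ?_, Or.inl ?_⟩
  · intro h v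
    have hv : (v : V) = 0 := (Submodule.mem_bot _).mp v.2
    have hh : (h : V ≃ₗ[ZMod p] V) = 1 := Subgroup.mem_bot.mp h.2
    rw [hh]
    rfl
  · ext f
    simp only [MonoidHom.range_one, Subgroup.coe_bot, Set.mem_singleton_iff, Set.mem_ofPred_eq]
    have hsub : Subsingleton ↥(⊥ : Submodule (ZMod p) V) := inferInstance
    have hf : f = 1 := by
      apply LinearEquiv.ext
      intro x
      exact Subsingleton.elim _ _
    constructor
    · intro _
      rw [hf]
      simp
    · intro _
      exact hf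

end h22

/-- Base case: `n = 1`, `W = ![⊤, ⊥]`, `K = ![⊥]`; `SL` of the zero space is trivial. -/
theorem concl_bot (p : ℕ) [Fact p.Prime] {V : Type*} [AddCommGroup V] [Module (ZMod p) V]
    [Finite V] : Concl p (⊥ : Subgroup (V ≃ₗ[ZMod p] V)) := by
  classical
  refine ⟨1, Fin.cons ⊤ (fun _ => ⊥), fun _ => ⊥, ⟨le_refl 1, ?_, ?_, ?_, ?_, ?_, ?_, ?_, ?_⟩, ?_, ?_⟩
  · -- internal
    apply DirectSum.isInternal_submodule_of_iSupIndep_of_iSup_eq_top
    · rw [iSupIndep_def]
      intro i
      refine Fin.cases ?_ (fun j => ?_) i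
      · rw [Fin.cons_zero]
        have h1 : (⨆ (j : Fin 2) (_ : j ≠ 0), (Fin.cons ⊤ (fun _ => ⊥) : Fin 2 → Submodule (ZMod p) V) j) = ⊥ := by
          rw [eq_bot_iff]
          apply iSup_le
          intro j
          apply iSup_le
          intro hj
          refine Fin.cases (fun hj => absurd rfl hj) (fun k _ => ?_) j hj
          rw [Fin.cons_succ]
        rw [h1]
        exact disjoint_bot_right
      · rw [Fin.cons_succ]
        exact disjoint_bot_left
    · rw [eq_top_iff]
      have := le_iSup (Fin.cons ⊤ (fun _ => ⊥) : Fin 2 → Submodule (ZMod p) V) 0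
      rwa [Fin.cons_zero] at this
  · intro h hh i
    have h1 : h = 1 := Subgroup.mem_bot.mp hh
    subst h1
    apply h22_map_eq_of_mem_stab
    exact Subgroup.one_mem _
  · intro j
    refine ⟨le_refl _, ?_⟩
    rw [Subgroup.bot_subgroupOf]
    infer_instance
  · simp
  · intro j
    simp
  · intro j j' hjj'
    exact absurd (Subsingleton.elim j j') hjj'
  · intro j h hh i _ v _
    have h1 : h = 1 := Subgroup.mem_bot.mp hh
    subst h1
    rfl
  · intro j
    have := h22_rhoOK_bot (p := p) (V := V) ⊥ ((Fin.cons ⊤ (fun _ => ⊥) : Fin 2 → Submodule (ZMod p) V) j.succ) rfl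
      (by rw [Fin.cons_succ])
    exact this
  · intro v
    rw [Fin.cons_zero]
    constructor
    · intro _ g hg
      have h1 : g = 1 := Subgroup.mem_bot.mp hg
      subst h1
      rfl
    · intro _
      exact Submodule.mem_top
  · intro j v hv
    rw [Fin.cons_succ] at hv
    rw [(Submodule.mem_bot _).mp hv]
    exact Submodule.zero_mem _

theorem concl_step {p : ℕ} [Fact p.Prime] {V : Type*} [AddCommGroup V] [Module (ZMod p) V]
    [Finite V] (G GU GC : Subgroup (V ≃ₗ[ZMod p] V)) (U C : Submodule (ZMod p) V)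
    (hUC : IsCompl U C) (hsup : GU ⊔ GC = G)
    (hGU_C : ∀ g ∈ GU, ∀ c ∈ C, g c = c) (hGU_U : ∀ g ∈ GU, ∀ u ∈ U, g u ∈ U)
    (hGC_U : ∀ g ∈ GC, ∀ u ∈ U, g u = u) (hGC_C : ∀ g ∈ GC, ∀ x : V, g x - x ∈ C)
    (hfix : ∀ u ∈ U, (∀ g ∈ GU, g u = u) → u = 0)
    (hspanU : U ≤ Submodule.span (ZMod p) {y : V | ∃ g ∈ GU, ∃ x : V, y = g x - x})
    (hρ : ∃ ρ : ↥GU →* (↥U ≃ₗ[ZMod p] ↥U),
        (∀ (h : ↥GU) (v : ↥U), ((ρ h v : ↥U) : V) = (h : V ≃ₗ[ZMod p] V) (v : V)) ∧
        ((ρ.range : Set (↥U ≃ₗ[ZMod p] ↥U)) =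
            {f : ↥U ≃ₗ[ZMod p] ↥U | LinearMap.det (f : ↥U →ₗ[ZMod p] ↥U) = 1} ∨
          ∃ B : LinearMap.BilinForm (ZMod p) ↥U, B.IsAlt ∧ B.Nondegenerate ∧
            (ρ.range : Set (↥U ≃ₗ[ZMod p] ↥U)) = {f : ↥U ≃ₗ[ZMod p] ↥U | ∀ x y, B (f x) (f y) = B x y}))
    (hC : Concl p GC) : Concl p G := by
  classical
  subst hsup
  obtain ⟨n', W', K', ⟨hn', hI', hinv', hK', hsupK', hdisj', hcomm', hfix', hρ'⟩, hS1', hS2'⟩ := hC
  obtain ⟨hind', htop'⟩ := (DirectSum.isInternal_submodule_iff_iSupIndep_and_iSup_eq_top W').mp hI'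
  have hρ0 : h22_RhoOK GU U := hρ
  have hρs : ∀ j, h22_RhoOK (K' j) (W' j.succ) := hρ'
  -- basic facts
  have hUW0 : U ≤ W' 0 := fun u hu => (hS1' u).mpr (fun g hg => hGC_U g hg u hu)
  have hspanC : Submodule.span (ZMod p) {y : V | ∃ g ∈ GC, ∃ x : V, y = g x - x} ≤ C := by
    rw [Submodule.span_le]
    rintro y ⟨g, hg, x, rfl⟩
    exact hGC_C g hg x
  have hWC : ∀ j : Fin n', W' j.succ ≤ C := fun j v hv => hspanC (hS2' j v hv)
  have hUCbot : U ⊓ C = ⊥ := hUC.inf_eq_bot
  have hUCtop : U ⊔ C = ⊤ := hUC.sup_eq_top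
  have hdecomp : ∀ x : V, ∃ u ∈ U, ∃ c ∈ C, u + c = x := fun x =>
    Submodule.mem_sup.mp (hUCtop ▸ (Submodule.mem_top : x ∈ (⊤ : Submodule (ZMod p) V)))
  have hKGC : ∀ j, K' j ≤ GC := fun j => (hK' j).1
  have hGC_W0 : ∀ g ∈ GC, ∀ v ∈ W' 0, g v = v := fun g hg v hv => (hS1' v).mp hv g hg
  have hGC_Cmem : ∀ g ∈ GC, ∀ c ∈ C, g c ∈ C := by
    intro g hg c hc
    have := C.add_mem (hGC_C g hg c) hc
    simpa using this
  obtain ⟨X, hX⟩ : ∃ X : Submodule (ZMod p) V, X = C ⊓ W' 0 := ⟨_, rfl⟩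
  obtain ⟨R, hR⟩ : ∃ R : Submodule (ZMod p) V, R = ⨆ j : Fin n', W' j.succ := ⟨_, rfl⟩
  have hXC : X ≤ C := hX ▸ inf_le_left
  have hXW0 : X ≤ W' 0 := hX ▸ inf_le_right
  have hsR : ∀ j : Fin n', W' j.succ ≤ R := fun j => hR ▸ le_iSup (fun j : Fin n' => W' j.succ) j
  have hW0R : W' 0 ⊓ R = ⊥ := by
    have h1 := iSupIndep_def.mp hind' 0
    have h2 : R ≤ ⨆ (j) (_ : j ≠ 0), W' j := by
      rw [hR]
      exact iSup_le fun j => le_iSup₂_of_le j.succ (Fin.succ_ne_zero j) le_rfl
    exact (h1.mono_right h2).eq_bot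
  have hW0Rtop : W' 0 ⊔ R = ⊤ := by
    rw [eq_top_iff, ← htop']
    apply iSup_le
    intro i
    refine Fin.cases ?_ (fun j => ?_) i
    · exact le_sup_left
    · exact le_sup_of_le_right (hsR j)
  have hW0eq : W' 0 = U ⊔ X := by
    have h1 := sup_inf_assoc_of_le C hUW0
    rw [hUCtop, top_inf_eq] at h1
    rw [hX]
    exact h1
  -- the new families
  obtain ⟨W, hW⟩ : ∃ W : Fin (n' + 1 + 1) → Submodule (ZMod p) V,
      W = Fin.cons X (Fin.cons U (fun j => W' j.succ)) := ⟨_, rfl⟩
  obtain ⟨K, hK⟩ : ∃ K : Fin (n' + 1) → Subgroup (V ≃ₗ[ZMod p] V), K = Fin.cons GU K' := ⟨_, rfl⟩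
  have hW0 : W 0 = X := by rw [hW, Fin.cons_zero]
  have hW1 : W (Fin.succ 0) = U := by rw [hW, Fin.cons_succ, Fin.cons_zero]
  have hWs : ∀ j : Fin n', W j.succ.succ = W' j.succ := by
    intro j
    rw [hW, Fin.cons_succ, Fin.cons_succ]
  have hK0 : K 0 = GU := by rw [hK, Fin.cons_zero]
  have hKs : ∀ j : Fin n', K j.succ = K' j := by
    intro j
    rw [hK, Fin.cons_succ]
  -- `GU` and `GC` commute and meet trivially
  have hcommUC : ∀ a ∈ GU, ∀ b ∈ GC, a * b = b * a := by
    intro a ha b hb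
    apply LinearEquiv.ext
    intro x
    obtain ⟨u, hu, c, hc, rfl⟩ := hdecomp x
    show a (b (u + c)) = b (a (u + c))
    rw [map_add, map_add, map_add, map_add, hGC_U b hb u hu, hGU_C a ha c hc,
      hGU_C a ha _ (hGC_Cmem b hb c hc), hGC_U b hb _ (hGU_U a ha u hu)]
  have hGUGC : GU ⊓ GC = ⊥ := by
    rw [eq_bot_iff]
    rintro g ⟨hg1, hg2⟩
    rw [Subgroup.mem_bot]
    apply LinearEquiv.ext
    intro x
    obtain ⟨u, hu, c, hc, rfl⟩ := hdecomp x
    show g (u + c) = u + c
    rw [map_add, hGC_U g hg2 u hu, hGU_C g hg1 c hc]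
  have hGU_fixC : GU ≤ h22_fixer C := fun g hg => hGU_C g hg
  have hGC_fixU : GC ≤ h22_fixer U := fun g hg => hGC_U g hg
  have hGC_fixW0 : GC ≤ h22_fixer (W' 0) := fun g hg => hGC_W0 g hg
  refine ⟨n' + 1, W, K, ⟨Nat.le_add_left 1 n', ?_, ?_, ?_, ?_, ?_, ?_, ?_, ?_⟩, ?_, ?_⟩
  · -- internal
    apply DirectSum.isInternal_submodule_of_iSupIndep_of_iSup_eq_top
    · rw [iSupIndep_def]
      intro i
      refine Fin.cases ?_ (fun i1 => Fin.cases ?_ (fun j0 => ?_) i1) i
      · -- index 0
        rw [hW0]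
        have hle : (⨆ (j) (_ : j ≠ 0), W j) ≤ U ⊔ R := by
          apply iSup_le
          intro j
          apply iSup_le
          refine Fin.cases (fun hj => absurd rfl hj) (fun j1 _ => ?_) j
          refine Fin.cases ?_ (fun j2 => ?_) j1
          · rw [hW1]
            exact le_sup_left
          · rw [hWs]
            exact le_sup_of_le_right (hsR j2)
        refine Disjoint.mono_right hle ?_
        rw [Submodule.disjoint_def]
        intro x hxX hx
        obtain ⟨u, hu, r, hr, rfl⟩ := Submodule.mem_sup.mp hx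
        have hr0 : r ∈ W' 0 ⊓ R := by
          refine ⟨?_, hr⟩
          have := (W' 0).sub_mem (hXW0 hxX) (hUW0 hu)
          simpa using this
        rw [hW0R, Submodule.mem_bot] at hr0
        subst hr0
        rw [add_zero] at hxX ⊢
        have : u ∈ U ⊓ C := ⟨hu, hXC hxX⟩
        rw [hUCbot, Submodule.mem_bot] at this
        exact this
      · -- index 1
        rw [hW1]
        have hle : (⨆ (j) (_ : j ≠ Fin.succ 0), W j) ≤ X ⊔ R := by
          apply iSup_le
          intro j
          apply iSup_le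
          refine Fin.cases (fun _ => ?_) (fun j1 => ?_) j
          · rw [hW0]
            exact le_sup_left
          · refine Fin.cases (fun hj => absurd rfl hj) (fun j2 _ => ?_) j1
            rw [hWs]
            exact le_sup_of_le_right (hsR j2)
        refine Disjoint.mono_right hle ?_
        rw [Submodule.disjoint_def]
        intro u hu hx
        obtain ⟨x, hxX, r, hr, hxr⟩ := Submodule.mem_sup.mp hx
        have hr0 : r ∈ W' 0 ⊓ R := by
          refine ⟨?_, hr⟩
          have := (W' 0).sub_mem (hUW0 hu) (hXW0 hxX)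
          rw [← hxr] at this
          simpa using this
        rw [hW0R, Submodule.mem_bot] at hr0
        subst hr0
        rw [add_zero] at hxr
        subst hxr
        have : x ∈ U ⊓ C := ⟨hu, hXC hxX⟩
        rw [hUCbot, Submodule.mem_bot] at this
        exact this
      · -- index j0 + 2
        rw [hWs]
        have hle : (⨆ (j) (_ : j ≠ j0.succ.succ), W j) ≤ ⨆ (j) (_ : j ≠ j0.succ), W' j := by
          apply iSup_le
          intro j
          apply iSup_le
          refine Fin.cases (fun _ => ?_) (fun j1 => ?_) j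
          · rw [hW0]
            exact hXW0.trans (le_iSup₂_of_le 0 (Fin.succ_ne_zero j0).symm le_rfl)
          · refine Fin.cases (fun _ => ?_) (fun j2 hj => ?_) j1
            · rw [hW1]
              exact hUW0.trans (le_iSup₂_of_le 0 (Fin.succ_ne_zero j0).symm le_rfl)
            · rw [hWs]
              have hne : j2.succ ≠ j0.succ := fun h => hj (by rw [h])
              exact le_iSup₂_of_le j2.succ hne le_rfl
        exact (iSupIndep_def.mp hind' j0.succ).mono_right hle
    · rw [eq_top_iff, ← hW0Rtop, hW0eq]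
      apply sup_le
      · apply sup_le
        · exact hW1 ▸ le_iSup W (Fin.succ 0)
        · exact hW0 ▸ le_iSup W 0
      · rw [hR]
        apply iSup_le
        intro j
        exact hWs j ▸ le_iSup W j.succ.succ
  · -- invariance
    intro h hh i
    apply h22_map_eq_of_mem_stab
    revert h
    change GU ⊔ GC ≤ h22_stab (W i)
    refine Fin.cases ?_ (fun i1 => Fin.cases ?_ (fun j0 => ?_) i1) i
    · rw [hW0]
      apply sup_le
      · exact (hGU_fixC.trans (h22_fixer_anti hXC)).trans (h22_fixer_le_stab X)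
      · exact (hGC_fixW0.trans (h22_fixer_anti hXW0)).trans (h22_fixer_le_stab X)
    · rw [hW1]
      apply sup_le
      · intro g hg v
        constructor
        · exact hGU_U g hg v
        · intro hv
          have := hGU_U g⁻¹ (GU.inv_mem hg) _ hv
          have h2 : g⁻¹ (g v) = v := g.symm_apply_apply v
          rwa [h2] at this
      · exact hGC_fixU.trans (h22_fixer_le_stab U)
    · rw [hWs]
      apply sup_le
      · exact (hGU_fixC.trans (h22_fixer_anti (hWC j0))).trans (h22_fixer_le_stab _)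
      · intro g hg
        exact h22_mem_stab_of_map_eq (hinv' g hg j0.succ)
  · -- normality
    intro j
    refine Fin.cases ?_ (fun j0 => ?_) j
    · rw [hK0]
      refine ⟨le_sup_left, ?_⟩
      rw [Subgroup.normal_subgroupOf_iff_le_normalizer le_sup_left]
      exact sup_le Subgroup.le_normalizer (h22_le_normalizer_of_comm hcommUC)
    · rw [hKs]
      refine ⟨(hKGC j0).trans le_sup_right, ?_⟩
      rw [Subgroup.normal_subgroupOf_iff_le_normalizer ((hKGC j0).trans le_sup_right)]
      apply sup_le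
      · apply h22_le_normalizer_of_comm
        intro a ha b hb
        exact (hcommUC b hb a (hKGC j0 ha)).symm
      · exact (Subgroup.normal_subgroupOf_iff_le_normalizer (hKGC j0)).mp (hK' j0).2
  · -- iSup K
    apply le_antisymm
    · apply iSup_le
      intro j
      refine Fin.cases ?_ (fun j0 => ?_) j
      · rw [hK0]
        exact le_sup_left
      · rw [hKs]
        exact (hKGC j0).trans le_sup_right
    · apply sup_le
      · exact hK0 ▸ le_iSup K 0
      · rw [← hsupK']
        apply iSup_le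
        intro j
        exact hKs j ▸ le_iSup K j.succ
  · -- independence of the `K j`
    intro j
    refine Fin.cases ?_ (fun j0 => ?_) j
    · rw [hK0, eq_bot_iff, ← hGUGC]
      apply inf_le_inf_left
      apply iSup_le
      intro j'
      apply iSup_le
      refine Fin.cases (fun hj => absurd rfl hj) (fun j1 _ => ?_) j'
      rw [hKs]
      exact hKGC j1
    · rw [hKs, eq_bot_iff]
      intro k hk
      rw [Subgroup.mem_bot]
      have hk1 : k ∈ K' j0 := hk.1
      have hk2 : k ∈ h22_fixer (W' j0.succ) := by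
        have hle : (⨆ j' ∈ {j' : Fin (n' + 1) | j' ≠ j0.succ}, K j') ≤ h22_fixer (W' j0.succ) := by
          apply iSup_le
          intro j'
          apply iSup_le
          refine Fin.cases (fun _ => ?_) (fun j1 hj => ?_) j'
          · rw [hK0]
            exact hGU_fixC.trans (h22_fixer_anti (hWC j0))
          · rw [hKs]
            intro g hg v hv
            have hne : j0.succ ≠ j1.succ := fun h => hj h.symm
            exact hfix' j1 g hg j0.succ hne v hv
        exact hle hk.2
      apply h22_eq_one_of_fixes htop'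
      intro i v hv
      by_cases hi : i = j0.succ
      · subst hi
        exact hk2 v hv
      · exact hfix' j0 k hk1 i hi v hv
  · -- commuting
    intro j j' hjj' a ha b hb
    revert hjj' a ha b hb
    refine Fin.cases ?_ (fun j0 => ?_) j
    · refine Fin.cases (fun h => absurd rfl h) (fun j1 => ?_) j'
      intro _ a ha b hb
      rw [hK0] at ha
      rw [hKs] at hb
      exact hcommUC a ha b (hKGC j1 hb)
    · refine Fin.cases ?_ (fun j1 => ?_) j'
      · intro _ a ha b hb
        rw [hK0] at hb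
        rw [hKs] at ha
        exact (hcommUC b hb a (hKGC j0 ha)).symm
      · intro hne a ha b hb
        rw [hKs] at ha hb
        have hne' : j0 ≠ j1 := fun h => hne (by rw [h])
        exact hcomm' j0 j1 hne' a ha b hb
  · -- supports
    intro j h hh i hi v hv
    revert h hh i hi v hv
    refine Fin.cases ?_ (fun j0 => ?_) j
    · intro h hh i
      rw [hK0] at hh
      refine Fin.cases ?_ (fun i1 => Fin.cases ?_ (fun i2 => ?_) i1) i
      · intro _ v hv
        rw [hW0] at hv
        exact hGU_C h hh v (hXC hv)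
      · intro hi
        exact absurd rfl hi
      · intro _ v hv
        rw [hWs] at hv
        exact hGU_C h hh v (hWC i2 hv)
    · intro h hh i
      rw [hKs] at hh
      refine Fin.cases ?_ (fun i1 => Fin.cases ?_ (fun i2 => ?_) i1) i
      · intro _ v hv
        rw [hW0] at hv
        exact hGC_W0 h (hKGC j0 hh) v (hXW0 hv)
      · intro _ v hv
        rw [hW1] at hv
        exact hGC_U h (hKGC j0 hh) v hv
      · intro hi v hv
        rw [hWs] at hv
        have hne : i2.succ ≠ j0.succ := fun h => hi (by rw [h])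
        exact hfix' j0 h hh i2.succ hne v hv
  · -- the representations
    change ∀ j, h22_RhoOK (K j) (W j.succ)
    intro j
    refine Fin.cases ?_ (fun j0 => ?_) j
    · rw [hK0, hW1]
      exact hρ0
    · rw [hKs, hWs]
      exact hρs j0
  · -- fixed space
    intro v
    rw [hW0]
    constructor
    · intro hv g hg
      have h1 : GU ⊔ GC ≤ h22_fixer X :=
        sup_le (hGU_fixC.trans (h22_fixer_anti hXC)) (hGC_fixW0.trans (h22_fixer_anti hXW0))
      exact h1 hg v hv
    · intro hv
      have hvW0 : v ∈ W' 0 := (hS1' v).mpr (fun g hg => hv g (Subgroup.mem_sup_right hg))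
      obtain ⟨u, hu, c, hc, rfl⟩ := hdecomp v
      have hu0 : u = 0 := by
        apply hfix u hu
        intro g hg
        have h1 := hv g (Subgroup.mem_sup_left hg)
        rw [map_add, hGU_C g hg c hc] at h1
        exact add_right_cancel h1
      subst hu0
      rw [zero_add] at hvW0 ⊢
      rw [hX]
      exact ⟨hc, hvW0⟩
  · -- commutator space
    intro j
    refine Fin.cases ?_ (fun j0 => ?_) j
    · intro v hv
      rw [hW1] at hv
      refine Submodule.span_mono ?_ (hspanU hv)
      rintro y ⟨g, hg, x, rfl⟩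
      exact ⟨g, Subgroup.mem_sup_left hg, x, rfl⟩
    · intro v hv
      rw [hWs] at hv
      refine Submodule.span_mono ?_ (hS2' j0 v hv)
      rintro y ⟨g, hg, x, rfl⟩
      exact ⟨g, Subgroup.mem_sup_right hg, x, rfl⟩

end Cfsg.Agent.Helper93.McL
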