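import Cfsg.Agent.Lib.Helper93.McLN
import Cfsg.Agent.Lib.Helper93.McL2

/-!
# McL pack F: without `SL₃`-blocks, axes are unique and perpendicularity is symmetric
-/

set_option autoImplicit false

namespace Cfsg.Agent.Helper93.McL

open Module

variable {F V : Type*} [Field F] [AddCommGroup V] [Module F V] [FiniteDimensional F V]

/-- Root pairs with the same centre: nonzero linear combinations of the axes are axes. -/
lemma h58_rp_lin {G : Subgroup (V ≃ₗ[F] V)} {u : V} {φ₁ φ₂ : Dual F V} (h1 : RP G u φ₁)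
    (h2 : RP G u φ₂) (a b : F) (hne : a • φ₁ + b • φ₂ ≠ 0) : RP G u (a • φ₁ + b • φ₂) := by
  obtain ⟨hu, _, h13, h14⟩ := h1
  obtain ⟨_, _, h23, h24⟩ := h2
  refine ⟨hu, hne, by simp [h13, h23], fun c => ?_⟩
  have e : c • (a • φ₁ + b • φ₂) = (c * a) • φ₁ + (c * b) • φ₂ := by
    rw [smul_add, smul_smul, smul_smul]
  rw [e, ← tv_mul_axis (by simp [h13]) (by simp [h23])]
  exact G.mul_mem (h14 _) (h24 _)

/-- (F1) If `G` has no `SL`-block of dimension `≥ 3`, two root pairs with the same centre have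
proportional axes. -/
theorem axis_unique {G : Subgroup (V ≃ₗ[F] V)} (hG : Good G)
    (hno : ∀ U C : Submodule F V, HasSL G U C → finrank F U ≤ 2)
    {u : V} {φ₁ φ₂ : Dual F V} (h1 : RP G u φ₁) (h2 : RP G u φ₂) : ∃ c : F, φ₂ = c • φ₁ := by
  by_contra hcon
  push_neg at hcon
  -- opposite pair of `(u, φ₁)`
  obtain ⟨v, ψ, hv, hφ₁v, hψu⟩ := hG.opp u φ₁ h1
  -- `γ`
  set k : F := φ₂ v / φ₁ v with hk
  have hγdef : (-k) • φ₁ + (1 : F) • φ₂ ≠ 0 := by
    intro h0
    apply hcon k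
    rw [← sub_eq_zero, ← h0]
    module
  have hγ : RP G u ((-k) • φ₁ + (1 : F) • φ₂) := h58_rp_lin h1 h2 (-k) 1 hγdef
  set γ : Dual F V := (-k) • φ₁ + (1 : F) • φ₂ with hγe
  have hγu : γ u = 0 := hγ.2.2.1
  have hγv : γ v = 0 := by
    rw [hγe]
    simp only [LinearMap.add_apply, LinearMap.smul_apply, smul_eq_mul, one_mul, hk]
    field_simp
    ring
  have hγvR : RP G v γ := RP.comm hγ hv hγv hψu
  -- the `SL₂`-block
  obtain ⟨hSL, hfr⟩ := hasSL_of_opp h1 hv hφ₁v hψu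
  set U₂ : Submodule F V := Submodule.span F {u, v} with hU₂
  set C₂ : Submodule F V := LinearMap.ker φ₁ ⊓ LinearMap.ker ψ with hC₂
  have huU : u ∈ U₂ := Submodule.subset_span (by simp)
  have hγU : ∀ x ∈ U₂, γ x = 0 := by
    intro x hx
    obtain ⟨a, b, rfl⟩ := Submodule.mem_span_pair.mp hx
    simp [hγu, hγv]
  have hU2 : ∀ x ∈ U₂, ∀ a : F, tv x (a • γ) ∈ G := by
    intro x hx a
    obtain ⟨r, s, rfl⟩ := Submodule.mem_span_pair.mp hx
    have e1 : (a • γ) (r • u) = 0 := by simp [hγu]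
    have e2 : (a • γ) (s • v) = 0 := by simp [hγv]
    rw [← tv_mul_center e1 e2, tv_smul_swap, tv_smul_swap, smul_smul, smul_smul]
    exact G.mul_mem (hγ.2.2.2 _) (hγvR.2.2.2 _)
  -- opposite pair of `(u, γ)`
  obtain ⟨w, ω, hw, hγw, hωu⟩ := hG.opp u γ hγ
  obtain ⟨wU, hwU, wC, hwC, hwe⟩ : ∃ y ∈ U₂, ∃ z ∈ C₂, y + z = w := by
    have : w ∈ U₂ ⊔ C₂ := by rw [hSL.1.sup_eq_top]; trivial
    exact Submodule.mem_sup.mp this
  have hγwC : γ wC ≠ 0 := by
    have : γ w = γ wC := by rw [← hwe, map_add, hγU wU hwU, zero_add]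
    rwa [this] at hγw
  -- conjugate so that the centre lies in `C₂`
  set t : F := -(γ w)⁻¹ with ht
  have hg : tv wU (t • γ) ∈ G := hU2 wU hwU t
  have htw : (t • γ) wU = 0 := by simp [hγU wU hwU]
  have hgw : tv wU (t • γ) w = wC := by
    rw [tv_apply htw]
    have : (t • γ) w = -1 := by
      simp only [LinearMap.smul_apply, smul_eq_mul, ht]
      field_simp
    rw [this, ← hwe]
    simp
  have hgu : (tv wU (t • γ)).symm u = u := by
    rw [LinearEquiv.symm_apply_eq, tv_apply htw]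
    simp [hγu]
  have hRc := RP.conj hw hg
  rw [hgw] at hRc
  have hω' : ∃ x ∈ U₂, (ω ∘ₗ ((tv wU (t • γ)).symm : V →ₗ[F] V)) x ≠ 0 := by
    refine ⟨u, huU, ?_⟩
    simp only [LinearMap.coe_comp, LinearEquiv.coe_coe, Function.comp_apply]
    rw [hgu]
    exact hωu
  have h2U : 2 ≤ finrank F U₂ := by rw [hfr]
  have hstep1 := rp_center_part0 hSL h2U hwC hRc hω'
  have hSL3 := hasSL_succ hSL hwC hγU hγwC hstep1 hU2
  have hwC0 : wC ≠ 0 := by
    intro h0
    apply hγwC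
    rw [h0, map_zero]
  have hfr3 := finrank_sup_span hSL.1 hwC hwC0
  have := hno _ _ hSL3
  rw [hfr3, hfr] at this
  omega

/-- (F2) Perpendicularity is symmetric. -/
theorem symm_perp {G : Subgroup (V ≃ₗ[F] V)} (hG : Good G)
    (hno : ∀ U C : Submodule F V, HasSL G U C → finrank F U ≤ 2)
    {u v : V} {φ ψ : Dual F V} (h1 : RP G u φ) (h2 : RP G v ψ) (h : φ v = 0) : ψ u = 0 := by
  by_contra hψu
  have hvφ : RP G v φ := RP.comm h1 h2 h hψu
  obtain ⟨c, hc⟩ := axis_unique hG hno h2 hvφ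
  have hφu : φ u = 0 := h1.2.2.1
  rw [hc] at hφu
  simp only [LinearMap.smul_apply, smul_eq_mul] at hφu
  rcases mul_eq_zero.mp hφu with h0 | h0
  · apply h1.2.1
    rw [hc, h0, zero_smul]
  · exact hψu h0

end Cfsg.Agent.Helper93.McL
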