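import Cfsg.Agent.Lib.Helper93.SympMax

set_option autoImplicit false
set_option linter.unusedSectionVars false

namespace Cfsg.Agent.Helper93

open Matrix Cfsg.Geo

variable {ι : Type} [Fintype ι] [DecidableEq ι] {F : Type*} [Field F]
variable {f : (ι → F) → (ι → F) → F}

/-- `g` is an isometry of `f` -/
def Isom (f : (ι → F) → (ι → F) → F) (g : GL ι F) : Prop :=
  ∀ x y, f ((g : Matrix ι ι F) *ᵥ x) ((g : Matrix ι ι F) *ᵥ y) = f x y

lemma Isom.mul {g h : GL ι F} (hg : Isom f g) (hh : Isom f h) : Isom f (g * h) := by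
  intro x y
  rw [Units.val_mul, ← Matrix.mulVec_mulVec, ← Matrix.mulVec_mulVec, hg, hh]

lemma Isom.one : Isom f (1 : GL ι F) := by
  intro x y; simp

lemma Isom.inv {g : GL ι F} (hg : Isom f g) : Isom f g⁻¹ := by
  intro x y
  have h := hg (((g⁻¹ : GL ι F) : Matrix ι ι F) *ᵥ x) (((g⁻¹ : GL ι F) : Matrix ι ι F) *ᵥ y)
  rw [Matrix.mulVec_mulVec, Matrix.mulVec_mulVec, ← Units.val_mul, mul_inv_cancel, Units.val_one,
    Matrix.one_mulVec, Matrix.one_mulVec] at h
  exact h.symm

/-- the subgroup generated by the symplectic transvections -/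
def stvGroup (hf : IsSymplecticForm f) : Subgroup (GL ι F) :=
  Subgroup.closure {g | ∃ v c, g = stv hf v c}

lemma stv_mem_stvGroup (hf : IsSymplecticForm f) (v : ι → F) (c : F) : stv hf v c ∈ stvGroup hf :=
  Subgroup.subset_closure ⟨v, c, rfl⟩

/-- the fixed space of `g` -/
def fixSub (g : GL ι F) : Submodule F (ι → F) where
  carrier := {x | (g : Matrix ι ι F) *ᵥ x = x}
  add_mem' := by
    intro a b ha hb
    simp only [Set.mem_ofPred_eq] at ha hb ⊢
    rw [Matrix.mulVec_add, ha, hb]
  zero_mem' := by simp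
  smul_mem' := by
    intro c a ha
    simp only [Set.mem_ofPred_eq] at ha ⊢
    rw [Matrix.mulVec_smul, ha]

lemma mem_fixSub (g : GL ι F) (x : ι → F) : x ∈ fixSub g ↔ (g : Matrix ι ι F) *ᵥ x = x := Iff.rfl

/-- a vector outside a subspace pairs non-trivially with some vector of the (right) perp -/
lemma exists_perp_pairing (hf : IsSymplecticForm f) (S : Submodule F (ι → F)) (a : ι → F)
    (ha : a ∉ S) : ∃ p, (∀ y ∈ S, f y p = 0) ∧ f a p ≠ 0 := by
  obtain ⟨χ, hχS, hχa⟩ := exists_functional S a ha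
  obtain ⟨p, hp⟩ := exists_fvec_eq hf χ
  refine ⟨p, fun y hy => ?_, ?_⟩
  · rw [← fvec_dot hf.bilinear, hp]; exact hχS y hy
  · rw [← fvec_dot hf.bilinear, hp]; exact hχa

/-- key step: enlarge the fixed space by multiplying with transvections -/
lemma exists_stv_fix_lt (hf : IsSymplecticForm f) (g : GL ι F) (hg : Isom f g) (x : ι → F)
    (hx : (g : Matrix ι ι F) *ᵥ x ≠ x) :
    ∃ t ∈ stvGroup hf, fixSub g < fixSub (t * g) := by
  have hb := hf.bilinear
  set gx := (g : Matrix ι ι F) *ᵥ x with hgx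
  have hfix : ∀ y ∈ fixSub g, f y gx = f y x := by
    intro y hy
    have := hg y x
    rw [(mem_fixSub g y).mp hy] at this
    exact this
  by_cases h1 : f x gx ≠ 0
  · -- one transvection
    have h2 : f gx x ≠ 0 := by rw [hf.skew]; exact neg_ne_zero.mpr h1
    refine ⟨stv hf (x - gx) (f gx x)⁻¹, stv_mem_stvGroup hf _ _, ?_⟩
    have hmap : ((stv hf (x - gx) (f gx x)⁻¹ : GL ι F) : Matrix ι ι F) *ᵥ gx = x := by
      rw [stv_apply, form_sub_right hb, hf.alternating, sub_zero, inv_mul_cancel₀ h2, one_smul]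
      abel
    rw [SetLike.lt_iff_le_and_exists]
    refine ⟨?_, x, ?_, fun h => hx ((mem_fixSub g x).mp h)⟩
    · intro y hy
      rw [mem_fixSub, Units.val_mul, ← Matrix.mulVec_mulVec, (mem_fixSub g y).mp hy, stv_apply,
        form_sub_right hb, hfix y hy, sub_self, mul_zero, zero_smul, add_zero]
    · rw [mem_fixSub, Units.val_mul, ← Matrix.mulVec_mulVec]
      exact hmap
  · push Not at h1
    have h1' : f gx x = 0 := by rw [hf.skew, h1, neg_zero]
    -- vectors p, q in the perp of the fixed space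
    have hgx_notfix : gx ∉ fixSub g := by
      intro h
      rw [mem_fixSub] at h
      apply hx
      have h' : (g : Matrix ι ι F) *ᵥ gx = (g : Matrix ι ι F) *ᵥ x := h.trans hgx
      have := congrArg (fun y => ((g⁻¹ : GL ι F) : Matrix ι ι F) *ᵥ y) h'
      simp only [Matrix.mulVec_mulVec, ← Units.val_mul, inv_mul_cancel, Units.val_one,
        Matrix.one_mulVec] at this
      exact this
    have hx_notfix : x ∉ fixSub g := fun h => hx ((mem_fixSub g x).mp h)
    obtain ⟨p, hpS, hp⟩ := exists_perp_pairing hf (fixSub g) gx hgx_notfix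
    obtain ⟨q, hqS, hq⟩ := exists_perp_pairing hf (fixSub g) x hx_notfix
    -- z0 in the perp with both pairings nonzero
    obtain ⟨z0, hz0S, hz0a, hz0b⟩ : ∃ z0, (∀ y ∈ fixSub g, f y z0 = 0) ∧ f gx z0 ≠ 0 ∧ f x z0 ≠ 0 := by
      by_cases hc1 : f x p ≠ 0
      · exact ⟨p, hpS, hp, hc1⟩
      by_cases hc2 : f gx q ≠ 0
      · exact ⟨q, hqS, hc2, hq⟩
      push Not at hc1 hc2
      refine ⟨p + q, fun y hy => ?_, ?_, ?_⟩
      · rw [hb.add_right, hpS y hy, hqS y hy, add_zero]
      · rw [hb.add_right, hc2, add_zero]; exact hp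
      · rw [hb.add_right, hc1, zero_add]; exact hq
    set z := x + z0 with hz
    have hgxz : f gx z ≠ 0 := by rw [hz, hb.add_right, h1', zero_add]; exact hz0a
    have hzx : f z x ≠ 0 := by
      rw [hz, hb.add_left, hf.alternating, zero_add, hf.skew]; exact neg_ne_zero.mpr hz0b
    have hfixz : ∀ y ∈ fixSub g, f y z = f y x := by
      intro y hy
      rw [hz, hb.add_right, hz0S y hy, add_zero]
    set t1 := stv hf (z - gx) (f gx z)⁻¹ with ht1
    set t2 := stv hf (x - z) (f z x)⁻¹ with ht2
    have hm1 : ((t1 : GL ι F) : Matrix ι ι F) *ᵥ gx = z := by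
      rw [ht1, stv_apply, form_sub_right hb, hf.alternating, sub_zero, inv_mul_cancel₀ hgxz, one_smul]
      abel
    have hm2 : ((t2 : GL ι F) : Matrix ι ι F) *ᵥ z = x := by
      rw [ht2, stv_apply, form_sub_right hb, hf.alternating, sub_zero, inv_mul_cancel₀ hzx, one_smul]
      abel
    refine ⟨t2 * t1, (stvGroup hf).mul_mem (stv_mem_stvGroup hf _ _) (stv_mem_stvGroup hf _ _), ?_⟩
    rw [SetLike.lt_iff_le_and_exists]
    refine ⟨?_, x, ?_, hx_notfix⟩
    · intro y hy
      have e1 : ((t1 : GL ι F) : Matrix ι ι F) *ᵥ y = y := by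
        rw [ht1, stv_apply, form_sub_right hb, hfix y hy, hfixz y hy, sub_self,
          mul_zero, zero_smul, add_zero]
      have e2 : ((t2 : GL ι F) : Matrix ι ι F) *ᵥ y = y := by
        rw [ht2, stv_apply, form_sub_right hb, hfixz y hy, sub_self, mul_zero, zero_smul, add_zero]
      rw [mem_fixSub, Units.val_mul, Units.val_mul, ← Matrix.mulVec_mulVec, ← Matrix.mulVec_mulVec,
        (mem_fixSub g y).mp hy, e1, e2]
    · rw [mem_fixSub, Units.val_mul, Units.val_mul, ← Matrix.mulVec_mulVec, ← Matrix.mulVec_mulVec,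
        ← hgx, hm1, hm2]

lemma stvGroup_isom (hf : IsSymplecticForm f) (t : GL ι F) (ht : t ∈ stvGroup hf) : Isom f t := by
  unfold stvGroup at ht
  induction ht using Subgroup.closure_induction with
  | mem g hg =>
    obtain ⟨v, c, rfl⟩ := hg
    exact stv_isometry hf v c
  | one => exact Isom.one
  | mul a b _ _ ha hb => exact ha.mul hb
  | inv a _ ha => exact ha.inv

/-- every isometry of a symplectic form is a product of symplectic transvections -/
theorem isom_mem_stvGroup (hf : IsSymplecticForm f) (g : GL ι F) (hg : Isom f g) :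
    g ∈ stvGroup hf := by
  have key : ∀ S : Submodule F (ι → F), ∀ g : GL ι F, Isom f g → fixSub g = S → g ∈ stvGroup hf := by
    intro S
    induction S using WellFoundedGT.induction with
    | ind S ih =>
      intro g hg hS
      by_cases hall : ∀ x, (g : Matrix ι ι F) *ᵥ x = x
      · have : g = 1 := by
          apply Units.ext
          rw [Units.val_one]
          apply Matrix.toLin'.injective
          apply LinearMap.ext
          intro x
          rw [Matrix.toLin'_apply, Matrix.toLin'_one, LinearMap.id_apply]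
          exact hall x
        rw [this]; exact (stvGroup hf).one_mem
      · push Not at hall
        obtain ⟨x, hx⟩ := hall
        obtain ⟨t, ht, hlt⟩ := exists_stv_fix_lt hf g hg x hx
        rw [hS] at hlt
        have h1 := ih _ hlt (t * g) ((stvGroup_isom hf t ht).mul hg) rfl
        have h2 := (stvGroup hf).mul_mem ((stvGroup hf).inv_mem ht) h1
        rwa [inv_mul_cancel_left] at h2
  exact key _ g hg rfl

end Cfsg.Agent.Helper93
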