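import Cfsg.Agent.Lib.Helper93.Transvec

set_option autoImplicit false

namespace Cfsg.Agent.Helper93

open Matrix

variable {ι : Type} [Fintype ι] [DecidableEq ι] {F : Type*} [Field F]

lemma tv_congr {φ φ' v v' : ι → F} (h : φ ⬝ᵥ v = 0) (hφ : φ = φ') (hv : v = v') :
    tv φ v h = tv φ' v' (by rw [← hφ, ← hv]; exact h) := by
  subst hφ; subst hv; rfl

lemma tv_mul_tv (φ φ' v : ι → F) (h : φ ⬝ᵥ v = 0) (h' : φ' ⬝ᵥ v = 0) :
    tv φ v h * tv φ' v h' = tv (φ + φ') v (by rw [add_dotProduct, h, h', add_zero]) := by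
  apply Units.ext
  rw [Units.val_mul, tv_coe, tv_coe, tv_coe]
  unfold tvMat
  rw [Matrix.add_mul, Matrix.mul_add, Matrix.mul_add, Matrix.one_mul, Matrix.mul_one, Matrix.one_mul,
    Matrix.vecMulVec_mul_vecMulVec, h, zero_smul, Matrix.vecMulVec_zero, add_zero,
    Matrix.vecMulVec_add]
  abel

lemma tv_zero (v : ι → F) : tv (0 : ι → F) v (zero_dotProduct v) = 1 := by
  apply Units.ext
  rw [tv_coe]
  unfold tvMat
  simp

lemma tv_neg_eq_inv (φ v : ι → F) (h : φ ⬝ᵥ v = 0) :
    tv (-φ) v (by rw [neg_dotProduct, h, neg_zero]) = (tv φ v h)⁻¹ := by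
  rw [eq_inv_iff_mul_eq_one, tv_mul_tv]
  rw [tv_congr (φ' := 0) (v' := v) _ (neg_add_cancel φ) rfl]
  exact tv_zero v

lemma conj_tv (g : GL ι F) (φ v : ι → F) (h : φ ⬝ᵥ v = 0) :
    g * tv φ v h * g⁻¹ = tv (φ ᵥ* ((g⁻¹ : GL ι F) : Matrix ι ι F)) ((g : Matrix ι ι F) *ᵥ v)
      (by rw [← Matrix.dotProduct_mulVec, Matrix.mulVec_mulVec, ← Units.val_mul, inv_mul_cancel,
            Units.val_one, Matrix.one_mulVec]; exact h) := by
  apply Units.ext
  rw [Units.val_mul, Units.val_mul, tv_coe, tv_coe]
  unfold tvMat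
  rw [Matrix.mul_add, Matrix.add_mul, Matrix.mul_one, ← Units.val_mul, mul_inv_cancel, Units.val_one,
    Matrix.mul_vecMulVec, Matrix.vecMulVec_mul]

/-- `M` contains every transvection with direction `u` -/
def AllTv (M : Subgroup (GL ι F)) (u : ι → F) : Prop :=
  ∀ (ψ : ι → F) (h : ψ ⬝ᵥ u = 0), tv ψ u h ∈ M

lemma AllTv.conj {M : Subgroup (GL ι F)} {u : ι → F} (hM : AllTv M u) (p : GL ι F) (hp : p ∈ M) :
    AllTv M ((p : Matrix ι ι F) *ᵥ u) := by
  intro ψ h
  have h0 : (ψ ᵥ* (p : Matrix ι ι F)) ⬝ᵥ u = 0 := by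
    rw [← Matrix.dotProduct_mulVec]; exact h
  have h1 := hM (ψ ᵥ* (p : Matrix ι ι F)) h0
  have h2 := M.mul_mem (M.mul_mem hp h1) (M.inv_mem hp)
  rw [conj_tv] at h2
  have h3 : ψ ᵥ* (p : Matrix ι ι F) ᵥ* ((p⁻¹ : GL ι F) : Matrix ι ι F) = ψ := by
    rw [Matrix.vecMul_vecMul, ← Units.val_mul, mul_inv_cancel, Units.val_one, Matrix.vecMul_one]
  rw [tv_congr _ h3 rfl] at h2
  exact h2

lemma AllTv.smul {M : Subgroup (GL ι F)} {u : ι → F} (hM : AllTv M u) (c : F) :
    AllTv M (c • u) := by
  intro ψ h
  by_cases hc : c = 0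
  · subst hc
    have : tv ψ ((0 : F) • u) h = 1 := by
      apply Units.ext
      rw [tv_coe]; unfold tvMat; simp
    rw [this]; exact M.one_mem
  · have h0 : (c • ψ) ⬝ᵥ u = 0 := by
      rw [smul_dotProduct]
      rw [dotProduct_smul] at h
      exact h
    have h1 := hM (c • ψ) h0
    have : tv ψ (c • u) h = tv (c • ψ) u h0 := by
      apply Units.ext
      rw [tv_coe, tv_coe]; unfold tvMat
      rw [Matrix.smul_vecMulVec, Matrix.vecMulVec_smul]
    rw [this]; exact h1

/-- elementary transvections are general transvections -/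
lemma elem_transvection_eq (i j : ι) (hij : i ≠ j) (c : F) :
    (Matrix.transvection i j c : Matrix ι ι F) = tvMat (c • Pi.single j 1) (Pi.single i 1) := by
  unfold tvMat Matrix.transvection
  congr 1
  ext a b
  simp [Matrix.vecMulVec_apply, Matrix.single_apply, Pi.single_apply]
  by_cases ha : a = i <;> by_cases hb : b = j <;> simp [ha, hb]
  · intro h; exact absurd h.symm hb
  · intro h; exact absurd h.symm ha
  · intro h; exact absurd h.symm ha

/-- copy of a decomposition from `Cfsg.Agent.Helper5` (diagonal element as product of transvections) -/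
lemma diag2n_matrix_decompose' {i j : ι} (hij : i ≠ j) (a : F) (ha : a ≠ 0) :
    (diagonal (fun k ↦ if k = i then a else if k = j then a⁻¹ else 1) : Matrix ι ι F) =
      Matrix.transvection i j a * Matrix.transvection j i (-a⁻¹) * Matrix.transvection i j a *
        Matrix.transvection i j (-1) * Matrix.transvection j i 1 * Matrix.transvection i j (-1) := by
  simp only [Matrix.transvection]
  simp [mul_add, add_mul, single_mul_single_same, single_mul_single_of_ne, hij, hij.symm]
  simp only [mul_inv_cancel₀ ha, inv_mul_cancel₀ ha]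
  ext x y
  simp only [diagonal_apply, Matrix.add_apply, one_apply, single_apply]
  by_cases hxi : x = i <;> by_cases hxj : x = j <;> by_cases hyi : y = i <;> by_cases hyj : y = j <;>
    simp_all [eq_comm]

theorem SL_le_of_allTv (M : Subgroup (GL ι F)) (hM : ∀ u : ι → F, AllTv M u) :
    Cfsg.Geo.specialLinear ι F ≤ M := by
  intro g hg
  have hdet : (g : Matrix ι ι F).det = 1 := by
    unfold Cfsg.Geo.specialLinear at hg
    rw [MonoidHom.mem_ker] at hg
    have := congrArg Units.val hg
    rwa [Matrix.GeneralLinearGroup.val_det_apply] at this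
  by_cases hnt : Nontrivial ι
  · -- induction over SL
    have key : ∀ A : Matrix.SpecialLinearGroup ι F, Matrix.SpecialLinearGroup.toGL A ∈ M := by
      intro A
      have htr : ∀ (i j : ι) (hij : i ≠ j) (c : F),
          Matrix.SpecialLinearGroup.toGL (Matrix.SpecialLinearGroup.transvection hij c) ∈ M := by
        intro i j hij c
        have h0 : (c • (Pi.single j 1 : ι → F)) ⬝ᵥ (Pi.single i 1 : ι → F) = 0 := by
          simp [hij.symm]
        have := hM (Pi.single i 1) (c • Pi.single j 1) h0
        convert this using 1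
        apply Units.ext
        rw [tv_coe, ← elem_transvection_eq i j hij c]
        rfl
      refine Matrix.SpecialLinearGroup.diagonal_transvection_induction'
        (fun A => Matrix.SpecialLinearGroup.toGL A ∈ M) A ?_ htr ?_
      · intro i j hij c hc
        have : Matrix.SpecialLinearGroup.diag2n hij c hc =
            Matrix.SpecialLinearGroup.transvection hij c *
            Matrix.SpecialLinearGroup.transvection hij.symm (-c⁻¹) *
            Matrix.SpecialLinearGroup.transvection hij c *
            Matrix.SpecialLinearGroup.transvection hij (-1) *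
            Matrix.SpecialLinearGroup.transvection hij.symm 1 *
            Matrix.SpecialLinearGroup.transvection hij (-1) :=
          Subtype.ext (diag2n_matrix_decompose' hij c hc)
        show Matrix.SpecialLinearGroup.toGL _ ∈ M
        rw [this]
        simp only [map_mul]
        refine M.mul_mem (M.mul_mem (M.mul_mem (M.mul_mem (M.mul_mem ?_ ?_) ?_) ?_) ?_) ?_ <;>
          exact htr _ _ _ _
      · intro A B hA hB
        show Matrix.SpecialLinearGroup.toGL (A * B) ∈ M
        rw [map_mul]
        exact M.mul_mem hA hB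
    have := key ⟨(g : Matrix ι ι F), hdet⟩
    convert this using 1
    apply Units.ext
    rfl
  · -- trivial index type: g = 1
    rw [not_nontrivial_iff_subsingleton] at hnt
    have : g = 1 := by
      apply Units.ext
      ext a b
      have hab : a = b := Subsingleton.elim a b
      subst hab
      have h1 : (g : Matrix ι ι F).det = (g : Matrix ι ι F) a a := by
        rw [Matrix.det_eq_elem_of_subsingleton _ a]
      rw [Units.val_one, Matrix.one_apply_eq, ← h1, hdet]
    rw [this]; exact M.one_mem

end Cfsg.Agent.Helper93
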