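import Cfsg.Agent.Lib.Helper93.McL0
import Cfsg.Agent.Lib.Helper93.Transvec2
import Cfsg.Agent.Lib.Helper93.SpGen

/-!
# McL pack Gen: `SL(U)` and `Sp(U, B)` are generated by (symplectic) transvections, abstract form.

Written by helper49 for helper93's McL server: transport of the matrix versions
`Cfsg.Agent.Helper93.SL_le_of_allTv` (Transvec2) and `Cfsg.Agent.Helper93.isom_mem_stvGroup` (SpGen)
along the coordinates `h49_e U` of `U`.
-/

set_option autoImplicit false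

namespace Cfsg.Agent.Helper93.McL

open Module

variable {F V : Type*} [Field F] [AddCommGroup V] [Module F V] [FiniteDimensional F V]

/-- coordinates on `U` -/
noncomputable def h49_e (U : Submodule F V) : ↥U ≃ₗ[F] (Fin (finrank F ↥U) → F) :=
  (Module.finBasis F ↥U).equivFun

/-- the self-map of `U` with matrix `A` -/
noncomputable def h49_L (U : Submodule F V)
    (A : Matrix (Fin (finrank F ↥U)) (Fin (finrank F ↥U)) F) (x : ↥U) : ↥U :=
  (h49_e U).symm (A.mulVec (h49_e U x))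

lemma h49_L_one (U : Submodule F V) (x : ↥U) : h49_L U 1 x = x := by
  unfold h49_L
  rw [Matrix.one_mulVec, LinearEquiv.symm_apply_apply]

lemma h49_L_mul (U : Submodule F V)
    (A B : Matrix (Fin (finrank F ↥U)) (Fin (finrank F ↥U)) F) (x : ↥U) :
    h49_L U (A * B) x = h49_L U A (h49_L U B x) := by
  unfold h49_L
  rw [LinearEquiv.apply_symm_apply, Matrix.mulVec_mulVec]

/-- matrices whose action on `U` is induced by an element of `S` -/
def h49_M (U : Submodule F V) (S : Subgroup (V ≃ₗ[F] V)) :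
    Subgroup (Matrix.GeneralLinearGroup (Fin (finrank F ↥U)) F) where
  carrier := {A | ∃ g ∈ S, ∀ x : ↥U,
    g (x : V) = ((h49_L U (A : Matrix (Fin (finrank F ↥U)) (Fin (finrank F ↥U)) F) x : ↥U) : V)}
  one_mem' := ⟨1, S.one_mem, fun x => by
    show (x : V) = _
    rw [Units.val_one, h49_L_one]⟩
  mul_mem' := by
    rintro A B ⟨g, hg, hgA⟩ ⟨k, hk, hkB⟩
    refine ⟨g * k, S.mul_mem hg hk, fun x => ?_⟩
    rw [LinearEquiv.mul_apply, hkB x, hgA, Units.val_mul, h49_L_mul]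
  inv_mem' := by
    rintro A ⟨g, hg, hgA⟩
    refine ⟨g⁻¹, S.inv_mem hg, fun x => ?_⟩
    have h1 := hgA (h49_L U ((A⁻¹ : Matrix.GeneralLinearGroup (Fin (finrank F ↥U)) F) :
      Matrix (Fin (finrank F ↥U)) (Fin (finrank F ↥U)) F) x)
    rw [← h49_L_mul, ← Units.val_mul, mul_inv_cancel, Units.val_one, h49_L_one] at h1
    have h2 : g⁻¹ (x : V) = g.symm (x : V) := rfl
    rw [h2, ← h1, LinearEquiv.symm_apply_apply]

lemma h49_mem_M (U : Submodule F V) (S : Subgroup (V ≃ₗ[F] V))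
    (A : Matrix.GeneralLinearGroup (Fin (finrank F ↥U)) F) :
    A ∈ h49_M U S ↔ ∃ g ∈ S, ∀ x : ↥U,
      g (x : V) = ((h49_L U (A : Matrix (Fin (finrank F ↥U)) (Fin (finrank F ↥U)) F) x : ↥U) : V) :=
  Iff.rfl

/-- the matrix of `f : U ≃ U` in the coordinates `h49_e U`, as an element of `GL` -/
lemma h49_exists_matrix (U : Submodule F V) (f : ↥U ≃ₗ[F] ↥U) :
    ∃ A : Matrix.GeneralLinearGroup (Fin (finrank F ↥U)) F,
      (A : Matrix (Fin (finrank F ↥U)) (Fin (finrank F ↥U)) F).det =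
        LinearMap.det (f : ↥U →ₗ[F] ↥U) ∧
      ∀ x : Fin (finrank F ↥U) → F,
        (A : Matrix (Fin (finrank F ↥U)) (Fin (finrank F ↥U)) F).mulVec x =
          h49_e U (f ((h49_e U).symm x)) := by
  classical
  obtain ⟨f', hf'⟩ : ∃ f' : (Fin (finrank F ↥U) → F) →ₗ[F] (Fin (finrank F ↥U) → F),
      f' = ((h49_e U : ↥U →ₗ[F] (Fin (finrank F ↥U) → F)) ∘ₗ (f : ↥U →ₗ[F] ↥U) ∘ₗ
        ((h49_e U).symm : (Fin (finrank F ↥U) → F) →ₗ[F] ↥U)) := ⟨_, rfl⟩
  have hdet' : (LinearMap.toMatrix' f').det = LinearMap.det (f : ↥U →ₗ[F] ↥U) := by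
    rw [LinearMap.det_toMatrix', hf', LinearMap.det_conj]
  have hne : (LinearMap.toMatrix' f').det ≠ 0 := by
    rw [hdet']
    exact (LinearEquiv.isUnit_det' f).ne_zero
  refine ⟨Matrix.GeneralLinearGroup.mkOfDetNeZero (LinearMap.toMatrix' f') hne, hdet', ?_⟩
  intro x
  have hc : ((Matrix.GeneralLinearGroup.mkOfDetNeZero (LinearMap.toMatrix' f') hne :
      Matrix.GeneralLinearGroup (Fin (finrank F ↥U)) F) :
      Matrix (Fin (finrank F ↥U)) (Fin (finrank F ↥U)) F) = LinearMap.toMatrix' f' := rfl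
  rw [hc, ← Matrix.toLin'_apply, Matrix.toLin'_toMatrix', hf']
  rfl

/-- Every `f : U ≃ₗ U` of determinant 1 is the restriction to `U` of a product of transvections
`τ(u, φ)`, `u ∈ U`, `φ` vanishing on `C` (these fix `C` pointwise and preserve `U`). -/
theorem sl_range (U C : Submodule F V) (hUC : IsCompl U C) (f : ↥U ≃ₗ[F] ↥U)
    (hdet : LinearMap.det (f : ↥U →ₗ[F] ↥U) = 1) :
    ∃ g ∈ Subgroup.closure {t : V ≃ₗ[F] V | ∃ u ∈ U, ∃ φ : Dual F V,
        (∀ c ∈ C, φ c = 0) ∧ φ u = 0 ∧ t = tv u φ},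
      ∀ x : ↥U, g (x : V) = (f x : V) := by
  classical
  obtain ⟨S, hS⟩ : ∃ S : Subgroup (V ≃ₗ[F] V),
      S = Subgroup.closure {t : V ≃ₗ[F] V | ∃ u ∈ U, ∃ φ : Dual F V,
        (∀ c ∈ C, φ c = 0) ∧ φ u = 0 ∧ t = tv u φ} := ⟨_, rfl⟩
  rw [← hS]
  have hAll : ∀ u' : Fin (finrank F ↥U) → F, Cfsg.Agent.Helper93.AllTv (h49_M U S) u' := by
    intro u' ψ h
    obtain ⟨φ, hφ⟩ : ∃ φ : Dual F V,
        φ = (dotProductEquiv F (Fin (finrank F ↥U)) ψ) ∘ₗ
          ((h49_e U : ↥U →ₗ[F] (Fin (finrank F ↥U) → F)) ∘ₗ (U.projectionOnto C hUC)) :=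
      ⟨_, rfl⟩
    have hφy : ∀ y : V, φ y = ψ ⬝ᵥ (h49_e U (U.projectionOnto C hUC y)) := fun y => by
      rw [hφ]; rfl
    have hφU : ∀ x : ↥U, φ (x : V) = ψ ⬝ᵥ (h49_e U x) := fun x => by
      rw [hφy, Submodule.projectionOnto_apply_left]
    obtain ⟨u, hu⟩ : ∃ u : ↥U, u = (h49_e U).symm u' := ⟨_, rfl⟩
    have hφu : φ (u : V) = 0 := by
      rw [hφU, hu, LinearEquiv.apply_symm_apply]; exact h
    have hφC : ∀ c ∈ C, φ c = 0 := by
      intro c hc
      rw [hφy, (Submodule.projectionOnto_apply_eq_zero_iff hUC).mpr hc, map_zero,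
        dotProduct_zero]
    rw [h49_mem_M]
    refine ⟨tv (u : V) φ, ?_, ?_⟩
    · rw [hS]
      exact Subgroup.subset_closure ⟨(u : V), u.2, φ, hφC, hφu, rfl⟩
    · intro x
      rw [tv_apply hφu, hφU, Cfsg.Agent.Helper93.tv_coe]
      unfold h49_L
      rw [Cfsg.Agent.Helper93.tvMat_mulVec, map_add, map_smul, LinearEquiv.symm_apply_apply, ← hu]
      rfl
  obtain ⟨A, hAdet, hAmul⟩ := h49_exists_matrix U f
  have hASL : A ∈ Cfsg.Geo.specialLinear (Fin (finrank F ↥U)) F := by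
    unfold Cfsg.Geo.specialLinear
    rw [MonoidHom.mem_ker]
    apply Units.ext
    rw [Matrix.GeneralLinearGroup.val_det_apply, hAdet, hdet]
    rfl
  obtain ⟨g, hg, hgA⟩ :=
    (h49_mem_M U S A).mp (Cfsg.Agent.Helper93.SL_le_of_allTv (h49_M U S) hAll hASL)
  refine ⟨g, hg, fun x => ?_⟩
  rw [hgA x]
  unfold h49_L
  rw [hAmul, LinearEquiv.symm_apply_apply, LinearEquiv.symm_apply_apply]

/-- Every isometry `f : U ≃ₗ U` of `B|U` (`B` alternating with radical `C`, `V = U ⊕ C`) is the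
restriction to `U` of a product of symplectic transvections `τ(u, a • B u)`, `u ∈ U`. -/
theorem sp_range (U C : Submodule F V) (hUC : IsCompl U C) (B : LinearMap.BilinForm F V)
    (hB : B.IsAlt) (hrad : ∀ x, (∀ y, B x y = 0) ↔ x ∈ C) (f : ↥U ≃ₗ[F] ↥U)
    (hf : ∀ x y : ↥U, B (f x : V) (f y : V) = B (x : V) (y : V)) :
    ∃ g ∈ Subgroup.closure {t : V ≃ₗ[F] V | ∃ u ∈ U, ∃ a : F, t = tv u (a • B u)},
      ∀ x : ↥U, g (x : V) = (f x : V) := by
  classical
  obtain ⟨S, hS⟩ : ∃ S : Subgroup (V ≃ₗ[F] V),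
      S = Subgroup.closure {t : V ≃ₗ[F] V | ∃ u ∈ U, ∃ a : F, t = tv u (a • B u)} := ⟨_, rfl⟩
  rw [← hS]
  have hskewB : ∀ x y : V, B x y = - B y x := fun x y => neg_eq_iff_eq_neg.mp (hB.neg_eq x y)
  obtain ⟨f₀, hf₀'⟩ : ∃ f₀ : (Fin (finrank F ↥U) → F) → (Fin (finrank F ↥U) → F) → F,
      f₀ = fun x y => B (((h49_e U).symm x : ↥U) : V) (((h49_e U).symm y : ↥U) : V) := ⟨_, rfl⟩
  have hf₀ : ∀ x y, f₀ x y = B (((h49_e U).symm x : ↥U) : V) (((h49_e U).symm y : ↥U) : V) :=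
    fun x y => by rw [hf₀']
  have hsymp : Cfsg.Geo.IsSymplecticForm f₀ := by
    refine ⟨⟨?_, ?_, ?_, ?_⟩, ?_, ?_, ?_⟩
    · intro x y v
      simp only [hf₀, map_add, Submodule.coe_add, LinearMap.add_apply]
    · intro c x v
      simp only [hf₀, map_smul, Submodule.coe_smul, LinearMap.smul_apply, smul_eq_mul]
    · intro v x y
      simp only [hf₀, map_add, Submodule.coe_add]
    · intro c v x
      simp only [hf₀, map_smul, Submodule.coe_smul, smul_eq_mul]
    · intro v w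
      rw [hf₀, hf₀]
      exact hskewB _ _
    · intro v
      rw [hf₀]
      exact hB.self_eq_zero _
    · intro v hv
      obtain ⟨w, hwdef⟩ : ∃ w : ↥U, w = (h49_e U).symm v := ⟨_, rfl⟩
      have hw : w ≠ 0 := by
        intro h0
        apply hv
        have h1 := congrArg (h49_e U) h0
        rwa [hwdef, LinearEquiv.apply_symm_apply, map_zero] at h1
      have hwC : (w : V) ∉ C := by
        intro hc
        have h1 : (w : V) ∈ U ⊓ C := ⟨w.2, hc⟩
        rw [hUC.inf_eq_bot, Submodule.mem_bot] at h1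
        exact hw (Subtype.ext h1)
      have hex : ∃ y : V, B (w : V) y ≠ 0 := by
        by_contra hno
        push Not at hno
        exact hwC ((hrad _).mp hno)
      obtain ⟨y, hy⟩ := hex
      have hyd : y ∈ U ⊔ C := by rw [hUC.sup_eq_top]; exact Submodule.mem_top
      obtain ⟨y1, hy1, y2, hy2, rfl⟩ := Submodule.mem_sup.mp hyd
      have h2 : B (w : V) y2 = 0 := by
        rw [hskewB, ((hrad y2).mpr hy2) (w : V), neg_zero]
      have h1 : B (w : V) y1 ≠ 0 := by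
        intro h
        apply hy
        rw [map_add, h, h2, add_zero]
      have key : f₀ v (h49_e U ⟨y1, hy1⟩) ≠ 0 := by
        rw [hf₀, LinearEquiv.symm_apply_apply, ← hwdef]
        exact h1
      refine ⟨⟨h49_e U ⟨y1, hy1⟩, ?_⟩, ⟨h49_e U ⟨y1, hy1⟩, key⟩⟩
      intro h
      apply key
      rw [hf₀] at h ⊢
      rw [hskewB, h, neg_zero]
  obtain ⟨A, -, hAmul⟩ := h49_exists_matrix U f
  have hisom : Cfsg.Agent.Helper93.Isom f₀ A := by
    intro x y
    rw [hAmul, hAmul, hf₀, hf₀, LinearEquiv.symm_apply_apply, LinearEquiv.symm_apply_apply, hf]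
  have hle : Cfsg.Agent.Helper93.stvGroup hsymp ≤ h49_M U S := by
    unfold Cfsg.Agent.Helper93.stvGroup
    rw [Subgroup.closure_le]
    rintro _ ⟨v, c, rfl⟩
    show Cfsg.Agent.Helper93.stv hsymp v c ∈ h49_M U S
    rw [h49_mem_M]
    obtain ⟨u, hu⟩ : ∃ u : ↥U, u = (h49_e U).symm v := ⟨_, rfl⟩
    have hφu : ((-c) • B (u : V)) (u : V) = 0 := by
      rw [LinearMap.smul_apply, hB.self_eq_zero, smul_zero]
    refine ⟨tv (u : V) ((-c) • B (u : V)), ?_, ?_⟩
    · rw [hS]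
      exact Subgroup.subset_closure ⟨(u : V), u.2, -c, rfl⟩
    · intro x
      rw [tv_apply hφu]
      unfold h49_L
      rw [Cfsg.Agent.Helper93.stv_apply, map_add, map_smul, LinearEquiv.symm_apply_apply, ← hu,
        hf₀, LinearEquiv.symm_apply_apply, ← hu, LinearMap.smul_apply, smul_eq_mul,
        hskewB (u : V) (x : V), neg_mul_neg]
      rfl
  obtain ⟨g, hg, hgA⟩ :=
    (h49_mem_M U S A).mp (hle (Cfsg.Agent.Helper93.isom_mem_stvGroup hsymp A hisom))
  refine ⟨g, hg, fun x => ?_⟩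
  rw [hgA x]
  unfold h49_L
  rw [hAmul, LinearEquiv.symm_apply_apply, LinearEquiv.symm_apply_apply]

end Cfsg.Agent.Helper93.McL
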