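import Cfsg.Agent.Lib.Helper93.McL0
import Cfsg.Agent.Lib.Helper93.Transvec2
import Cfsg.Agent.Lib.Helper93.SpGen

/-!
# McL pack Gen, `sp_range` half (delivered by helper58)

`sp_range_aux`: every isometry of `B|U` is the restriction of a product of symplectic
transvections `τ(u, a • B u)`, `u ∈ U`.  Abstract port of `SpGen.exists_stv_fix_lt`.
-/

set_option autoImplicit false

namespace Cfsg.Agent.Helper93.McL

open Module

section abstractSp

variable {F W : Type*} [Field F] [AddCommGroup W] [Module F W]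

lemma h58_stv_apply {β : LinearMap.BilinForm F W} (hβ : β.IsAlt) (w : W) (a : F) (x : W) :
    tv w (a • β w) x = x + (a * β w x) • w := by
  have h : (a • β w) w = 0 := by
    rw [LinearMap.smul_apply, hβ.self_eq_zero, smul_zero]
  rw [tv_apply h]
  simp

lemma h58_stv_isom {β : LinearMap.BilinForm F W} (hβ : β.IsAlt) (w : W) (a : F) (x y : W) :
    β (tv w (a • β w) x) (tv w (a • β w) y) = β x y := by
  rw [h58_stv_apply hβ, h58_stv_apply hβ]
  have h1 : β x w = - β w x := (hβ.neg_eq w x).symm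
  simp only [map_add, map_smul, LinearMap.add_apply, LinearMap.smul_apply, smul_eq_mul,
    hβ.self_eq_zero, h1]
  ring

/-- fixed space of a linear automorphism -/
def h58_fix (g : W ≃ₗ[F] W) : Submodule F W :=
  LinearMap.eqLocus (g : W →ₗ[F] W) LinearMap.id

lemma h58_mem_fix (g : W ≃ₗ[F] W) (x : W) : x ∈ h58_fix g ↔ g x = x := by
  simp [h58_fix, LinearMap.mem_eqLocus]

/-- the group generated by the symplectic transvections of `β` -/
def h58_stvGroup (β : LinearMap.BilinForm F W) : Subgroup (W ≃ₗ[F] W) :=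
  Subgroup.closure {t | ∃ w : W, ∃ a : F, t = tv w (a • β w)}

lemma h58_stv_mem (β : LinearMap.BilinForm F W) (w : W) (a : F) :
    tv w (a • β w) ∈ h58_stvGroup β :=
  Subgroup.subset_closure ⟨w, a, rfl⟩

lemma h58_stvGroup_isom {β : LinearMap.BilinForm F W} (hβ : β.IsAlt) (t : W ≃ₗ[F] W)
    (ht : t ∈ h58_stvGroup β) : ∀ x y, β (t x) (t y) = β x y := by
  unfold h58_stvGroup at ht
  induction ht using Subgroup.closure_induction with
  | mem g hg =>
    obtain ⟨w, a, rfl⟩ := hg
    exact h58_stv_isom hβ w a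
  | one => intro x y; rfl
  | mul a b _ _ ha hb =>
    intro x y
    rw [LinearEquiv.mul_apply, LinearEquiv.mul_apply, ha, hb]
  | inv a _ ha =>
    intro x y
    have h := ha (a⁻¹ x) (a⁻¹ y)
    have e1 : a (a⁻¹ x) = x := by
      rw [← LinearEquiv.mul_apply, mul_inv_cancel]; rfl
    have e2 : a (a⁻¹ y) = y := by
      rw [← LinearEquiv.mul_apply, mul_inv_cancel]; rfl
    rw [e1, e2] at h
    exact h.symm

variable [FiniteDimensional F W]

lemma h58_exists_perp {β : LinearMap.BilinForm F W} (hβ : β.IsAlt)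
    (h0 : ∀ x, (∀ y, β x y = 0) → x = 0) (S : Submodule F W) (a : W) (ha : a ∉ S) :
    ∃ p, (∀ y ∈ S, β p y = 0) ∧ β p a ≠ 0 := by
  have hnd : β.Nondegenerate := ⟨fun x hx => h0 x hx, fun y hy => h0 y (fun x => by
    rw [← hβ.neg_eq, hy, neg_zero])⟩
  obtain ⟨χ, hχa, hχS⟩ := Submodule.exists_le_ker_of_notMem ha
  refine ⟨(β.toDual hnd).symm χ, fun y hy => ?_, ?_⟩
  · rw [LinearMap.BilinForm.apply_toDual_symm_apply]
    exact LinearMap.mem_ker.mp (hχS hy)
  · rw [LinearMap.BilinForm.apply_toDual_symm_apply]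
    exact hχa

lemma h58_exists_fix_lt {β : LinearMap.BilinForm F W} (hβ : β.IsAlt)
    (h0 : ∀ x, (∀ y, β x y = 0) → x = 0) (g : W ≃ₗ[F] W)
    (hg : ∀ x y, β (g x) (g y) = β x y) (x : W) (hx : g x ≠ x) :
    ∃ t ∈ h58_stvGroup β, h58_fix g < h58_fix (t * g) := by
  have hfix : ∀ y ∈ h58_fix g, β (g x) y = β x y := by
    intro y hy
    have := hg x y
    rw [(h58_mem_fix g y).mp hy] at this
    exact this
  have hx_notfix : x ∉ h58_fix g := fun h => hx ((h58_mem_fix g x).mp h)
  by_cases h1 : β x (g x) ≠ 0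
  · refine ⟨tv (x - g x) ((β x (g x))⁻¹ • β (x - g x)), h58_stv_mem β _ _, ?_⟩
    have hmap : tv (x - g x) ((β x (g x))⁻¹ • β (x - g x)) (g x) = x := by
      rw [h58_stv_apply hβ, map_sub, LinearMap.sub_apply, hβ.self_eq_zero, sub_zero,
        inv_mul_cancel₀ h1, one_smul]
      abel
    rw [SetLike.lt_iff_le_and_exists]
    refine ⟨?_, x, ?_, hx_notfix⟩
    · intro y hy
      rw [h58_mem_fix, LinearEquiv.mul_apply, (h58_mem_fix g y).mp hy, h58_stv_apply hβ, map_sub,
        LinearMap.sub_apply, hfix y hy, sub_self, mul_zero, zero_smul, add_zero]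
    · rw [h58_mem_fix, LinearEquiv.mul_apply]
      exact hmap
  · push Not at h1
    have hgx_notfix : g x ∉ h58_fix g := by
      intro h
      rw [h58_mem_fix] at h
      exact hx (g.injective h)
    obtain ⟨p, hpS, hp⟩ := h58_exists_perp hβ h0 (h58_fix g) (g x) hgx_notfix
    obtain ⟨q, hqS, hq⟩ := h58_exists_perp hβ h0 (h58_fix g) x hx_notfix
    obtain ⟨z0, hz0S, hz0a, hz0b⟩ :
        ∃ z0, (∀ y ∈ h58_fix g, β z0 y = 0) ∧ β z0 (g x) ≠ 0 ∧ β z0 x ≠ 0 := by
      by_cases hc1 : β p x ≠ 0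
      · exact ⟨p, hpS, hp, hc1⟩
      by_cases hc2 : β q (g x) ≠ 0
      · exact ⟨q, hqS, hc2, hq⟩
      push Not at hc1 hc2
      refine ⟨p + q, fun y hy => ?_, ?_, ?_⟩
      · rw [map_add, LinearMap.add_apply, hpS y hy, hqS y hy, add_zero]
      · rw [map_add, LinearMap.add_apply, hc2, add_zero]; exact hp
      · rw [map_add, LinearMap.add_apply, hc1, zero_add]; exact hq
    set z := x + z0 with hz
    have hzgx : β z (g x) ≠ 0 := by
      rw [hz, map_add, LinearMap.add_apply, h1, zero_add]; exact hz0a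
    have hxz : β x z ≠ 0 := by
      rw [hz, map_add, hβ.self_eq_zero, zero_add, ← hβ.neg_eq]; exact neg_ne_zero.mpr hz0b
    have hfixz : ∀ y ∈ h58_fix g, β z y = β x y := by
      intro y hy
      rw [hz, map_add, LinearMap.add_apply, hz0S y hy, add_zero]
    set t1 := tv (z - g x) ((β z (g x))⁻¹ • β (z - g x)) with ht1
    set t2 := tv (x - z) ((β x z)⁻¹ • β (x - z)) with ht2
    have hm1 : t1 (g x) = z := by
      rw [ht1, h58_stv_apply hβ, map_sub, LinearMap.sub_apply, hβ.self_eq_zero, sub_zero,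
        inv_mul_cancel₀ hzgx, one_smul]
      abel
    have hm2 : t2 z = x := by
      rw [ht2, h58_stv_apply hβ, map_sub, LinearMap.sub_apply, hβ.self_eq_zero, sub_zero,
        inv_mul_cancel₀ hxz, one_smul]
      abel
    refine ⟨t2 * t1, (h58_stvGroup β).mul_mem (h58_stv_mem β _ _) (h58_stv_mem β _ _), ?_⟩
    rw [SetLike.lt_iff_le_and_exists]
    refine ⟨?_, x, ?_, hx_notfix⟩
    · intro y hy
      have e1 : t1 y = y := by
        rw [ht1, h58_stv_apply hβ, map_sub, LinearMap.sub_apply, hfix y hy, hfixz y hy, sub_self,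
          mul_zero, zero_smul, add_zero]
      have e2 : t2 y = y := by
        rw [ht2, h58_stv_apply hβ, map_sub, LinearMap.sub_apply, hfixz y hy, sub_self, mul_zero,
          zero_smul, add_zero]
      rw [h58_mem_fix, LinearEquiv.mul_apply, LinearEquiv.mul_apply, (h58_mem_fix g y).mp hy, e1, e2]
    · rw [h58_mem_fix, LinearEquiv.mul_apply, LinearEquiv.mul_apply, hm1, hm2]

/-- every isometry of a nondegenerate alternating form is a product of symplectic transvections -/
theorem h58_isom_mem_stvGroup {β : LinearMap.BilinForm F W} (hβ : β.IsAlt)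
    (h0 : ∀ x, (∀ y, β x y = 0) → x = 0) (g : W ≃ₗ[F] W)
    (hg : ∀ x y, β (g x) (g y) = β x y) : g ∈ h58_stvGroup β := by
  have key : ∀ S : Submodule F W, ∀ g : W ≃ₗ[F] W, (∀ x y, β (g x) (g y) = β x y) →
      h58_fix g = S → g ∈ h58_stvGroup β := by
    intro S
    induction S using WellFoundedGT.induction with
    | ind S ih =>
      intro g hg hS
      by_cases hall : ∀ x, g x = x
      · have : g = 1 := LinearEquiv.ext hall
        rw [this]; exact (h58_stvGroup β).one_mem
      · push Not at hall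
        obtain ⟨x, hx⟩ := hall
        obtain ⟨t, ht, hlt⟩ := h58_exists_fix_lt hβ h0 g hg x hx
        rw [hS] at hlt
        have hisom : ∀ x y, β ((t * g) x) ((t * g) y) = β x y := by
          intro x y
          rw [LinearEquiv.mul_apply, LinearEquiv.mul_apply, h58_stvGroup_isom hβ t ht, hg]
        have h1 := ih _ hlt (t * g) hisom rfl
        have h2 := (h58_stvGroup β).mul_mem ((h58_stvGroup β).inv_mem ht) h1
        rwa [inv_mul_cancel_left] at h2
  exact key _ g hg rfl

end abstractSp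

variable {F V : Type*} [Field F] [AddCommGroup V] [Module F V] [FiniteDimensional F V]

/-- Every isometry `f : U ≃ₗ U` of `B|U` (`B` alternating with radical `C`, `V = U ⊕ C`) is the
restriction to `U` of a product of symplectic transvections `τ(u, a • B u)`, `u ∈ U`. -/
theorem sp_range_aux (U C : Submodule F V) (hUC : IsCompl U C) (B : LinearMap.BilinForm F V)
    (hB : B.IsAlt) (hrad : ∀ x, (∀ y, B x y = 0) ↔ x ∈ C) (f : ↥U ≃ₗ[F] ↥U)
    (hf : ∀ x y : ↥U, B (f x : V) (f y : V) = B (x : V) (y : V)) :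
    ∃ g ∈ Subgroup.closure {t : V ≃ₗ[F] V | ∃ u ∈ U, ∃ a : F, t = tv u (a • B u)},
      ∀ x : ↥U, g (x : V) = (f x : V) := by
  set β : LinearMap.BilinForm F ↥U := B.restrict U with hβdef
  have hβapp : ∀ x y : ↥U, β x y = B (x : V) (y : V) := fun x y => rfl
  have hβ : β.IsAlt := fun x => hB.self_eq_zero (x : V)
  have h0 : ∀ x : ↥U, (∀ y : ↥U, β x y = 0) → x = 0 := by
    intro x hx
    have hxC : (x : V) ∈ C := by
      rw [← hrad]
      intro v
      have hv : v ∈ U ⊔ C := by rw [hUC.sup_eq_top]; exact Submodule.mem_top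
      obtain ⟨u, hu, c, hc, rfl⟩ := Submodule.mem_sup.mp hv
      have h1 : B (x : V) u = 0 := hx ⟨u, hu⟩
      have h2 : B (x : V) c = 0 := by
        rw [← hB.neg_eq, (hrad c).mpr hc, neg_zero]
      rw [map_add, h1, h2, add_zero]
    have := Submodule.disjoint_def.mp hUC.disjoint (x : V) x.2 hxC
    exact Submodule.coe_eq_zero.mp this
  have hmem := h58_isom_mem_stvGroup hβ h0 f (fun x y => hf x y)
  unfold h58_stvGroup at hmem
  clear hf
  induction hmem using Subgroup.closure_induction with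
  | mem h hh =>
    obtain ⟨w, a, rfl⟩ := hh
    refine ⟨tv (w : V) (a • B (w : V)), Subgroup.subset_closure ⟨w, w.2, a, rfl⟩, fun x => ?_⟩
    rw [h58_stv_apply hB, h58_stv_apply hβ, hβapp]
    simp
  | one => exact ⟨1, Subgroup.one_mem _, fun x => rfl⟩
  | mul a b _ _ ha hb =>
    obtain ⟨ga, hga, ha'⟩ := ha
    obtain ⟨gb, hgb, hb'⟩ := hb
    refine ⟨ga * gb, Subgroup.mul_mem _ hga hgb, fun x => ?_⟩
    rw [LinearEquiv.mul_apply, LinearEquiv.mul_apply, hb', ha']
  | inv a _ ha =>
    obtain ⟨ga, hga, ha'⟩ := ha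
    refine ⟨ga⁻¹, Subgroup.inv_mem _ hga, fun x => ?_⟩
    have h1 : ga ((a⁻¹ x : ↥U) : V) = (x : V) := by
      rw [ha', ← LinearEquiv.mul_apply, mul_inv_cancel]; rfl
    have h2 : ga⁻¹ (ga ((a⁻¹ x : ↥U) : V)) = ((a⁻¹ x : ↥U) : V) := by
      rw [← LinearEquiv.mul_apply, inv_mul_cancel]; rfl
    rw [← h1, h2]

end Cfsg.Agent.Helper93.McL
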