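import Cfsg.Agent.Lib.Helper93.McLGen

/-!
# McL pack R: the block groups `SL(U) ⊕ 1_C`, `Sp(U,B) ⊕ 1_C` and their restriction to `U`
-/

set_option autoImplicit false

namespace Cfsg.Agent.Helper93.McL

open Module

variable {F V : Type*} [Field F] [AddCommGroup V] [Module F V] [FiniteDimensional F V]

/-- The group generated by the transvections `τ(u, φ)`, `u ∈ U`, `φ` vanishing on `C`. -/
def slBlock (U C : Submodule F V) : Subgroup (V ≃ₗ[F] V) :=
  Subgroup.closure {t : V ≃ₗ[F] V | ∃ u ∈ U, ∃ φ : Dual F V,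
    (∀ c ∈ C, φ c = 0) ∧ φ u = 0 ∧ t = tv u φ}

/-- The group generated by the symplectic transvections `τ(u, a • B u)`, `u ∈ U`. -/
def spBlock (U : Submodule F V) (B : LinearMap.BilinForm F V) : Subgroup (V ≃ₗ[F] V) :=
  Subgroup.closure {t : V ≃ₗ[F] V | ∃ u ∈ U, ∃ a : F, t = tv u (a • B u)}

omit [FiniteDimensional F V] in
/-- Restriction to an invariant subspace, as a group homomorphism. -/
noncomputable def h46_restr (U : Submodule F V) (H : Subgroup (V ≃ₗ[F] V))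
    (hH : ∀ g ∈ H, ∀ u ∈ U, g u ∈ U) : ↥H →* (↥U ≃ₗ[F] ↥U) where
  toFun h := LinearEquiv.ofLinearMap
      ((((h : V ≃ₗ[F] V)) : V →ₗ[F] V).restrict (hH h h.2))
      (((((h⁻¹ : ↥H) : V ≃ₗ[F] V)) : V →ₗ[F] V).restrict (hH _ (h⁻¹).2))
      (by
        ext v
        show (h : V ≃ₗ[F] V) (((h⁻¹ : ↥H) : V ≃ₗ[F] V) (v : V)) = (v : V)
        rw [← LinearEquiv.mul_apply, ← Subgroup.coe_mul, mul_inv_cancel]
        rfl)
      (by
        ext v
        show ((h⁻¹ : ↥H) : V ≃ₗ[F] V) ((h : V ≃ₗ[F] V) (v : V)) = (v : V)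
        rw [← LinearEquiv.mul_apply, ← Subgroup.coe_mul, inv_mul_cancel]
        rfl)
  map_one' := by
    ext v
    rfl
  map_mul' a b := by
    ext v
    rfl

omit [FiniteDimensional F V] in
lemma h46_restr_apply (U : Submodule F V) (H : Subgroup (V ≃ₗ[F] V))
    (hH : ∀ g ∈ H, ∀ u ∈ U, g u ∈ U) (h : ↥H) (v : ↥U) :
    ((h46_restr U H hH h v : ↥U) : V) = (h : V ≃ₗ[F] V) (v : V) := rfl

omit [FiniteDimensional F V] in
/-- Extend a functional on `U` by zero on the complement `C`. -/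
lemma h46_exists_ext (U C : Submodule F V) (hUC : IsCompl U C) (ψ : Dual F ↥U) :
    ∃ φ : Dual F V, (∀ c ∈ C, φ c = 0) ∧ ∀ (u : V) (hu : u ∈ U), φ u = ψ ⟨u, hu⟩ := by
  refine ⟨ψ ∘ₗ U.projectionOnto C hUC, ?_, ?_⟩
  · intro c hc
    have := Submodule.projectionOnto_apply_right hUC ⟨c, hc⟩
    simp only at this
    rw [LinearMap.comp_apply, this, map_zero]
  · intro u hu
    have := Submodule.projectionOnto_apply_left hUC ⟨u, hu⟩
    simp only at this
    rw [LinearMap.comp_apply, this]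

omit [FiniteDimensional F V] in
lemma h46_sl_fix (U C : Submodule F V) :
    ∀ g ∈ slBlock U C, ∀ c ∈ C, g c = c := by
  intro g hg
  refine Subgroup.closure_induction (p := fun g _ => ∀ c ∈ C, g c = c) ?_ ?_ ?_ ?_ hg
  · rintro x ⟨u, hu, φ, hφC, hφu, rfl⟩ c hc
    rw [tv_apply hφu, hφC c hc, zero_smul, add_zero]
  · intro c _
    rfl
  · intro x y _ _ hx hy c hc
    rw [LinearEquiv.mul_apply, hy c hc, hx c hc]
  · intro x _ hx c hc
    have h1 : x⁻¹ c = x.symm c := rfl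
    rw [h1, LinearEquiv.symm_apply_eq, hx c hc]

omit [FiniteDimensional F V] in
lemma h46_sl_pres (U C : Submodule F V) :
    ∀ g ∈ slBlock U C, ∀ u ∈ U, g u ∈ U := by
  intro g hg
  have key : (∀ u ∈ U, g u ∈ U) ∧ (∀ u ∈ U, g⁻¹ u ∈ U) := by
    refine Subgroup.closure_induction
      (p := fun g _ => (∀ u ∈ U, g u ∈ U) ∧ (∀ u ∈ U, g⁻¹ u ∈ U)) ?_ ?_ ?_ ?_ hg
    · rintro x ⟨u, hu, φ, hφC, hφu, rfl⟩
      constructor
      · intro w hw
        rw [tv_apply hφu]
        exact U.add_mem hw (U.smul_mem _ hu)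
      · intro w hw
        have h2 : (-φ) u = 0 := by simp [hφu]
        rw [tv_inv, tv_apply h2]
        exact U.add_mem hw (U.smul_mem _ hu)
    · constructor
      · intro u hu
        exact hu
      · intro u hu
        rw [inv_one]
        exact hu
    · intro x y _ _ hx hy
      constructor
      · intro u hu
        rw [LinearEquiv.mul_apply]
        exact hx.1 _ (hy.1 u hu)
      · intro u hu
        rw [mul_inv_rev, LinearEquiv.mul_apply]
        exact hy.2 _ (hx.2 u hu)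
    · intro x _ hx
      refine ⟨hx.2, ?_⟩
      rw [inv_inv]
      exact hx.1
  exact key.1

lemma h46_sl_nofix (U C : Submodule F V) (hUC : IsCompl U C) (h2 : 2 ≤ finrank F U) :
    ∀ u ∈ U, (∀ g ∈ slBlock U C, g u = u) → u = 0 := by
  intro u hu hfix
  by_contra hne
  have hu' : (⟨u, hu⟩ : ↥U) ≠ 0 := by
    intro h
    exact hne (congrArg Subtype.val h)
  obtain ⟨ψ, hψ⟩ : ∃ ψ : Dual F ↥U, ψ ⟨u, hu⟩ ≠ 0 := by
    by_contra hcon
    simp only [not_exists, not_not] at hcon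
    exact hu' ((forall_dual_apply_eq_zero_iff F _).mp hcon)
  -- a nonzero vector in the kernel of ψ
  have hker : 0 < finrank F (LinearMap.ker ψ) := by
    have h1 := LinearMap.finrank_range_add_finrank_ker ψ
    have h3 : finrank F (LinearMap.range ψ) ≤ 1 := by
      have := Submodule.finrank_le (LinearMap.range ψ)
      rwa [Module.finrank_self] at this
    omega
  obtain ⟨w, hw⟩ := Module.finrank_pos_iff_exists_ne_zero.mp hker
  have hw0 : ((w : ↥U) : V) ≠ 0 := by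
    intro h
    apply hw
    apply Subtype.ext
    apply Subtype.ext
    exact h
  have hwker : ψ (w : ↥U) = 0 := w.2
  obtain ⟨φ, hφC, hφU⟩ := h46_exists_ext U C hUC ψ
  have hφw : φ ((w : ↥U) : V) = 0 := by
    rw [hφU _ (w : ↥U).2]
    exact hwker
  have hmem : tv ((w : ↥U) : V) φ ∈ slBlock U C :=
    Subgroup.subset_closure ⟨_, (w : ↥U).2, φ, hφC, hφw, rfl⟩
  have h4 := hfix _ hmem
  rw [tv_apply hφw, hφU u hu] at h4
  have h5 : ψ ⟨u, hu⟩ • ((w : ↥U) : V) = 0 := by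
    have := h4
    rwa [add_eq_left] at this
  rcases smul_eq_zero.mp h5 with h6 | h6
  · exact hψ h6
  · exact hw0 h6

lemma h46_sl_span (U C : Submodule F V) (hUC : IsCompl U C) (h2 : 2 ≤ finrank F U) :
    U ≤ Submodule.span F {y : V | ∃ g ∈ slBlock U C, ∃ x : V, y = g x - x} := by
  intro u hu
  by_cases hne : u = 0
  · rw [hne]
    exact Submodule.zero_mem _
  have hu' : (⟨u, hu⟩ : ↥U) ≠ 0 := by
    intro h
    exact hne (congrArg Subtype.val h)
  -- a vector of U outside the line of u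
  have hlt : (Submodule.span F {(⟨u, hu⟩ : ↥U)}) < ⊤ := by
    rw [lt_top_iff_ne_top]
    intro htop
    have h1 : finrank F (Submodule.span F {(⟨u, hu⟩ : ↥U)}) = 1 := finrank_span_singleton hu'
    rw [htop, finrank_top] at h1
    omega
  obtain ⟨x, -, hx⟩ := SetLike.exists_of_lt hlt
  obtain ⟨ψ, hψx, hψp⟩ := Submodule.exists_dual_map_eq_bot_of_notMem hx inferInstance
  have hψu : ψ ⟨u, hu⟩ = 0 := by
    have : ψ ⟨u, hu⟩ ∈ Submodule.map ψ (Submodule.span F {(⟨u, hu⟩ : ↥U)}) :=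
      Submodule.mem_map_of_mem (Submodule.mem_span_singleton_self _)
    rw [hψp] at this
    exact (Submodule.mem_bot F).mp this
  obtain ⟨φ, hφC, hφU⟩ := h46_exists_ext U C hUC ψ
  have hφu : φ u = 0 := by
    rw [hφU u hu]
    exact hψu
  have hφx : φ (x : V) ≠ 0 := by
    rw [hφU _ x.2]
    exact hψx
  have hmem : tv u φ ∈ slBlock U C :=
    Subgroup.subset_closure ⟨u, hu, φ, hφC, hφu, rfl⟩
  have h3 : tv u φ (x : V) - (x : V) ∈
      Submodule.span F {y : V | ∃ g ∈ slBlock U C, ∃ x : V, y = g x - x} :=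
    Submodule.subset_span ⟨_, hmem, _, rfl⟩
  rw [tv_apply hφu, add_sub_cancel_left] at h3
  have h4 := Submodule.smul_mem _ (φ (x : V))⁻¹ h3
  rwa [smul_smul, inv_mul_cancel₀ hφx, one_smul] at h4

omit [FiniteDimensional F V] in
lemma h46_sl_det (U C : Submodule F V) (h : ↥(slBlock U C)) :
    LinearEquiv.det (h46_restr U (slBlock U C) (h46_sl_pres U C) h) = 1 := by
  obtain ⟨g, hg⟩ := h
  refine Subgroup.closure_induction
    (p := fun g hg => LinearEquiv.det (h46_restr U (slBlock U C) (h46_sl_pres U C) ⟨g, hg⟩) = 1)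
    ?_ ?_ ?_ ?_ hg
  · rintro x ⟨u, hu, φ, hφC, hφu, rfl⟩
    have hk : (φ ∘ₗ U.subtype) (⟨u, hu⟩ : ↥U) = 0 := hφu
    have he : h46_restr U (slBlock U C) (h46_sl_pres U C)
        ⟨tv u φ, Subgroup.subset_closure ⟨u, hu, φ, hφC, hφu, rfl⟩⟩ = LinearEquiv.transvection hk := by
      apply LinearEquiv.ext
      intro v
      apply Subtype.ext
      rw [h46_restr_apply]
      show tv u φ (v : V) = _
      rw [tv_apply hφu]
      rfl
    rw [he]
    exact LinearEquiv.transvection.det_eq_one hk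
  · have : (⟨1, Subgroup.one_mem _⟩ : ↥(slBlock U C)) = 1 := rfl
    rw [this, map_one, map_one]
  · intro x y hx hy h1 h2
    have : (⟨x * y, Subgroup.mul_mem _ hx hy⟩ : ↥(slBlock U C)) = ⟨x, hx⟩ * ⟨y, hy⟩ := rfl
    rw [this, map_mul, map_mul, h1, h2, mul_one]
  · intro x hx h1
    have : (⟨x⁻¹, Subgroup.inv_mem _ hx⟩ : ↥(slBlock U C)) = (⟨x, hx⟩ : ↥(slBlock U C))⁻¹ := rfl
    rw [this, map_inv, map_inv, h1, inv_one]

/-- Restriction to `U` of `SL(U) ⊕ 1_C` (`ρ` is built by restricting `g` and `g⁻¹` to `U`; range `⊆` by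
closure induction, the restriction of `τ(u, φ)` is the transvection of `U` with `φ|U`, of determinant 1
(`LinearEquiv.transvection.det_eq_one`); range `⊇` by `sl_range`). -/
theorem rho_sl (U C : Submodule F V) (hUC : IsCompl U C) (h2 : 2 ≤ finrank F U) :
    (∀ g ∈ slBlock U C, ∀ c ∈ C, g c = c) ∧ (∀ g ∈ slBlock U C, ∀ u ∈ U, g u ∈ U) ∧
    (∀ u ∈ U, (∀ g ∈ slBlock U C, g u = u) → u = 0) ∧
    U ≤ Submodule.span F {y : V | ∃ g ∈ slBlock U C, ∃ x : V, y = g x - x} ∧
    ∃ ρ : ↥(slBlock U C) →* (↥U ≃ₗ[F] ↥U),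
      (∀ (h : ↥(slBlock U C)) (v : ↥U), ((ρ h v : ↥U) : V) = (h : V ≃ₗ[F] V) (v : V)) ∧
      (ρ.range : Set (↥U ≃ₗ[F] ↥U)) = {f : ↥U ≃ₗ[F] ↥U | LinearMap.det (f : ↥U →ₗ[F] ↥U) = 1} := by
  refine ⟨h46_sl_fix U C, h46_sl_pres U C, h46_sl_nofix U C hUC h2, h46_sl_span U C hUC h2,
    h46_restr U (slBlock U C) (h46_sl_pres U C), fun h v => rfl, ?_⟩
  ext f
  simp only [SetLike.mem_coe, MonoidHom.mem_range, Set.mem_ofPred_eq]
  constructor
  · rintro ⟨h, rfl⟩
    rw [← LinearEquiv.coe_det, h46_sl_det U C h]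
    rfl
  · intro hdet
    obtain ⟨g, hg, hgf⟩ := sl_range U C hUC f hdet
    refine ⟨⟨g, hg⟩, ?_⟩
    apply LinearEquiv.ext
    intro v
    apply Subtype.ext
    rw [h46_restr_apply]
    exact hgf v

omit [FiniteDimensional F V] in
lemma h46_alt_self (B : LinearMap.BilinForm F V) (hB : B.IsAlt) (a : F) (u : V) :
    (a • B u) u = 0 := by
  rw [LinearMap.smul_apply, hB.self_eq_zero u, smul_zero]

omit [FiniteDimensional F V] in
lemma h46_rad_right (C : Submodule F V) (B : LinearMap.BilinForm F V)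
    (hB : B.IsAlt) (hrad : ∀ x, (∀ y, B x y = 0) ↔ x ∈ C) (u c : V) (hc : c ∈ C) :
    B u c = 0 := by
  have h1 := (hrad c).mpr hc u
  have h2 := hB.neg_eq u c
  rw [h1] at h2
  exact neg_eq_zero.mp h2

omit [FiniteDimensional F V] in
lemma h46_sp_fix (U C : Submodule F V) (B : LinearMap.BilinForm F V)
    (hB : B.IsAlt) (hrad : ∀ x, (∀ y, B x y = 0) ↔ x ∈ C) :
    ∀ g ∈ spBlock U B, ∀ c ∈ C, g c = c := by
  intro g hg
  refine Subgroup.closure_induction (p := fun g _ => ∀ c ∈ C, g c = c) ?_ ?_ ?_ ?_ hg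
  · rintro x ⟨u, hu, a, rfl⟩ c hc
    rw [tv_apply (h46_alt_self B hB a u), LinearMap.smul_apply, h46_rad_right C B hB hrad u c hc,
      smul_zero, zero_smul, add_zero]
  · intro c _
    rfl
  · intro x y _ _ hx hy c hc
    rw [LinearEquiv.mul_apply, hy c hc, hx c hc]
  · intro x _ hx c hc
    have h1 : x⁻¹ c = x.symm c := rfl
    rw [h1, LinearEquiv.symm_apply_eq, hx c hc]

omit [FiniteDimensional F V] in
lemma h46_sp_pres (U : Submodule F V) (B : LinearMap.BilinForm F V) (hB : B.IsAlt) :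
    ∀ g ∈ spBlock U B, ∀ u ∈ U, g u ∈ U := by
  intro g hg
  have key : (∀ u ∈ U, g u ∈ U) ∧ (∀ u ∈ U, g⁻¹ u ∈ U) := by
    refine Subgroup.closure_induction
      (p := fun g _ => (∀ u ∈ U, g u ∈ U) ∧ (∀ u ∈ U, g⁻¹ u ∈ U)) ?_ ?_ ?_ ?_ hg
    · rintro x ⟨u, hu, a, rfl⟩
      constructor
      · intro w hw
        rw [tv_apply (h46_alt_self B hB a u)]
        exact U.add_mem hw (U.smul_mem _ hu)
      · intro w hw
        have h2 : (-(a • B u)) u = 0 := by
          rw [LinearMap.neg_apply, h46_alt_self B hB a u, neg_zero]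
        rw [tv_inv, tv_apply h2]
        exact U.add_mem hw (U.smul_mem _ hu)
    · constructor
      · intro u hu
        exact hu
      · intro u hu
        rw [inv_one]
        exact hu
    · intro x y _ _ hx hy
      constructor
      · intro u hu
        rw [LinearEquiv.mul_apply]
        exact hx.1 _ (hy.1 u hu)
      · intro u hu
        rw [mul_inv_rev, LinearEquiv.mul_apply]
        exact hy.2 _ (hx.2 u hu)
    · intro x _ hx
      refine ⟨hx.2, ?_⟩
      rw [inv_inv]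
      exact hx.1
  exact key.1

omit [FiniteDimensional F V] in
/-- A nonzero vector of `U` pairs nontrivially with some vector of `U`. -/
lemma h46_sp_pair (U C : Submodule F V) (hUC : IsCompl U C) (B : LinearMap.BilinForm F V)
    (hB : B.IsAlt) (hrad : ∀ x, (∀ y, B x y = 0) ↔ x ∈ C) (u : V) (hu : u ∈ U) (hne : u ≠ 0) :
    ∃ w ∈ U, B u w ≠ 0 := by
  have huC : u ∉ C := by
    intro hC
    have : u ∈ U ⊓ C := ⟨hu, hC⟩
    rw [hUC.inf_eq_bot] at this
    exact hne ((Submodule.mem_bot F).mp this)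
  have h1 : ¬ ∀ y, B u y = 0 := fun h => huC ((hrad u).mp h)
  simp only [not_forall] at h1
  obtain ⟨y, hy⟩ := h1
  have hy' : y ∈ U ⊔ C := by
    rw [hUC.sup_eq_top]
    exact Submodule.mem_top
  obtain ⟨w, hw, c, hc, rfl⟩ := Submodule.mem_sup.mp hy'
  refine ⟨w, hw, ?_⟩
  rw [map_add, h46_rad_right C B hB hrad u c hc, add_zero] at hy
  exact hy

omit [FiniteDimensional F V] in
lemma h46_sp_nofix (U C : Submodule F V) (hUC : IsCompl U C) (B : LinearMap.BilinForm F V)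
    (hB : B.IsAlt) (hrad : ∀ x, (∀ y, B x y = 0) ↔ x ∈ C) :
    ∀ u ∈ U, (∀ g ∈ spBlock U B, g u = u) → u = 0 := by
  intro u hu hfix
  by_contra hne
  obtain ⟨w, hw, hBw⟩ := h46_sp_pair U C hUC B hB hrad u hu hne
  have hmem : tv w ((1 : F) • B w) ∈ spBlock U B :=
    Subgroup.subset_closure ⟨w, hw, 1, rfl⟩
  have h4 := hfix _ hmem
  rw [tv_apply (h46_alt_self B hB 1 w), one_smul, add_eq_left] at h4
  have hwu : B w u ≠ 0 := by
    intro h0
    have := hB.neg_eq w u
    rw [h0, neg_zero] at this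
    exact hBw this.symm
  rcases smul_eq_zero.mp h4 with h6 | h6
  · exact hwu h6
  · apply hBw
    rw [h6, map_zero]

omit [FiniteDimensional F V] in
lemma h46_sp_span (U C : Submodule F V) (hUC : IsCompl U C) (B : LinearMap.BilinForm F V)
    (hB : B.IsAlt) (hrad : ∀ x, (∀ y, B x y = 0) ↔ x ∈ C) :
    U ≤ Submodule.span F {y : V | ∃ g ∈ spBlock U B, ∃ x : V, y = g x - x} := by
  intro u hu
  by_cases hne : u = 0
  · rw [hne]
    exact Submodule.zero_mem _
  obtain ⟨w, hw, hBw⟩ := h46_sp_pair U C hUC B hB hrad u hu hne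
  have hmem : tv u ((1 : F) • B u) ∈ spBlock U B :=
    Subgroup.subset_closure ⟨u, hu, 1, rfl⟩
  have h3 : tv u ((1 : F) • B u) w - w ∈
      Submodule.span F {y : V | ∃ g ∈ spBlock U B, ∃ x : V, y = g x - x} :=
    Submodule.subset_span ⟨_, hmem, _, rfl⟩
  rw [tv_apply (h46_alt_self B hB 1 u), one_smul, add_sub_cancel_left] at h3
  have h4 := Submodule.smul_mem _ (B u w)⁻¹ h3
  rwa [smul_smul, inv_mul_cancel₀ hBw, one_smul] at h4

omit [FiniteDimensional F V] in
/-- Elements of `spBlock U B` are isometries of `B`. -/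
lemma h46_sp_isom (U : Submodule F V) (B : LinearMap.BilinForm F V) (hB : B.IsAlt) :
    ∀ g ∈ spBlock U B, ∀ x y : V, B (g x) (g y) = B x y := by
  intro g hg
  refine Subgroup.closure_induction (p := fun g _ => ∀ x y : V, B (g x) (g y) = B x y)
    ?_ ?_ ?_ ?_ hg
  · rintro t ⟨u, hu, a, rfl⟩ x y
    rw [tv_apply (h46_alt_self B hB a u), tv_apply (h46_alt_self B hB a u)]
    simp only [map_add, map_smul, LinearMap.add_apply, LinearMap.smul_apply, smul_eq_mul,
      hB.self_eq_zero u, mul_zero, add_zero]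
    have h1 : B x u = - B u x := (hB.neg_eq u x).symm
    rw [h1]
    ring
  · intro x y
    rfl
  · intro a b _ _ ha hb x y
    rw [LinearEquiv.mul_apply, LinearEquiv.mul_apply, ha, hb]
  · intro a _ ha x y
    have h1 : ∀ z, a (a⁻¹ z) = z := fun z => a.apply_symm_apply z
    have := ha (a⁻¹ x) (a⁻¹ y)
    rw [h1, h1] at this
    exact this.symm

/-- Restriction to `U` of `Sp(U,B) ⊕ 1_C`; the form on `U` is `B.restrict U`-like (any `B'` with
`B' x y = B x y`), nondegenerate because the radical of `B` is `C` and `IsCompl U C`. -/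
theorem rho_sp (U C : Submodule F V) (hUC : IsCompl U C) (hU : U ≠ ⊥) (B : LinearMap.BilinForm F V)
    (hB : B.IsAlt) (hrad : ∀ x, (∀ y, B x y = 0) ↔ x ∈ C) :
    (∀ g ∈ spBlock U B, ∀ c ∈ C, g c = c) ∧ (∀ g ∈ spBlock U B, ∀ u ∈ U, g u ∈ U) ∧
    (∀ u ∈ U, (∀ g ∈ spBlock U B, g u = u) → u = 0) ∧
    U ≤ Submodule.span F {y : V | ∃ g ∈ spBlock U B, ∃ x : V, y = g x - x} ∧
    ∃ ρ : ↥(spBlock U B) →* (↥U ≃ₗ[F] ↥U),
      (∀ (h : ↥(spBlock U B)) (v : ↥U), ((ρ h v : ↥U) : V) = (h : V ≃ₗ[F] V) (v : V)) ∧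
      ∃ B' : LinearMap.BilinForm F ↥U, B'.IsAlt ∧ B'.Nondegenerate ∧
        (ρ.range : Set (↥U ≃ₗ[F] ↥U)) = {f : ↥U ≃ₗ[F] ↥U | ∀ x y, B' (f x) (f y) = B' x y} := by
  have hB'app : ∀ x y : ↥U, (B.restrict U) x y = B (x : V) (y : V) := fun x y => rfl
  have hsepL : ∀ x : ↥U, (∀ y : ↥U, (B.restrict U) x y = 0) → x = 0 := by
    intro x hx
    by_contra hne
    have hne' : (x : V) ≠ 0 := fun h => hne (Subtype.ext h)
    obtain ⟨w, hw, hBw⟩ := h46_sp_pair U C hUC B hB hrad (x : V) x.2 hne'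
    exact hBw (hx ⟨w, hw⟩)
  refine ⟨h46_sp_fix U C B hB hrad, h46_sp_pres U B hB, h46_sp_nofix U C hUC B hB hrad,
    h46_sp_span U C hUC B hB hrad,
    h46_restr U (spBlock U B) (h46_sp_pres U B hB), fun h v => rfl, B.restrict U, ?_, ?_, ?_⟩
  · intro x
    exact hB.self_eq_zero (x : V)
  · refine ⟨hsepL, ?_⟩
    intro y hy
    apply hsepL
    intro x
    have h1 := hy x
    rw [hB'app] at h1 ⊢
    have h2 := hB.neg_eq (x : V) (y : V)
    rw [h1, neg_zero] at h2
    exact h2.symm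
  · ext f
    simp only [SetLike.mem_coe, MonoidHom.mem_range, Set.mem_ofPred_eq]
    constructor
    · rintro ⟨h, rfl⟩ x y
      rw [hB'app, hB'app, h46_restr_apply, h46_restr_apply]
      exact h46_sp_isom U B hB _ h.2 _ _
    · intro hf
      obtain ⟨g, hg, hgf⟩ := sp_range U C hUC B hB hrad f (fun x y => hf x y)
      refine ⟨⟨g, hg⟩, ?_⟩
      apply LinearEquiv.ext
      intro v
      apply Subtype.ext
      rw [h46_restr_apply]
      exact hgf v

end Cfsg.Agent.Helper93.McL
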