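import Cfsg.Agent.Lib.Helper93.McL0

/-!
# McL pack T: recognising transvections over `ZMod p` from the hypothesis of S5075
-/

set_option autoImplicit false

namespace Cfsg.Agent.Helper93.McL

open Module

/-- An element of order `p` fixing a hyperplane pointwise is `τ(u, φ)`.
Proof: `N := t - 1` has kernel of codimension 1, so `N = φ.smulRight u`-like: pick `x₀ ∉ ker N`,
`u := N x₀ ≠ 0`, `φ` the functional with kernel `ker N` and `φ x₀ = 1`; then `t x = x + φ x • u`.
If `c := φ u ≠ 0` then `t u = (1 + c) • u`, so `(1+c)^p = 1` in `ZMod p` (as `t ^ p = 1`), hence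
`1 + c = 1` (`ZMod.pow_card`), contradiction. -/
theorem exists_tv_of_hyp {p : ℕ} [Fact p.Prime] {V : Type*} [AddCommGroup V] [Module (ZMod p) V]
    [Finite V] (t : V ≃ₗ[ZMod p] V) (ht : orderOf t = p)
    (hfix : Module.finrank (ZMod p) ↥(LinearMap.ker ((t : V →ₗ[ZMod p] V) - LinearMap.id)) + 1 =
        Module.finrank (ZMod p) V) :
    ∃ (u : V) (φ : Dual (ZMod p) V), u ≠ 0 ∧ φ ≠ 0 ∧ φ u = 0 ∧ t = tv u φ := by
  classical
  haveI : Module.Finite (ZMod p) V := Module.Finite.of_finite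
  have hNx : ∀ x, ((t : V →ₗ[ZMod p] V) - (LinearMap.id : V →ₗ[ZMod p] V)) x = t x - x :=
    fun x => by simp
  generalize hN : (t : V →ₗ[ZMod p] V) - (LinearMap.id : V →ₗ[ZMod p] V) = N at hfix hNx
  have hrk := LinearMap.finrank_range_add_finrank_ker N
  have hr1 : Module.finrank (ZMod p) ↥(LinearMap.range N) = 1 := by omega
  have hNne : N ≠ 0 := by
    intro h0
    rw [h0, LinearMap.range_zero, finrank_bot] at hr1
    exact zero_ne_one hr1
  obtain ⟨x₀, hx₀⟩ : ∃ x₀, N x₀ ≠ 0 := by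
    by_contra hcon
    push Not at hcon
    exact hNne (LinearMap.ext (fun x => by simpa using hcon x))
  generalize hu : N x₀ = u at hx₀
  have hu_mem : u ∈ LinearMap.range N := ⟨x₀, hu⟩
  have hspan := (finrank_eq_one_iff_of_nonzero' (⟨u, hu_mem⟩ : ↥(LinearMap.range N)) (by
      intro h0; exact hx₀ (congrArg Subtype.val h0))).1 hr1
  have hNu : ∀ x, ∃ c : ZMod p, N x = c • u := by
    intro x
    obtain ⟨c, hc⟩ := hspan ⟨N x, ⟨x, rfl⟩⟩
    refine ⟨c, ?_⟩
    have h1 := congrArg Subtype.val hc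
    simpa using h1.symm
  obtain ⟨g, hg⟩ := Module.Projective.exists_dual_eq_one (ZMod p) hx₀
  have hφN : ∀ x, N x = (g ∘ₗ N) x • u := by
    intro x
    obtain ⟨c, hc⟩ := hNu x
    have h1 : (g ∘ₗ N) x = c := by
      rw [LinearMap.comp_apply, hc, map_smul, hg, smul_eq_mul, mul_one]
    rw [h1, hc]
  generalize hφ : g ∘ₗ N = φ at hφN
  have htx : ∀ x, t x = x + φ x • u := by
    intro x
    have h1 := hNx x
    rw [hφN x] at h1
    rw [h1]; abel
  have hφ1 : φ x₀ = 1 := by rw [← hφ, LinearMap.comp_apply, hu, hg]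
  have hφne : φ ≠ 0 := by
    intro h0
    rw [h0] at hφ1
    simp at hφ1
  have hφu : φ u = 0 := by
    by_contra hc
    have htu : t u = (1 + φ u) • u := by rw [htx u, add_smul, one_smul]
    have hpow : ∀ n : ℕ, (t ^ n) u = (1 + φ u) ^ n • u := by
      intro n
      induction n with
      | zero => simp
      | succ n ih =>
        rw [pow_succ', LinearEquiv.mul_apply, ih, map_smul, htu, smul_smul, pow_succ]
    have htp : t ^ p = 1 := by
      have h0 := pow_orderOf_eq_one t
      rwa [ht] at h0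
    have h1 := hpow p
    rw [htp, ZMod.pow_card] at h1
    have h3 : u + 0 = u + φ u • u := by
      calc u + 0 = u := add_zero u
        _ = (1 : V ≃ₗ[ZMod p] V) u := rfl
        _ = (1 + φ u) • u := h1
        _ = u + φ u • u := by rw [add_smul, one_smul]
    have h2 : (φ u) • u = 0 := (add_left_cancel h3).symm
    rcases smul_eq_zero.mp h2 with h4 | h4
    · exact hc h4
    · exact hx₀ h4
  refine ⟨u, φ, hx₀, hφne, hφu, ?_⟩
  apply LinearEquiv.ext
  intro x
  rw [tv_apply hφu, htx x]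

/-- Over `ZMod p` the root subgroup is generated by one transvection: `τ(u, φ)^k = τ(u, k φ)`. -/
theorem rp_of_mem {p : ℕ} [Fact p.Prime] {V : Type*} [AddCommGroup V] [Module (ZMod p) V]
    {G : Subgroup (V ≃ₗ[ZMod p] V)} {u : V} {φ : Dual (ZMod p) V} (hu : u ≠ 0) (hφ : φ ≠ 0)
    (h : φ u = 0) (hm : tv u φ ∈ G) : RP G u φ := by
  haveI : NeZero p := ⟨(Fact.out : p.Prime).ne_zero⟩
  refine ⟨hu, hφ, h, fun c => ?_⟩
  have hpow : ∀ n : ℕ, (tv u φ) ^ n = tv u ((n : ZMod p) • φ) := by
    intro n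
    induction n with
    | zero => simp [tv_zero_right]
    | succ n ih =>
      rw [pow_succ, ih, tv_mul_axis (by simp [h]) h]
      congr 1
      rw [Nat.cast_succ, add_smul, one_smul]
  have hc : ((c.val : ℕ) : ZMod p) = c := ZMod.natCast_zmod_val c
  rw [← hc, ← hpow]
  exact G.pow_mem hm _

/-- A transvection is not the identity. -/
theorem tv_ne_one {F V : Type*} [Field F] [AddCommGroup V] [Module F V] {u : V} {φ : Dual F V}
    (hu : u ≠ 0) (hφ : φ ≠ 0) (h : φ u = 0) : tv u φ ≠ 1 := by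
  intro h1
  obtain ⟨x, hx⟩ : ∃ x, φ x ≠ 0 := by
    by_contra hcon
    push Not at hcon
    exact hφ (LinearMap.ext (fun x => by simpa using hcon x))
  have h2 : tv u φ x = x := by rw [h1]; rfl
  rw [tv_apply h] at h2
  have h3 : x + φ x • u = x + 0 := by rw [h2, add_zero]
  rcases smul_eq_zero.mp (add_left_cancel h3) with h4 | h4
  · exact hx h4
  · exact hu h4

end Cfsg.Agent.Helper93.McL
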