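import Cfsg.Agent.Lib.Helper93.McLBlock
import Cfsg.Agent.Lib.Helper93.McLBS
import Cfsg.Agent.Lib.Helper93.McLT
import Cfsg.Agent.Lib.Helper93.McLR
import Cfsg.Agent.Lib.Helper93.McLConcl

/-!
# McLaughlin's theorem over `F_p`, `p` odd: the induction
-/

set_option autoImplicit false

namespace Cfsg.Agent.Helper93.McL

open Module

section grp

variable {Γ : Type*} [Group Γ]

lemma mem_sup_of_commute (A B : Subgroup Γ) (hcomm : ∀ a ∈ A, ∀ b ∈ B, a * b = b * a) {k : Γ}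
    (hk : k ∈ A ⊔ B) : ∃ a ∈ A, ∃ b ∈ B, k = a * b := by
  rw [Subgroup.sup_eq_closure] at hk
  induction hk using Subgroup.closure_induction with
  | mem g hg =>
    rcases hg with hg | hg
    · exact ⟨g, hg, 1, B.one_mem, by simp⟩
    · exact ⟨1, A.one_mem, g, hg, by simp⟩
  | one => exact ⟨1, A.one_mem, 1, B.one_mem, by simp⟩
  | mul x y _ _ hx hy =>
    obtain ⟨a, ha, b, hb, rfl⟩ := hx
    obtain ⟨a', ha', b', hb', rfl⟩ := hy
    refine ⟨a * a', A.mul_mem ha ha', b * b', B.mul_mem hb hb', ?_⟩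
    have := hcomm a' ha' b hb
    calc a * b * (a' * b') = a * (b * a') * b' := by group
      _ = a * (a' * b) * b' := by rw [this]
      _ = a * a' * (b * b') := by group
  | inv x _ hx =>
    obtain ⟨a, ha, b, hb, rfl⟩ := hx
    refine ⟨a⁻¹, A.inv_mem ha, b⁻¹, B.inv_mem hb, ?_⟩
    have := hcomm a⁻¹ (A.inv_mem ha) b⁻¹ (B.inv_mem hb)
    rw [mul_inv_rev, this]

end grp

variable {p : ℕ} [Fact p.Prime] {V : Type*} [AddCommGroup V] [Module (ZMod p) V]

/-- `T` consists of genuine transvections. -/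
def IsTvSet (T : Set (V ≃ₗ[ZMod p] V)) : Prop :=
  ∀ t ∈ T, ∃ (u : V) (φ : Dual (ZMod p) V), u ≠ 0 ∧ φ ≠ 0 ∧ φ u = 0 ∧ t = tv u φ

lemma eq_one_of_fix {U C : Submodule (ZMod p) V} (hUC : IsCompl U C) {b : V ≃ₗ[ZMod p] V}
    (hU : ∀ u ∈ U, b u = u) (hC : ∀ c ∈ C, b c = c) : b = 1 := by
  apply LinearEquiv.ext
  intro x
  have hx : x ∈ U ⊔ C := by rw [hUC.sup_eq_top]; trivial
  obtain ⟨u, hu, c, hc, rfl⟩ := Submodule.mem_sup.mp hx
  simp [map_add, hU u hu, hC c hc]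

instance finite_linearEquiv [Finite V] : Finite (V ≃ₗ[ZMod p] V) :=
  Finite.of_injective (fun f : V ≃ₗ[ZMod p] V => (f : V → V)) DFunLike.coe_injective

lemma inv_apply_eq_of_apply_eq {a : V ≃ₗ[ZMod p] V} {x : V} (h : a x = x) : a⁻¹ x = x := by
  have : a⁻¹ (a x) = x := by
    rw [← LinearEquiv.mul_apply, inv_mul_cancel]
    rfl
  rwa [h] at this

/-- The common inductive step: `G = closure (TU ∪ TC)`, the block group `Blk` is inside `G`, contains
`TU`, fixes `C` pointwise, preserves `U`; `TC` lives in `C`. -/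
lemma step_common [Finite V] {G Blk : Subgroup (V ≃ₗ[ZMod p] V)} {TU TC : Set (V ≃ₗ[ZMod p] V)}
    {U C : Submodule (ZMod p) V} (hUC : IsCompl U C) (hU0 : U ≠ ⊥)
    (hG : G = Subgroup.closure (TU ∪ TC)) (hOp : Cfsg.pCore p ↥G = ⊥)
    (hBlkG : Blk ≤ G) (hTU : TU ⊆ (Blk : Set (V ≃ₗ[ZMod p] V)))
    (hB_C : ∀ g ∈ Blk, ∀ c ∈ C, g c = c) (hB_U : ∀ g ∈ Blk, ∀ u ∈ U, g u ∈ U)
    (hfix : ∀ u ∈ U, (∀ g ∈ Blk, g u = u) → u = 0)
    (hspan : U ≤ Submodule.span (ZMod p) {y : V | ∃ g ∈ Blk, ∃ x : V, y = g x - x})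
    (hρ : ∃ ρ : ↥Blk →* (↥U ≃ₗ[ZMod p] ↥U),
        (∀ (h : ↥Blk) (v : ↥U), ((ρ h v : ↥U) : V) = (h : V ≃ₗ[ZMod p] V) (v : V)) ∧
        ((ρ.range : Set (↥U ≃ₗ[ZMod p] ↥U)) =
            {f : ↥U ≃ₗ[ZMod p] ↥U | LinearMap.det (f : ↥U →ₗ[ZMod p] ↥U) = 1} ∨
          ∃ B : LinearMap.BilinForm (ZMod p) ↥U, B.IsAlt ∧ B.Nondegenerate ∧
            (ρ.range : Set (↥U ≃ₗ[ZMod p] ↥U)) = {f : ↥U ≃ₗ[ZMod p] ↥U | ∀ x y, B (f x) (f y) = B x y}))
    (hTC : ∀ t ∈ TC, ∃ z ∈ C, ∃ ζ : Dual (ZMod p) V, (∀ u ∈ U, ζ u = 0) ∧ ζ z = 0 ∧ t = tv z ζ)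
    (ih : ∀ G' : Subgroup (V ≃ₗ[ZMod p] V), Nat.card G' < Nat.card G →
      G' = Subgroup.closure TC → Cfsg.pCore p ↥G' = ⊥ → Concl p G') :
    Concl p G := by
  have hsup : Subgroup.closure TU ⊔ Subgroup.closure TC = G := by
    rw [hG, Subgroup.closure_union]
  have hGU_le : Subgroup.closure TU ≤ Blk := (Subgroup.closure_le _).2 hTU
  -- facts on GC
  have hGC_U : ∀ g ∈ Subgroup.closure TC, ∀ u ∈ U, g u = u := by
    intro g hg
    induction hg using Subgroup.closure_induction with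
    | mem t ht =>
      obtain ⟨z, _, ζ, hζU, hζz, rfl⟩ := hTC t ht
      intro u hu
      rw [tv_apply hζz, hζU u hu, zero_smul, add_zero]
    | one => intro u _; rfl
    | mul a b _ _ ha hb =>
      intro u hu
      rw [LinearEquiv.mul_apply, hb u hu, ha u hu]
    | inv a _ ha =>
      intro u hu
      exact inv_apply_eq_of_apply_eq (ha u hu)
  have hGC_C : ∀ g ∈ Subgroup.closure TC, ∀ x : V, g x - x ∈ C := by
    intro g hg
    induction hg using Subgroup.closure_induction with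
    | mem t ht =>
      obtain ⟨z, hz, ζ, _, hζz, rfl⟩ := hTC t ht
      intro x
      rw [tv_apply hζz, add_sub_cancel_left]
      exact C.smul_mem _ hz
    | one => intro x; simp
    | mul a b _ _ ha hb =>
      intro x
      have : (a * b) x - x = (a (b x) - b x) + (b x - x) := by
        rw [LinearEquiv.mul_apply]; abel
      rw [this]
      exact C.add_mem (ha _) (hb _)
    | inv a _ ha =>
      intro x
      have h1 := ha (a⁻¹ x)
      have h2 : a (a⁻¹ x) = x := by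
        rw [← LinearEquiv.mul_apply, mul_inv_cancel]; rfl
      rw [h2] at h1
      have : a⁻¹ x - x = -(x - a⁻¹ x) := by abel
      rw [this]
      exact C.neg_mem h1
  have hGC_Cmem : ∀ g ∈ Subgroup.closure TC, ∀ c ∈ C, g c ∈ C := by
    intro g hg c hc
    have := C.add_mem (hGC_C g hg c) hc
    simpa using this
  -- Blk and GC commute
  have hcomm : ∀ a ∈ Blk, ∀ b ∈ Subgroup.closure TC, a * b = b * a := by
    intro a ha b hb
    apply LinearEquiv.ext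
    intro x
    have hx : x ∈ U ⊔ C := by rw [hUC.sup_eq_top]; trivial
    obtain ⟨u, hu, c, hc, rfl⟩ := Submodule.mem_sup.mp hx
    simp only [LinearEquiv.mul_apply, map_add]
    rw [hGC_U b hb u hu, hB_C a ha c hc, hB_C a ha (b c) (hGC_Cmem b hb c hc),
      hGC_U b hb (a u) (hB_U a ha u hu)]
  -- GU = Blk
  have hEq : Subgroup.closure TU = Blk := by
    apply le_antisymm hGU_le
    intro k hk
    have hkG : k ∈ Subgroup.closure TU ⊔ Subgroup.closure TC := by rw [hsup]; exact hBlkG hk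
    obtain ⟨a, ha, b, hb, rfl⟩ := mem_sup_of_commute _ _
      (fun a ha b hb => hcomm a (hGU_le ha) b hb) hkG
    have hb1 : b = 1 := by
      apply eq_one_of_fix hUC (hGC_U b hb)
      intro c hc
      have h1 : (a * b) c = c := hB_C _ hk c hc
      rw [LinearEquiv.mul_apply] at h1
      have h2 : a⁻¹ (a (b c)) = b c := by
        rw [← LinearEquiv.mul_apply, inv_mul_cancel]; rfl
      rw [h1] at h2
      rw [← h2]
      exact inv_apply_eq_of_apply_eq (hB_C a (hGU_le ha) c hc)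
    rw [hb1, mul_one]
    exact ha
  subst hEq
  -- GC is strictly smaller
  have hGCle : Subgroup.closure TC ≤ G := by rw [← hsup]; exact le_sup_right
  have hlt : Nat.card ↥(Subgroup.closure TC) < Nat.card ↥G := by
    by_contra hnot
    replace hnot := not_lt.mp hnot
    have hEq2 : Subgroup.closure TC = G := Subgroup.eq_of_le_of_card_ge hGCle hnot
    apply hU0
    rw [Submodule.eq_bot_iff]
    intro u hu
    apply hfix u hu
    intro g hg
    have : g ∈ Subgroup.closure TC := by rw [hEq2]; exact hBlkG hg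
    exact hGC_U g this u hu
  have hOpC : Cfsg.pCore p ↥(Subgroup.closure TC) = ⊥ :=
    pCore_eq_bot_of_factor p G (Subgroup.closure TU) (Subgroup.closure TC) hsup hcomm hOp
  have hC := ih _ hlt rfl hOpC
  exact concl_step G (Subgroup.closure TU) (Subgroup.closure TC) U C hUC hsup hB_C hB_U hGC_U hGC_C
    hfix hspan hρ hC

/-- McLaughlin's theorem in the strengthened form `Concl`, by induction on `|G|`. -/
theorem concl_of_gen [Finite V] (hp : Odd p) :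
    ∀ (N : ℕ) (G : Subgroup (V ≃ₗ[ZMod p] V)) (T : Set (V ≃ₗ[ZMod p] V)),
      Nat.card ↥G = N → G = Subgroup.closure T → IsTvSet T → Cfsg.pCore p ↥G = ⊥ → Concl p G := by
  intro N
  induction N using Nat.strong_induction_on with
  | _ N IH =>
  intro G T hN hG hT hOp
  by_cases hTe : T = ∅
  · have hbot : G = ⊥ := by rw [hG, hTe, Subgroup.closure_empty]
    rw [hbot]
    exact concl_bot p
  obtain ⟨t0, ht0⟩ := Set.nonempty_iff_ne_empty.mpr hTe
  have hTG : ∀ t ∈ T, t ∈ G := fun t ht => by rw [hG]; exact Subgroup.subset_closure ht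
  have hTrp : ∀ t ∈ T, ∃ (u : V) (φ : Dual (ZMod p) V), RP G u φ ∧ t = tv u φ := by
    intro t ht
    obtain ⟨u, φ, hu, hφ, h, rfl⟩ := hT t ht
    exact ⟨u, φ, rp_of_mem hu hφ h (hTG _ ht), rfl⟩
  have hgood : Good G := good_of_pCore G hOp
  have h2 : (2 : ZMod p) ≠ 0 := by
    intro h
    have h' : ((2 : ℕ) : ZMod p) = 0 := by exact_mod_cast h
    rw [CharP.cast_eq_zero_iff (ZMod p) p 2] at h'
    have hle := Nat.le_of_dvd (by norm_num) h'
    have hge := (Fact.out : p.Prime).two_le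
    have h2p : p = 2 := le_antisymm hle hge
    rw [h2p] at hp
    exact absurd hp (by decide)
  have : Module.Finite (ZMod p) V := Module.Finite.of_finite
  have hne : ∃ (u : V) (φ : Dual (ZMod p) V), RP G u φ := by
    obtain ⟨u, φ, h, _⟩ := hTrp t0 ht0
    exact ⟨u, φ, h⟩
  obtain ⟨U, C, hdim, hcase⟩ := exists_block h2 hgood hne
  have hU0 : U ≠ ⊥ := by
    intro h
    rw [h, finrank_bot] at hdim
    omega
  rcases hcase with ⟨hSL, hcl⟩ | ⟨B, hSp, hcl⟩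
  · -- the `SL` case
    obtain ⟨hUC, hin⟩ := hSL
    obtain ⟨TU, hTUdef⟩ : ∃ TU : Set (V ≃ₗ[ZMod p] V), TU = {t | t ∈ T ∧ ∃ u ∈ U,
        ∃ φ : Dual (ZMod p) V, (∀ c ∈ C, φ c = 0) ∧ φ u = 0 ∧ t = tv u φ} := ⟨_, rfl⟩
    obtain ⟨TC, hTCdef⟩ : ∃ TC : Set (V ≃ₗ[ZMod p] V), TC = {t | t ∈ T ∧ ∃ z ∈ C,
        ∃ ζ : Dual (ZMod p) V, (∀ u ∈ U, ζ u = 0) ∧ ζ z = 0 ∧ t = tv z ζ} := ⟨_, rfl⟩
    have hTeq : T = TU ∪ TC := by
      subst hTUdef hTCdef
      ext t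
      constructor
      · intro ht
        obtain ⟨z, ζ, hrp, rfl⟩ := hTrp t ht
        rcases hcl z ζ hrp with ⟨hz, hζ⟩ | ⟨hz, hζ⟩
        · left
          exact ⟨ht, z, hz, ζ, hζ, hrp.2.2.1, rfl⟩
        · right
          exact ⟨ht, z, hz, ζ, hζ, hrp.2.2.1, rfl⟩
      · rintro (h | h) <;> exact h.1
    obtain ⟨r1, r2, r3, r4, ρ, hρ1, hρ2⟩ := rho_sl U C hUC hdim
    have hBlkG : slBlock U C ≤ G := by
      rw [slBlock, Subgroup.closure_le]
      rintro t ⟨u, hu, φ, hφC, hφu, rfl⟩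
      exact hin u hu φ hφC hφu
    have hTUB : TU ⊆ (slBlock U C : Set (V ≃ₗ[ZMod p] V)) := by
      subst hTUdef
      rintro t ⟨_, u, hu, φ, hφC, hφu, rfl⟩
      exact Subgroup.subset_closure ⟨u, hu, φ, hφC, hφu, rfl⟩
    have hG' : G = Subgroup.closure (TU ∪ TC) := by rw [← hTeq]; exact hG
    have hTC : ∀ t ∈ TC, ∃ z ∈ C, ∃ ζ : Dual (ZMod p) V,
        (∀ u ∈ U, ζ u = 0) ∧ ζ z = 0 ∧ t = tv z ζ := by
      subst hTCdef
      rintro t ⟨_, h⟩
      exact h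
    have hTCtv : IsTvSet TC := by
      subst hTCdef
      intro t ht
      exact hT t ht.1
    refine step_common hUC hU0 hG' hOp hBlkG hTUB r1 r2 r3 r4 ⟨ρ, hρ1, Or.inl hρ2⟩ hTC ?_
    intro G₁ hlt hG₁ hOp₁
    exact IH (Nat.card ↥G₁) (by rw [← hN]; exact hlt) G₁ TC rfl hG₁ hTCtv hOp₁
  · -- the `Sp` case
    obtain ⟨hUC, hAlt, hrad, hin⟩ := hSp
    obtain ⟨TU, hTUdef⟩ : ∃ TU : Set (V ≃ₗ[ZMod p] V), TU = {t | t ∈ T ∧ ∃ u ∈ U,
        ∃ a : ZMod p, t = tv u (a • B u)} := ⟨_, rfl⟩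
    obtain ⟨TC, hTCdef⟩ : ∃ TC : Set (V ≃ₗ[ZMod p] V), TC = {t | t ∈ T ∧ ∃ z ∈ C,
        ∃ ζ : Dual (ZMod p) V, (∀ u ∈ U, ζ u = 0) ∧ ζ z = 0 ∧ t = tv z ζ} := ⟨_, rfl⟩
    have hTeq : T = TU ∪ TC := by
      subst hTUdef hTCdef
      ext t
      constructor
      · intro ht
        obtain ⟨z, ζ, hrp, rfl⟩ := hTrp t ht
        rcases hcl z ζ hrp with ⟨hz, a, ha⟩ | ⟨hz, hζ⟩
        · left
          exact ⟨ht, z, hz, a, by rw [ha]⟩
        · right
          exact ⟨ht, z, hz, ζ, hζ, hrp.2.2.1, rfl⟩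
      · rintro (h | h) <;> exact h.1
    obtain ⟨r1, r2, r3, r4, ρ, hρ1, B', hB'1, hB'2, hB'3⟩ := rho_sp U C hUC hU0 B hAlt hrad
    have hBlkG : spBlock U B ≤ G := by
      rw [spBlock, Subgroup.closure_le]
      rintro t ⟨u, hu, a, rfl⟩
      exact hin u hu a
    have hTUB : TU ⊆ (spBlock U B : Set (V ≃ₗ[ZMod p] V)) := by
      subst hTUdef
      rintro t ⟨_, u, hu, a, rfl⟩
      exact Subgroup.subset_closure ⟨u, hu, a, rfl⟩
    have hG' : G = Subgroup.closure (TU ∪ TC) := by rw [← hTeq]; exact hG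
    have hTC : ∀ t ∈ TC, ∃ z ∈ C, ∃ ζ : Dual (ZMod p) V,
        (∀ u ∈ U, ζ u = 0) ∧ ζ z = 0 ∧ t = tv z ζ := by
      subst hTCdef
      rintro t ⟨_, h⟩
      exact h
    have hTCtv : IsTvSet TC := by
      subst hTCdef
      intro t ht
      exact hT t ht.1
    refine step_common hUC hU0 hG' hOp hBlkG hTUB r1 r2 r3 r4
      ⟨ρ, hρ1, Or.inr ⟨B', hB'1, hB'2, hB'3⟩⟩ hTC ?_
    intro G₁ hlt hG₁ hOp₁
    exact IH (Nat.card ↥G₁) (by rw [← hN]; exact hlt) G₁ TC rfl hG₁ hTCtv hOp₁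

end Cfsg.Agent.Helper93.McL
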