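import Cfsg.Agent.Lib.Helper93.McL0

/-!
# McL pack N: the SL-side toolbox (N1), (N1'), (N2)

Notation of the board post: `V = U ⊕ C`, `HasSL G U C` says `τ(u,φ) ∈ G` for all `u ∈ U`,
`φ` vanishing on `C`, `φ u = 0`.  A root pair `(z, ζ)` is written `z = zU + zC`.
(Delivered by helper68; the `h68_` lemmas are auxiliary.)
-/

set_option autoImplicit false

namespace Cfsg.Agent.Helper93.McL

open Module

variable {F V : Type*} [Field F] [AddCommGroup V] [Module F V] [FiniteDimensional F V]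

omit [FiniteDimensional F V] in
/-- A functional vanishing on `W` with value `1` at `x ∉ W`. -/
theorem h68_exists_dual {W : Submodule F V} {x : V} (hx : x ∉ W) :
    ∃ f : Dual F V, (∀ w ∈ W, f w = 0) ∧ f x = 1 := by
  obtain ⟨f, hfx, hfW⟩ := Submodule.exists_dual_map_eq_bot_of_notMem hx inferInstance
  refine ⟨(f x)⁻¹ • f, fun w hw => ?_, ?_⟩
  · have h1 : f w ∈ W.map f := Submodule.mem_map_of_mem hw
    rw [hfW] at h1
    have h2 : f w = 0 := (Submodule.mem_bot F).mp h1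
    simp [h2]
  · simp [hfx]

omit [FiniteDimensional F V] in
/-- A functional vanishing on `C` and on `S ≤ U`, with value `1` at `x ∈ U`, `x ∉ S`. -/
theorem h68_exists_dual_U {U C : Submodule F V} (hUC : IsCompl U C) {S : Submodule F V}
    (hS : S ≤ U) {x : V} (hxU : x ∈ U) (hx : x ∉ S) :
    ∃ f : Dual F V, (∀ c ∈ C, f c = 0) ∧ (∀ s ∈ S, f s = 0) ∧ f x = 1 := by
  have hx' : x ∉ C ⊔ S := by
    intro hmem
    obtain ⟨c, hc, s, hs, hcs⟩ := Submodule.mem_sup.mp hmem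
    have hcU : c ∈ U := by
      have h1 : c = x - s := by rw [← hcs]; abel
      rw [h1]
      exact U.sub_mem hxU (hS hs)
    have hc0 : c = 0 := by
      have h1 : c ∈ U ⊓ C := ⟨hcU, hc⟩
      rw [hUC.inf_eq_bot] at h1
      exact (Submodule.mem_bot F).mp h1
    apply hx
    rw [← hcs, hc0, zero_add]
    exact hs
  obtain ⟨f, hf, hfx⟩ := h68_exists_dual hx'
  exact ⟨f, fun c hc => hf c (Submodule.mem_sup_left hc),
    fun s hs => hf s (Submodule.mem_sup_right hs), hfx⟩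

theorem h68_exists_not_mem {U S : Submodule F V} (h : finrank F S < finrank F U) :
    ∃ w ∈ U, w ∉ S := by
  by_contra hcon
  push Not at hcon
  have h1 : U ≤ S := fun w hw => hcon w hw
  have h2 := Submodule.finrank_mono h1
  omega

theorem h68_finrank_span_singleton_le (v : V) : finrank F (Submodule.span F {v}) ≤ 1 := by
  by_cases hv : v = 0
  · subst hv
    rw [Submodule.span_zero_singleton, finrank_bot]
    exact Nat.zero_le _
  · rw [finrank_span_singleton hv]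

/-- An element of `U ⊓ ker ζ` outside `S`, when `dim S + 2 ≤ dim U`. -/
theorem h68_exists_ker {U S : Submodule F V} (ζ : Dual F V)
    (h : finrank F S + 2 ≤ finrank F U) : ∃ w ∈ U, ζ w = 0 ∧ w ∉ S := by
  by_cases h0 : ∃ u₀ ∈ U, ζ u₀ ≠ 0
  · obtain ⟨u₀, hu₀, hζ⟩ := h0
    have hS' : finrank F ↥(S ⊔ Submodule.span F {u₀}) < finrank F U := by
      have h1 := Submodule.finrank_add_le_finrank_add_finrank S (Submodule.span F {u₀})
      have h2 := h68_finrank_span_singleton_le (F := F) u₀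
      omega
    obtain ⟨w, hwU, hw⟩ := h68_exists_not_mem hS'
    refine ⟨w - (ζ w / ζ u₀) • u₀, U.sub_mem hwU (U.smul_mem _ hu₀), ?_, ?_⟩
    · simp only [map_sub, map_smul, smul_eq_mul]
      field_simp
      ring
    · intro hmem
      apply hw
      have h1 : w = (w - (ζ w / ζ u₀) • u₀) + (ζ w / ζ u₀) • u₀ := by abel
      rw [h1]
      exact Submodule.add_mem_sup hmem
        (Submodule.smul_mem _ _ (Submodule.mem_span_singleton_self u₀))
  · push Not at h0
    obtain ⟨w, hwU, hw⟩ := h68_exists_not_mem (S := S) (U := U) (by omega)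
    exact ⟨w, hwU, h0 w hwU, hw⟩

omit [FiniteDimensional F V] in
/-- Conjugating a transvection by a transvection. -/
theorem h68_tv_conj_tv {w u : V} {φ₀ φ : Dual F V} (hw : φ₀ w = 0) :
    tv w φ₀ * tv u φ * (tv w φ₀)⁻¹ = tv (u + φ₀ u • w) (φ - φ w • φ₀) := by
  rw [conj_tv, tv_apply hw]
  congr 1
  apply LinearMap.ext
  intro x
  have h1 : ((tv w φ₀).symm : V →ₗ[F] V) x = (tv w φ₀)⁻¹ x := rfl
  rw [LinearMap.comp_apply, h1, tv_inv, tv_apply (by simp [hw])]
  simp only [map_add, map_smul, LinearMap.neg_apply, LinearMap.sub_apply, LinearMap.smul_apply,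
    smul_eq_mul]
  ring

omit [FiniteDimensional F V] in
/-- `x ∉ span {y}` when a functional kills `x` but not `y`, and `x ≠ 0`. -/
theorem h68_not_mem_span_singleton {x y : V} {f : Dual F V} (hx0 : x ≠ 0) (hfx : f x = 0)
    (hfy : f y ≠ 0) : x ∉ Submodule.span F {y} := by
  intro hmem
  obtain ⟨t, ht⟩ := Submodule.mem_span_singleton.mp hmem
  have h1 : t * f y = 0 := by
    have h2 := congrArg f ht
    rw [map_smul, smul_eq_mul, hfx] at h2
    exact h2
  rcases mul_eq_zero.mp h1 with h3 | h3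
  · apply hx0
    rw [← ht, h3, zero_smul]
  · exact hfy h3

/-- (N1) for a root pair with centre in `C` (any `k ≥ 2`). -/
theorem rp_center_part0 {G : Subgroup (V ≃ₗ[F] V)} {U C : Submodule F V} (h : HasSL G U C)
    (h2 : 2 ≤ finrank F U) {c : V} {ω : Dual F V} (hc : c ∈ C) (hr : RP G c ω)
    (hω : ∃ u ∈ U, ω u ≠ 0) :
    ∀ φ : Dual F V, (∀ c' ∈ C, φ c' = 0) → tv c φ ∈ G := by
  obtain ⟨hUC, hSL⟩ := h
  have base : ∀ φ : Dual F V, (∀ c' ∈ C, φ c' = 0) → (∃ u ∈ U, ω u ≠ 0 ∧ φ u = 0) →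
      tv c φ ∈ G := by
    rintro φ hφ ⟨u, hu, hωu, hφu⟩
    by_cases hφ0 : φ = 0
    · rw [hφ0, tv_zero_right]
      exact G.one_mem
    have hu0 : u ≠ 0 := by
      rintro rfl
      exact hωu (map_zero ω)
    have hrp : RP G u φ := ⟨hu0, hφ0, hφu, fun a => hSL u hu (a • φ)
      (fun c' hc' => by simp [hφ c' hc']) (by simp [hφu])⟩
    have h1 := (RP.comm hrp hr (hφ c hc) hωu).2.2.2 1
    simpa using h1
  intro φ hφ
  by_cases hex : ∃ u ∈ U, ω u ≠ 0 ∧ φ u = 0
  · exact base φ hφ hex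
  push Not at hex
  obtain ⟨u₁, hu₁, hω₁⟩ := hω
  have hφ₁ : φ u₁ ≠ 0 := hex u₁ hu₁ hω₁
  obtain ⟨u₂, hu₂, hφ₂, hu₂0⟩ := h68_exists_ker (U := U) (S := ⊥) φ (by simpa using h2)
  have hu₂0' : u₂ ≠ 0 := by simpa using hu₂0
  have hω₂ : ω u₂ = 0 := by
    by_contra hne
    exact hex u₂ hu₂ hne hφ₂
  have hu₂S : u₂ ∉ Submodule.span F {u₁} := h68_not_mem_span_singleton hu₂0' hφ₂ hφ₁
  obtain ⟨ψ, hψC, hψS, hψ₂⟩ := h68_exists_dual_U hUC (S := Submodule.span F {u₁})
    (by rw [Submodule.span_le]; simpa using hu₁) hu₂ hu₂S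
  have hψ₁ : ψ u₁ = 0 := hψS u₁ (Submodule.mem_span_singleton_self u₁)
  have m1 : tv c (φ + ψ) ∈ G := base (φ + ψ)
    (fun c' hc' => by simp [hφ c' hc', hψC c' hc'])
    ⟨u₁ - (φ u₁) • u₂, U.sub_mem hu₁ (U.smul_mem _ hu₂), by simp [hω₂, hω₁],
      by simp [hφ₂, hψ₁, hψ₂]⟩
  have m2 : tv c (-ψ) ∈ G := base (-ψ) (fun c' hc' => by simp [hψC c' hc'])
    ⟨u₁, hu₁, hω₁, by simp [hψ₁]⟩
  have e : tv c φ = tv c (φ + ψ) * tv c (-ψ) := by
    rw [tv_mul_axis (by simp [hφ c hc, hψC c hc]) (by simp [hψC c hc])]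
    congr 1
    abel
  rw [e]
  exact G.mul_mem m1 m2

/-- (N1). -/
theorem rp_center_part {G : Subgroup (V ≃ₗ[F] V)} {U C : Submodule F V} (h : HasSL G U C)
    (h3 : 3 ≤ finrank F U) {zU zC : V} {ζ : Dual F V} (hzU : zU ∈ U) (hzC : zC ∈ C)
    (hr : RP G (zU + zC) ζ) (hζ : ∃ u ∈ U, ζ u ≠ 0) :
    ∀ φ : Dual F V, (∀ c ∈ C, φ c = 0) → tv zC φ ∈ G := by
  obtain ⟨hUC, hSL⟩ := h
  have base : ∀ φ : Dual F V, (∀ c ∈ C, φ c = 0) → φ zU = 0 →
      (∃ u ∈ U, ζ u ≠ 0 ∧ φ u = 0) → tv zC φ ∈ G := by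
    rintro φ hφ hφz ⟨u, hu, hζu, hφu⟩
    by_cases hφ0 : φ = 0
    · rw [hφ0, tv_zero_right]
      exact G.one_mem
    have hu0 : u ≠ 0 := by
      rintro rfl
      exact hζu (map_zero ζ)
    have hrp : RP G u φ := ⟨hu0, hφ0, hφu, fun a => hSL u hu (a • φ)
      (fun c' hc' => by simp [hφ c' hc']) (by simp [hφu])⟩
    have hφzz : φ (zU + zC) = 0 := by simp [hφz, hφ zC hzC]
    have h1 : tv (zU + zC) φ ∈ G := by simpa using (RP.comm hrp hr hφzz hζu).2.2.2 1
    have h2 : tv (-zU) φ ∈ G := hSL (-zU) (U.neg_mem hzU) φ hφ (by simp [hφz])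
    have e : tv zC φ = tv (zU + zC) φ * tv (-zU) φ := by
      rw [tv_mul_center hφzz (by simp [hφz])]
      congr 1
      abel
    rw [e]
    exact G.mul_mem h1 h2
  have step1 : ∀ φ : Dual F V, (∀ c ∈ C, φ c = 0) → φ zU = 0 → tv zC φ ∈ G := by
    intro φ hφ hφz
    by_cases hex : ∃ u ∈ U, ζ u ≠ 0 ∧ φ u = 0
    · exact base φ hφ hφz hex
    push Not at hex
    obtain ⟨u₁, hu₁, hζ₁⟩ := hζ
    have hφ₁ : φ u₁ ≠ 0 := hex u₁ hu₁ hζ₁
    obtain ⟨u₂, hu₂, hφ₂, hu₂z⟩ := h68_exists_ker (U := U) (S := Submodule.span F {zU}) φ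
      (by have := h68_finrank_span_singleton_le (F := F) zU; omega)
    have hζ₂ : ζ u₂ = 0 := by
      by_contra hne
      exact hex u₂ hu₂ hne hφ₂
    have hu₂S : u₂ ∉ Submodule.span F {zU, u₁} := by
      intro hmem
      obtain ⟨s, t, hst⟩ := Submodule.mem_span_pair.mp hmem
      have ht : t = 0 := by
        have h1 := congrArg φ hst
        rw [map_add, map_smul, map_smul, hφz, hφ₂, smul_eq_mul, smul_eq_mul, mul_zero,
          zero_add] at h1
        rcases mul_eq_zero.mp h1 with h4 | h4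
        · exact h4
        · exact absurd h4 hφ₁
      apply hu₂z
      rw [← hst, ht, zero_smul, add_zero]
      exact Submodule.smul_mem _ _ (Submodule.mem_span_singleton_self zU)
    obtain ⟨ψ, hψC, hψS, hψ₂⟩ := h68_exists_dual_U hUC (S := Submodule.span F {zU, u₁})
      (by
        rw [Submodule.span_le]
        intro x hx
        rcases hx with rfl | rfl
        exacts [hzU, hu₁]) hu₂ hu₂S
    have hψz : ψ zU = 0 := hψS zU (Submodule.subset_span (by simp))
    have hψ₁ : ψ u₁ = 0 := hψS u₁ (Submodule.subset_span (by simp))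
    have m1 : tv zC (φ + ψ) ∈ G := base (φ + ψ)
      (fun c' hc' => by simp [hφ c' hc', hψC c' hc']) (by simp [hφz, hψz])
      ⟨u₁ - (φ u₁) • u₂, U.sub_mem hu₁ (U.smul_mem _ hu₂), by simp [hζ₂, hζ₁],
        by simp [hφ₂, hψ₁, hψ₂]⟩
    have m2 : tv zC (-ψ) ∈ G := base (-ψ) (fun c' hc' => by simp [hψC c' hc'])
      (by simp [hψz]) ⟨u₁, hu₁, hζ₁, by simp [hψ₁]⟩
    have e : tv zC φ = tv zC (φ + ψ) * tv zC (-ψ) := by
      rw [tv_mul_axis (by simp [hφ zC hzC, hψC zC hzC]) (by simp [hψC zC hzC])]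
      congr 1
      abel
    rw [e]
    exact G.mul_mem m1 m2
  intro φ₀ hφ₀
  by_cases hz : φ₀ zU = 0
  · exact step1 φ₀ hφ₀ hz
  obtain ⟨w, hw, hφ₀w, hw0⟩ := h68_exists_ker (U := U) (S := ⊥) φ₀
    (by rw [finrank_bot]; omega)
  have hw0' : w ≠ 0 := by simpa using hw0
  have hwS : w ∉ Submodule.span F {zU} := h68_not_mem_span_singleton hw0' hφ₀w hz
  obtain ⟨φ, hφC, hφS, hφw⟩ := h68_exists_dual_U hUC (S := Submodule.span F {zU})
    (by rw [Submodule.span_le]; simpa using hzU) hw hwS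
  have hφz : φ zU = 0 := hφS zU (Submodule.mem_span_singleton_self zU)
  have hA : tv zC φ ∈ G := step1 φ hφC hφz
  have hg : tv w φ₀ ∈ G := hSL w hw φ₀ hφ₀ hφ₀w
  have hconj := h68_tv_conj_tv (u := zC) (φ := φ) hφ₀w
  have hB : tv zC (φ - φ₀) ∈ G := by
    have e : tv (zC + φ₀ zC • w) (φ - φ w • φ₀) = tv zC (φ - φ₀) := by
      rw [hφ₀ zC hzC, zero_smul, add_zero, hφw, one_smul]
    rw [← e, ← hconj]
    exact G.mul_mem (G.mul_mem hg hA) (G.inv_mem hg)
  have e : tv zC φ₀ = tv zC φ * (tv zC (φ - φ₀))⁻¹ := by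
    rw [tv_inv, tv_mul_axis (hφC zC hzC) (by simp [hφC zC hzC, hφ₀ zC hzC])]
    congr 1
    abel
  rw [e]
  exact G.mul_mem hA (G.inv_mem hB)

/-- (N1'), dual to (N1). -/
theorem rp_axis_part {G : Subgroup (V ≃ₗ[F] V)} {U C : Submodule F V} (h : HasSL G U C)
    (h3 : 3 ≤ finrank F U) {zU zC : V} {ζ γ : Dual F V} (hzU : zU ∈ U) (hzC : zC ∈ C)
    (hzU0 : zU ≠ 0) (hr : RP G (zU + zC) ζ) (hγU : ∀ u ∈ U, γ u = 0)
    (hγC : ∀ c ∈ C, γ c = ζ c) :
    ∀ u ∈ U, ∀ a : F, tv u (a • γ) ∈ G := by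
  obtain ⟨hUC, hSL⟩ := h
  have base : ∀ u ∈ U, ζ u = 0 → u ∉ Submodule.span F {zU} → ∀ a : F, tv u (a • γ) ∈ G := by
    intro u hu hζu huz a
    have hu0 : u ≠ 0 := by
      rintro rfl
      exact huz (Submodule.zero_mem _)
    have hzu : zU ∉ Submodule.span F {u} := by
      intro hmem
      obtain ⟨t, ht⟩ := Submodule.mem_span_singleton.mp hmem
      have ht0 : t ≠ 0 := by
        rintro rfl
        rw [zero_smul] at ht
        exact hzU0 ht.symm
      apply huz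
      have h1 : u = t⁻¹ • zU := by rw [← ht, smul_smul, inv_mul_cancel₀ ht0, one_smul]
      rw [h1]
      exact Submodule.smul_mem _ _ (Submodule.mem_span_singleton_self zU)
    obtain ⟨φ, hφC, hφS, hφz⟩ := h68_exists_dual_U hUC (S := Submodule.span F {u})
      (by rw [Submodule.span_le]; simpa using hu) hzU hzu
    have hφu : φ u = 0 := hφS u (Submodule.mem_span_singleton_self u)
    have hφ0 : φ ≠ 0 := by
      rintro rfl
      simp at hφz
    have hrp : RP G u φ := ⟨hu0, hφ0, hφu, fun b => hSL u hu (b • φ)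
      (fun c' hc' => by simp [hφC c' hc']) (by simp [hφu])⟩
    have hφzz : φ (zU + zC) ≠ 0 := by simp [hφz, hφC zC hzC]
    have hrp2 : RP G u ζ := RP.comm hr hrp hζu hφzz
    have h1 : tv u (a • ζ) ∈ G := hrp2.2.2.2 a
    have h2 : tv u ((-a) • (ζ - γ)) ∈ G := hSL u hu _
      (fun c' hc' => by simp [hγC c' hc']) (by simp [hζu, hγU u hu])
    have e : tv u (a • γ) = tv u (a • ζ) * tv u ((-a) • (ζ - γ)) := by
      rw [tv_mul_axis (by simp [hζu]) (by simp [hζu, hγU u hu])]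
      congr 1
      apply LinearMap.ext
      intro x
      simp only [LinearMap.add_apply, LinearMap.smul_apply, LinearMap.sub_apply, smul_eq_mul]
      ring
    rw [e]
    exact G.mul_mem h1 h2
  have hadd : ∀ u ∈ U, ∀ v ∈ U, (∀ a : F, tv u (a • γ) ∈ G) → (∀ a : F, tv v (a • γ) ∈ G) →
      ∀ a : F, tv (u + v) (a • γ) ∈ G := by
    intro u hu v hv h1 h2 a
    rw [← tv_mul_center (by simp [hγU u hu]) (by simp [hγU v hv])]
    exact G.mul_mem (h1 a) (h2 a)
  have hsmul : ∀ u : V, ∀ t : F, (∀ a : F, tv u (a • γ) ∈ G) →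
      ∀ a : F, tv (t • u) (a • γ) ∈ G := by
    intro u t h1 a
    rw [tv_smul_swap, smul_smul]
    exact h1 _
  obtain ⟨u', hu', hζu', hu'z⟩ := h68_exists_ker (U := U) (S := Submodule.span F {zU}) ζ
    (by have := h68_finrank_span_singleton_le (F := F) zU; omega)
  have hK : ∀ u ∈ U, ζ u = 0 → ∀ a : F, tv u (a • γ) ∈ G := by
    intro u hu hζu
    by_cases huz : u ∈ Submodule.span F {zU}
    · have h1 : ∀ a : F, tv (u + u') (a • γ) ∈ G := base (u + u') (U.add_mem hu hu')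
        (by simp [hζu, hζu'])
        (fun hmem => hu'z (by simpa using Submodule.sub_mem _ hmem huz))
      have h2 : ∀ a : F, tv ((-1 : F) • u') (a • γ) ∈ G :=
        hsmul u' (-1) (base u' hu' hζu' hu'z)
      have h4 := hadd (u + u') (U.add_mem hu hu') ((-1 : F) • u') (U.smul_mem _ hu') h1 h2
      have e : u + u' + (-1 : F) • u' = u := by simp
      rw [e] at h4
      exact h4
    · exact base u hu hζu huz
  intro w hw
  by_cases hζw : ζ w = 0
  · exact hK w hw hζw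
  have hu'0 : u' ≠ 0 := by
    rintro rfl
    exact hu'z (Submodule.zero_mem _)
  have hu'w : u' ∉ Submodule.span F {w} := h68_not_mem_span_singleton hu'0 hζu' hζw
  obtain ⟨φ₀, hφ₀C, hφ₀S, hφ₀u'⟩ := h68_exists_dual_U hUC (S := Submodule.span F {w})
    (by rw [Submodule.span_le]; simpa using hw) hu' hu'w
  have hφ₀w : φ₀ w = 0 := hφ₀S w (Submodule.mem_span_singleton_self w)
  have hg : tv w φ₀ ∈ G := hSL w hw φ₀ hφ₀C hφ₀w
  intro a
  have hconj := h68_tv_conj_tv (u := u') (φ := a • γ) hφ₀w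
  have h1 : tv (u' + w) (a • γ) ∈ G := by
    have e : tv (u' + φ₀ u' • w) (a • γ - (a • γ) w • φ₀) = tv (u' + w) (a • γ) := by
      rw [hφ₀u', one_smul]
      congr 1
      simp [hγU w hw]
    rw [← e, ← hconj]
    exact G.mul_mem (G.mul_mem hg (hK u' hu' hζu' a)) (G.inv_mem hg)
  have h2 : ∀ a : F, tv ((-1 : F) • u') (a • γ) ∈ G := hsmul u' (-1) (hK u' hu' hζu')
  have h4 : tv ((u' + w) + (-1 : F) • u') (a • γ) ∈ G := by
    rw [← tv_mul_center (by simp [hγU u' hu', hγU w hw]) (by simp [hγU u' hu'])]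
    exact G.mul_mem h1 (h2 a)
  have e : (u' + w) + (-1 : F) • u' = w := by
    simp
  rwa [e] at h4

/-- (N2): enlarging `SL(U)` by one dimension. -/
theorem hasSL_succ {G : Subgroup (V ≃ₗ[F] V)} {U C : Submodule F V} (h : HasSL G U C)
    {c : V} {γ : Dual F V} (hc : c ∈ C) (hγ : ∀ u ∈ U, γ u = 0) (hγc : γ c ≠ 0)
    (h1 : ∀ φ : Dual F V, (∀ c' ∈ C, φ c' = 0) → tv c φ ∈ G)
    (h2 : ∀ u ∈ U, ∀ a : F, tv u (a • γ) ∈ G) :
    HasSL G (U ⊔ Submodule.span F {c}) (C ⊓ LinearMap.ker γ) := by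
  obtain ⟨hUC, hSL⟩ := h
  have hdec : ∀ c' ∈ C, c' - (γ c' / γ c) • c ∈ C ⊓ LinearMap.ker γ := by
    intro c' hc'
    refine ⟨C.sub_mem hc' (C.smul_mem _ hc), LinearMap.mem_ker.mpr ?_⟩
    rw [map_sub, map_smul, smul_eq_mul]
    field_simp
    ring
  have hcompl : IsCompl (U ⊔ Submodule.span F {c}) (C ⊓ LinearMap.ker γ) := by
    constructor
    · rw [Submodule.disjoint_def]
      intro x hx1 hx2
      obtain ⟨u, hu, s, hs, hus⟩ := Submodule.mem_sup.mp hx1
      obtain ⟨t, rfl⟩ := Submodule.mem_span_singleton.mp hs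
      obtain ⟨hxC, hxγ⟩ := hx2
      have huC : u ∈ C := by
        have e : u = x - t • c := by rw [← hus]; abel
        rw [e]
        exact C.sub_mem hxC (C.smul_mem _ hc)
      have hu0 : u = 0 := by
        have h4 : u ∈ U ⊓ C := ⟨hu, huC⟩
        rw [hUC.inf_eq_bot] at h4
        exact (Submodule.mem_bot F).mp h4
      have ht : t = 0 := by
        have hxγ' : γ x = 0 := LinearMap.mem_ker.mp hxγ
        rw [← hus, hu0, zero_add, map_smul, smul_eq_mul] at hxγ'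
        rcases mul_eq_zero.mp hxγ' with h4 | h4
        · exact h4
        · exact absurd h4 hγc
      rw [← hus, hu0, ht, zero_smul, add_zero]
    · rw [codisjoint_iff, eq_top_iff]
      intro x _
      have hx : x ∈ U ⊔ C := by
        rw [hUC.sup_eq_top]
        trivial
      obtain ⟨u, hu, c', hc', rfl⟩ := Submodule.mem_sup.mp hx
      have e : u + c' = (u + (γ c' / γ c) • c) + (c' - (γ c' / γ c) • c) := by abel
      rw [e]
      exact Submodule.add_mem_sup (Submodule.add_mem_sup hu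
        (Submodule.smul_mem _ _ (Submodule.mem_span_singleton_self c))) (hdec c' hc')
  refine ⟨hcompl, ?_⟩
  -- values of a functional vanishing on `C ⊓ ker γ`
  have hval : ∀ ξ : Dual F V, (∀ k ∈ C ⊓ LinearMap.ker γ, ξ k = 0) → ∀ c' ∈ C,
      ξ c' = (γ c' / γ c) * ξ c := by
    intro ξ hξ c' hc'
    have h4 := hξ _ (hdec c' hc')
    rw [map_sub, map_smul, smul_eq_mul, sub_eq_zero] at h4
    exact h4
  have caseA : ∀ u ∈ U, ∀ ξ : Dual F V, (∀ k ∈ C ⊓ LinearMap.ker γ, ξ k = 0) → ξ u = 0 →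
      tv u ξ ∈ G := by
    intro u hu ξ hξ hξu
    have hφC : ∀ c' ∈ C, (ξ - (ξ c / γ c) • γ) c' = 0 := by
      intro c' hc'
      rw [LinearMap.sub_apply, LinearMap.smul_apply, smul_eq_mul, hval ξ hξ c' hc']
      field_simp
      ring
    have m1 : tv u (ξ - (ξ c / γ c) • γ) ∈ G := hSL u hu _ hφC (by simp [hξu, hγ u hu])
    have m2 : tv u ((ξ c / γ c) • γ) ∈ G := h2 u hu _
    have e : tv u ξ = tv u (ξ - (ξ c / γ c) • γ) * tv u ((ξ c / γ c) • γ) := by
      rw [tv_mul_axis (by simp [hξu, hγ u hu]) (by simp [hγ u hu])]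
      congr 1
      abel
    rw [e]
    exact G.mul_mem m1 m2
  intro x hx ξ hξ hξx
  obtain ⟨u, hu, s, hs, rfl⟩ := Submodule.mem_sup.mp hx
  obtain ⟨t, rfl⟩ := Submodule.mem_span_singleton.mp hs
  by_cases hu0 : u = 0
  · subst hu0
    rw [zero_add] at hξx ⊢
    by_cases ht : t = 0
    · subst ht
      rw [zero_smul, tv_zero_left]
      exact G.one_mem
    have hξc : ξ c = 0 := by
      rw [map_smul, smul_eq_mul] at hξx
      rcases mul_eq_zero.mp hξx with h4 | h4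
      · exact absurd h4 ht
      · exact h4
    have hξC : ∀ c' ∈ C, ξ c' = 0 := by
      intro c' hc'
      rw [hval ξ hξ c' hc', hξc, mul_zero]
    rw [tv_smul_swap]
    exact h1 (t • ξ) (fun c' hc' => by simp [hξC c' hc'])
  · obtain ⟨f, hfC, -, hfu⟩ := h68_exists_dual_U hUC (S := ⊥) bot_le hu (by simpa using hu0)
    have hφ₁C : ∀ c' ∈ C, ((-t) • f) c' = 0 := fun c' hc' => by simp [hfC c' hc']
    have hφ₁c : ((-t) • f) c = 0 := hφ₁C c hc
    have hg : tv c ((-t) • f) ∈ G := h1 _ hφ₁C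
    have hconj := h68_tv_conj_tv (w := c) (φ₀ := (-t) • f) (u := u + t • c) (φ := ξ) hφ₁c
    have hgx : u + t • c + ((-t) • f) (u + t • c) • c = u := by
      simp [hfu, hfC c hc]
    rw [hgx] at hconj
    have m : tv u (ξ - ξ c • ((-t) • f)) ∈ G := by
      apply caseA u hu
      · intro k hk
        simp [hξ k hk, hfC k hk.1]
      · have h4 := hξx
        rw [map_add, map_smul, smul_eq_mul] at h4
        simp only [LinearMap.sub_apply, LinearMap.smul_apply, smul_eq_mul, hfu]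
        linear_combination h4
    have e : tv (u + t • c) ξ = (tv c ((-t) • f))⁻¹ *
        (tv c ((-t) • f) * tv (u + t • c) ξ * (tv c ((-t) • f))⁻¹) * tv c ((-t) • f) := by
      group
    rw [e, hconj]
    exact G.mul_mem (G.mul_mem (G.inv_mem hg) m) hg

theorem finrank_sup_span {U C : Submodule F V} (hUC : IsCompl U C) {c : V} (hc : c ∈ C)
    (hc0 : c ≠ 0) : finrank F ↥(U ⊔ Submodule.span F {c}) = finrank F U + 1 := by
  have h := Submodule.finrank_sup_add_finrank_inf_eq U (Submodule.span F {c})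
  have hinf : U ⊓ Submodule.span F {c} = ⊥ := by
    rw [eq_bot_iff]
    rintro x ⟨hxU, hxs⟩
    have h1 : x ∈ U ⊓ C := ⟨hxU, (Submodule.span_le.mpr (by simpa using hc)) hxs⟩
    rwa [hUC.inf_eq_bot] at h1
  rw [hinf, finrank_bot, finrank_span_singleton hc0] at h
  omega

end Cfsg.Agent.Helper93.McL
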