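import Cfsg.Agent.Lib.Helper93.SpCtr

set_option autoImplicit false

namespace Cfsg.Agent.Helper93

open Matrix Cfsg.Geo

variable {ι : Type} [Fintype ι] [DecidableEq ι] {F : Type*} [Field F]
variable {f : (ι → F) → (ι → F) → F}

/-- from a non-stabilising element, one mapping some vector of `W` outside `W` -/
lemma exists_moving (W : Submodule F (ι → F)) (M : Subgroup (GL ι F)) (g : GL ι F) (hgM : g ∈ M)
    (hg : g ∉ subspaceStabilizer W) :
    ∃ g' ∈ M, ∃ v ∈ W, ((g' : GL ι F) : Matrix ι ι F) *ᵥ v ∉ W := by
  rw [mem_subspaceStabilizer_iff] at hg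
  push_neg at hg
  obtain ⟨x, hx⟩ := hg
  rcases hx with ⟨hx1, hx2⟩ | ⟨hx1, hx2⟩
  · exact ⟨g, hgM, x, hx1, hx2⟩
  · refine ⟨g⁻¹, M.inv_mem hgM, (g : Matrix ι ι F) *ᵥ x, hx2, ?_⟩
    rw [gl_inv_apply_apply]
    exact hx1

theorem ti_stab_max (hf : IsSymplecticForm f) (W : Submodule F (ι → F)) (hW0 : W ≠ ⊥)
    (hW : IsTotallySingularFor f W) (I : Subgroup (GL ι F)) (hI : ∀ g, g ∈ I ↔ Isom f g) :
    IsMaximalIn I (subspaceStabilizer W ⊓ I) := by
  have hb := hf.bilinear
  -- transvections with centre perpendicular to `W` lie in the stabiliser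
  have hperp : ∀ u : ι → F, (∀ y ∈ W, f y u = 0) → ∀ c, stv hf u c ∈ subspaceStabilizer W ⊓ I := by
    intro u hu c
    refine ⟨?_, (hI _).2 (stv_isom hf u c)⟩
    apply stv_mem_stab
    intro x hx c'
    rw [hu x hx, mul_zero, zero_smul, add_zero]
    exact hx
  constructor
  · -- proper
    refine SetLike.lt_iff_le_and_exists.2 ⟨inf_le_right, ?_⟩
    obtain ⟨w, hwW, hw0⟩ := Submodule.exists_mem_ne_zero_of_ne_bot hW0
    obtain ⟨_, ⟨z, hz⟩⟩ := hf.nondegenerate w hw0
    refine ⟨stv hf z 1, (hI _).2 (stv_isom hf z 1), ?_⟩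
    intro hmem
    have h1 := ((mem_subspaceStabilizer_iff W _).1 hmem.1 w).1 hwW
    rw [stv_apply, one_mul] at h1
    have h2 : f w z • z ∈ W := by
      have := W.sub_mem h1 hwW
      rwa [add_sub_cancel_left] at this
    have h3 : z ∈ W := by
      have := W.smul_mem (f w z)⁻¹ h2
      rwa [smul_smul, inv_mul_cancel₀ hz, one_smul] at this
    exact hz (hW w hwW z h3)
  · intro M hPM hMI
    by_cases hMP : M ≤ subspaceStabilizer W ⊓ I
    · left; exact le_antisymm hMP hPM
    · right
      apply le_antisymm hMI
      obtain ⟨g0, hg0M, hg0P⟩ := SetLike.not_le_iff_exists.1 hMP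
      have hg0S : g0 ∉ subspaceStabilizer W := fun h => hg0P ⟨h, hMI hg0M⟩
      obtain ⟨g, hgM, v, hvW, hgv⟩ := exists_moving W M g0 hg0M hg0S
      have hgI : Isom f g := (hI g).1 (hMI hgM)
      -- centres perpendicular to W
      have hC1 : ∀ u : ι → F, (∀ y ∈ W, f y u = 0) → Ctr hf M u := fun u hu c => hPM (hperp u hu c)
      obtain ⟨p, hpW, hpv⟩ := exists_perp_pairing hf W _ hgv
      have hu0 : Ctr hf M (((g⁻¹ : GL ι F) : Matrix ι ι F) *ᵥ p) :=
        (hC1 p hpW).conj hf g⁻¹ (M.inv_mem hgM) hgI.inv
      set u0 := ((g⁻¹ : GL ι F) : Matrix ι ι F) *ᵥ p with hu0def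
      have hvu0 : f v u0 ≠ 0 := by
        rw [hu0def, hgI.inv_right]
        exact hpv
      set a := v with hadef
      have hk : f u0 a ≠ 0 := by
        rw [hf.skew]
        exact neg_ne_zero.mpr hvu0
      have haC : Ctr hf M a := hC1 a (fun y hy => hW y hy a hvW)
      -- the Siegel elements lie in the stabiliser
      have hrho : ∀ b : ι → F, f a b = 0 → rho hf a b ∈ M := by
        intro b hab
        apply hPM
        refine ⟨?_, (hI _).2 (rho_isom hf a b)⟩
        have hinv : (rho hf a b)⁻¹ = rho hf a (-b) := by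
          apply inv_eq_of_mul_eq_one_right
          apply gl_ext
          intro x
          have hab' : f a (-b) = 0 := by rw [form_neg_right hb, hab, neg_zero]
          have hba : f b a = 0 := by rw [hf.skew, hab, neg_zero]
          rw [gl_mul_apply, rho_apply hf a (-b) hab', rho_apply hf a b hab, gl_one_apply]
          simp only [hb.add_left, hb.smul_left, form_neg_right hb, form_neg_left hb,
            hf.alternating, hab, hba, mul_zero, add_zero, neg_zero, smul_neg]
          ext i
          simp only [Pi.add_apply, Pi.smul_apply, Pi.neg_apply, smul_eq_mul]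
          ring
        apply mem_subspaceStabilizer_of_maps
        · intro x hx
          rw [rho_apply hf a b hab, hW x hx a hvW, zero_smul, add_zero]
          exact W.add_mem hx (W.smul_mem _ hvW)
        · intro x hx
          have hab' : f a (-b) = 0 := by rw [form_neg_right hb, hab, neg_zero]
          rw [hinv, rho_apply hf a (-b) hab', hW x hx a hvW, zero_smul, add_zero]
          exact W.add_mem hx (W.smul_mem _ hvW)
      -- (e)
      have hE : ∀ b' : ι → F, f a b' = 0 → Ctr hf M (u0 + b') := by
        intro b' hab'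
        have hab : f a ((f u0 a)⁻¹ • b') = 0 := by rw [hb.smul_right, hab', mul_zero]
        have h1 := hu0.conj hf (rho hf a ((f u0 a)⁻¹ • b')) (hrho _ hab) (rho_isom hf _ _)
        rw [rho_apply hf a _ hab, smul_smul, mul_inv_cancel₀ hk, one_smul] at h1
        have hb'a : f b' a = 0 := by rw [hf.skew, hab', neg_zero]
        have h2 : f (u0 + b' + f u0 ((f u0 a)⁻¹ • b') • a) a ≠ 0 := by
          rw [hb.add_left, hb.add_left, hb.smul_left, hf.alternating, mul_zero, add_zero, hb'a,
            add_zero]
          exact hk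
        have h3 := h1.add_smul hf haC h2 (- f u0 ((f u0 a)⁻¹ • b'))
        have h4 : u0 + b' + f u0 ((f u0 a)⁻¹ • b') • a + (- f u0 ((f u0 a)⁻¹ • b')) • a
            = u0 + b' := by
          rw [neg_smul, add_neg_cancel_right]
        rwa [h4] at h3
      -- (f)
      have hF : ∀ x : ι → F, f x a ≠ 0 → Ctr hf M x := by
        intro x hx
        set s := f x a / f u0 a with hs
        have hs0 : s ≠ 0 := div_ne_zero hx hk
        have h1 : f a (s⁻¹ • x - u0) = 0 := by
          rw [hf.skew, form_sub_left hb, hb.smul_left, hs, inv_div, div_mul_cancel₀ _ hx, sub_self,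
            neg_zero]
        have h2 := hE _ h1
        rw [add_sub_cancel] at h2
        have h3 := h2.smul hf s
        rwa [smul_smul, mul_inv_cancel₀ hs0, one_smul] at h3
      -- (g)
      have hG : ∀ x : ι → F, Ctr hf M x := by
        intro x
        by_cases hxa : f x a = 0
        · by_cases hx0 : x = 0
          · rw [hx0]; exact Ctr.zero hf M
          · obtain ⟨_, ⟨q, hq⟩⟩ := hf.nondegenerate x hx0
            obtain ⟨z, _, hz1, hz2⟩ := exists_both_ne (⊤ : Submodule F (ι → F))
              (fun y => f y a) (fun y => f x y) (fun y y' => hb.add_left y y' a)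
              (fun y y' => hb.add_right x y y') (p := u0) (q := q) trivial trivial hk hq
            have h1 : Ctr hf M (x - z) := by
              apply hF
              rw [form_sub_left hb, hxa, zero_sub]
              exact neg_ne_zero.mpr hz1
            have h2 : Ctr hf M z := hF z hz1
            have h3 : f (x - z) z ≠ 0 := by
              rw [form_sub_left hb, hf.alternating, sub_zero]
              exact hz2
            have h4 := h1.add hf h2 h3
            rwa [sub_add_cancel] at h4
        · exact hF x hxa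
      intro g' hg'
      exact isom_mem_of_all_ctr hf M hG g' ((hI g').1 hg')

end Cfsg.Agent.Helper93
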