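import Cfsg.Agent.Lib.Helper93.UStd
import Cfsg.Agent.Lib.Helper93.SpTI

set_option autoImplicit false
set_option linter.unusedSectionVars false

namespace Cfsg.Agent.Helper93

open Matrix Cfsg.Geo

variable {ι : Type} [Fintype ι] [DecidableEq ι] {F : Type*} [Field F]
variable {σ : F ≃+* F} {f : (ι → F) → (ι → F) → F}

/-- an invertible matrix mapping `W` into itself stabilises `W` -/
lemma mem_stab_of_maps_le (W : Submodule F (ι → F)) (g : GL ι F)
    (h : ∀ x ∈ W, (g : Matrix ι ι F) *ᵥ x ∈ W) : g ∈ subspaceStabilizer W := by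
  rw [mem_subspaceStabilizer_iff]
  intro x
  refine ⟨h x, fun hx => ?_⟩
  let G : (ι → F) →ₗ[F] (ι → F) := Matrix.toLin' (g : Matrix ι ι F)
  have hG : ∀ y, G y = (g : Matrix ι ι F) *ᵥ y := fun y => Matrix.toLin'_apply _ _
  have hmaps : ∀ y ∈ W, G y ∈ W := fun y hy => by rw [hG]; exact h y hy
  let R : W →ₗ[F] W := G.restrict hmaps
  have hinj : Function.Injective R := by
    intro y y' hyy'
    have h1 : G (y : ι → F) = G (y' : ι → F) := congrArg Subtype.val hyy'
    rw [hG, hG] at h1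
    have h2 := congrArg (fun z => ((g⁻¹ : GL ι F) : Matrix ι ι F) *ᵥ z) h1
    simp only [gl_inv_apply_apply] at h2
    exact Subtype.ext h2
  have hsurj : Function.Surjective R := LinearMap.injective_iff_surjective.mp hinj
  obtain ⟨w, hw⟩ := hsurj ⟨_, hx⟩
  have h1 : G (w : ι → F) = (g : Matrix ι ι F) *ᵥ x := congrArg Subtype.val hw
  rw [hG] at h1
  have h2 := congrArg (fun z => ((g⁻¹ : GL ι F) : Matrix ι ι F) *ᵥ z) h1
  simp only [gl_inv_apply_apply] at h2
  rw [← h2]
  exact w.2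

/-- `a` is an isotropic centre all of whose unitary transvections lie in `M` -/
def UCtr (hf : IsUnitaryForm σ f) (M : Subgroup (GL ι F)) (a : ι → F) : Prop :=
  f a a = 0 ∧ ∀ c : F, c + σ c = 0 → uref hf a c ∈ M

lemma UCtr.conj (hf : IsUnitaryForm σ f) {M : Subgroup (GL ι F)} {a : ι → F}
    (ha : UCtr hf M a) (p : GL ι F) (hpM : p ∈ M) (hp : Isom f p) :
    UCtr hf M ((p : Matrix ι ι F) *ᵥ a) := by
  refine ⟨by rw [hp]; exact ha.1, fun c hc => ?_⟩
  rw [← conj_uref hf p hp]
  exact M.mul_mem (M.mul_mem hpM (ha.2 c hc)) (M.inv_mem hpM)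

lemma UCtr.smul (hf : IsUnitaryForm σ f) {M : Subgroup (GL ι F)} {a : ι → F}
    (ha : UCtr hf M a) (μ : F) : UCtr hf M (μ • a) := by
  refine ⟨by rw [hf.smul_left, uf_smul_right hf, ha.1, mul_zero, mul_zero], fun c hc => ?_⟩
  rw [uref_smul]
  apply ha.2
  rw [map_mul, map_mul, hf.involutive]
  linear_combination (μ * σ μ) * hc

lemma UCtr.zero (hf : IsUnitaryForm σ f) (M : Subgroup (GL ι F)) : UCtr hf M 0 :=
  ⟨uf_zero_left hf 0, fun c _ => by rw [uref_zero_vec]; exact M.one_mem⟩

/-- all isotropic points of a hyperbolic line through two centres are centres -/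
lemma UCtr.add_smul (hf : IsUnitaryForm σ f) {M : Subgroup (GL ι F)} {a b : ι → F}
    (ha : UCtr hf M a) (hb : UCtr hf M b) (hab : f a b ≠ 0) (t : F)
    (hiso : f (a + t • b) (a + t • b) = 0) : UCtr hf M (a + t • b) := by
  have hz : σ (f a b) ≠ 0 := by
    intro h0
    apply hab
    have := congrArg σ h0
    rwa [hf.involutive, map_zero] at this
  have hc : t / f a b + σ (t / f a b) = 0 := by
    have h1 : σ t * f a b + t * σ (f a b) = 0 := by
      rw [hf.add_left, uf_add_right hf, uf_add_right hf, hf.smul_left, hf.smul_left,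
        uf_smul_right hf, uf_smul_right hf, ha.1, hb.1, hf.herm b a] at hiso
      linear_combination hiso
    rw [map_div₀, div_eq_mul_inv, div_eq_mul_inv]
    have e1 : f a b * (f a b)⁻¹ = 1 := mul_inv_cancel₀ hab
    have e2 : σ (f a b) * (σ (f a b))⁻¹ = 1 := mul_inv_cancel₀ hz
    have key : (f a b * σ (f a b)) * (t * (f a b)⁻¹ + σ t * (σ (f a b))⁻¹) = 0 := by
      linear_combination h1 + (t * σ (f a b)) * e1 + (σ t * f a b) * e2
    exact (mul_eq_zero.mp key).resolve_left (mul_ne_zero hab hz)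
  have h2 := ha.conj hf (uref hf b (t / f a b)) (hb.2 _ hc)
    (uref_isom hf b _ (uvalid_of_iso hb.1 hc))
  rw [uref_apply_iso hf b _ hb.1, div_mul_cancel₀ t hab] at h2
  exact h2

lemma uf_iso_add_smul (hf : IsUnitaryForm σ f) {a b : ι → F} (ha : f a a = 0) (hb : f b b = 0)
    (hab : f a b = 0) (lam : F) : f (a + lam • b) (a + lam • b) = 0 := by
  have hba : f b a = 0 := uf_eq_zero_symm hf hab
  rw [hf.add_left, uf_add_right hf, uf_add_right hf, hf.smul_left, hf.smul_left,
    uf_smul_right hf, uf_smul_right hf, ha, hb, hab, hba]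
  ring

/-- Siegel-type element, a product of three transvections -/
noncomputable def usieg (hf : IsUnitaryForm σ f) (a b : ι → F) (c lam : F) : GL ι F :=
  uref hf (a + lam • b) c * uref hf a (-c) * uref hf b (-(c * lam * σ lam))

lemma usieg_apply (hf : IsUnitaryForm σ f) {a b : ι → F} (ha : f a a = 0) (hb : f b b = 0)
    (hab : f a b = 0) (c lam : F) (x : ι → F) :
    ((usieg hf a b c lam : GL ι F) : Matrix ι ι F) *ᵥ x
      = x + (c * σ lam * f x b) • a + (c * lam * f x a) • b := by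
  have hba : f b a = 0 := uf_eq_zero_symm hf hab
  have hiso := uf_iso_add_smul hf ha hb hab lam
  unfold usieg
  rw [gl_mul_apply, gl_mul_apply, uref_apply_iso hf b _ hb, uref_apply_iso hf a _ ha,
    uref_apply_iso hf _ _ hiso]
  simp only [hf.add_left, hf.smul_left, uf_add_right hf, uf_smul_right hf, ha, hb, hab, hba,
    mul_zero, add_zero]
  ext i
  simp only [Pi.add_apply, Pi.smul_apply, smul_eq_mul]
  ring

lemma usieg_mem (hf : IsUnitaryForm σ f) (W : Submodule F (ι → F))
    (hW : IsTotallySingularFor f W) (G : Subgroup (GL ι F))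
    (hG : ∀ g, g ∈ G ↔ Isom f g ∧ g ∈ specialLinear ι F) {a b : ι → F} (haW : a ∈ W)
    (hb : f b b = 0) (hab : f a b = 0) {c : F} (hc : c + σ c = 0) (lam : F) :
    usieg hf a b c lam ∈ subspaceStabilizer W ⊓ G := by
  have ha : f a a = 0 := hW a haW a haW
  have hiso := uf_iso_add_smul hf ha hb hab lam
  have hTG : ∀ {a : ι → F} {c : F}, f a a = 0 → c + σ c = 0 → uref hf a c ∈ G :=
    fun ha hc => (hG _).2 ⟨uref_isom hf _ _ (uvalid_of_iso ha hc), uref_mem_SL hf _ ha⟩
  refine ⟨?_, ?_⟩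
  · apply mem_stab_of_maps_le
    intro x hx
    rw [usieg_apply hf ha hb hab, hW x hx a haW, mul_zero, zero_smul, add_zero]
    exact W.add_mem hx (W.smul_mem _ haW)
  · unfold usieg
    have hc2 : (-c) + σ (-c) = 0 := by rw [map_neg]; linear_combination -hc
    have hc3 : (-(c * lam * σ lam)) + σ (-(c * lam * σ lam)) = 0 := by
      rw [map_neg, map_mul, map_mul, hf.involutive]
      linear_combination (-(lam * σ lam)) * hc
    exact G.mul_mem (G.mul_mem (hTG hiso hc) (hTG ha hc2)) (hTG hb hc3)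

/-- a vector perpendicular to `a` is a sum of two isotropic vectors perpendicular to `a` -/
lemma uf_exists_iso_decomp [Finite F] (hf : IsUnitaryForm σ f) (hn : 7 ≤ Fintype.card ι)
    (a b : ι → F) (hba : f b a = 0) :
    ∃ b1 b2, b = b1 + b2 ∧ f b1 b1 = 0 ∧ f b2 b2 = 0 ∧ f b1 a = 0 ∧ f b2 a = 0 := by
  by_cases hbb : f b b = 0
  · exact ⟨b, 0, by rw [add_zero], hbb, uf_zero_left hf 0, hba, uf_zero_left hf a⟩
  · obtain ⟨η, hη⟩ := uf_trace_surj hf (f b b) (uf_self hf b)
    obtain ⟨ζ, hζ⟩ : ∃ ζ, ζ = η / f b b := ⟨_, rfl⟩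
    have hfix : σ (-(f (ζ • b) (ζ • b))) = -(f (ζ • b) (ζ • b)) := by
      rw [map_neg, uf_self hf]
    obtain ⟨r, _, hr1, hr2, _, hrr⟩ := uf_exists_perp_norm hf ⊤ (nondeg_top hf)
      (finrank_top_ge hn) (s1 := a) (s2 := b) (s3 := b) Submodule.mem_top Submodule.mem_top
      Submodule.mem_top _ hfix
    have hpb : f (ζ • b) b = η := by rw [hf.smul_left, hζ, div_mul_cancel₀ _ hbb]
    have hrp : f r (ζ • b) = 0 := by rw [uf_smul_right hf, hr2, mul_zero]
    have hpr : f (ζ • b) r = 0 := uf_eq_zero_symm hf hrp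
    have hb1 : f (ζ • b + r) (ζ • b + r) = 0 := by
      rw [hf.add_left, uf_add_right hf, uf_add_right hf, hrp, hpr, hrr]; ring
    have hb1b : f (ζ • b + r) b = η := by rw [hf.add_left, hpb, hr2, add_zero]
    refine ⟨ζ • b + r, b - (ζ • b + r), by abel, hb1, ?_, ?_, ?_⟩
    · rw [uf_sub_left hf, uf_sub_right hf, uf_sub_right hf, hb1, hb1b, hf.herm b (ζ • b + r),
        hb1b]
      linear_combination -hη
    · rw [hf.add_left, hf.smul_left, hba, hr1, mul_zero, add_zero]
    · rw [uf_sub_left hf, hba, hf.add_left, hf.smul_left, hba, hr1, mul_zero, add_zero, sub_zero]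

/-- the stabiliser of a totally isotropic subspace is maximal in the special unitary group -/
theorem uti_stab_max [Finite F] (hf : IsUnitaryForm σ f) (hn : 7 ≤ Fintype.card ι)
    (W : Submodule F (ι → F)) (hW0 : W ≠ ⊥) (hW : IsTotallySingularFor f W)
    (G : Subgroup (GL ι F)) (hG : ∀ g, g ∈ G ↔ Isom f g ∧ g ∈ specialLinear ι F) :
    IsMaximalIn G (subspaceStabilizer W ⊓ G) := by
  have hTG : ∀ {a : ι → F} {c : F}, f a a = 0 → c + σ c = 0 → uref hf a c ∈ G :=
    fun ha hc => (hG _).2 ⟨uref_isom hf _ _ (uvalid_of_iso ha hc), uref_mem_SL hf _ ha⟩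
  have hperp : ∀ u : ι → F, f u u = 0 → (∀ y ∈ W, f y u = 0) → ∀ c, c + σ c = 0 →
      uref hf u c ∈ subspaceStabilizer W ⊓ G := by
    intro u hu hyu c hc
    refine ⟨?_, hTG hu hc⟩
    apply mem_stab_of_maps_le
    intro x hx
    rw [uref_apply_iso hf u c hu, hyu x hx, mul_zero, zero_smul, add_zero]
    exact hx
  obtain ⟨θ, hθ0, hθ⟩ := uf_exists_theta hf
  constructor
  · refine SetLike.lt_iff_le_and_exists.2 ⟨inf_le_right, ?_⟩
    obtain ⟨w, hwW, hw0⟩ := Submodule.exists_mem_ne_zero_of_ne_bot hW0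
    obtain ⟨_, ⟨z0, hz0⟩⟩ := hf.nondegenerate w hw0
    have hww : f w w = 0 := hW w hwW w hwW
    obtain ⟨lam, hlam⟩ := uf_iso_adjust hf hww hz0
    have hwz : f w (z0 + lam • w) ≠ 0 := by
      rw [uf_add_right hf, uf_smul_right hf, hww, mul_zero, add_zero]; exact hz0
    refine ⟨uref hf (z0 + lam • w) θ, hTG hlam hθ, ?_⟩
    intro hmem
    have h1 := ((mem_subspaceStabilizer_iff W _).1 hmem.1 w).1 hwW
    rw [uref_apply_iso hf _ θ hlam] at h1
    have h2 : (θ * f w (z0 + lam • w)) • (z0 + lam • w) ∈ W := by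
      have := W.sub_mem h1 hwW
      rwa [add_sub_cancel_left] at this
    have h3 : z0 + lam • w ∈ W := by
      have := W.smul_mem (θ * f w (z0 + lam • w))⁻¹ h2
      rwa [smul_smul, inv_mul_cancel₀ (mul_ne_zero hθ0 hwz), one_smul] at this
    exact hwz (hW w hwW _ h3)
  · intro M hPM hMG
    by_cases hMP : M ≤ subspaceStabilizer W ⊓ G
    · left; exact le_antisymm hMP hPM
    · right
      apply le_antisymm hMG
      obtain ⟨g0, hg0M, hg0P⟩ := SetLike.not_le_iff_exists.1 hMP
      have hg0S : g0 ∉ subspaceStabilizer W := fun h => hg0P ⟨h, hMG hg0M⟩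
      obtain ⟨g, hgM, v, hvW, hgv⟩ := exists_moving W M g0 hg0M hg0S
      have hMI : ∀ m ∈ M, Isom f m := fun m hm => ((hG m).1 (hMG hm)).1
      have hgI : Isom f g := hMI g hgM
      have hC1 : ∀ u : ι → F, f u u = 0 → (∀ y ∈ W, f y u = 0) → UCtr hf M u :=
        fun u hu hyu => ⟨hu, fun c hc => hPM (hperp u hu hyu c hc)⟩
      have hvv : f v v = 0 := hW v hvW v hvW
      have hgvgv : f ((g : Matrix ι ι F) *ᵥ v) ((g : Matrix ι ι F) *ᵥ v) = 0 := by
        rw [hgI]; exact hvv
      obtain ⟨p, hpp, hpW, hpv⟩ : ∃ p, f p p = 0 ∧ (∀ y ∈ W, f y p = 0) ∧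
          f ((g : Matrix ι ι F) *ᵥ v) p ≠ 0 := by
        by_cases hA : ∃ w ∈ W, f ((g : Matrix ι ι F) *ᵥ v) w ≠ 0
        · obtain ⟨w, hwW, hw⟩ := hA
          exact ⟨w, hW w hwW w hwW, fun y hy => hW y hy w hwW, hw⟩
        · push Not at hA
          obtain ⟨p0, hp0W, hp0⟩ := uf_exists_perp_pairing hf W _ hgv
          obtain ⟨lam, hlam⟩ := uf_iso_adjust hf hgvgv hp0
          refine ⟨p0 + lam • ((g : Matrix ι ι F) *ᵥ v), hlam, fun y hy => ?_, ?_⟩
          · rw [uf_add_right hf, uf_smul_right hf, hp0W y hy, uf_eq_zero_symm hf (hA y hy),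
              mul_zero, add_zero]
          · rw [uf_add_right hf, uf_smul_right hf, hgvgv, mul_zero, add_zero]; exact hp0
      have hu0 : UCtr hf M (((g⁻¹ : GL ι F) : Matrix ι ι F) *ᵥ p) :=
        (hC1 p hpp hpW).conj hf g⁻¹ (M.inv_mem hgM) hgI.inv
      have hvu0 : f v (((g⁻¹ : GL ι F) : Matrix ι ι F) *ᵥ p) ≠ 0 := by
        rw [hgI.inv_right]; exact hpv
      generalize (((g⁻¹ : GL ι F) : Matrix ι ι F) *ᵥ p) = u0 at hu0 hvu0
      have hk : f u0 v ≠ 0 := uf_ne_zero_symm hf hvu0
      have haC : UCtr hf M v := hC1 v hvv (fun y hy => hW y hy v hvW)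
      have hv0 : v ≠ 0 := by
        intro h0
        apply hvu0
        rw [h0, uf_zero_left hf]
      have hsieg : ∀ b : ι → F, f b b = 0 → f v b = 0 → ∀ lam : F, usieg hf v b θ lam ∈ M :=
        fun b hbb hvb lam => hPM (usieg_mem hf W hW G hG hvW hbb hvb hθ lam)
      have hE : ∀ u : ι → F, UCtr hf M u → f u v ≠ 0 → ∀ b : ι → F, f b b = 0 → f b v = 0 →
          ∃ ζ : F, UCtr hf M (u + b + ζ • v) := by
        intro u hu huv b hbb hbv
        have hvb : f v b = 0 := uf_eq_zero_symm hf hbv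
        have h1 := hu.conj hf (usieg hf v b θ (θ * f u v)⁻¹) (hsieg b hbb hvb _)
          (hMI _ (hsieg b hbb hvb _))
        rw [usieg_apply hf hvv hbb hvb] at h1
        have e : θ * (θ * f u v)⁻¹ * f u v = 1 := by
          rw [mul_comm θ (θ * f u v)⁻¹, mul_assoc, inv_mul_cancel₀ (mul_ne_zero hθ0 huv)]
        rw [e, one_smul] at h1
        refine ⟨θ * σ (θ * f u v)⁻¹ * f u b, ?_⟩
        have e2 : u + b + (θ * σ (θ * f u v)⁻¹ * f u b) • v
            = u + (θ * σ (θ * f u v)⁻¹ * f u b) • v + b := by abel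
        rw [e2]; exact h1
      have hF : ∀ x : ι → F, f x x = 0 → f x v ≠ 0 → UCtr hf M x := by
        intro x hxx hxv
        obtain ⟨s, hs⟩ : ∃ s, s = f x v / f u0 v := ⟨_, rfl⟩
        have hs0 : s ≠ 0 := by rw [hs]; exact div_ne_zero hxv hk
        obtain ⟨x', hx'⟩ : ∃ x', x' = s⁻¹ • x := ⟨_, rfl⟩
        have hx'x' : f x' x' = 0 := by
          rw [hx', hf.smul_left, uf_smul_right hf, hxx, mul_zero, mul_zero]
        have hx'v : f x' v = f u0 v := by
          rw [hx', hf.smul_left, hs, inv_div, div_mul_cancel₀ _ hxv]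
        have hb'v : f (x' - u0) v = 0 := by rw [uf_sub_left hf, hx'v, sub_self]
        obtain ⟨b1, b2, hb12, hb1, hb2, hb1v, hb2v⟩ :=
          uf_exists_iso_decomp hf hn v (x' - u0) hb'v
        obtain ⟨ζ1, h1⟩ := hE u0 hu0 hk b1 hb1 hb1v
        have h1v : f (u0 + b1 + ζ1 • v) v ≠ 0 := by
          rw [hf.add_left, hf.add_left, hf.smul_left, hb1v, hvv, mul_zero, add_zero, add_zero]
          exact hk
        obtain ⟨ζ2, h2⟩ := hE _ h1 h1v b2 hb2 hb2v
        have hx'eq : x' = u0 + (b1 + b2) := by rw [← hb12]; abel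
        have e : u0 + b1 + ζ1 • v + b2 + ζ2 • v = x' + (ζ1 + ζ2) • v := by
          rw [hx'eq, add_smul]; abel
        rw [e] at h2
        have h2v : f (x' + (ζ1 + ζ2) • v) v ≠ 0 := by
          rw [hf.add_left, hf.smul_left, hvv, mul_zero, add_zero, hx'v]; exact hk
        have h3 := h2.add_smul hf haC h2v (-(ζ1 + ζ2)) (by
          rw [neg_smul, add_neg_cancel_right]; exact hx'x')
        rw [neg_smul, add_neg_cancel_right] at h3
        have h4 := h3.smul hf s
        rwa [hx', smul_smul, mul_inv_cancel₀ hs0, one_smul] at h4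
      have hAll : ∀ x : ι → F, f x x = 0 → UCtr hf M x := by
        intro x hxx
        by_cases hxv : f x v = 0
        · by_cases hspan : x ∈ Submodule.span F {v}
          · obtain ⟨k, hk'⟩ := Submodule.mem_span_singleton.mp hspan
            rw [← hk']; exact haC.smul hf k
          · have hind := indep_of_not_mem_span hspan hv0
            obtain ⟨z, _, hzz, hzx, hzv⟩ := uf_exists_iso_prescribed hf ⊤ (nondeg_top hf)
              (finrank_top_ge hn) (Submodule.mem_top : x ∈ ⊤) (Submodule.mem_top : v ∈ ⊤)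
              hind (σ θ) 1
            have hxz : f x z = θ := by rw [hf.herm x z, hzx, hf.involutive]
            have hzC : UCtr hf M z := hF z hzz (by rw [hzv]; exact one_ne_zero)
            have hxmz : f (x - z) (x - z) = 0 := by
              rw [uf_sub_left hf, uf_sub_right hf, uf_sub_right hf, hxx, hzz, hxz, hzx]
              linear_combination -hθ
            have hxmzC : UCtr hf M (x - z) := hF _ hxmz (by
              rw [uf_sub_left hf, hxv, hzv, zero_sub]; exact neg_ne_zero.mpr one_ne_zero)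
            have h1 : f (x - z) z ≠ 0 := by
              rw [uf_sub_left hf, hzz, sub_zero, hxz]; exact hθ0
            have h2 := hxmzC.add_smul hf hzC h1 1 (by
              rw [one_smul, sub_add_cancel]; exact hxx)
            rwa [one_smul, sub_add_cancel] at h2
        · exact hF x hxx hxv
      intro g' hg'
      have hTM : TU hf ≤ M := by
        unfold TU
        rw [Subgroup.closure_le]
        rintro t ⟨a, c, ha, hc, rfl⟩
        exact (hAll a ha).2 c hc
      obtain ⟨hI, hS⟩ := (hG g').1 hg'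
      exact hTM (isom_SL_mem_TU hf hn g' hI hS)

end Cfsg.Agent.Helper93
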