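import Cfsg.Agent.S0795
import Cfsg.Agent.Lib.Helper93.UTI

set_option autoImplicit false
set_option linter.unusedSectionVars false

namespace Cfsg.Agent.Helper93

open Matrix QuadraticMap Cfsg.Geo
open Cfsg.Agent.S0794 Cfsg.Agent.Helper14.ReflGen
open scoped commutatorElement

section oeich

variable {F : Type*} [Field F] {ι : Type} [Fintype ι] [DecidableEq ι]
  (Q : QuadraticForm F (ι → F))

/-- the subgroup generated by the Eichler transformations -/
def EG : Subgroup (GL ι F) :=
  Subgroup.closure {g | ∃ u w : ι → F, Q u = 0 ∧ polar (⇑Q) u w = 0 ∧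
    (g : Matrix ι ι F) = eichM Q u w}

lemma pb_isRefl : (polarBilin Q).IsRefl := by
  intro x y h
  rw [polarBilin_apply_apply] at h ⊢
  rw [polar_comm]
  exact h

lemma exists_perp_pair (hQ : (polarBilin Q).Nondegenerate) (u w : ι → F)
    (hw : w ∉ Submodule.span F {u}) (c : F) :
    ∃ t, polar (⇑Q) u t = 0 ∧ polar (⇑Q) t w = c := by
  have h1 : ∃ t0, polar (⇑Q) u t0 = 0 ∧ polar (⇑Q) t0 w ≠ 0 := by
    by_contra hcon
    push Not at hcon
    apply hw
    rw [← LinearMap.BilinForm.orthogonal_orthogonal hQ (pb_isRefl Q) (Submodule.span F {u}),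
      LinearMap.BilinForm.mem_orthogonal_iff]
    intro t ht
    rw [LinearMap.BilinForm.mem_orthogonal_iff] at ht
    have h2 := ht u (Submodule.mem_span_singleton_self u)
    rw [polarBilin_apply_apply] at h2 ⊢
    exact hcon t h2
  obtain ⟨t0, ht0, ht0w⟩ := h1
  refine ⟨(c / polar (⇑Q) t0 w) • t0, ?_, ?_⟩
  · rw [polar_smul_right, ht0, smul_zero]
  · rw [polar_smul_left, smul_eq_mul, div_mul_cancel₀ _ ht0w]

lemma eichGL_mem_isom (u w : ι → F) (hu : Q u = 0) (huw : polar (⇑Q) u w = 0) :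
    eichGL Q u w hu huw ∈ Cfsg.isometryGroup F ⇑Q := by
  intro x _
  exact eichM_isometry Q u w hu huw x

lemma reflGL_mem_isom (v : ι → F) (hv : Q v ≠ 0) :
    reflGL Q v hv ∈ Cfsg.isometryGroup F ⇑Q := by
  intro x _
  exact refl_isom Q v hv x

lemma mem_omegaGL_of_comm {g : GL ι F} (a b : Cfsg.isometryGroup F ⇑Q)
    (h : g = ((⁅a, b⁆ : Cfsg.isometryGroup F ⇑Q) : GL ι F)) : g ∈ omegaGL ⇑Q := by
  unfold Cfsg.Geo.omegaGL
  refine Subgroup.mem_map.2 ⟨⁅a, b⁆, ?_, h.symm⟩
  unfold Cfsg.Omega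
  rw [commutator_eq_closure]
  exact Subgroup.subset_closure ⟨a, b, rfl⟩

/-- every Eichler transformation lies in `Ω` -/
theorem eichGL_mem_omegaGL (hQ : (polarBilin Q).Nondegenerate) (hn : 5 ≤ Fintype.card ι)
    (u w : ι → F) (hu : Q u = 0) (huw : polar (⇑Q) u w = 0) :
    eichGL Q u w hu huw ∈ omegaGL ⇑Q := by
  have key : ∀ w' : ι → F, ∀ huw' : polar (⇑Q) u w' = 0, Q w' ≠ 0 →
      eichGL Q u w' hu huw' ∈ omegaGL ⇑Q := by
    intro w' huw' hw'
    have hnot : w' ∉ Submodule.span F {u} := by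
      intro hmem
      obtain ⟨k, rfl⟩ := Submodule.mem_span_singleton.1 hmem
      apply hw'
      rw [Q_smul', hu, mul_zero]
    obtain ⟨t, hut, htw⟩ := exists_perp_pair Q hQ u w' hnot (-(Q w'))
    apply mem_omegaGL_of_comm Q ⟨reflGL Q w' hw', reflGL_mem_isom Q w' hw'⟩
      ⟨eichGL Q u t hu hut, eichGL_mem_isom Q u t hu hut⟩
    apply Units.ext
    change eichM Q u w' = Cfsg.reflectionMatrix (⇑Q) w' * eichM Q u t *
      Cfsg.reflectionMatrix (⇑Q) w' * eichM Q u (-t)
    have e1 : eichM Q u t * eichM Q u (-t) = 1 := by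
      rw [eichM_mul Q u t (-t) hu hut (by rw [polar_neg_right, hut, neg_zero]), add_neg_cancel,
        eichM_zero]
    have e2 : eichM Q u t *ᵥ w' = w' + Q w' • u := by
      rw [eichM_mulVec, huw', htw]
      simp
    have e3 := Cfsg.Agent.Helper14.ReflClass.refl_conj Q (eichM Q u t) (eichM Q u (-t)) e1
      (eichM_isometry Q u t hu hut) w'
    rw [eich_eq_refl_mul Q u w' hu huw' hw', ← e2, ← e3]
    simp only [Matrix.mul_assoc]
  by_cases hw : Q w = 0
  · obtain ⟨t, hut, hwt, hQt⟩ := exists_nonsingular_perp' Q hn hQ u w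
    have h4 : polar (⇑Q) u (w - t) = 0 := by rw [polar_sub_right, huw, hut, sub_zero]
    have h5 : Q (w - t) ≠ 0 := by
      rw [Q_sub, hw, zero_add, hwt, sub_zero]
      exact hQt
    have h6 : eichGL Q u w hu huw = eichGL Q u t hu hut * eichGL Q u (w - t) hu h4 := by
      apply Units.ext
      rw [Units.val_mul]
      change eichM Q u w = eichM Q u t * eichM Q u (w - t)
      rw [eichM_mul Q u t (w - t) hu hut h4, add_sub_cancel]
    rw [h6]
    exact (omegaGL ⇑Q).mul_mem (key t hut hQt) (key (w - t) h4 h5)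
  · exact key w huw hw

/-- conjugates of Eichler transformations by isometries -/
lemma EG_conj (y : GL ι F) (hy : y ∈ EG Q) (g : GL ι F)
    (hg : ∀ x, Q ((g : Matrix ι ι F) *ᵥ x) = Q x) : g * y * g⁻¹ ∈ EG Q := by
  unfold EG at hy ⊢
  induction hy using Subgroup.closure_induction with
  | mem s hs =>
    obtain ⟨u, w, hu, huw, hs⟩ := hs
    apply Subgroup.subset_closure
    have hMM' : (g : Matrix ι ι F) * ((g⁻¹ : GL ι F) : Matrix ι ι F) = 1 := by
      rw [← Units.val_mul, mul_inv_cancel, Units.val_one]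
    refine ⟨(g : Matrix ι ι F) *ᵥ u, (g : Matrix ι ι F) *ᵥ w, by rw [hg, hu],
      by rw [polar_of_isometry Q _ hg, huw], ?_⟩
    rw [Units.val_mul, Units.val_mul, hs, eichM_conj Q _ _ hMM' hg]
  | one =>
    rw [mul_one, mul_inv_cancel]
    exact Subgroup.one_mem _
  | mul a b _ _ ha hb =>
    have : g * (a * b) * g⁻¹ = (g * a * g⁻¹) * (g * b * g⁻¹) := by group
    rw [this]
    exact Subgroup.mul_mem _ ha hb
  | inv a _ ha =>
    have : g * a⁻¹ * g⁻¹ = (g * a * g⁻¹)⁻¹ := by group
    rw [this]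
    exact Subgroup.inv_mem _ ha

lemma SG_le_EG : Cfsg.Agent.S0795.SG Q ≤ EG Q := by
  unfold Cfsg.Agent.S0795.SG EG
  rw [Subgroup.closure_le]
  rintro g ⟨u, v, c, hu, hv, huv, hg⟩
  apply Subgroup.subset_closure
  refine ⟨u, c • v, hu, by rw [polar_smul_right, huv, smul_zero], ?_⟩
  rw [hg, eichM_smul_eq_siegel Q u v c hv]

/-- product of two reflections whose centres differ by a singular vector -/
lemma refl_mul_refl_caseB (a b : ι → F) (ha : Q a ≠ 0) (hb : Q b = Q a) (hd : Q (b - a) = 0) :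
    ∃ g ∈ EG Q, (g : Matrix ι ι F) =
      Cfsg.reflectionMatrix (⇑Q) a * Cfsg.reflectionMatrix (⇑Q) b := by
  have hpol : polar (⇑Q) a (b - a) = 0 := by
    have h1 := Q_add' Q a (b - a)
    rw [add_sub_cancel, hb, hd, add_zero] at h1
    linear_combination -h1
  have hu : Q ((Q a)⁻¹ • (b - a)) = 0 := by rw [Q_smul', hd, mul_zero]
  have huw : polar (⇑Q) ((Q a)⁻¹ • (b - a)) a = 0 := by
    rw [polar_smul_left, polar_comm, hpol, smul_zero]
  refine ⟨eichGL Q _ a hu huw, Subgroup.subset_closure ⟨_, a, hu, huw, rfl⟩, ?_⟩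
  change eichM Q _ a = _
  rw [eich_eq_refl_mul Q _ a hu huw ha, smul_smul, mul_inv_cancel₀ ha, one_smul, add_sub_cancel]

lemma refl_mul_refl_mem_EG [Finite F] (hQ : (polarBilin Q).Nondegenerate)
    (hn : 5 ≤ Fintype.card ι) (a a' : ι → F) (ha : Q a ≠ 0) (haa' : Q a' = Q a) :
    ∃ g ∈ EG Q, (g : Matrix ι ι F) =
      Cfsg.reflectionMatrix (⇑Q) a * Cfsg.reflectionMatrix (⇑Q) a' := by
  by_cases h2 : (2 : F) = 0
  · by_cases hd : Q (a' - a) = 0
    · exact refl_mul_refl_caseB Q a a' ha haa' hd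
    · -- char 2, nonsingular difference
      have hpol : polar (⇑Q) a (a' - a) = -Q (a' - a) := by
        have h1 := Q_add' Q a (a' - a)
        rw [add_sub_cancel, haa'] at h1
        linear_combination -h1
      have hpol0 : polar (⇑Q) a (a' - a) ≠ 0 := by
        rw [hpol]
        exact neg_ne_zero.2 hd
      have haa : polar (⇑Q) a a = 0 := by rw [polar_self', h2, zero_mul]
      have hdd : polar (⇑Q) (a' - a) (a' - a) = 0 := by rw [polar_self', h2, zero_mul]
      have hH : Disjoint (Submodule.span F {a, a' - a})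
          (LinearMap.BilinForm.orthogonal (polarBilin Q) (Submodule.span F {a, a' - a})) := by
        rw [Submodule.disjoint_def]
        intro x hx hxo
        obtain ⟨s, t, rfl⟩ := Submodule.mem_span_pair.1 hx
        rw [LinearMap.BilinForm.mem_orthogonal_iff] at hxo
        have h3 := hxo a (Submodule.subset_span (by simp))
        have h4 := hxo (a' - a) (Submodule.subset_span (by simp))
        rw [polarBilin_apply_apply, polar_add_right, polar_smul_right, polar_smul_right, haa,
          smul_zero, zero_add, smul_eq_mul] at h3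
        rw [polarBilin_apply_apply, polar_add_right, polar_smul_right, polar_smul_right, hdd,
          smul_zero, add_zero, smul_eq_mul, polar_comm] at h4
        have ht : t = 0 := (mul_eq_zero.1 h3).resolve_right hpol0
        have hs : s = 0 := (mul_eq_zero.1 h4).resolve_right hpol0
        rw [hs, ht, zero_smul, zero_smul, add_zero]
      have hdim : Module.finrank F (Submodule.span F {a, a' - a}) + 2 ≤ Fintype.card ι := by
        have hspan : Module.finrank F (Submodule.span F ({a, a' - a} : Set (ι → F))) ≤ 2 := by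
          classical
          have := finrank_span_finset_le_card (R := F) ({a, a' - a} : Finset (ι → F))
          rw [Finset.coe_insert, Finset.coe_singleton] at this
          exact le_trans this Finset.card_le_two
        omega
      obtain ⟨y, hyH, hyQ⟩ := Cfsg.Agent.S0795.exists_perp_value Q hQ _ hH hdim (Q a) ha
      have hya : polar (⇑Q) a y = 0 := hyH a (Submodule.subset_span (by simp))
      have hyd : polar (⇑Q) (a' - a) y = 0 := hyH (a' - a) (Submodule.subset_span (by simp))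
      have hya' : polar (⇑Q) a' y = 0 := by
        have : a' = a + (a' - a) := by abel
        rw [this, polar_add_left, hya, hyd, add_zero]
      have hy0 : Q y ≠ 0 := by rw [hyQ]; exact ha
      have htwo : Q a + Q a = 0 := by
        have : Q a + Q a = 2 * Q a := by ring
        rw [this, h2, zero_mul]
      obtain ⟨g1, hg1, hg1m⟩ := refl_mul_refl_caseB Q a y ha hyQ (by
        rw [Q_sub, hyQ, polar_comm, hya, sub_zero]
        exact htwo)
      obtain ⟨g2, hg2, hg2m⟩ := refl_mul_refl_caseB Q y a' hy0 (by rw [haa', hyQ]) (by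
        rw [Q_sub, haa', hyQ, hya', sub_zero]
        exact htwo)
      refine ⟨g1 * g2, (EG Q).mul_mem hg1 hg2, ?_⟩
      rw [Units.val_mul, hg1m, hg2m]
      calc Cfsg.reflectionMatrix (⇑Q) a * Cfsg.reflectionMatrix (⇑Q) y *
            (Cfsg.reflectionMatrix (⇑Q) y * Cfsg.reflectionMatrix (⇑Q) a')
          = Cfsg.reflectionMatrix (⇑Q) a * (Cfsg.reflectionMatrix (⇑Q) y *
            Cfsg.reflectionMatrix (⇑Q) y) * Cfsg.reflectionMatrix (⇑Q) a' := by
            simp only [Matrix.mul_assoc]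
        _ = _ := by rw [refl_sq Q y hy0, Matrix.mul_one]
  · obtain ⟨g, hg, hgm⟩ := Cfsg.Agent.S0795.refl_mul_refl_mem_SG Q hQ h2 hn a a' ha haa'
    exact ⟨g, SG_le_EG Q hg, hgm⟩

/-- `Ω` is generated by the Eichler transformations -/
theorem omegaGL_le_EG [Finite F] (hQ : (polarBilin Q).Nondegenerate)
    (hn : 5 ≤ Fintype.card ι) : omegaGL ⇑Q ≤ EG Q := by
  have hnormal : ((EG Q).comap (Cfsg.isometryGroup F ⇑Q).subtype).Normal := by
    constructor
    intro x hx g
    rw [Subgroup.mem_comap] at hx ⊢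
    exact EG_conj Q _ hx g (fun z => g.2 z z)
  have hgen := isometryGroup_closure_refl Q hQ (Or.inr (by omega))
  have hle : commutator (Cfsg.isometryGroup F ⇑Q)
      ≤ (EG Q).comap (Cfsg.isometryGroup F ⇑Q).subtype := by
    apply Cfsg.Agent.S0795.commutator_le_of_gens _ hgen
    rintro s ⟨a, ha, hs⟩ t ⟨b, hb, ht⟩
    have hs2 : s⁻¹ = s := by
      apply inv_eq_of_mul_eq_one_right
      apply Subtype.ext
      apply Units.ext
      change ((s : GL ι F) : Matrix ι ι F) * ((s : GL ι F) : Matrix ι ι F) = 1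
      rw [hs]
      exact refl_sq Q a ha
    have ht2 : t⁻¹ = t := by
      apply inv_eq_of_mul_eq_one_right
      apply Subtype.ext
      apply Units.ext
      change ((t : GL ι F) : Matrix ι ι F) * ((t : GL ι F) : Matrix ι ι F) = 1
      rw [ht]
      exact refl_sq Q b hb
    have hconj := Cfsg.Agent.Helper14.ReflClass.refl_conj Q (Cfsg.reflectionMatrix (⇑Q) a)
      (Cfsg.reflectionMatrix (⇑Q) a) (refl_sq Q a ha) (refl_isom Q a ha) b
    have hb' : Q (Cfsg.reflectionMatrix (⇑Q) a *ᵥ b) ≠ 0 := by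
      rw [refl_isom Q a ha]
      exact hb
    obtain ⟨g, hg, hgm⟩ := refl_mul_refl_mem_EG Q hQ hn
      (Cfsg.reflectionMatrix (⇑Q) a *ᵥ b) b hb' (by rw [refl_isom Q a ha])
    rw [Subgroup.mem_comap]
    have heq : ((s * t * s⁻¹ * t⁻¹ : Cfsg.isometryGroup F ⇑Q) : GL ι F) = g := by
      rw [hs2, ht2]
      apply Units.ext
      change ((s : GL ι F) : Matrix ι ι F) * ((t : GL ι F) : Matrix ι ι F) *
        ((s : GL ι F) : Matrix ι ι F) * ((t : GL ι F) : Matrix ι ι F) = (g : Matrix ι ι F)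
      rw [hgm, ← hconj, hs, ht]
    change ((s * t * s⁻¹ * t⁻¹ : Cfsg.isometryGroup F ⇑Q) : GL ι F) ∈ EG Q
    rw [heq]
    exact hg
  unfold Cfsg.Geo.omegaGL
  calc (Cfsg.Omega F ⇑Q).map (Cfsg.isometryGroup F ⇑Q).subtype
      ≤ ((EG Q).comap (Cfsg.isometryGroup F ⇑Q).subtype).map
        (Cfsg.isometryGroup F ⇑Q).subtype := Subgroup.map_mono hle
    _ ≤ EG Q := Subgroup.map_comap_le _ _

theorem EG_le_omegaGL (hQ : (polarBilin Q).Nondegenerate) (hn : 5 ≤ Fintype.card ι) :
    EG Q ≤ omegaGL ⇑Q := by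
  unfold EG
  rw [Subgroup.closure_le]
  rintro g ⟨u, w, hu, huw, hg⟩
  have : g = eichGL Q u w hu huw := Units.ext hg
  rw [SetLike.mem_coe, this]
  exact eichGL_mem_omegaGL Q hQ hn u w hu huw

end oeich

end Cfsg.Agent.Helper93
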