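import Cfsg.Agent.Lib.Helper93.OTS2

set_option autoImplicit false
set_option linter.unusedSectionVars false

namespace Cfsg.Agent.Helper93

open Matrix QuadraticMap Cfsg.Geo
open Cfsg.Agent.S0794 Cfsg.Agent.Helper14.ReflGen

section ofam

variable {F : Type*} [Field F] {ι : Type} [Fintype ι] [DecidableEq ι]
  (Q : QuadraticForm F (ι → F))


/-! ### copies of a few helper lemmas (to avoid an import clash) -/

lemma ofam_toLin_injective (g : GL ι F) :
    Function.Injective (Matrix.toLin' (g : Matrix ι ι F)) := by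
  intro x y hxy
  rw [Matrix.toLin'_apply, Matrix.toLin'_apply] at hxy
  have := congrArg (fun z => ((g⁻¹ : GL ι F) : Matrix ι ι F) *ᵥ z) hxy
  simpa only [gl_inv_apply_apply] using this

lemma ofam_exists_not_smul (S : Submodule F (ι → F)) (hS : 2 ≤ Module.finrank F S)
    (v : ι → F) : ∃ a ∈ S, ∀ c : F, a ≠ c • v := by
  classical
  by_contra hcon
  push Not at hcon
  have hle : S ≤ Submodule.span F ({v} : Set (ι → F)) := by
    intro a ha
    obtain ⟨c, hc⟩ := hcon a ha
    rw [hc]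
    exact Submodule.smul_mem _ _ (Submodule.subset_span (Set.mem_singleton v))
  have h1 := Submodule.finrank_mono hle
  have h2 : Module.finrank F (Submodule.span F ({v} : Set (ι → F))) ≤ 1 := by
    have := finrank_span_finset_le_card (R := F) ({v} : Finset (ι → F))
    rwa [Finset.coe_singleton, Finset.card_singleton] at this
  omega

lemma ofam_finrank_le_inf_ker_succ (A : Submodule F (ι → F)) (φ : (ι → F) →ₗ[F] F) :
    Module.finrank F A ≤ Module.finrank F (A ⊓ LinearMap.ker φ : Submodule F (ι → F)) + 1 := by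
  have h1 := LinearMap.finrank_range_add_finrank_ker φ
  have h2 : Module.finrank F (LinearMap.range φ) ≤ 1 := by
    have := Submodule.finrank_le (LinearMap.range φ)
    rwa [Module.finrank_self] at this
  have h3 := Submodule.finrank_sup_add_finrank_inf_eq A (LinearMap.ker φ)
  have h4 := Submodule.finrank_le (A ⊔ LinearMap.ker φ)
  omega

lemma ofam_fin2_eq_of_ne {i j k : Fin 2} (h1 : k ≠ i) (h2 : i ≠ j) : k = j := by
  apply Fin.ext
  have e1 : (k : ℕ) ≠ i := fun h => h1 (Fin.ext h)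
  have e2 : (i : ℕ) ≠ j := fun h => h2 (Fin.ext h)
  have := k.isLt
  have := i.isLt
  have := j.isLt
  omega

/-- totally singular of dimension `m` -/
def MTS (m : ℕ) (U : Submodule F (ι → F)) : Prop :=
  (∀ x ∈ U, Q x = 0) ∧ Module.finrank F U = m

variable {Q}

lemma ts_polar {U : Submodule F (ι → F)} (hU : ∀ x ∈ U, Q x = 0) {a b : ι → F}
    (ha : a ∈ U) (hb : b ∈ U) : polar (⇑Q) a b = 0 := by
  unfold polar
  rw [hU _ (U.add_mem ha hb), hU a ha, hU b hb]
  simp

lemma ts_le_orth {U : Submodule F (ι → F)} (hU : ∀ x ∈ U, Q x = 0) :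
    U ≤ LinearMap.BilinForm.orthogonal (polarBilin Q) U := by
  intro w hw
  rw [LinearMap.BilinForm.mem_orthogonal_iff]
  intro p hp
  rw [polarBilin_apply_apply]
  exact ts_polar hU hp hw

lemma MTS.orth_eq (hQ : (polarBilin Q).Nondegenerate) {m : ℕ} (hn : Fintype.card ι = 2 * m)
    {U : Submodule F (ι → F)} (hU : MTS Q m U) :
    LinearMap.BilinForm.orthogonal (polarBilin Q) U = U := by
  symm
  apply Submodule.eq_of_le_of_finrank_eq (ts_le_orth hU.1)
  rw [LinearMap.BilinForm.finrank_orthogonal hQ, Module.finrank_fintype_fun_eq_card, hU.2, hn]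
  omega

lemma MTS.inf_orth (hQ : (polarBilin Q).Nondegenerate) {m : ℕ} (hn : Fintype.card ι = 2 * m)
    {X : Submodule F (ι → F)} (hX : MTS Q m X) (S : Submodule F (ι → F)) :
    Module.finrank F (X ⊓ LinearMap.BilinForm.orthogonal (polarBilin Q) S : Submodule F (ι → F))
      + Module.finrank F S = m + Module.finrank F (X ⊓ S : Submodule F (ι → F)) := by
  have e : X ⊓ LinearMap.BilinForm.orthogonal (polarBilin Q) S
      = LinearMap.BilinForm.orthogonal (polarBilin Q) (X ⊔ S) := by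
    ext v
    rw [Submodule.mem_inf, LinearMap.BilinForm.mem_orthogonal_iff,
      LinearMap.BilinForm.mem_orthogonal_iff]
    constructor
    · rintro ⟨hvX, hvS⟩ n hn'
      obtain ⟨a, ha, b, hb, rfl⟩ := Submodule.mem_sup.1 hn'
      have h1 := hvS b hb
      rw [polarBilin_apply_apply] at h1 ⊢
      rw [polar_add_left, h1, add_zero]
      exact ts_polar hX.1 ha hvX
    · intro h
      refine ⟨?_, fun n hn' => h n (Submodule.mem_sup_right hn')⟩
      rw [← hX.orth_eq hQ hn, LinearMap.BilinForm.mem_orthogonal_iff]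
      intro n hn'
      exact h n (Submodule.mem_sup_left hn')
  rw [e, LinearMap.BilinForm.finrank_orthogonal hQ, Module.finrank_fintype_fun_eq_card, hn]
  have h1 := Submodule.finrank_sup_add_finrank_inf_eq X S
  have h2 := Submodule.finrank_le (X ⊔ S)
  rw [Module.finrank_fintype_fun_eq_card, hn] at h2
  rw [hX.2] at h1
  omega

lemma MTS.mem_of_perp (hQ : (polarBilin Q).Nondegenerate) {m : ℕ}
    (hn : Fintype.card ι = 2 * m) {U U' : Submodule F (ι → F)} (hU : MTS Q m U)
    (hd : Module.finrank F (U ⊓ U' : Submodule F (ι → F)) + 1 = m) {y x : ι → F}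
    (hyU : y ∈ U) (hyU' : y ∉ U') (hx1 : ∀ c ∈ U ⊓ U', polar (⇑Q) c x = 0)
    (hx2 : polar (⇑Q) y x = 0) : x ∈ U := by
  have hy : y ∉ U ⊓ U' := fun h => hyU' (Submodule.mem_inf.1 h).2
  have hsup : (U ⊓ U') ⊔ Submodule.span F {y} = U := by
    apply Submodule.eq_of_le_of_finrank_eq
    · exact sup_le inf_le_left ((Submodule.span_singleton_le_iff_mem y U).2 hyU)
    · rw [finrank_sup_span_eq (U ⊓ U') hy, hd, hU.2]
  have hgoal : x ∈ LinearMap.BilinForm.orthogonal (polarBilin Q) U := by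
    rw [LinearMap.BilinForm.mem_orthogonal_iff]
    intro n hn'
    rw [← hsup] at hn'
    obtain ⟨a, ha, b, hb, rfl⟩ := Submodule.mem_sup.1 hn'
    obtain ⟨k, rfl⟩ := Submodule.mem_span_singleton.1 hb
    rw [polarBilin_apply_apply, polar_add_left, hx1 a ha, polar_smul_left, hx2, smul_zero,
      add_zero]
  rwa [hU.orth_eq hQ hn] at hgoal

lemma MTS.adj_one (hQ : (polarBilin Q).Nondegenerate) {m : ℕ}
    (hn : Fintype.card ι = 2 * m) {U U' X : Submodule F (ι → F)} (hU : MTS Q m U)
    (hU' : MTS Q m U') (hX : MTS Q m X)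
    (hd : Module.finrank F (U ⊓ U' : Submodule F (ι → F)) + 1 = m) {y : ι → F}
    (hyX : y ∈ X) (hyU : y ∈ U) (hyU' : y ∉ U') :
    Module.finrank F (X ⊓ U : Submodule F (ι → F))
      = Module.finrank F (X ⊓ U' : Submodule F (ι → F)) + 1 := by
  have h1 : X ⊓ U' ≤ U := by
    intro x hx
    obtain ⟨hxX, hxU'⟩ := Submodule.mem_inf.1 hx
    apply hU.mem_of_perp hQ hn hd hyU hyU'
    · intro c hc
      exact ts_polar hU'.1 (Submodule.mem_inf.1 hc).2 hxU'
    · exact ts_polar hX.1 hyX hxX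
  have h2 : X ⊓ U' = X ⊓ (U ⊓ U') := by
    apply le_antisymm
    · exact le_inf inf_le_left (le_inf h1 inf_le_right)
    · exact inf_le_inf_left X inf_le_right
  have h3 : X ⊓ U ≤ X ⊓ LinearMap.BilinForm.orthogonal (polarBilin Q) (U ⊓ U') := by
    apply inf_le_inf_left
    intro u hu
    rw [LinearMap.BilinForm.mem_orthogonal_iff]
    intro n hn'
    rw [polarBilin_apply_apply]
    exact ts_polar hU.1 (Submodule.mem_inf.1 hn').1 hu
  have h4 := hX.inf_orth hQ hn (U ⊓ U')
  have h5 : (X ⊓ (U ⊓ U')) ⊔ Submodule.span F {y} ≤ X ⊓ U := by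
    apply sup_le
    · exact inf_le_inf_left X inf_le_left
    · rw [Submodule.span_singleton_le_iff_mem]
      exact Submodule.mem_inf.2 ⟨hyX, hyU⟩
  have hy : y ∉ X ⊓ (U ⊓ U') :=
    fun h => hyU' (Submodule.mem_inf.1 (Submodule.mem_inf.1 h).2).2
  have h6 := finrank_sup_span_eq (X ⊓ (U ⊓ U')) hy
  have h7 := Submodule.finrank_mono h3
  have h8 := Submodule.finrank_mono h5
  rw [h2]
  omega

lemma MTS.adj (hQ : (polarBilin Q).Nondegenerate) {m : ℕ}
    (hn : Fintype.card ι = 2 * m) {U U' X : Submodule F (ι → F)} (hU : MTS Q m U)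
    (hU' : MTS Q m U') (hX : MTS Q m X)
    (hd : Module.finrank F (U ⊓ U' : Submodule F (ι → F)) + 1 = m) :
    Module.finrank F (X ⊓ U : Submodule F (ι → F))
        = Module.finrank F (X ⊓ U' : Submodule F (ι → F)) + 1 ∨
      Module.finrank F (X ⊓ U' : Submodule F (ι → F))
        = Module.finrank F (X ⊓ U : Submodule F (ι → F)) + 1 := by
  obtain ⟨T, hT⟩ : ∃ T, T = LinearMap.BilinForm.orthogonal (polarBilin Q) (U ⊓ U') := ⟨_, rfl⟩
  have hUU'ts : ∀ x ∈ U ⊓ U', Q x = 0 := fun x hx => hU.1 x (Submodule.mem_inf.1 hx).1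
  have hUT : U ≤ T := by
    intro u hu
    rw [hT, LinearMap.BilinForm.mem_orthogonal_iff]
    intro n hn'
    rw [polarBilin_apply_apply]
    exact ts_polar hU.1 (Submodule.mem_inf.1 hn').1 hu
  have hU'T : U' ≤ T := by
    intro u hu
    rw [hT, LinearMap.BilinForm.mem_orthogonal_iff]
    intro n hn'
    rw [polarBilin_apply_apply]
    exact ts_polar hU'.1 (Submodule.mem_inf.1 hn').2 hu
  have hTeq : U ⊔ U' = T := by
    apply Submodule.eq_of_le_of_finrank_eq (sup_le hUT hU'T)
    rw [hT, LinearMap.BilinForm.finrank_orthogonal hQ, Module.finrank_fintype_fun_eq_card, hn]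
    have := Submodule.finrank_sup_add_finrank_inf_eq U U'
    rw [hU.2, hU'.2] at this
    omega
  have h4 := hX.inf_orth hQ hn (U ⊓ U')
  rw [← hT] at h4
  have hlt : X ⊓ (U ⊓ U') < X ⊓ T := by
    refine lt_of_le_of_ne (inf_le_inf_left X ?_) ?_
    · rw [hT]
      exact ts_le_orth hUU'ts
    · intro heq
      rw [← heq] at h4
      omega
  obtain ⟨y, hyXT, hyn⟩ := SetLike.exists_of_lt hlt
  obtain ⟨hyX, hyT⟩ := Submodule.mem_inf.1 hyXT
  rw [← hTeq] at hyT
  obtain ⟨a, ha, b, hb, hab⟩ := Submodule.mem_sup.1 hyT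
  have hpol : polar (⇑Q) a b = 0 := by
    have := hX.1 y hyX
    rw [← hab, Q_add', hU.1 a ha, hU'.1 b hb, zero_add, zero_add] at this
    exact this
  by_cases haU' : a ∈ U'
  · have hyU' : y ∈ U' := by rw [← hab]; exact U'.add_mem haU' hb
    have hyU : y ∉ U :=
      fun h => hyn (Submodule.mem_inf.2 ⟨hyX, Submodule.mem_inf.2 ⟨h, hyU'⟩⟩)
    right
    have hd' : Module.finrank F (U' ⊓ U : Submodule F (ι → F)) + 1 = m := by
      rw [inf_comm]; exact hd
    exact hU'.adj_one hQ hn hU hX hd' hyX hyU' hyU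
  · have hbU : b ∈ U := by
      apply hU.mem_of_perp hQ hn hd ha haU'
      · intro c hc
        exact ts_polar hU'.1 (Submodule.mem_inf.1 hc).2 hb
      · exact hpol
    have hyU : y ∈ U := by rw [← hab]; exact U.add_mem ha hbU
    have hyU' : y ∉ U' :=
      fun h => hyn (Submodule.mem_inf.2 ⟨hyX, Submodule.mem_inf.2 ⟨hyU, h⟩⟩)
    left
    exact hU.adj_one hQ hn hU' hX hd hyX hyU hyU'

/-! ### images of subspaces -/

/-- image of a subspace under an invertible matrix -/
def gmap (g : GL ι F) (U : Submodule F (ι → F)) : Submodule F (ι → F) :=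
  U.map (Matrix.toLin' (g : Matrix ι ι F))

lemma mem_gmap {g : GL ι F} {U : Submodule F (ι → F)} {y : ι → F} :
    y ∈ gmap g U ↔ ∃ x ∈ U, (g : Matrix ι ι F) *ᵥ x = y := by
  unfold gmap
  rw [Submodule.mem_map]
  simp only [Matrix.toLin'_apply]

lemma gmap_mul (g h : GL ι F) (U : Submodule F (ι → F)) :
    gmap (g * h) U = gmap g (gmap h U) := by
  unfold gmap
  rw [Units.val_mul, Matrix.toLin'_mul, Submodule.map_comp]

lemma gmap_one (U : Submodule F (ι → F)) : gmap (1 : GL ι F) U = U := by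
  unfold gmap
  rw [Units.val_one, Matrix.toLin'_one]
  exact Submodule.map_id U

lemma finrank_gmap (g : GL ι F) (U : Submodule F (ι → F)) :
    Module.finrank F (gmap g U) = Module.finrank F U :=
  (Submodule.equivMapOfInjective _ (ofam_toLin_injective g) U).finrank_eq.symm

lemma gmap_inf (g : GL ι F) (U X : Submodule F (ι → F)) :
    gmap g (U ⊓ X) = gmap g U ⊓ gmap g X :=
  Submodule.map_inf _ (ofam_toLin_injective g)

lemma gmap_inv_gmap (g : GL ι F) (U : Submodule F (ι → F)) : gmap g (gmap g⁻¹ U) = U := by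
  rw [← gmap_mul, mul_inv_cancel, gmap_one]

lemma mem_gmap_of_mem {g : GL ι F} {U : Submodule F (ι → F)} {x : ι → F} (hx : x ∈ U) :
    (g : Matrix ι ι F) *ᵥ x ∈ gmap g U := mem_gmap.2 ⟨x, hx, rfl⟩

lemma MTS.image {m : ℕ} {g : GL ι F} (hg : ∀ x, Q ((g : Matrix ι ι F) *ᵥ x) = Q x)
    {U : Submodule F (ι → F)} (hU : MTS Q m U) : MTS Q m (gmap g U) := by
  refine ⟨?_, by rw [finrank_gmap]; exact hU.2⟩
  intro y hy
  obtain ⟨x, hx, rfl⟩ := mem_gmap.1 hy
  rw [hg]
  exact hU.1 x hx

variable (Q)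

/-- isometries preserving the parity of the dimension of intersections of maximal totally
singular subspaces -/
def FamP (m : ℕ) (g : GL ι F) : Prop :=
  (∀ x, Q ((g : Matrix ι ι F) *ᵥ x) = Q x) ∧
  ∀ U X : Submodule F (ι → F), MTS Q m U → MTS Q m X →
    Module.finrank F (gmap g U ⊓ X : Submodule F (ι → F)) % 2
      = Module.finrank F (U ⊓ X : Submodule F (ι → F)) % 2

variable {Q}

lemma FamP.one (m : ℕ) : FamP Q m 1 :=
  ⟨fun x => by rw [Units.val_one, Matrix.one_mulVec], fun U X _ _ => by rw [gmap_one]⟩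

lemma FamP.mul {m : ℕ} {g h : GL ι F} (hg : FamP Q m g) (hh : FamP Q m h) :
    FamP Q m (g * h) := by
  refine ⟨fun x => ?_, fun U X hU hX => ?_⟩
  · rw [Units.val_mul, ← Matrix.mulVec_mulVec, hg.1, hh.1]
  · rw [gmap_mul, hg.2 _ X (hU.image hh.1) hX, hh.2 U X hU hX]

lemma FamP.inv {m : ℕ} {g : GL ι F} (hg : FamP Q m g) : FamP Q m g⁻¹ := by
  have hinv : ∀ x, Q (((g⁻¹ : GL ι F) : Matrix ι ι F) *ᵥ x) = Q x := by
    intro x
    have := hg.1 (((g⁻¹ : GL ι F) : Matrix ι ι F) *ᵥ x)
    rw [gl_apply_inv_apply] at this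
    exact this.symm
  refine ⟨hinv, fun U X hU hX => ?_⟩
  have e1 : Module.finrank F (gmap g⁻¹ U ⊓ X : Submodule F (ι → F))
      = Module.finrank F (gmap g (gmap g⁻¹ U ⊓ X)) := (finrank_gmap g _).symm
  rw [e1, gmap_inf, gmap_inv_gmap, inf_comm U (gmap g X), hg.2 X U hX hU, inf_comm X U]

lemma eich_image_of_mem {U : Submodule F (ι → F)} (hU : ∀ x ∈ U, Q x = 0) {u w : ι → F}
    (hu : Q u = 0) (huw : polar (⇑Q) u w = 0) (huU : u ∈ U) :
    gmap (eichGL Q u w hu huw) U = U := by
  apply Submodule.eq_of_le_of_finrank_eq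
  · intro y hy
    obtain ⟨x, hx, rfl⟩ := mem_gmap.1 hy
    change eichM Q u w *ᵥ x ∈ U
    rw [eichM_mulVec, ts_polar hU huU hx, zero_smul, add_zero, mul_zero, zero_smul, sub_zero]
    exact U.sub_mem hx (U.smul_mem _ huU)
  · exact finrank_gmap _ U

lemma FamP.eich (hQ : (polarBilin Q).Nondegenerate) {m : ℕ} (hn : Fintype.card ι = 2 * m)
    {u w : ι → F} (hu : Q u = 0) (huw : polar (⇑Q) u w = 0) :
    FamP Q m (eichGL Q u w hu huw) := by
  refine ⟨fun x => eichM_isometry Q u w hu huw x, fun U X hU hX => ?_⟩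
  by_cases huU : u ∈ U
  · rw [eich_image_of_mem hU.1 hu huw huU]
  · obtain ⟨φ, hφ⟩ : ∃ φ : (ι → F) →ₗ[F] F, ∀ x, φ x = polar (⇑Q) u x :=
      ⟨polarBilin Q u, fun x => polarBilin_apply_apply Q u x⟩
    obtain ⟨U0, hU0⟩ : ∃ U0, U0 = U ⊓ LinearMap.ker φ := ⟨_, rfl⟩
    have hU0le : U0 ≤ U := by rw [hU0]; exact inf_le_left
    have hU0perp : ∀ x ∈ U0, polar (⇑Q) x u = 0 := by
      intro x hx
      rw [hU0] at hx
      have := LinearMap.mem_ker.1 (Submodule.mem_inf.1 hx).2
      rw [hφ] at this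
      rw [polar_comm]
      exact this
    have hU0ne : U0 ≠ U := by
      intro heq
      apply huU
      rw [← hU.orth_eq hQ hn, LinearMap.BilinForm.mem_orthogonal_iff]
      intro n hn'
      rw [polarBilin_apply_apply]
      rw [← heq] at hn'
      exact hU0perp n hn'
    have hU0dim : Module.finrank F U0 + 1 = m := by
      have h1 := ofam_finrank_le_inf_ker_succ U φ
      rw [← hU0] at h1
      have h2 := Submodule.finrank_lt_finrank_of_lt (lt_of_le_of_ne hU0le hU0ne)
      have h3 := hU.2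
      omega
    have hu0 : u ∉ U0 := fun h => huU (hU0le h)
    obtain ⟨U2, hU2⟩ : ∃ U2, U2 = U0 ⊔ Submodule.span F {u} := ⟨_, rfl⟩
    have huU2 : u ∈ U2 := by
      rw [hU2]
      exact Submodule.mem_sup_right (Submodule.mem_span_singleton_self u)
    have hU2M : MTS Q m U2 := by
      refine ⟨?_, ?_⟩
      · rw [hU2]
        exact ots_sup_span_ts Q U0 (fun x hx => hU.1 x (hU0le hx)) hu hU0perp
      · rw [hU2, finrank_sup_span_eq U0 hu0, hU0dim]
    have hd1 : Module.finrank F (U ⊓ U2 : Submodule F (ι → F)) + 1 = m := by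
      have h1 : U0 ≤ U ⊓ U2 := by
        rw [hU2]
        exact le_inf hU0le le_sup_left
      have h2 := Submodule.finrank_mono h1
      have h3 : U ⊓ U2 ≠ U := by
        intro heq
        have hle : U ≤ U2 := by rw [← heq]; exact inf_le_right
        have := Submodule.eq_of_le_of_finrank_eq hle (by rw [hU.2, hU2M.2])
        apply huU
        rw [this]
        exact huU2
      have h4 := Submodule.finrank_lt_finrank_of_lt (lt_of_le_of_ne inf_le_left h3)
      have h5 := hU.2
      omega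
    have himg : gmap (eichGL Q u w hu huw) U2 = U2 := eich_image_of_mem hU2M.1 hu huw huU2
    have hU1M : MTS Q m (gmap (eichGL Q u w hu huw) U) :=
      hU.image (fun x => eichM_isometry Q u w hu huw x)
    have hd2 : Module.finrank F (gmap (eichGL Q u w hu huw) U ⊓ U2 : Submodule F (ι → F)) + 1
        = m := by
      have : gmap (eichGL Q u w hu huw) U ⊓ U2 = gmap (eichGL Q u w hu huw) (U ⊓ U2) := by
        rw [gmap_inf, himg]
      rw [this, finrank_gmap]
      exact hd1
    have a1 := hU.adj hQ hn hU2M hX hd1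
    have a2 := hU1M.adj hQ hn hU2M hX hd2
    rw [inf_comm (gmap (eichGL Q u w hu huw) U) X, inf_comm U X]
    rcases a1 with a1 | a1 <;> rcases a2 with a2 | a2 <;> omega

theorem omega_famP [Finite F] (hQ : (polarBilin Q).Nondegenerate) {m : ℕ}
    (hn : Fintype.card ι = 2 * m) (hn5 : 5 ≤ Fintype.card ι) {g : GL ι F}
    (hg : g ∈ omegaGL ⇑Q) : FamP Q m g := by
  have h := omegaGL_le_EG Q hQ hn5 hg
  clear hg
  unfold EG at h
  induction h using Subgroup.closure_induction with
  | mem s hs =>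
    obtain ⟨u, w, hu, huw, hs⟩ := hs
    have : s = eichGL Q u w hu huw := Units.ext hs
    rw [this]
    exact FamP.eich hQ hn hu huw
  | one => exact FamP.one m
  | mul a b _ _ ha hb => exact ha.mul hb
  | inv a _ ha => exact ha.inv

end ofam

end Cfsg.Agent.Helper93
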