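import Cfsg.Agent.Lib.Helper93.OFam

set_option autoImplicit false
set_option linter.unusedSectionVars false

namespace Cfsg.Agent.Helper93

open Matrix QuadraticMap Cfsg.Geo
open Cfsg.Agent.S0794 Cfsg.Agent.Helper14.ReflGen

section ofam2

variable {F : Type*} [Field F] {ι : Type} [Fintype ι] [DecidableEq ι]
  (Q : QuadraticForm F (ι → F))

/-- the stabiliser in `Ω` of a totally singular subspace of dimension `m - 1` lies strictly
between ... : it is not maximal -/
theorem ots_submax_not_max [Finite F] (hQ : (polarBilin Q).Nondegenerate) {m : ℕ}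
    (hn : Fintype.card ι = 2 * m) (hn7 : 7 ≤ Fintype.card ι)
    (U₀ : Submodule F (ι → F)) (hU₀ : MTS Q m U₀) (W : Submodule F (ι → F))
    (hW : ∀ w ∈ W, Q w = 0) (hdim : Module.finrank F W + 1 = m) :
    ∃ K : Subgroup (GL ι F), subspaceStabilizer W ⊓ omegaGL ⇑Q < K ∧ K < omegaGL ⇑Q := by
  have hn5 : 5 ≤ Fintype.card ι := by omega
  have h4 := hU₀.inf_orth hQ hn W
  have hlt : U₀ ⊓ W < U₀ ⊓ LinearMap.BilinForm.orthogonal (polarBilin Q) W := by
    refine lt_of_le_of_ne (inf_le_inf_left U₀ (ts_le_orth hW)) ?_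
    intro heq
    rw [← heq] at h4
    omega
  obtain ⟨y, hyUo, hyn⟩ := SetLike.exists_of_lt hlt
  obtain ⟨hyU₀, hyo⟩ := Submodule.mem_inf.1 hyUo
  have hyW : y ∉ W := fun h => hyn (Submodule.mem_inf.2 ⟨hyU₀, h⟩)
  have hyQ : Q y = 0 := hU₀.1 y hyU₀
  have hyperp : ∀ w ∈ W, polar (⇑Q) w y = 0 := by
    intro w hw
    have := (LinearMap.BilinForm.mem_orthogonal_iff.1 hyo) w hw
    rwa [polarBilin_apply_apply] at this
  obtain ⟨W₁, hW₁⟩ : ∃ W₁, W₁ = W ⊔ Submodule.span F {y} := ⟨_, rfl⟩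
  have hWW₁ : W ≤ W₁ := by rw [hW₁]; exact le_sup_left
  have hyW₁ : y ∈ W₁ := by
    rw [hW₁]
    exact Submodule.mem_sup_right (Submodule.mem_span_singleton_self y)
  have hW₁M : MTS Q m W₁ := by
    refine ⟨?_, ?_⟩
    · rw [hW₁]
      exact ots_sup_span_ts Q W hW hyQ hyperp
    · rw [hW₁, finrank_sup_span_eq W hyW, hdim]
  have hW₁0 : W₁ ≠ ⊥ := by
    intro h
    have := hW₁M.2
    rw [h, finrank_bot] at this
    omega
  have hmax := ots_stab_max Q hQ hn7 W₁ hW₁0 hW₁M.1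
    (fun _ _ _ _ => by rw [hW₁M.2, hn]; omega)
  refine ⟨subspaceStabilizer W₁ ⊓ omegaGL ⇑Q, ?_, hmax.1⟩
  refine SetLike.lt_iff_le_and_exists.2 ⟨?_, ?_⟩
  · rintro g ⟨hgW, hgΩ⟩
    refine ⟨?_, hgΩ⟩
    have hP := omega_famP hQ hn hn5 hgΩ
    have hW'M : MTS Q m (gmap g W₁) := hW₁M.image hP.1
    have hWW' : W ≤ gmap g W₁ := by
      intro x hx
      have hgW' := (mem_subspaceStabilizer_iff W g).1 hgW
      have h1 : ((g⁻¹ : GL ι F) : Matrix ι ι F) *ᵥ x ∈ W := by
        rw [hgW', gl_apply_inv_apply]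
        exact hx
      have h2 := mem_gmap_of_mem (g := g) (hWW₁ h1)
      rwa [gl_apply_inv_apply] at h2
    have hpar := hP.2 W₁ W₁ hW₁M hW₁M
    rw [inf_idem, hW₁M.2] at hpar
    have h5 : W ≤ gmap g W₁ ⊓ W₁ := le_inf hWW' hWW₁
    have h6 := Submodule.finrank_mono h5
    have h7 := Submodule.finrank_mono (inf_le_right : gmap g W₁ ⊓ W₁ ≤ W₁)
    rw [hW₁M.2] at h7
    have h8 : Module.finrank F (gmap g W₁ ⊓ W₁ : Submodule F (ι → F)) = m := by omega
    have h9 : gmap g W₁ ⊓ W₁ = W₁ :=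
      Submodule.eq_of_le_of_finrank_eq inf_le_right (by rw [h8, hW₁M.2])
    have h10 : W₁ ≤ gmap g W₁ := le_of_eq_of_le h9.symm inf_le_left
    have h11 : W₁ = gmap g W₁ :=
      Submodule.eq_of_le_of_finrank_eq h10 (by rw [hW₁M.2, hW'M.2])
    apply mem_stab_of_maps_le
    intro x hx
    rw [h11]
    exact mem_gmap_of_mem hx
  · have hW0 : W ≠ ⊥ := by
      intro h
      rw [h, finrank_bot] at hdim
      omega
    obtain ⟨x0, hx0W, hx00⟩ := Submodule.exists_mem_ne_zero_of_ne_bot hW0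
    have hx0y : x0 ∉ Submodule.span F {y} := by
      intro h
      obtain ⟨k, hk⟩ := Submodule.mem_span_singleton.1 h
      have hk0 : k ≠ 0 := by
        rintro rfl
        rw [zero_smul] at hk
        exact hx00 hk.symm
      apply hyW
      have : y = k⁻¹ • x0 := by rw [← hk, smul_smul, inv_mul_cancel₀ hk0, one_smul]
      rw [this]
      exact W.smul_mem _ hx0W
    obtain ⟨t, hyt, htx0⟩ := exists_perp_pair Q hQ y x0 hx0y 1
    refine ⟨eichGL Q y t hyQ hyt, ⟨?_, eichGL_mem_omegaGL Q hQ hn5 y t hyQ hyt⟩, ?_⟩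
    · apply mem_stab_of_maps_le
      intro x hx
      have := mem_gmap_of_mem (g := eichGL Q y t hyQ hyt) hx
      rwa [eich_image_of_mem hW₁M.1 hyQ hyt hyW₁] at this
    · rintro ⟨hstab, _⟩
      have h1 := ((mem_subspaceStabilizer_iff W _).1 hstab x0).1 hx0W
      change eichM Q y t *ᵥ x0 ∈ W at h1
      rw [eichM_mulVec, polar_comm (⇑Q) y x0, hyperp x0 hx0W, htx0, zero_smul, add_zero,
        mul_zero, zero_smul, sub_zero, one_smul] at h1
      apply hyW
      have := W.sub_mem hx0W h1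
      rwa [sub_sub_cancel] at this

/-- for `m` odd the stabiliser in `Ω` of a pair of complementary totally singular
`m`-spaces is not maximal -/
theorem opair_not_max [Finite F] (hQ : (polarBilin Q).Nondegenerate) {m : ℕ}
    (hn : Fintype.card ι = 2 * m) (hn7 : 7 ≤ Fintype.card ι) (hodd : Odd m)
    (D : Fin 2 → Submodule F (ι → F)) (hD : IsMDecomposition m D)
    (hts : ∀ i, ∀ x ∈ D i, Q x = 0) :
    ∃ K : Subgroup (GL ι F), decompositionStabilizer D ⊓ omegaGL ⇑Q < K ∧ K < omegaGL ⇑Q := by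
  have hn5 : 5 ≤ Fintype.card ι := by omega
  have hDM : ∀ i, MTS Q m (D i) := fun i => ⟨hts i, hD.finrank_eq i⟩
  have hdis' : Disjoint (D 0) (D 1) :=
    hD.indep.pairwiseDisjoint (by decide : (0 : Fin 2) ≠ 1)
  have hdis : D 0 ⊓ D 1 = ⊥ := disjoint_iff.1 hdis'
  have hD00 : D 0 ≠ ⊥ := by
    intro h
    have := (hDM 0).2
    rw [h, finrank_bot] at this
    omega
  have hmax := ots_stab_max Q hQ hn7 (D 0) hD00 (hts 0)
    (fun _ _ _ _ => by rw [(hDM 0).2, hn]; omega)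
  refine ⟨subspaceStabilizer (D 0) ⊓ omegaGL ⇑Q, ?_, hmax.1⟩
  refine SetLike.lt_iff_le_and_exists.2 ⟨?_, ?_⟩
  · rintro g ⟨⟨σ, hσ⟩, hgΩ⟩
    refine ⟨?_, hgΩ⟩
    have hσ' : ∀ i, gmap g (D i) = D (σ i) := hσ
    have hP := omega_famP hQ hn hn5 hgΩ
    by_cases h0 : σ 0 = 0
    · apply mem_stab_of_maps_le
      intro x hx
      have := mem_gmap_of_mem (g := g) hx
      rwa [hσ' 0, h0] at this
    · exfalso
      have h1 : σ 0 = 1 := ofam_fin2_eq_of_ne h0 (by decide)
      have hpar := hP.2 (D 0) (D 0) (hDM 0) (hDM 0)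
      rw [hσ' 0, h1, inf_idem, (hDM 0).2, inf_comm, hdis, finrank_bot] at hpar
      obtain ⟨k, hk⟩ := hodd
      omega
  · have h2dim : 2 ≤ Module.finrank F (D 0) := by rw [(hDM 0).2]; omega
    obtain ⟨u, huD, hu0⟩ := Submodule.exists_mem_ne_zero_of_ne_bot hD00
    obtain ⟨w, hwD, hwu⟩ := ofam_exists_not_smul (D 0) h2dim u
    have huQ : Q u = 0 := hts 0 u huD
    have hwQ : Q w = 0 := hts 0 w hwD
    have huw : polar (⇑Q) u w = 0 := ts_polar (hts 0) huD hwD
    obtain ⟨x, hxD, hux⟩ : ∃ x ∈ D 1, polar (⇑Q) u x ≠ 0 := by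
      by_contra hcon
      push Not at hcon
      have h1 : u ∈ LinearMap.BilinForm.orthogonal (polarBilin Q) (D 1) := by
        rw [LinearMap.BilinForm.mem_orthogonal_iff]
        intro n hn'
        rw [polarBilin_apply_apply, polar_comm]
        exact hcon n hn'
      rw [(hDM 1).orth_eq hQ hn] at h1
      have h2 : u ∈ D 0 ⊓ D 1 := Submodule.mem_inf.2 ⟨huD, h1⟩
      rw [hdis, Submodule.mem_bot] at h2
      exact hu0 h2
    refine ⟨eichGL Q u w huQ huw, ⟨?_, eichGL_mem_omegaGL Q hQ hn5 u w huQ huw⟩, ?_⟩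
    · apply mem_stab_of_maps_le
      intro z hz
      have := mem_gmap_of_mem (g := eichGL Q u w huQ huw) hz
      rwa [eich_image_of_mem (hts 0) huQ huw huD] at this
    · rintro ⟨⟨σ, hσ⟩, _⟩
      have hσ' : ∀ i, gmap (eichGL Q u w huQ huw) (D i) = D (σ i) := hσ
      have himg0 := eich_image_of_mem (hts 0) huQ huw huD
      have h0 : σ 0 = 0 := by
        by_contra h0
        have h1 : σ 0 = 1 := ofam_fin2_eq_of_ne h0 (by decide)
        have h2 := hσ' 0
        rw [himg0, h1] at h2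
        rw [← h2, inf_idem] at hdis
        exact hD00 hdis
      have h1 : σ 1 = 1 := by
        apply ofam_fin2_eq_of_ne (i := 0) _ (by decide)
        intro h
        exact absurd (σ.injective (h.trans h0.symm)) (by decide)
      have hgx := mem_gmap_of_mem (g := eichGL Q u w huQ huw) hxD
      rw [hσ' 1, h1] at hgx
      change eichM Q u w *ᵥ x ∈ D 1 at hgx
      rw [eichM_mulVec, hwQ, zero_mul, zero_smul, sub_zero] at hgx
      have hd1 : polar (⇑Q) u x • w - polar (⇑Q) w x • u ∈ D 1 := by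
        have := (D 1).sub_mem hgx hxD
        have e : x + polar (⇑Q) u x • w - polar (⇑Q) w x • u - x
            = polar (⇑Q) u x • w - polar (⇑Q) w x • u := by abel
        rwa [e] at this
      have hd0 : polar (⇑Q) u x • w - polar (⇑Q) w x • u ∈ D 0 :=
        (D 0).sub_mem ((D 0).smul_mem _ hwD) ((D 0).smul_mem _ huD)
      have hd : polar (⇑Q) u x • w - polar (⇑Q) w x • u = 0 := by
        have := Submodule.mem_inf.2 ⟨hd0, hd1⟩
        rwa [hdis, Submodule.mem_bot] at this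
      apply hwu ((polar (⇑Q) u x)⁻¹ * polar (⇑Q) w x)
      calc w = (polar (⇑Q) u x)⁻¹ • (polar (⇑Q) u x • w) := by
            rw [smul_smul, inv_mul_cancel₀ hux, one_smul]
        _ = (polar (⇑Q) u x)⁻¹ • (polar (⇑Q) w x • u) := by rw [sub_eq_zero.1 hd]
        _ = ((polar (⇑Q) u x)⁻¹ * polar (⇑Q) w x) • u := by rw [smul_smul]

end ofam2

end Cfsg.Agent.Helper93
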