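import Cfsg.Agent.Lib.Helper93.OFam2

set_option autoImplicit false
set_option linter.unusedSectionVars false

namespace Cfsg.Agent.Helper93

open Matrix QuadraticMap Cfsg.Geo
open Cfsg.Agent.S0794 Cfsg.Agent.Helper14.ReflGen Cfsg.Agent.Helper13

section opair

variable {F : Type*} [Field F] {ι : Type} [Fintype ι] [DecidableEq ι]
  (Q : QuadraticForm F (ι → F))

/-- the Eichler transformation `E(u,w)` lies in `M` -/
def InM (M : Subgroup (GL ι F)) (u w : ι → F) : Prop :=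
  ∃ g ∈ M, (g : Matrix ι ι F) = eichM Q u w

/-- a pair of complementary maximal totally singular subspaces -/
structure OPair (k : ℕ) (A B : Submodule F (ι → F)) : Prop where
  hA : MTS Q k A
  hB : MTS Q k B
  disj : A ⊓ B = ⊥
  sup : A ⊔ B = ⊤

variable {Q}

lemma InM.mul {M : Subgroup (GL ι F)} {u w w' : ι → F} (h : InM Q M u w) (h' : InM Q M u w')
    (hu : Q u = 0) (huw : polar (⇑Q) u w = 0) (huw' : polar (⇑Q) u w' = 0) :
    InM Q M u (w + w') := by
  obtain ⟨g, hg, hge⟩ := h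
  obtain ⟨g', hg', hge'⟩ := h'
  exact ⟨g * g', M.mul_mem hg hg',
    by rw [Units.val_mul, hge, hge', eichM_mul Q u w w' hu huw huw']⟩

lemma InM.neg {M : Subgroup (GL ι F)} {u w : ι → F} (h : InM Q M u w)
    (hu : Q u = 0) (huw : polar (⇑Q) u w = 0) : InM Q M u (-w) := by
  obtain ⟨g, hg, hge⟩ := h
  refine ⟨g⁻¹, M.inv_mem hg, ?_⟩
  have h1 : (g : Matrix ι ι F) * eichM Q u (-w) = 1 := by
    rw [hge, eichM_mul Q u w (-w) hu huw (by rw [polar_neg_right, huw, neg_zero]),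
      add_neg_cancel, eichM_zero]
  have h2 : ((g⁻¹ : GL ι F) : Matrix ι ι F)
      = ((g⁻¹ : GL ι F) : Matrix ι ι F) * ((g : Matrix ι ι F) * eichM Q u (-w)) := by
    rw [h1, mul_one]
  rw [h2, ← mul_assoc, ← Units.val_mul, inv_mul_cancel, Units.val_one, one_mul]

lemma InM.conj {M : Subgroup (GL ι F)} {u w : ι → F} (h : InM Q M u w) (p : GL ι F)
    (hp : p ∈ M) (hpI : ∀ x, Q ((p : Matrix ι ι F) *ᵥ x) = Q x) :
    InM Q M ((p : Matrix ι ι F) *ᵥ u) ((p : Matrix ι ι F) *ᵥ w) := by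
  obtain ⟨g, hg, hge⟩ := h
  refine ⟨p * g * p⁻¹, M.mul_mem (M.mul_mem hp hg) (M.inv_mem hp), ?_⟩
  have hMM' : (p : Matrix ι ι F) * ((p⁻¹ : GL ι F) : Matrix ι ι F) = 1 := by
    rw [← Units.val_mul, mul_inv_cancel, Units.val_one]
  rw [Units.val_mul, Units.val_mul, hge, eichM_conj Q _ _ hMM' hpI]

lemma eichM_symm {u w : ι → F} (hu : Q u = 0) (hw : Q w = 0) :
    eichM Q u w = eichM Q w (-u) := by
  apply mat_ext_mulVec
  intro x
  rw [eichM_mulVec, eichM_mulVec, hw, QuadraticMap.map_neg, hu, polar_neg_left]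
  simp only [zero_mul, zero_smul, sub_zero, smul_neg, neg_smul]
  abel

lemma OPair.symm {k : ℕ} {A B : Submodule F (ι → F)} (h : OPair Q k A B) : OPair Q k B A :=
  ⟨h.hB, h.hA, by rw [inf_comm]; exact h.disj, by rw [sup_comm]; exact h.sup⟩

lemma OPair.decomp {k : ℕ} {A B : Submodule F (ι → F)} (h : OPair Q k A B) (x : ι → F) :
    ∃ xa ∈ A, ∃ xb ∈ B, x = xa + xb := by
  have : x ∈ A ⊔ B := by rw [h.sup]; trivial
  obtain ⟨a, ha, b, hb, hab⟩ := Submodule.mem_sup.1 this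
  exact ⟨a, ha, b, hb, hab.symm⟩

lemma OPair.eq_zero {k : ℕ} {A B : Submodule F (ι → F)} (h : OPair Q k A B) {x : ι → F}
    (ha : x ∈ A) (hb : x ∈ B) : x = 0 := by
  have : x ∈ A ⊓ B := Submodule.mem_inf.2 ⟨ha, hb⟩
  rwa [h.disj, Submodule.mem_bot] at this

lemma OPair.exists_dual (hQ : (polarBilin Q).Nondegenerate) {k : ℕ}
    (hn : Fintype.card ι = 2 * k) {A B : Submodule F (ι → F)} (h : OPair Q k A B)
    (S : Submodule F (ι → F)) (hS : S ≤ A) {x : ι → F} (hxA : x ∈ A) (hxS : x ∉ S) :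
    ∃ b ∈ B, (∀ s ∈ S, polar (⇑Q) s b = 0) ∧ polar (⇑Q) x b ≠ 0 := by
  obtain ⟨S', hS'⟩ : ∃ S', S' = S ⊔ Submodule.span F {x} := ⟨_, rfl⟩
  have hS'A : S' ≤ A := by
    rw [hS']
    exact sup_le hS ((Submodule.span_singleton_le_iff_mem x A).2 hxA)
  have hBS : B ⊓ S = ⊥ := by
    rw [eq_bot_iff, ← h.disj, inf_comm A B]
    exact inf_le_inf_left B hS
  have hBS' : B ⊓ S' = ⊥ := by
    rw [eq_bot_iff, ← h.disj, inf_comm A B]
    exact inf_le_inf_left B hS'A
  have e1 := h.hB.inf_orth hQ hn S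
  have e2 := h.hB.inf_orth hQ hn S'
  rw [hBS, finrank_bot] at e1
  rw [hBS', finrank_bot] at e2
  have e3 : Module.finrank F S' = Module.finrank F S + 1 := by
    rw [hS']
    exact finrank_sup_span_eq S hxS
  have hlt : B ⊓ LinearMap.BilinForm.orthogonal (polarBilin Q) S'
      < B ⊓ LinearMap.BilinForm.orthogonal (polarBilin Q) S := by
    refine lt_of_le_of_ne (inf_le_inf_left B (LinearMap.BilinForm.orthogonal_le ?_)) ?_
    · rw [hS']
      exact le_sup_left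
    · intro heq
      rw [heq] at e2
      omega
  obtain ⟨b, hb, hbn⟩ := SetLike.exists_of_lt hlt
  obtain ⟨hbB, hbo⟩ := Submodule.mem_inf.1 hb
  have hbS : ∀ s ∈ S, polar (⇑Q) s b = 0 := fun s hs => by
    have := (LinearMap.BilinForm.mem_orthogonal_iff.1 hbo) s hs
    rwa [polarBilin_apply_apply] at this
  refine ⟨b, hbB, hbS, ?_⟩
  intro hx0
  apply hbn
  refine Submodule.mem_inf.2 ⟨hbB, ?_⟩
  rw [LinearMap.BilinForm.mem_orthogonal_iff]
  intro n hn'
  rw [hS'] at hn'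
  obtain ⟨s, hs, y, hy, rfl⟩ := Submodule.mem_sup.1 hn'
  obtain ⟨c, rfl⟩ := Submodule.mem_span_singleton.1 hy
  rw [polarBilin_apply_apply, polar_add_left, hbS s hs, polar_smul_left, hx0, smul_zero,
    add_zero]

lemma eich_mixed_maps {k : ℕ} {A B : Submodule F (ι → F)} (h : OPair Q k A B) {a b : ι → F}
    (ha : a ∈ A) (hb : b ∈ B) :
    (∀ x ∈ A, eichM Q a b *ᵥ x ∈ A) ∧ (∀ x ∈ B, eichM Q a b *ᵥ x ∈ B) := by
  constructor
  · intro x hx
    rw [eichM_mulVec, ts_polar h.hA.1 ha hx, zero_smul, add_zero, mul_zero, zero_smul, sub_zero]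
    exact A.sub_mem hx (A.smul_mem _ ha)
  · intro x hx
    rw [eichM_mulVec, ts_polar h.hB.1 hb hx, zero_smul, sub_zero, h.hB.1 b hb, zero_mul,
      zero_smul, sub_zero]
    exact B.add_mem hx (B.smul_mem _ hb)

/-! ### Step A -/

lemma stepA_one (hQ : (polarBilin Q).Nondegenerate) {k : ℕ}
    (hn : Fintype.card ι = 2 * k) {A B : Submodule F (ι → F)} (h : OPair Q k A B)
    {M : Subgroup (GL ι F)}
    (hmix : ∀ a ∈ A, ∀ b ∈ B, polar (⇑Q) a b = 0 → InM Q M a b) {a a' : ι → F}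
    (ha : a ∈ A) (ha' : a' ∈ A)
    (hind : ∀ s t : F, s • a + t • a' = 0 → s = 0 ∧ t = 0) (hE : InM Q M a a') {x : ι → F}
    (hx : x ∈ A) (hxn : x ∉ Submodule.span F {a} ⊔ Submodule.span F {a'}) :
    InM Q M a x := by
  obtain ⟨S, hS⟩ : ∃ S, S = Submodule.span F {a} ⊔ Submodule.span F {x} := ⟨_, rfl⟩
  have hSA : S ≤ A := by
    rw [hS]
    exact sup_le ((Submodule.span_singleton_le_iff_mem a A).2 ha)
      ((Submodule.span_singleton_le_iff_mem x A).2 hx)
  have haS : a ∈ S := by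
    rw [hS]
    exact Submodule.mem_sup_left (Submodule.mem_span_singleton_self a)
  have hxS : x ∈ S := by
    rw [hS]
    exact Submodule.mem_sup_right (Submodule.mem_span_singleton_self x)
  have ha'S : a' ∉ S := by
    intro hmem
    rw [hS] at hmem
    obtain ⟨y, hy, z, hz, hyz⟩ := Submodule.mem_sup.1 hmem
    obtain ⟨α, rfl⟩ := Submodule.mem_span_singleton.1 hy
    obtain ⟨β, rfl⟩ := Submodule.mem_span_singleton.1 hz
    by_cases hβ : β = 0
    · rw [hβ, zero_smul, add_zero] at hyz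
      have := hind α (-1) (by rw [hyz, neg_smul, one_smul, add_neg_cancel])
      exact one_ne_zero (neg_eq_zero.1 this.2)
    · apply hxn
      have e : x = (-(β⁻¹ * α)) • a + β⁻¹ • a' := by
        rw [← hyz, smul_add, smul_smul, smul_smul, inv_mul_cancel₀ hβ, one_smul, neg_smul]
        abel
      rw [e]
      exact Submodule.add_mem _
        (Submodule.mem_sup_left (Submodule.smul_mem _ _ (Submodule.mem_span_singleton_self a)))
        (Submodule.mem_sup_right (Submodule.smul_mem _ _ (Submodule.mem_span_singleton_self a')))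
  obtain ⟨b₁, hb₁B, hb₁S, hb₁a'⟩ := h.exists_dual hQ hn S hSA ha' ha'S
  obtain ⟨b, hb⟩ : ∃ b, b = (-(polar (⇑Q) a' b₁)⁻¹) • b₁ := ⟨_, rfl⟩
  have hbB : b ∈ B := by rw [hb]; exact B.smul_mem _ hb₁B
  have hba : polar (⇑Q) a b = 0 := by rw [hb, polar_smul_right, hb₁S a haS, smul_zero]
  have hbx : polar (⇑Q) x b = 0 := by rw [hb, polar_smul_right, hb₁S x hxS, smul_zero]
  have hba' : polar (⇑Q) a' b = -1 := by
    rw [hb, polar_smul_right, smul_eq_mul, neg_mul, inv_mul_cancel₀ hb₁a']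
  have haQ : Q a = 0 := h.hA.1 a ha
  have hxQ : Q x = 0 := h.hA.1 x hx
  obtain ⟨p, hpM, hpe⟩ := hmix x hx b hbB hbx
  have hpI : ∀ z, Q ((p : Matrix ι ι F) *ᵥ z) = Q z := by
    intro z
    rw [hpe]
    exact eichM_isometry Q x b hxQ hbx z
  have h1 := hE.conj p hpM hpI
  have e1 : (p : Matrix ι ι F) *ᵥ a = a := by
    rw [hpe, eichM_mulVec, ts_polar h.hA.1 hx ha, zero_smul, add_zero, mul_zero, zero_smul,
      sub_zero, polar_comm (⇑Q) b a, hba, zero_smul, sub_zero]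
  have e2 : (p : Matrix ι ι F) *ᵥ a' = a' + x := by
    rw [hpe, eichM_mulVec, ts_polar h.hA.1 hx ha', zero_smul, add_zero, mul_zero, zero_smul,
      sub_zero, polar_comm (⇑Q) b a', hba', neg_smul, one_smul, sub_neg_eq_add]
  rw [e1, e2] at h1
  have haa' : polar (⇑Q) a a' = 0 := ts_polar h.hA.1 ha ha'
  have hax : polar (⇑Q) a x = 0 := ts_polar h.hA.1 ha hx
  have h2 := hE.neg haQ haa'
  have h3 := h1.mul h2 haQ (by rw [polar_add_right, haa', hax, add_zero])
    (by rw [polar_neg_right, haa', neg_zero])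
  have e3 : a' + x + -a' = x := by abel
  rwa [e3] at h3

lemma stepA_from (hQ : (polarBilin Q).Nondegenerate) {k : ℕ} (hk : 3 ≤ k)
    (hn : Fintype.card ι = 2 * k) {A B : Submodule F (ι → F)} (h : OPair Q k A B)
    {M : Subgroup (GL ι F)}
    (hmix : ∀ a ∈ A, ∀ b ∈ B, polar (⇑Q) a b = 0 → InM Q M a b) {a a' : ι → F}
    (ha : a ∈ A) (ha' : a' ∈ A)
    (hind : ∀ s t : F, s • a + t • a' = 0 → s = 0 ∧ t = 0) (hE : InM Q M a a') :
    ∀ x ∈ A, InM Q M a x := by
  obtain ⟨S₂, hS₂⟩ : ∃ S₂, S₂ = Submodule.span F {a} ⊔ Submodule.span F {a'} := ⟨_, rfl⟩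
  have f3 : Module.finrank F S₂ ≤ 2 := by
    rw [hS₂]
    have e1 := finrank_sup_span_le (Submodule.span F {a}) a'
    have e2 := finrank_sup_span_le (⊥ : Submodule F (ι → F)) a
    rw [bot_sup_eq, finrank_bot] at e2
    omega
  have hAS : ¬ A ≤ S₂ := by
    intro hle
    have := Submodule.finrank_mono hle
    have := h.hA.2
    omega
  obtain ⟨x₁, hx₁A, hx₁S⟩ := SetLike.not_le_iff_exists.1 hAS
  have haQ : Q a = 0 := h.hA.1 a ha
  intro x hx
  by_cases hxS : x ∈ S₂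
  · have h1 : x + x₁ ∉ S₂ := by
      intro hmem
      apply hx₁S
      have := S₂.sub_mem hmem hxS
      rwa [add_sub_cancel_left] at this
    have h2 : -x₁ ∉ S₂ := by
      intro hmem
      apply hx₁S
      have := S₂.neg_mem hmem
      rwa [neg_neg] at this
    rw [hS₂] at h1 h2
    have e1 := stepA_one hQ hn h hmix ha ha' hind hE (A.add_mem hx hx₁A) h1
    have e2 := stepA_one hQ hn h hmix ha ha' hind hE (A.neg_mem hx₁A) h2
    have e3 := e1.mul e2 haQ (ts_polar h.hA.1 ha (A.add_mem hx hx₁A))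
      (ts_polar h.hA.1 ha (A.neg_mem hx₁A))
    have e4 : x + x₁ + -x₁ = x := by abel
    rwa [e4] at e3
  · rw [hS₂] at hxS
    exact stepA_one hQ hn h hmix ha ha' hind hE hx hxS

lemma stepA_all (hQ : (polarBilin Q).Nondegenerate) {k : ℕ} (hk : 3 ≤ k)
    (hn : Fintype.card ι = 2 * k) {A B : Submodule F (ι → F)} (h : OPair Q k A B)
    {M : Subgroup (GL ι F)}
    (hmix : ∀ a ∈ A, ∀ b ∈ B, polar (⇑Q) a b = 0 → InM Q M a b) {a a' : ι → F}
    (ha : a ∈ A) (ha' : a' ∈ A)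
    (hind : ∀ s t : F, s • a + t • a' = 0 → s = 0 ∧ t = 0) (hE : InM Q M a a') :
    ∀ y ∈ A, ∀ x ∈ A, InM Q M y x := by
  have hfrom := stepA_from hQ hk hn h hmix ha ha' hind hE
  have haQ : Q a = 0 := h.hA.1 a ha
  have ha0 : a ≠ 0 := by
    intro h0
    have := hind 1 0 (by rw [h0, smul_zero, zero_smul, add_zero])
    exact one_ne_zero this.1
  intro y hy x hx
  by_cases hsp : ∃ c : F, y = c • a
  · obtain ⟨c, rfl⟩ := hsp
    obtain ⟨g, hgM, hge⟩ := hfrom (c • x) (A.smul_mem c hx)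
    exact ⟨g, hgM, by rw [hge, eichM_smul_left]⟩
  · push Not at hsp
    have hyQ : Q y = 0 := h.hA.1 y hy
    have hind' : ∀ s t : F, s • y + t • a = 0 → s = 0 ∧ t = 0 := by
      intro s t hst
      by_cases hs : s = 0
      · refine ⟨hs, ?_⟩
        rw [hs, zero_smul, zero_add] at hst
        exact (smul_eq_zero.1 hst).resolve_right ha0
      · exfalso
        apply hsp (-(s⁻¹ * t))
        have h1 : s • y = -(t • a) := eq_neg_of_add_eq_zero_left hst
        calc y = s⁻¹ • (s • y) := by rw [smul_smul, inv_mul_cancel₀ hs, one_smul]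
          _ = s⁻¹ • (-(t • a)) := by rw [h1]
          _ = (-(s⁻¹ * t)) • a := by rw [smul_neg, smul_smul, neg_smul]
    have hE' : InM Q M y a := by
      obtain ⟨g, hgM, hge⟩ := hfrom (-y) (A.neg_mem hy)
      exact ⟨g, hgM, by rw [hge, eichM_symm hyQ haQ]⟩
    exact stepA_from hQ hk hn h hmix hy ha hind' hE' x hx

lemma ectr_of_lines {k : ℕ} {A B : Submodule F (ι → F)} (h : OPair Q k A B)
    {M : Subgroup (GL ι F)}
    (hmix : ∀ a ∈ A, ∀ b ∈ B, polar (⇑Q) a b = 0 → InM Q M a b)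
    (hL : ∀ y ∈ A, ∀ x ∈ A, InM Q M y x) {a : ι → F} (ha : a ∈ A) : ECtr Q M a := by
  refine ⟨h.hA.1 a ha, fun w hw => ?_⟩
  obtain ⟨wa, hwa, wb, hwb, rfl⟩ := h.decomp w
  have h1 : polar (⇑Q) a wa = 0 := ts_polar h.hA.1 ha hwa
  have h2 : polar (⇑Q) a wb = 0 := by
    rw [polar_add_right, h1, zero_add] at hw
    exact hw
  exact (hL a ha wa hwa).mul (hmix a ha wb hwb h2) (h.hA.1 a ha) h1 h2

end opair

end Cfsg.Agent.Helper93
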