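import Cfsg.Agent.Lib.Helper93.OPair1

set_option autoImplicit false
set_option linter.unusedSectionVars false

namespace Cfsg.Agent.Helper93

open Matrix QuadraticMap Cfsg.Geo
open Cfsg.Agent.S0794 Cfsg.Agent.Helper14.ReflGen Cfsg.Agent.Helper13

section opair2

variable {F : Type*} [Field F] {ι : Type} [Fintype ι] [DecidableEq ι]
  {Q : QuadraticForm F (ι → F)}

lemma exists_mixed_missing (hQ : (polarBilin Q).Nondegenerate) {k : ℕ}
    (hn : Fintype.card ι = 2 * k) {A B : Submodule F (ι → F)} (h : OPair Q k A B)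
    {U : Submodule F (ι → F)} (hU : MTS Q k U) (hUA : U ≠ A)
    (hd : Module.finrank F (U ⊓ B : Submodule F (ι → F)) + 3 ≤ k) :
    ∃ a ∈ A, ∃ b ∈ B, polar (⇑Q) a b = 0 ∧
      ∀ α β : F, α • a + β • b ∈ U → α = 0 ∧ β = 0 := by
  have hAU : ¬ A ≤ U := by
    intro hle
    exact hUA (Submodule.eq_of_le_of_finrank_eq hle (by rw [h.hA.2, hU.2])).symm
  obtain ⟨a, haA, haU⟩ := SetLike.not_le_iff_exists.1 hAU
  obtain ⟨φ, hφ⟩ : ∃ φ : (ι → F) →ₗ[F] F, ∀ x, φ x = polar (⇑Q) a x :=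
    ⟨polarBilin Q a, fun x => polarBilin_apply_apply Q a x⟩
  obtain ⟨Ba, hBa⟩ : ∃ Ba, Ba = B ⊓ LinearMap.ker φ := ⟨_, rfl⟩
  obtain ⟨Y, hY⟩ : ∃ Y, Y = (U ⊔ Submodule.span F {a}) ⊓ B := ⟨_, rfl⟩
  have h1 := ofam_finrank_le_inf_ker_succ B φ
  rw [← hBa, h.hB.2] at h1
  have h2 := Submodule.finrank_sup_add_finrank_inf_eq (U ⊔ Submodule.span F {a}) B
  rw [← hY, h.hB.2] at h2
  have h3 := finrank_sup_span_le U a
  rw [hU.2] at h3
  have h4 := Submodule.finrank_sup_add_finrank_inf_eq U B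
  rw [hU.2, h.hB.2] at h4
  have h5 : Module.finrank F (U ⊔ B : Submodule F (ι → F))
      ≤ Module.finrank F ((U ⊔ Submodule.span F {a}) ⊔ B : Submodule F (ι → F)) :=
    Submodule.finrank_mono (sup_le_sup_right le_sup_left B)
  have hYB : ¬ Ba ≤ Y := by
    intro hle
    have := Submodule.finrank_mono hle
    omega
  obtain ⟨b, hbBa, hbY⟩ := SetLike.not_le_iff_exists.1 hYB
  rw [hBa] at hbBa
  obtain ⟨hbB, hbker⟩ := Submodule.mem_inf.1 hbBa
  have hab : polar (⇑Q) a b = 0 := by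
    have := LinearMap.mem_ker.1 hbker
    rwa [hφ] at this
  refine ⟨a, haA, b, hbB, hab, ?_⟩
  intro α β hmem
  by_cases hβ : β = 0
  · refine ⟨?_, hβ⟩
    by_contra hα
    rw [hβ, zero_smul, add_zero] at hmem
    apply haU
    have := U.smul_mem α⁻¹ hmem
    rwa [smul_smul, inv_mul_cancel₀ hα, one_smul] at this
  · exfalso
    apply hbY
    rw [hY]
    refine Submodule.mem_inf.2 ⟨?_, hbB⟩
    have e : b = β⁻¹ • (α • a + β • b) + (-(β⁻¹ * α)) • a := by
      rw [smul_add, smul_smul, smul_smul, inv_mul_cancel₀ hβ, one_smul, neg_smul]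
      abel
    rw [e]
    exact Submodule.add_mem _ (Submodule.mem_sup_left (U.smul_mem _ hmem))
      (Submodule.mem_sup_right (Submodule.smul_mem _ _ (Submodule.mem_span_singleton_self a)))

lemma exists_mixed_missing' (hQ : (polarBilin Q).Nondegenerate) {k : ℕ} (hk : 6 ≤ k)
    (hn : Fintype.card ι = 2 * k) {A B : Submodule F (ι → F)} (h : OPair Q k A B)
    {U : Submodule F (ι → F)} (hU : MTS Q k U) (hUA : U ≠ A) (hUB : U ≠ B) :
    ∃ a ∈ A, ∃ b ∈ B, polar (⇑Q) a b = 0 ∧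
      ∀ α β : F, α • a + β • b ∈ U → α = 0 ∧ β = 0 := by
  have h1 := Submodule.finrank_sup_add_finrank_inf_eq (U ⊓ A) (U ⊓ B)
  have h2 : (U ⊓ A) ⊓ (U ⊓ B) = ⊥ := by
    rw [eq_bot_iff]
    intro x hx
    obtain ⟨hxa, hxb⟩ := Submodule.mem_inf.1 hx
    rw [Submodule.mem_bot]
    exact h.eq_zero (Submodule.mem_inf.1 hxa).2 (Submodule.mem_inf.1 hxb).2
  rw [h2, finrank_bot, add_zero] at h1
  have h3 : Module.finrank F ((U ⊓ A) ⊔ (U ⊓ B) : Submodule F (ι → F)) ≤ k := by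
    have := Submodule.finrank_mono (sup_le inf_le_left inf_le_left : (U ⊓ A) ⊔ (U ⊓ B) ≤ U)
    rwa [hU.2] at this
  by_cases hd : Module.finrank F (U ⊓ B : Submodule F (ι → F)) + 3 ≤ k
  · exact exists_mixed_missing hQ hn h hU hUA hd
  · have hd' : Module.finrank F (U ⊓ A : Submodule F (ι → F)) + 3 ≤ k := by omega
    obtain ⟨b, hb, a, ha, hba, hmiss⟩ := exists_mixed_missing hQ hn h.symm hU hUB hd'
    refine ⟨a, ha, b, hb, by rw [polar_comm]; exact hba, ?_⟩
    intro α β hmem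
    have := hmiss β α (by rw [add_comm]; exact hmem)
    exact ⟨this.2, this.1⟩

lemma stepB (hQ : (polarBilin Q).Nondegenerate) {k : ℕ} (hk : 6 ≤ k)
    (hn : Fintype.card ι = 2 * k) {A B : Submodule F (ι → F)} (h : OPair Q k A B)
    {M : Subgroup (GL ι F)}
    (hmix : ∀ a ∈ A, ∀ b ∈ B, polar (⇑Q) a b = 0 → InM Q M a b) (g : GL ι F) (hgM : g ∈ M)
    (hgI : ∀ x, Q ((g : Matrix ι ι F) *ᵥ x) = Q x)
    (hUA : gmap g⁻¹ B ≠ A) (hUB : gmap g⁻¹ B ≠ B) :
    ∃ a ∈ A, ∃ x ∈ A, (∀ s t : F, s • a + t • x = 0 → s = 0 ∧ t = 0) ∧ InM Q M a x := by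
  have hginvI : ∀ x, Q (((g⁻¹ : GL ι F) : Matrix ι ι F) *ᵥ x) = Q x := by
    intro x
    have := hgI (((g⁻¹ : GL ι F) : Matrix ι ι F) *ᵥ x)
    rw [gl_apply_inv_apply] at this
    exact this.symm
  have hU : MTS Q k (gmap g⁻¹ B) := h.hB.image hginvI
  obtain ⟨a₀, ha₀, b₀, hb₀, hab₀, hmiss⟩ := exists_mixed_missing' hQ hk hn h hU hUA hUB
  obtain ⟨u', hu'⟩ : ∃ u', u' = (g : Matrix ι ι F) *ᵥ a₀ := ⟨_, rfl⟩
  obtain ⟨w', hw'⟩ : ∃ w', w' = (g : Matrix ι ι F) *ᵥ b₀ := ⟨_, rfl⟩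
  have hu'Q : Q u' = 0 := by rw [hu', hgI]; exact h.hA.1 a₀ ha₀
  have hu'w' : polar (⇑Q) u' w' = 0 := by
    rw [hu', hw', polar_of_isometry Q _ hgI]
    exact hab₀
  have hE : InM Q M u' w' := by
    rw [hu', hw']
    exact (hmix a₀ ha₀ b₀ hb₀ hab₀).conj g hgM hgI
  have hmissB : ∀ α β : F, α • u' + β • w' ∈ B → α = 0 ∧ β = 0 := by
    intro α β hmem
    apply hmiss α β
    rw [mem_gmap]
    refine ⟨α • u' + β • w', hmem, ?_⟩
    rw [hu', hw', Matrix.mulVec_add, Matrix.mulVec_smul, Matrix.mulVec_smul,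
      gl_inv_apply_apply, gl_inv_apply_apply]
  obtain ⟨ua, hua, ub, hub, hu'd⟩ := h.decomp u'
  obtain ⟨wa, hwa, wb, hwb, hw'd⟩ := h.decomp w'
  have hindA : ∀ s t : F, s • ua + t • wa = 0 → s = 0 ∧ t = 0 := by
    intro s t hst
    apply hmissB s t
    have e : s • u' + t • w' = (s • ua + t • wa) + (s • ub + t • wb) := by
      rw [hu'd, hw'd]
      module
    rw [e, hst, zero_add]
    exact B.add_mem (B.smul_mem _ hub) (B.smul_mem _ hwb)
  obtain ⟨φ₁, hφ₁⟩ : ∃ φ₁ : (ι → F) →ₗ[F] F, ∀ x, φ₁ x = polar (⇑Q) u' x :=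
    ⟨polarBilin Q u', fun x => polarBilin_apply_apply Q u' x⟩
  obtain ⟨φ₂, hφ₂⟩ : ∃ φ₂ : (ι → F) →ₗ[F] F, ∀ x, φ₂ x = polar (⇑Q) w' x :=
    ⟨polarBilin Q w', fun x => polarBilin_apply_apply Q w' x⟩
  have f1 := ofam_finrank_le_inf_ker_succ A φ₁
  have f2 := ofam_finrank_le_inf_ker_succ (A ⊓ LinearMap.ker φ₁) φ₂
  obtain ⟨S₂, hS₂⟩ : ∃ S₂, S₂ = Submodule.span F {ua} ⊔ Submodule.span F {wa} := ⟨_, rfl⟩
  have f3 : Module.finrank F S₂ ≤ 2 := by
    rw [hS₂]
    have e1 := finrank_sup_span_le (Submodule.span F {ua}) wa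
    have e2 := finrank_sup_span_le (⊥ : Submodule F (ι → F)) ua
    rw [bot_sup_eq, finrank_bot] at e2
    omega
  have hXS : ¬ (A ⊓ LinearMap.ker φ₁ ⊓ LinearMap.ker φ₂) ≤ S₂ := by
    intro hle
    have := Submodule.finrank_mono hle
    have := h.hA.2
    omega
  obtain ⟨a, haX, haS⟩ := SetLike.not_le_iff_exists.1 hXS
  obtain ⟨haX1, hak2⟩ := Submodule.mem_inf.1 haX
  obtain ⟨haA, hak1⟩ := Submodule.mem_inf.1 haX1
  have hau' : polar (⇑Q) u' a = 0 := by
    have := LinearMap.mem_ker.1 hak1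
    rwa [hφ₁] at this
  have haw' : polar (⇑Q) w' a = 0 := by
    have := LinearMap.mem_ker.1 hak2
    rwa [hφ₂] at this
  have hind_a_ua : ∀ s t : F, s • a + t • ua = 0 → s = 0 ∧ t = 0 := by
    intro s t hst
    by_cases hs : s = 0
    · rw [hs, zero_smul, zero_add] at hst
      have := hindA t 0 (by rw [zero_smul, add_zero]; exact hst)
      exact ⟨hs, this.1⟩
    · exfalso
      apply haS
      have e : a = (-(s⁻¹ * t)) • ua := by
        have h1 : s • a = -(t • ua) := eq_neg_of_add_eq_zero_left hst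
        calc a = s⁻¹ • (s • a) := by rw [smul_smul, inv_mul_cancel₀ hs, one_smul]
          _ = s⁻¹ • (-(t • ua)) := by rw [h1]
          _ = (-(s⁻¹ * t)) • ua := by rw [smul_neg, smul_smul, neg_smul]
      rw [e, hS₂]
      exact Submodule.mem_sup_left
        (Submodule.smul_mem _ _ (Submodule.mem_span_singleton_self ua))
  obtain ⟨S, hS⟩ : ∃ S, S = Submodule.span F {a} ⊔ Submodule.span F {ua} := ⟨_, rfl⟩
  have hSA : S ≤ A := by
    rw [hS]
    exact sup_le ((Submodule.span_singleton_le_iff_mem a A).2 haA)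
      ((Submodule.span_singleton_le_iff_mem ua A).2 hua)
  have haS' : a ∈ S := by
    rw [hS]
    exact Submodule.mem_sup_left (Submodule.mem_span_singleton_self a)
  have huaS : ua ∈ S := by
    rw [hS]
    exact Submodule.mem_sup_right (Submodule.mem_span_singleton_self ua)
  have hwaS : wa ∉ S := by
    intro hmem
    rw [hS] at hmem
    obtain ⟨y, hy, z, hz, hyz⟩ := Submodule.mem_sup.1 hmem
    obtain ⟨α, rfl⟩ := Submodule.mem_span_singleton.1 hy
    obtain ⟨β, rfl⟩ := Submodule.mem_span_singleton.1 hz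
    by_cases hα : α = 0
    · rw [hα, zero_smul, zero_add] at hyz
      have := hindA β (-1) (by rw [hyz, neg_smul, one_smul, add_neg_cancel])
      exact one_ne_zero (neg_eq_zero.1 this.2)
    · apply haS
      have e : a = α⁻¹ • wa + (-(α⁻¹ * β)) • ua := by
        rw [← hyz, smul_add, smul_smul, smul_smul, inv_mul_cancel₀ hα, one_smul, neg_smul]
        abel
      rw [e, hS₂]
      exact Submodule.add_mem _
        (Submodule.mem_sup_right (Submodule.smul_mem _ _ (Submodule.mem_span_singleton_self wa)))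
        (Submodule.mem_sup_left (Submodule.smul_mem _ _ (Submodule.mem_span_singleton_self ua)))
  obtain ⟨b₁, hb₁B, hb₁S, hb₁w⟩ := h.exists_dual hQ hn S hSA hwa hwaS
  obtain ⟨b, hbdef⟩ : ∃ b, b = (-(polar (⇑Q) wa b₁)⁻¹) • b₁ := ⟨_, rfl⟩
  have hbB : b ∈ B := by rw [hbdef]; exact B.smul_mem _ hb₁B
  have hab : polar (⇑Q) a b = 0 := by rw [hbdef, polar_smul_right, hb₁S a haS', smul_zero]
  have huab : polar (⇑Q) ua b = 0 := by rw [hbdef, polar_smul_right, hb₁S ua huaS, smul_zero]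
  have hwab : polar (⇑Q) wa b = -1 := by
    rw [hbdef, polar_smul_right, smul_eq_mul, neg_mul, inv_mul_cancel₀ hb₁w]
  have hu'b : polar (⇑Q) u' b = 0 := by
    rw [hu'd, polar_add_left, huab, ts_polar h.hB.1 hub hbB, add_zero]
  have hw'b : polar (⇑Q) w' b = -1 := by
    rw [hw'd, polar_add_left, hwab, ts_polar h.hB.1 hwb hbB, add_zero]
  obtain ⟨y, hyM, hye⟩ := hE
  have hyI : ∀ z, Q ((y : Matrix ι ι F) *ᵥ z) = Q z := by
    intro z
    rw [hye]
    exact eichM_isometry Q u' w' hu'Q hu'w' z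
  have h1 := (hmix a haA b hbB hab).conj y hyM hyI
  have e1 : (y : Matrix ι ι F) *ᵥ a = a := by
    rw [hye, eichM_mulVec, hau', haw', zero_smul, zero_smul, mul_zero, zero_smul, add_zero,
      sub_zero, sub_zero]
  have e2 : (y : Matrix ι ι F) *ᵥ b = b + u' := by
    rw [hye, eichM_mulVec, hu'b, hw'b, zero_smul, add_zero, mul_zero, zero_smul, sub_zero,
      neg_smul, one_smul, sub_neg_eq_add]
  rw [e1, e2] at h1
  have haQ := h.hA.1 a haA
  have hau'2 : polar (⇑Q) a u' = 0 := by rw [polar_comm]; exact hau'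
  have h2 := (hmix a haA b hbB hab).neg haQ hab
  have h3 := h1.mul h2 haQ (by rw [polar_add_right, hab, hau'2, add_zero])
    (by rw [polar_neg_right, hab, neg_zero])
  have e3 : b + u' + -b = u' := by abel
  rw [e3] at h3
  have haua : polar (⇑Q) a ua = 0 := ts_polar h.hA.1 haA hua
  have haub : polar (⇑Q) a ub = 0 := by
    rw [hu'd, polar_add_right, haua, zero_add] at hau'2
    exact hau'2
  have h4 := (hmix a haA ub hub haub).neg haQ haub
  rw [hu'd] at h3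
  have h5 := h3.mul h4 haQ (by rw [polar_add_right, haua, haub, add_zero])
    (by rw [polar_neg_right, haub, neg_zero])
  have e4 : ua + ub + -ub = ua := by abel
  rw [e4] at h5
  exact ⟨a, haA, ua, hua, hind_a_ua, h5⟩

end opair2

end Cfsg.Agent.Helper93
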