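import Cfsg.Agent.Lib.Helper93.OPair2

set_option autoImplicit false
set_option linter.unusedSectionVars false

namespace Cfsg.Agent.Helper93

open Matrix QuadraticMap Cfsg.Geo
open Cfsg.Agent.S0794 Cfsg.Agent.Helper14.ReflGen Cfsg.Agent.Helper13

section opair3

variable {F : Type*} [Field F] {ι : Type} [Fintype ι] [DecidableEq ι]
  (Q : QuadraticForm F (ι → F))

/-- dually paired totally singular subspaces -/
structure DPair (A₁ B₁ : Submodule F (ι → F)) : Prop where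
  tsA : ∀ x ∈ A₁, Q x = 0
  tsB : ∀ x ∈ B₁, Q x = 0
  ndA : ∀ x ∈ A₁, (∀ y ∈ B₁, polar (⇑Q) x y = 0) → x = 0
  ndB : ∀ y ∈ B₁, (∀ x ∈ A₁, polar (⇑Q) x y = 0) → y = 0

variable {Q}

lemma refl_fix (v x : ι → F) (h : polar (⇑Q) v x = 0) :
    Cfsg.reflectionMatrix (⇑Q) v *ᵥ x = x := by
  rw [reflectionMatrix_mulVec, h, mul_zero, zero_smul, sub_zero]

lemma refl_swap_left {a b : ι → F} (ha : Q a = 0) (hb : Q b = 0)
    (hab : polar (⇑Q) a b = 1) : Cfsg.reflectionMatrix (⇑Q) (a - b) *ᵥ a = b := by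
  have hQv : Q (a - b) = -1 := by rw [Q_sub, ha, hb, hab]; ring
  have hp : polar (⇑Q) (a - b) a = -1 := by
    rw [polar_sub_left, polar_self', ha, polar_comm (⇑Q) b a, hab]; ring
  have hinv : ((-1 : F))⁻¹ = -1 := by rw [inv_neg, inv_one]
  rw [reflectionMatrix_mulVec, hQv, hp, hinv]
  module

lemma refl_swap_right {a b : ι → F} (ha : Q a = 0) (hb : Q b = 0)
    (hab : polar (⇑Q) a b = 1) : Cfsg.reflectionMatrix (⇑Q) (a - b) *ᵥ b = a := by
  have hQv : Q (a - b) = -1 := by rw [Q_sub, ha, hb, hab]; ring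
  have hp : polar (⇑Q) (a - b) b = 1 := by
    rw [polar_sub_left, polar_self', hb, hab]; ring
  have hinv : ((-1 : F))⁻¹ = -1 := by rw [inv_neg, inv_one]
  rw [reflectionMatrix_mulVec, hQv, hp, hinv]
  module

theorem dpair_swap [Finite F] (hQ : (polarBilin Q).Nondegenerate)
    (hn5 : 5 ≤ Fintype.card ι) :
    ∀ (j : ℕ) (A₁ B₁ : Submodule F (ι → F)), DPair Q A₁ B₁ → Module.finrank F A₁ = 2 * j →
      ∃ s ∈ EG Q, (∀ x ∈ A₁, (s : Matrix ι ι F) *ᵥ x ∈ B₁) ∧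
        (∀ x ∈ B₁, (s : Matrix ι ι F) *ᵥ x ∈ A₁) ∧
        (∀ x, (∀ y ∈ A₁, polar (⇑Q) y x = 0) → (∀ y ∈ B₁, polar (⇑Q) y x = 0) →
          (s : Matrix ι ι F) *ᵥ x = x) := by
  intro j
  induction j with
  | zero =>
    intro A₁ B₁ hD hfr
    have hA0 : A₁ = ⊥ := Submodule.finrank_eq_zero.1 (by rw [hfr])
    have hB0 : ∀ y ∈ B₁, y = 0 := by
      intro y hy
      apply hD.ndB y hy
      intro x hx
      rw [hA0, Submodule.mem_bot] at hx
      rw [hx, polar_zero_left]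
    refine ⟨1, Subgroup.one_mem _, ?_, ?_, ?_⟩
    · intro x hx
      rw [hA0, Submodule.mem_bot] at hx
      rw [hx, Matrix.mulVec_zero]
      exact B₁.zero_mem
    · intro x hx
      rw [hB0 x hx, Matrix.mulVec_zero]
      exact A₁.zero_mem
    · intro x _ _
      rw [Units.val_one, Matrix.one_mulVec]
  | succ j ih =>
    intro A₁ B₁ hD hfr
    have hA1 : A₁ ≠ ⊥ := by
      intro h0
      rw [h0, finrank_bot] at hfr
      omega
    obtain ⟨a₁, ha₁, ha₁0⟩ := Submodule.exists_mem_ne_zero_of_ne_bot hA1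
    have hpartner : ∀ a ∈ A₁, a ≠ 0 → ∃ y ∈ B₁, polar (⇑Q) a y = 1 := by
      intro a ha ha0
      have : ∃ y ∈ B₁, polar (⇑Q) a y ≠ 0 := by
        by_contra hcon
        push Not at hcon
        exact ha0 (hD.ndA a ha hcon)
      obtain ⟨y, hy, hy0⟩ := this
      exact ⟨(polar (⇑Q) a y)⁻¹ • y, B₁.smul_mem _ hy,
        by rw [polar_smul_right, smul_eq_mul, inv_mul_cancel₀ hy0]⟩
    obtain ⟨b₁, hb₁, hab₁⟩ := hpartner a₁ ha₁ ha₁0
    obtain ⟨ψ₁, hψ₁⟩ : ∃ ψ₁ : (ι → F) →ₗ[F] F, ∀ x, ψ₁ x = polar (⇑Q) b₁ x :=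
      ⟨polarBilin Q b₁, fun x => polarBilin_apply_apply Q b₁ x⟩
    have f1 := ofam_finrank_le_inf_ker_succ A₁ ψ₁
    have hne : A₁ ⊓ LinearMap.ker ψ₁ ≠ ⊥ := by
      intro h0
      rw [h0, finrank_bot] at f1
      omega
    obtain ⟨a₂, ha₂mem, ha₂0⟩ := Submodule.exists_mem_ne_zero_of_ne_bot hne
    obtain ⟨ha₂, ha₂k⟩ := Submodule.mem_inf.1 ha₂mem
    have hb₁a₂ : polar (⇑Q) b₁ a₂ = 0 := by
      have := LinearMap.mem_ker.1 ha₂k
      rwa [hψ₁] at this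
    obtain ⟨b₂', hb₂', hab₂'⟩ := hpartner a₂ ha₂ ha₂0
    obtain ⟨b₂, hb₂def⟩ : ∃ b₂, b₂ = b₂' - polar (⇑Q) a₁ b₂' • b₁ := ⟨_, rfl⟩
    have hb₂ : b₂ ∈ B₁ := by
      rw [hb₂def]
      exact B₁.sub_mem hb₂' (B₁.smul_mem _ hb₁)
    have ha₁b₂ : polar (⇑Q) a₁ b₂ = 0 := by
      rw [hb₂def, polar_sub_right, polar_smul_right, hab₁, smul_eq_mul, mul_one, sub_self]
    have ha₂b₁ : polar (⇑Q) a₂ b₁ = 0 := by rw [polar_comm]; exact hb₁a₂
    have ha₂b₂ : polar (⇑Q) a₂ b₂ = 1 := by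
      rw [hb₂def, polar_sub_right, polar_smul_right, ha₂b₁, smul_zero, sub_zero, hab₂']
    have hb₁a₁ : polar (⇑Q) b₁ a₁ = 1 := by rw [polar_comm]; exact hab₁
    have hb₂a₁ : polar (⇑Q) b₂ a₁ = 0 := by rw [polar_comm]; exact ha₁b₂
    have hb₂a₂ : polar (⇑Q) b₂ a₂ = 1 := by rw [polar_comm]; exact ha₂b₂
    have ha₁a₂ : polar (⇑Q) a₁ a₂ = 0 := ts_polar hD.tsA ha₁ ha₂
    have ha₂a₁ : polar (⇑Q) a₂ a₁ = 0 := ts_polar hD.tsA ha₂ ha₁
    have hb₁b₂ : polar (⇑Q) b₁ b₂ = 0 := ts_polar hD.tsB hb₁ hb₂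
    have hb₂b₁ : polar (⇑Q) b₂ b₁ = 0 := ts_polar hD.tsB hb₂ hb₁
    have hQa₁ := hD.tsA a₁ ha₁
    have hQa₂ := hD.tsA a₂ ha₂
    have hQb₁ := hD.tsB b₁ hb₁
    have hQb₂ := hD.tsB b₂ hb₂
    obtain ⟨ψ₂, hψ₂⟩ : ∃ ψ₂ : (ι → F) →ₗ[F] F, ∀ x, ψ₂ x = polar (⇑Q) b₂ x :=
      ⟨polarBilin Q b₂, fun x => polarBilin_apply_apply Q b₂ x⟩
    obtain ⟨χ₁, hχ₁⟩ : ∃ χ₁ : (ι → F) →ₗ[F] F, ∀ x, χ₁ x = polar (⇑Q) a₁ x :=
      ⟨polarBilin Q a₁, fun x => polarBilin_apply_apply Q a₁ x⟩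
    obtain ⟨χ₂, hχ₂⟩ : ∃ χ₂ : (ι → F) →ₗ[F] F, ∀ x, χ₂ x = polar (⇑Q) a₂ x :=
      ⟨polarBilin Q a₂, fun x => polarBilin_apply_apply Q a₂ x⟩
    obtain ⟨A', hA'⟩ : ∃ A', A' = A₁ ⊓ LinearMap.ker ψ₁ ⊓ LinearMap.ker ψ₂ := ⟨_, rfl⟩
    obtain ⟨B', hB'⟩ : ∃ B', B' = B₁ ⊓ LinearMap.ker χ₁ ⊓ LinearMap.ker χ₂ := ⟨_, rfl⟩
    have hA'mem : ∀ x, x ∈ A' ↔ x ∈ A₁ ∧ polar (⇑Q) b₁ x = 0 ∧ polar (⇑Q) b₂ x = 0 := by
      intro x
      rw [hA', Submodule.mem_inf, Submodule.mem_inf, LinearMap.mem_ker, LinearMap.mem_ker,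
        hψ₁, hψ₂, and_assoc]
    have hB'mem : ∀ x, x ∈ B' ↔ x ∈ B₁ ∧ polar (⇑Q) a₁ x = 0 ∧ polar (⇑Q) a₂ x = 0 := by
      intro x
      rw [hB', Submodule.mem_inf, Submodule.mem_inf, LinearMap.mem_ker, LinearMap.mem_ker,
        hχ₁, hχ₂, and_assoc]
    have hdecA : ∀ x ∈ A₁,
        x - polar (⇑Q) b₁ x • a₁ - polar (⇑Q) b₂ x • a₂ ∈ A' := by
      intro x hx
      rw [hA'mem]
      refine ⟨A₁.sub_mem (A₁.sub_mem hx (A₁.smul_mem _ ha₁)) (A₁.smul_mem _ ha₂), ?_, ?_⟩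
      · rw [polar_sub_right, polar_sub_right, polar_smul_right, polar_smul_right, hb₁a₁, hb₁a₂,
          smul_eq_mul, smul_eq_mul]
        ring
      · rw [polar_sub_right, polar_sub_right, polar_smul_right, polar_smul_right, hb₂a₁, hb₂a₂,
          smul_eq_mul, smul_eq_mul]
        ring
    have hdecB : ∀ x ∈ B₁,
        x - polar (⇑Q) a₁ x • b₁ - polar (⇑Q) a₂ x • b₂ ∈ B' := by
      intro x hx
      rw [hB'mem]
      refine ⟨B₁.sub_mem (B₁.sub_mem hx (B₁.smul_mem _ hb₁)) (B₁.smul_mem _ hb₂), ?_, ?_⟩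
      · rw [polar_sub_right, polar_sub_right, polar_smul_right, polar_smul_right, hab₁, ha₁b₂,
          smul_eq_mul, smul_eq_mul]
        ring
      · rw [polar_sub_right, polar_sub_right, polar_smul_right, polar_smul_right, ha₂b₁, ha₂b₂,
          smul_eq_mul, smul_eq_mul]
        ring
    have hA'le : A' ≤ A₁ := fun x hx => ((hA'mem x).1 hx).1
    have hB'le : B' ≤ B₁ := fun x hx => ((hB'mem x).1 hx).1
    have hD' : DPair Q A' B' := by
      refine ⟨fun x hx => hD.tsA x (hA'le hx), fun x hx => hD.tsB x (hB'le hx), ?_, ?_⟩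
      · intro x hx hperp
        obtain ⟨hxA, hx1, hx2⟩ := (hA'mem x).1 hx
        apply hD.ndA x hxA
        intro y hy
        have h1 := hperp _ (hdecB y hy)
        have e : y = (y - polar (⇑Q) a₁ y • b₁ - polar (⇑Q) a₂ y • b₂)
            + polar (⇑Q) a₁ y • b₁ + polar (⇑Q) a₂ y • b₂ := by abel
        rw [e, polar_add_right, polar_add_right, h1, polar_smul_right, polar_smul_right,
          polar_comm (⇑Q) x b₁, hx1, polar_comm (⇑Q) x b₂, hx2]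
        simp
      · intro y hy hperp
        obtain ⟨hyB, hy1, hy2⟩ := (hB'mem y).1 hy
        apply hD.ndB y hyB
        intro x hx
        have h1 := hperp _ (hdecA x hx)
        have e : x = (x - polar (⇑Q) b₁ x • a₁ - polar (⇑Q) b₂ x • a₂)
            + polar (⇑Q) b₁ x • a₁ + polar (⇑Q) b₂ x • a₂ := by abel
        rw [e, polar_add_left, polar_add_left, h1, polar_smul_left, polar_smul_left, hy1, hy2]
        simp
    have ha₁n : a₁ ∉ A' := by
      intro hmem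
      have := ((hA'mem a₁).1 hmem).2.1
      rw [hb₁a₁] at this
      exact one_ne_zero this
    have ha₂n : a₂ ∉ A' ⊔ Submodule.span F {a₁} := by
      intro hmem
      obtain ⟨x', hx', z, hz, hxz⟩ := Submodule.mem_sup.1 hmem
      obtain ⟨c, rfl⟩ := Submodule.mem_span_singleton.1 hz
      have h1 : polar (⇑Q) b₂ a₂ = 0 := by
        rw [← hxz, polar_add_right, ((hA'mem x').1 hx').2.2, polar_smul_right, hb₂a₁, smul_zero,
          add_zero]
      rw [hb₂a₂] at h1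
      exact one_ne_zero h1
    have hsup : A' ⊔ Submodule.span F {a₁} ⊔ Submodule.span F {a₂} = A₁ := by
      apply le_antisymm
      · exact sup_le (sup_le hA'le ((Submodule.span_singleton_le_iff_mem a₁ A₁).2 ha₁))
          ((Submodule.span_singleton_le_iff_mem a₂ A₁).2 ha₂)
      · intro x hx
        have e : x = (x - polar (⇑Q) b₁ x • a₁ - polar (⇑Q) b₂ x • a₂)
            + polar (⇑Q) b₁ x • a₁ + polar (⇑Q) b₂ x • a₂ := by abel
        rw [e]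
        exact Submodule.add_mem _ (Submodule.mem_sup_left (Submodule.add_mem _
          (Submodule.mem_sup_left (hdecA x hx))
          (Submodule.mem_sup_right (Submodule.smul_mem _ _
            (Submodule.mem_span_singleton_self a₁)))))
          (Submodule.mem_sup_right (Submodule.smul_mem _ _
            (Submodule.mem_span_singleton_self a₂)))
    have hfr' : Module.finrank F A' = 2 * j := by
      have e1 := finrank_sup_span_eq (A' ⊔ Submodule.span F {a₁}) ha₂n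
      have e2 := finrank_sup_span_eq A' ha₁n
      rw [hsup] at e1
      omega
    obtain ⟨s', hs'EG, hs'A, hs'B, hs'fix⟩ := ih A' B' hD' hfr'
    have hv₁ : Q (a₁ - b₁) = -1 := by rw [Q_sub, hQa₁, hQb₁, hab₁]; ring
    have hv₂ : Q (a₂ - b₂) = -1 := by rw [Q_sub, hQa₂, hQb₂, ha₂b₂]; ring
    have hv₁0 : Q (a₁ - b₁) ≠ 0 := by
      rw [hv₁]
      exact neg_ne_zero.2 one_ne_zero
    obtain ⟨g, hgEG, hge⟩ := refl_mul_refl_mem_EG Q hQ hn5 (a₁ - b₁) (a₂ - b₂) hv₁0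
      (by rw [hv₂, hv₁])
    have hgapp : ∀ x, (g : Matrix ι ι F) *ᵥ x
        = Cfsg.reflectionMatrix (⇑Q) (a₁ - b₁) *ᵥ (Cfsg.reflectionMatrix (⇑Q) (a₂ - b₂) *ᵥ x) := by
      intro x
      rw [hge, Matrix.mulVec_mulVec]
    have hgfix : ∀ x, polar (⇑Q) a₁ x = 0 → polar (⇑Q) b₁ x = 0 → polar (⇑Q) a₂ x = 0 →
        polar (⇑Q) b₂ x = 0 → (g : Matrix ι ι F) *ᵥ x = x := by
      intro x h1 h2 h3 h4
      rw [hgapp, refl_fix (a₂ - b₂) x (by rw [polar_sub_left, h3, h4, sub_zero]),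
        refl_fix (a₁ - b₁) x (by rw [polar_sub_left, h1, h2, sub_zero])]
    have hga₁ : (g : Matrix ι ι F) *ᵥ a₁ = b₁ := by
      rw [hgapp, refl_fix (a₂ - b₂) a₁ (by rw [polar_sub_left, ha₂a₁, hb₂a₁, sub_zero]),
        refl_swap_left hQa₁ hQb₁ hab₁]
    have hga₂ : (g : Matrix ι ι F) *ᵥ a₂ = b₂ := by
      rw [hgapp, refl_swap_left hQa₂ hQb₂ ha₂b₂,
        refl_fix (a₁ - b₁) b₂ (by rw [polar_sub_left, ha₁b₂, hb₁b₂, sub_zero])]
    have hgb₁ : (g : Matrix ι ι F) *ᵥ b₁ = a₁ := by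
      rw [hgapp, refl_fix (a₂ - b₂) b₁ (by rw [polar_sub_left, ha₂b₁, hb₂b₁, sub_zero]),
        refl_swap_right hQa₁ hQb₁ hab₁]
    have hgb₂ : (g : Matrix ι ι F) *ᵥ b₂ = a₂ := by
      rw [hgapp, refl_swap_right hQa₂ hQb₂ ha₂b₂,
        refl_fix (a₁ - b₁) a₂ (by rw [polar_sub_left, ha₁a₂, hb₁a₂, sub_zero])]
    have hs'b₁ : (s' : Matrix ι ι F) *ᵥ b₁ = b₁ := by
      apply hs'fix
      · intro y hy
        rw [polar_comm]
        exact ((hA'mem y).1 hy).2.1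
      · intro y hy
        exact ts_polar hD.tsB (hB'le hy) hb₁
    have hs'b₂ : (s' : Matrix ι ι F) *ᵥ b₂ = b₂ := by
      apply hs'fix
      · intro y hy
        rw [polar_comm]
        exact ((hA'mem y).1 hy).2.2
      · intro y hy
        exact ts_polar hD.tsB (hB'le hy) hb₂
    have hs'a₁ : (s' : Matrix ι ι F) *ᵥ a₁ = a₁ := by
      apply hs'fix
      · intro y hy
        exact ts_polar hD.tsA (hA'le hy) ha₁
      · intro y hy
        rw [polar_comm]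
        exact ((hB'mem y).1 hy).2.1
    have hs'a₂ : (s' : Matrix ι ι F) *ᵥ a₂ = a₂ := by
      apply hs'fix
      · intro y hy
        exact ts_polar hD.tsA (hA'le hy) ha₂
      · intro y hy
        rw [polar_comm]
        exact ((hB'mem y).1 hy).2.2
    refine ⟨s' * g, (EG Q).mul_mem hs'EG hgEG, ?_, ?_, ?_⟩
    · intro x hx
      have hx' := hdecA x hx
      obtain ⟨hx'A, hx'1, hx'2⟩ := (hA'mem _).1 hx'
      have e : x = (x - polar (⇑Q) b₁ x • a₁ - polar (⇑Q) b₂ x • a₂)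
          + polar (⇑Q) b₁ x • a₁ + polar (⇑Q) b₂ x • a₂ := by abel
      have hgx' := hgfix _ (ts_polar hD.tsA ha₁ hx'A) hx'1 (ts_polar hD.tsA ha₂ hx'A) hx'2
      have hgx : (g : Matrix ι ι F) *ᵥ x = (x - polar (⇑Q) b₁ x • a₁ - polar (⇑Q) b₂ x • a₂)
          + polar (⇑Q) b₁ x • b₁ + polar (⇑Q) b₂ x • b₂ := by
        conv_lhs => rw [e]
        simp only [Matrix.mulVec_add, Matrix.mulVec_smul]
        rw [hgx', hga₁, hga₂]
      rw [Units.val_mul, ← Matrix.mulVec_mulVec, hgx]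
      simp only [Matrix.mulVec_add, Matrix.mulVec_smul]
      rw [hs'b₁, hs'b₂]
      exact B₁.add_mem (B₁.add_mem (hB'le (hs'A _ hx')) (B₁.smul_mem _ hb₁))
        (B₁.smul_mem _ hb₂)
    · intro x hx
      have hx' := hdecB x hx
      obtain ⟨hx'B, hx'1, hx'2⟩ := (hB'mem _).1 hx'
      have e : x = (x - polar (⇑Q) a₁ x • b₁ - polar (⇑Q) a₂ x • b₂)
          + polar (⇑Q) a₁ x • b₁ + polar (⇑Q) a₂ x • b₂ := by abel
      have hgx' := hgfix _ hx'1 (ts_polar hD.tsB hb₁ hx'B) hx'2 (ts_polar hD.tsB hb₂ hx'B)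
      have hgx : (g : Matrix ι ι F) *ᵥ x = (x - polar (⇑Q) a₁ x • b₁ - polar (⇑Q) a₂ x • b₂)
          + polar (⇑Q) a₁ x • a₁ + polar (⇑Q) a₂ x • a₂ := by
        conv_lhs => rw [e]
        simp only [Matrix.mulVec_add, Matrix.mulVec_smul]
        rw [hgx', hgb₁, hgb₂]
      rw [Units.val_mul, ← Matrix.mulVec_mulVec, hgx]
      simp only [Matrix.mulVec_add, Matrix.mulVec_smul]
      rw [hs'a₁, hs'a₂]
      exact A₁.add_mem (A₁.add_mem (hA'le (hs'B _ hx')) (A₁.smul_mem _ ha₁))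
        (A₁.smul_mem _ ha₂)
    · intro x hxA hxB
      rw [Units.val_mul, ← Matrix.mulVec_mulVec,
        hgfix x (hxA a₁ ha₁) (hxB b₁ hb₁) (hxA a₂ ha₂) (hxB b₂ hb₂)]
      exact hs'fix x (fun y hy => hxA y (hA'le hy)) (fun y hy => hxB y (hB'le hy))

/-- a swap of a complementary pair of maximal totally singular subspaces of even dimension,
inside the group generated by the Eichler transformations -/
theorem exists_swap [Finite F] (hQ : (polarBilin Q).Nondegenerate) {k : ℕ}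
    (hn : Fintype.card ι = 2 * k) (hn5 : 5 ≤ Fintype.card ι) (hke : Even k)
    {A B : Submodule F (ι → F)} (h : OPair Q k A B) :
    ∃ s ∈ EG Q, gmap s A = B ∧ gmap s B = A := by
  have hD : DPair Q A B := by
    refine ⟨h.hA.1, h.hB.1, ?_, ?_⟩
    · intro x hx hperp
      apply h.eq_zero hx
      rw [← h.hB.orth_eq hQ hn, LinearMap.BilinForm.mem_orthogonal_iff]
      intro y hy
      rw [polarBilin_apply_apply, polar_comm]
      exact hperp y hy
    · intro y hy hperp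
      apply h.eq_zero _ hy
      rw [← h.hA.orth_eq hQ hn, LinearMap.BilinForm.mem_orthogonal_iff]
      intro x hx
      rw [polarBilin_apply_apply]
      exact hperp x hx
  obtain ⟨j, hj⟩ := hke
  obtain ⟨s, hsEG, hsA, hsB, _⟩ := dpair_swap hQ hn5 j A B hD (by rw [h.hA.2, hj]; ring)
  refine ⟨s, hsEG, ?_, ?_⟩
  · apply Submodule.eq_of_le_of_finrank_eq
    · intro y hy
      obtain ⟨x, hx, rfl⟩ := mem_gmap.1 hy
      exact hsA x hx
    · rw [finrank_gmap, h.hA.2, h.hB.2]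
  · apply Submodule.eq_of_le_of_finrank_eq
    · intro y hy
      obtain ⟨x, hx, rfl⟩ := mem_gmap.1 hy
      exact hsB x hx
    · rw [finrank_gmap, h.hA.2, h.hB.2]

end opair3

end Cfsg.Agent.Helper93
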