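import Cfsg.Agent.Lib.Helper93.OPair3

set_option autoImplicit false
set_option linter.unusedSectionVars false

namespace Cfsg.Agent.Helper93

open Matrix QuadraticMap Cfsg.Geo
open Cfsg.Agent.S0794 Cfsg.Agent.Helper14.ReflGen Cfsg.Agent.Helper13

section opairmax

variable {F : Type*} [Field F] {ι : Type} [Fintype ι] [DecidableEq ι]
  (Q : QuadraticForm F (ι → F))

/-- the stabiliser in `Ω` of a pair of complementary totally singular subspaces of even
dimension `k` is maximal in `Ω` -/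
theorem opair_stab_max [Finite F] (hQ : (polarBilin Q).Nondegenerate) {k : ℕ}
    (hn : Fintype.card ι = 2 * k) (hk : 7 ≤ k) (hke : Even k)
    (D : Fin 2 → Submodule F (ι → F)) (hD : IsMDecomposition k D)
    (hts : ∀ i, ∀ x ∈ D i, Q x = 0) :
    IsMaximalIn (omegaGL ⇑Q) (decompositionStabilizer D ⊓ omegaGL ⇑Q) := by
  have hn5 : 5 ≤ Fintype.card ι := by omega
  have hDM : ∀ i, MTS Q k (D i) := fun i => ⟨hts i, hD.finrank_eq i⟩
  have hdis' : Disjoint (D 0) (D 1) :=
    hD.indep.pairwiseDisjoint (by decide : (0 : Fin 2) ≠ 1)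
  have hdis : D 0 ⊓ D 1 = ⊥ := disjoint_iff.1 hdis'
  have hsup : D 0 ⊔ D 1 = ⊤ := by
    apply Submodule.eq_top_of_finrank_eq
    have := Submodule.finrank_sup_add_finrank_inf_eq (D 0) (D 1)
    rw [hdis, finrank_bot, (hDM 0).2, (hDM 1).2] at this
    rw [Module.finrank_fintype_fun_eq_card, hn]
    omega
  have hP : OPair Q k (D 0) (D 1) := ⟨hDM 0, hDM 1, hdis, hsup⟩
  have hΩE := omegaGL_le_EG Q hQ hn5
  have hEΩ := EG_le_omegaGL Q hQ hn5
  have hΩI : ∀ g ∈ omegaGL ⇑Q, ∀ x, Q ((g : Matrix ι ι F) *ᵥ x) = Q x := by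
    intro g hg x
    obtain ⟨g', _, rfl⟩ := Subgroup.mem_map.1 hg
    exact g'.2 x x
  have hD00 : D 0 ≠ ⊥ := by
    intro h
    have := (hDM 0).2
    rw [h, finrank_bot] at this
    omega
  have hD01 : D 0 ≠ D 1 := by
    intro h
    rw [← h, inf_idem] at hdis
    exact hD00 hdis
  have hmem_fix : ∀ g : GL ι F, gmap g (D 0) = D 0 → gmap g (D 1) = D 1 →
      g ∈ decompositionStabilizer D := by
    intro g h0 h1
    refine ⟨1, fun i => ?_⟩
    rw [Equiv.Perm.one_apply]
    by_cases hi : i = 0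
    · rw [hi]; exact h0
    · have : i = 1 := ofam_fin2_eq_of_ne hi (by decide)
      rw [this]; exact h1
  have hmem_swap : ∀ g : GL ι F, gmap g (D 0) = D 1 → gmap g (D 1) = D 0 →
      g ∈ decompositionStabilizer D := by
    intro g h0 h1
    refine ⟨Equiv.swap 0 1, fun i => ?_⟩
    by_cases hi : i = 0
    · rw [hi, Equiv.swap_apply_left]; exact h0
    · have : i = 1 := ofam_fin2_eq_of_ne hi (by decide)
      rw [this, Equiv.swap_apply_right]; exact h1
  have hmixH : ∀ a ∈ D 0, ∀ b ∈ D 1, ∀ hab : polar (⇑Q) a b = 0, ∀ haQ : Q a = 0,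
      eichGL Q a b haQ hab ∈ decompositionStabilizer D ⊓ omegaGL ⇑Q := by
    intro a ha b hb hab haQ
    refine ⟨hmem_fix _ ?_ ?_, eichGL_mem_omegaGL Q hQ hn5 a b haQ hab⟩
    · apply Submodule.eq_of_le_of_finrank_eq
      · intro y hy
        obtain ⟨x, hx, rfl⟩ := mem_gmap.1 hy
        exact (eich_mixed_maps hP ha hb).1 x hx
      · exact finrank_gmap _ _
    · apply Submodule.eq_of_le_of_finrank_eq
      · intro y hy
        obtain ⟨x, hx, rfl⟩ := mem_gmap.1 hy
        exact (eich_mixed_maps hP ha hb).2 x hx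
      · exact finrank_gmap _ _
  constructor
  · refine SetLike.lt_iff_le_and_exists.2 ⟨inf_le_right, ?_⟩
    have h2dim : 2 ≤ Module.finrank F (D 0) := by rw [(hDM 0).2]; omega
    obtain ⟨u, huD, hu0⟩ := Submodule.exists_mem_ne_zero_of_ne_bot hD00
    obtain ⟨w, hwD, hwu⟩ := ofam_exists_not_smul (D 0) h2dim u
    have huQ : Q u = 0 := hts 0 u huD
    have hwQ : Q w = 0 := hts 0 w hwD
    have huw : polar (⇑Q) u w = 0 := ts_polar (hts 0) huD hwD
    obtain ⟨x, hxD, hux⟩ : ∃ x ∈ D 1, polar (⇑Q) u x ≠ 0 := by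
      obtain ⟨b, hb, _, hb2⟩ := hP.exists_dual hQ hn ⊥ bot_le huD
        (by rw [Submodule.mem_bot]; exact hu0)
      exact ⟨b, hb, hb2⟩
    refine ⟨eichGL Q u w huQ huw, eichGL_mem_omegaGL Q hQ hn5 u w huQ huw, ?_⟩
    rintro ⟨⟨σ, hσ⟩, _⟩
    have hσ' : ∀ i, gmap (eichGL Q u w huQ huw) (D i) = D (σ i) := hσ
    have himg0 := eich_image_of_mem (hts 0) huQ huw huD
    have h0 : σ 0 = 0 := by
      by_contra h0
      have h1 : σ 0 = 1 := ofam_fin2_eq_of_ne h0 (by decide)
      have h2 := hσ' 0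
      rw [himg0, h1] at h2
      exact hD01 h2
    have h1 : σ 1 = 1 := by
      apply ofam_fin2_eq_of_ne (i := 0) _ (by decide)
      intro h
      exact absurd (σ.injective (h.trans h0.symm)) (by decide)
    have hgx := mem_gmap_of_mem (g := eichGL Q u w huQ huw) hxD
    rw [hσ' 1, h1] at hgx
    change eichM Q u w *ᵥ x ∈ D 1 at hgx
    rw [eichM_mulVec, hwQ, zero_mul, zero_smul, sub_zero] at hgx
    have hd1 : polar (⇑Q) u x • w - polar (⇑Q) w x • u ∈ D 1 := by
      have := (D 1).sub_mem hgx hxD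
      have e : x + polar (⇑Q) u x • w - polar (⇑Q) w x • u - x
          = polar (⇑Q) u x • w - polar (⇑Q) w x • u := by abel
      rwa [e] at this
    have hd0 : polar (⇑Q) u x • w - polar (⇑Q) w x • u ∈ D 0 :=
      (D 0).sub_mem ((D 0).smul_mem _ hwD) ((D 0).smul_mem _ huD)
    have hd : polar (⇑Q) u x • w - polar (⇑Q) w x • u = 0 := hP.eq_zero hd0 hd1
    apply hwu ((polar (⇑Q) u x)⁻¹ * polar (⇑Q) w x)
    calc w = (polar (⇑Q) u x)⁻¹ • (polar (⇑Q) u x • w) := by
          rw [smul_smul, inv_mul_cancel₀ hux, one_smul]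
      _ = (polar (⇑Q) u x)⁻¹ • (polar (⇑Q) w x • u) := by rw [sub_eq_zero.1 hd]
      _ = ((polar (⇑Q) u x)⁻¹ * polar (⇑Q) w x) • u := by rw [smul_smul]
  · intro M hHM hMΩ
    by_cases hMH : M ≤ decompositionStabilizer D ⊓ omegaGL ⇑Q
    · left
      exact le_antisymm hMH hHM
    · right
      apply le_antisymm hMΩ
      obtain ⟨g, hgM, hgH⟩ := SetLike.not_le_iff_exists.1 hMH
      have hgΩ : g ∈ omegaGL ⇑Q := hMΩ hgM
      have hgS : g ∉ decompositionStabilizer D := fun h => hgH ⟨h, hgΩ⟩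
      have hgI := hΩI g hgΩ
      have hmix : ∀ a ∈ D 0, ∀ b ∈ D 1, polar (⇑Q) a b = 0 → InM Q M a b :=
        fun a ha b hb hab => ⟨eichGL Q a b (hts 0 a ha) hab,
          hHM (hmixH a ha b hb hab (hts 0 a ha)), rfl⟩
      obtain ⟨s, hsEG, hsA, hsB⟩ := exists_swap hQ hn hn5 hke hP
      have hsΩ : s ∈ omegaGL ⇑Q := hEΩ hsEG
      have hsM : s ∈ M := hHM ⟨hmem_swap s hsA hsB, hsΩ⟩
      have hsI := hΩI s hsΩ
      have hsinv : gmap s⁻¹ (D 1) = D 0 := by
        rw [← hsA, ← gmap_mul, inv_mul_cancel, gmap_one]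
      have hginv_inj : gmap g⁻¹ (D 0) ≠ gmap g⁻¹ (D 1) := by
        intro h
        have := congrArg (gmap g) h
        rw [gmap_inv_gmap, gmap_inv_gmap] at this
        exact hD01 this
      have hginvS : g⁻¹ ∉ decompositionStabilizer D := by
        intro h
        have := (decompositionStabilizer D).inv_mem h
        rw [inv_inv] at this
        exact hgS this
      obtain ⟨g', hg'M, hg'I, hg'1, hg'2⟩ : ∃ g' ∈ M,
          (∀ x, Q ((g' : Matrix ι ι F) *ᵥ x) = Q x) ∧ gmap g'⁻¹ (D 1) ≠ D 0 ∧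
            gmap g'⁻¹ (D 1) ≠ D 1 := by
        by_cases c1 : gmap g⁻¹ (D 1) = D 0 ∨ gmap g⁻¹ (D 1) = D 1
        · have e : gmap (s * g)⁻¹ (D 1) = gmap g⁻¹ (D 0) := by
            rw [_root_.mul_inv_rev, gmap_mul, hsinv]
          refine ⟨s * g, M.mul_mem hsM hgM, ?_, ?_, ?_⟩
          · intro x
            rw [Units.val_mul, ← Matrix.mulVec_mulVec, hsI, hgI]
          · rw [e]
            intro h0
            rcases c1 with c1 | c1
            · apply hginv_inj
              rw [h0, c1]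
            · exact hginvS (hmem_fix _ h0 c1)
          · rw [e]
            intro h0
            rcases c1 with c1 | c1
            · exact hginvS (hmem_swap _ h0 c1)
            · apply hginv_inj
              rw [h0, c1]
        · push Not at c1
          exact ⟨g, hgM, hgI, c1.1, c1.2⟩
      obtain ⟨a, haA, x, hxA, hind, hE⟩ :=
        stepB hQ (by omega) hn hP hmix g' hg'M hg'I hg'1 hg'2
      have hL := stepA_all hQ (by omega) hn hP hmix haA hxA hind hE
      have hCA : ∀ a ∈ D 0, ECtr Q M a := fun a ha => ectr_of_lines hP hmix hL ha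
      have hCB : ∀ b ∈ D 1, ECtr Q M b := by
        intro b hb
        rw [← hsA] at hb
        obtain ⟨a', ha', rfl⟩ := mem_gmap.1 hb
        exact (hCA a' ha').conj s hsM hsI
      obtain ⟨a₀, ha₀, ha₀0⟩ := Submodule.exists_mem_ne_zero_of_ne_bot hD00
      obtain ⟨b₀, hb₀, _, hβ⟩ := hP.exists_dual hQ hn ⊥ bot_le ha₀
        (by rw [Submodule.mem_bot]; exact ha₀0)
      have hall := ECtr.all hQ (hCA a₀ ha₀) (hCB b₀ hb₀) hβ
      have hEM : EG Q ≤ M := by
        unfold EG
        rw [Subgroup.closure_le]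
        rintro y ⟨u, w, hu, huw, hy⟩
        obtain ⟨g₁, hg₁M, hg₁⟩ := (hall u hu).2 w huw
        have : y = g₁ := Units.ext (by rw [hy, hg₁])
        rw [SetLike.mem_coe, this]
        exact hg₁M
      exact fun y hy => hEM (hΩE hy)

end opairmax

end Cfsg.Agent.Helper93
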