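import Cfsg.Agent.Lib.Helper93.ORTable2
import Cfsg.Agent.Lib.Helper42.OR_A1
import Cfsg.Agent.Lib.Helper42.OR_A2
import Cfsg.Agent.Lib.Helper61.OR_B
import Cfsg.Agent.Lib.Helper26.OR_SL
import Cfsg.Agent.Lib.Helper76.OR_C2
import Cfsg.Agent.Lib.Helper49.OR_LU
import Cfsg.Agent.Lib.Helper76.OR_DG
import Cfsg.Agent.Lib.Helper76.OR_DG2
import Cfsg.Agent.Lib.Helper47.OR_PSL
import Cfsg.Agent.Lib.Helper47.OR_TR
import Cfsg.Agent.Lib.Helper61.OR_EX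
import Cfsg.Agent.Lib.Helper61.OR_ORD
import Cfsg.Agent.Lib.Helper61.OR_PN
import Cfsg.Agent.Lib.Helper61.OR_P3

/-! # OR3 project (S2459): assembly. -/

set_option autoImplicit false

namespace Cfsg.Agent.Helper93.OR

open Matrix

local notation "SL3" => Matrix.SpecialLinearGroup (Fin 3)

/-- Normal form: a non-scalar invertible 3 x 3 matrix is conjugate to one with prescribed `(0,0)` entry and
prescribed `(0,0)` entry of the Schur complement. -/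
theorem nf {F : Type*} [Field F] (A : Matrix (Fin 3) (Fin 3) F)
    (hA : ∀ c : F, A ≠ c • (1 : Matrix (Fin 3) (Fin 3) F)) (hdet : A.det ≠ 0) (μ₁ μ₂ : F) (hμ₁ : μ₁ ≠ 0) :
    ∃ P : GL (Fin 3) F, ((P⁻¹ : GL (Fin 3) F).1 * A * P.1) 0 0 = μ₁ ∧
      schur ((P⁻¹ : GL (Fin 3) F).1 * A * P.1) 0 0 = μ₂ := by
  obtain ⟨v, hv⟩ := Cfsg.Agent.Helper42.OR.exists_not_eigen A hA
  obtain ⟨P1, hP1⟩ := Cfsg.Agent.Helper42.OR.conj_col_of_vec A v hv μ₁
  have hdet1 : ((P1⁻¹ : GL (Fin 3) F).1 * A * P1.1).det ≠ 0 := by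
    rw [Matrix.det_units_conj']; exact hdet
  obtain ⟨P2, h200, h2ns⟩ := Cfsg.Agent.Helper61.OR.schur_fix _ μ₁ hμ₁ hdet1 hP1
  obtain ⟨T, hT⟩ := Cfsg.Agent.Helper26.OR.two_conj _ h2ns μ₂
  obtain ⟨P3, h300, h3s⟩ := Cfsg.Agent.Helper76.OR.schur_blk ((P2⁻¹ : GL (Fin 3) F).1 *
    ((P1⁻¹ : GL (Fin 3) F).1 * A * P1.1) * P2.1) (by rw [h200]; exact hμ₁) T
  have key : (((P1 * P2 * P3)⁻¹ : GL (Fin 3) F).1 * A * (P1 * P2 * P3).1) =
      (P3⁻¹ : GL (Fin 3) F).1 * ((P2⁻¹ : GL (Fin 3) F).1 *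
        ((P1⁻¹ : GL (Fin 3) F).1 * A * P1.1) * P2.1) * P3.1 := by
    simp only [_root_.mul_inv_rev, Units.val_mul, Matrix.mul_assoc]
  refine ⟨P1 * P2 * P3, ?_, ?_⟩
  · rw [key, h300, h200]
  · rw [key, h3s]; exact hT

/-- Sourour's factorisation for `SL₃(F)`: a non-scalar element is a product of two conjugates of a diagonal
element with distinct diagonal entries. -/
theorem main_split {F : Type*} [Field F] (β : Fin 3 → F) (hinj : Function.Injective β)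
    (hβ0 : ∀ i, β i ≠ 0) (hprod : β 0 * β 1 * β 2 = 1) (X : SL3 F) (hX : X.1 = Matrix.diagonal β)
    (A : SL3 F) (hA : ∀ c : F, A.1 ≠ c • (1 : Matrix (Fin 3) (Fin 3) F)) :
    ∃ u v : SL3 F, A = u * X * u⁻¹ * (v * X * v⁻¹) := by
  have hdetA : A.1.det = 1 := A.2
  obtain ⟨P, h00, h11⟩ := nf A.1 hA (by rw [hdetA]; exact one_ne_zero) (β 0 * β 0) (β 1 * β 1)
    (mul_ne_zero (hβ0 0) (hβ0 0))
  have hdetM : ((P⁻¹ : GL (Fin 3) F).1 * A.1 * P.1).det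
      = (β 0 * β 0) * (β 1 * β 1) * (β 2 * β 2) := by
    rw [Matrix.det_units_conj', hdetA]
    linear_combination (-(1 + β 0 * β 1 * β 2)) * hprod
  obtain ⟨L, U, hM, hL, hLd, hU, hUd⟩ := Cfsg.Agent.Helper49.OR.lu_of_schur _ β β hβ0 hβ0 h00 h11 hdetM
  obtain ⟨Q, hQ⟩ := Cfsg.Agent.Helper76.OR.lower_diag L β hinj hL hLd
  obtain ⟨R, hR⟩ := Cfsg.Agent.Helper76.OR.upper_diag U β hinj hU hUd
  have hAM : A.1 = P.1 * ((P⁻¹ : GL (Fin 3) F).1 * A.1 * P.1) * (P⁻¹ : GL (Fin 3) F).1 := by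
    simp only [Matrix.mul_assoc]
    rw [Units.mul_inv, Matrix.mul_one, Units.mul_inv_cancel_left]
  have hA' : A.1 = (P * Q).1 * X.1 * ((P * Q)⁻¹ : GL (Fin 3) F).1 *
      ((P * R).1 * X.1 * ((P * R)⁻¹ : GL (Fin 3) F).1) := by
    rw [hAM, hM, hQ, hR, hX]
    simp only [_root_.mul_inv_rev, Units.val_mul, Matrix.mul_assoc, Units.inv_mul_cancel_left]
  obtain ⟨u, hu⟩ := Cfsg.Agent.Helper26.OR.sl_conj_of_gl X β hX (P * Q)
  obtain ⟨v, hv⟩ := Cfsg.Agent.Helper26.OR.sl_conj_of_gl X β hX (P * R)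
  refine ⟨u, v, Subtype.ext ?_⟩
  rw [Matrix.SpecialLinearGroup.coe_mul, hu, hv]
  exact hA'

/-- The case `q = 3`, over `ZMod 3`. -/
theorem q3_main (A : SL3 (ZMod 3))
    (hA : ∀ c : ZMod 3, A.1 ≠ c • (1 : Matrix (Fin 3) (Fin 3) (ZMod 3))) :
    ∃ u v : SL3 (ZMod 3), A = u * X3 * u⁻¹ * (v * X3 * v⁻¹) := by
  obtain ⟨v0, hv0⟩ := Cfsg.Agent.Helper42.OR.exists_not_eigen A.1 hA
  obtain ⟨P, hP⟩ := Cfsg.Agent.Helper42.OR.conj_col_of_vec A.1 v0 hv0 1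
  have hdetM : ((P⁻¹ : GL (Fin 3) (ZMod 3)).1 * A.1 * P.1).det = 1 := by
    rw [Matrix.det_units_conj']; exact A.2
  obtain ⟨u', v', hM⟩ := Cfsg.Agent.Helper93.ORT.q3_table _ hdetM hP
  obtain ⟨u, hu⟩ := Cfsg.Agent.Helper26.OR.sl_conj_of_gl_three (u' * X3 * u'⁻¹) P
  obtain ⟨v, hv⟩ := Cfsg.Agent.Helper26.OR.sl_conj_of_gl_three (v' * X3 * v'⁻¹) P
  have hAM : A.1 = P.1 * ((P⁻¹ : GL (Fin 3) (ZMod 3)).1 * A.1 * P.1)
      * (P⁻¹ : GL (Fin 3) (ZMod 3)).1 := by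
    simp only [Matrix.mul_assoc]
    rw [Units.mul_inv, Matrix.mul_one, Units.mul_inv_cancel_left]
  refine ⟨u * u', v * v', Subtype.ext ?_⟩
  have e1 : u * u' * X3 * (u * u')⁻¹ = u * (u' * X3 * u'⁻¹) * u⁻¹ := by group
  have e2 : v * v' * X3 * (v * v')⁻¹ = v * (v' * X3 * v'⁻¹) * v⁻¹ := by group
  rw [e1, e2, Matrix.SpecialLinearGroup.coe_mul, hu, hv, hAM, hM,
    Matrix.SpecialLinearGroup.coe_mul]
  simp only [Matrix.mul_assoc, Units.inv_mul_cancel_left]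

theorem X3_pow : X3 ^ 4 = 1 := by
  decide

/-- S2459. -/
theorem main {F : Type*} [Field F] [Fintype F] (p : ℕ) [Fact p.Prime] [CharP F p]
    (h3 : 3 ≤ Fintype.card F) :
    ∃ x : Matrix.ProjectiveSpecialLinearGroup (Fin 3) F, ¬ p ∣ orderOf x ∧
      ∀ g : Matrix.ProjectiveSpecialLinearGroup (Fin 3) F, g ≠ 1 →
        ∃ u v : Matrix.ProjectiveSpecialLinearGroup (Fin 3) F,
          g = (u * x * u⁻¹) * (v * x * v⁻¹) := by
  by_cases h4 : 4 ≤ Fintype.card F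
  · obtain ⟨a, ha0, ha1, haa⟩ := Cfsg.Agent.Helper61.OR.exists_good_elt h4
    have hβ0 : ∀ i, (![1, a, a⁻¹] : Fin 3 → F) i ≠ 0 := by
      intro i; fin_cases i <;> simp [ha0]
    have hprod : (![1, a, a⁻¹] : Fin 3 → F) 0 * (![1, a, a⁻¹] : Fin 3 → F) 1
        * (![1, a, a⁻¹] : Fin 3 → F) 2 = 1 := by
      simp [ha0]
    have hdet : (Matrix.diagonal (![1, a, a⁻¹] : Fin 3 → F)).det = 1 := by
      rw [Matrix.det_diagonal, Fin.prod_univ_three]; exact hprod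
    have hinj : Function.Injective (![1, a, a⁻¹] : Fin 3 → F) := by
      have h1 : (1 : F) ≠ a⁻¹ := by
        intro h; apply ha1; rw [← inv_inv a, ← h, inv_one]
      have h2 : a ≠ a⁻¹ := by
        intro h; apply haa; nth_rewrite 2 [h]; exact mul_inv_cancel₀ ha0
      have h3 : a ≠ 1 := ha1
      intro i j h
      fin_cases i <;> fin_cases j <;> simp at h ⊢ <;>
        first
          | exact absurd h h3
          | exact absurd h.symm h3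
          | exact absurd h h1
          | exact absurd h.symm h1
          | exact absurd h h2
          | exact absurd h.symm h2
    exact Cfsg.Agent.Helper47.OR.psl_of_sl p ⟨Matrix.diagonal (![1, a, a⁻¹] : Fin 3 → F), hdet⟩
      (Fintype.card F - 1) (Cfsg.Agent.Helper61.OR.diag_pow _ _ rfl hβ0) (Cfsg.Agent.Helper61.OR.not_dvd_card_sub_one p)
      (fun A hA => main_split _ hinj hβ0 hprod _ rfl A hA)
  · have hc : Fintype.card F = 3 := by omega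
    have hp3 : p = 3 := Cfsg.Agent.Helper61.OR.char_three p hc
    obtain ⟨X, hXn, hX⟩ := Cfsg.Agent.Helper47.OR.transport3 hc X3 4 X3_pow q3_main
    exact Cfsg.Agent.Helper47.OR.psl_of_sl p X 4 hXn (by rw [hp3]; decide) hX

end Cfsg.Agent.Helper93.OR
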