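import Cfsg.Agent.Lib.Helper93.OR0

/-! # OR3 project (S2459): the `q = 3` table (piece Q3a).  Generated by a python search; checked by `decide`. -/

set_option autoImplicit false

namespace Cfsg.Agent.Helper93.ORT

open Matrix Cfsg.Agent.Helper93.OR

local notation "SL3" => Matrix.SpecialLinearGroup (Fin 3)
local notation "M3" => Matrix (Fin 3) (Fin 3) (ZMod 3)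

/-- explicit product -/
def mul3 (A B : M3) : M3 :=
  fun i j => A i 0 * B 0 j + A i 1 * B 1 j + A i 2 * B 2 j

/-- explicit determinant -/
def det3 (A : M3) : ZMod 3 :=
  A 0 0 * A 1 1 * A 2 2 - A 0 0 * A 1 2 * A 2 1 - A 0 1 * A 1 0 * A 2 2 + A 0 1 * A 1 2 * A 2 0
    + A 0 2 * A 1 0 * A 2 1 - A 0 2 * A 1 1 * A 2 0

/-- explicit adjugate -/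
def adj3 (A : M3) : M3 :=
  !![A 1 1 * A 2 2 - A 1 2 * A 2 1, -(A 0 1 * A 2 2) + A 0 2 * A 2 1, A 0 1 * A 1 2 - A 0 2 * A 1 1;
     -(A 1 0 * A 2 2) + A 1 2 * A 2 0, A 0 0 * A 2 2 - A 0 2 * A 2 0, -(A 0 0 * A 1 2) + A 0 2 * A 1 0;
     A 1 0 * A 2 1 - A 1 1 * A 2 0, -(A 0 0 * A 2 1) + A 0 1 * A 2 0, A 0 0 * A 1 1 - A 0 1 * A 1 0]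

theorem mul3_eq (A B : M3) : mul3 A B = A * B := by
  ext i j; simp [mul3, Matrix.mul_apply, Fin.sum_univ_three]

theorem det3_eq (A : M3) : det3 A = A.det := by
  rw [Matrix.det_fin_three]; rfl

theorem adj3_eq (A : M3) : adj3 A = A.adjugate := by
  rw [Matrix.adjugate_fin_three]; rfl

/-- entrywise equality -/
def eq3 (A B : M3) : Prop :=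
  A 0 0 = B 0 0 ∧ A 0 1 = B 0 1 ∧ A 0 2 = B 0 2 ∧ A 1 0 = B 1 0 ∧ A 1 1 = B 1 1 ∧ A 1 2 = B 1 2 ∧
    A 2 0 = B 2 0 ∧ A 2 1 = B 2 1 ∧ A 2 2 = B 2 2

instance (A B : M3) : Decidable (eq3 A B) := by unfold eq3; infer_instance

theorem eq_of_eq3 {A B : M3} (h : eq3 A B) : A = B := by
  obtain ⟨h00, h01, h02, h10, h11, h12, h20, h21, h22⟩ := h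
  ext i j; fin_cases i <;> fin_cases j <;> assumption

abbrev Key := ZMod 3 × ZMod 3 × ZMod 3 × ZMod 3 × ZMod 3 × ZMod 3

/-- the matrix with first column `(1,1,0)` and the given six other entries -/
def Mof (k : Key) : M3 :=
  !![1, k.1, k.2.1; 1, k.2.2.1, k.2.2.2.1; 0, k.2.2.2.2.1, k.2.2.2.2.2]

/-- conjugate of `X3mat` by a determinant one matrix -/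
def cj (U : M3) : M3 := mul3 (mul3 U X3mat) (adj3 U)

/-- a table entry is good for a key -/
def good (k : Key) (e : Key × M3 × M3) : Prop :=
  e.1 = k ∧ det3 e.2.1 = 1 ∧ det3 e.2.2 = 1 ∧ eq3 (Mof k) (mul3 (cj e.2.1) (cj e.2.2))

instance (k : Key) (e : Key × M3 × M3) : Decidable (good k e) := by unfold good; infer_instance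

/-- cast of a table digit -/
def c3 (n : ℕ) : ZMod 3 := match n with
  | 0 => 0
  | 1 => 1
  | _ => 2

/-- the raw table: key (6 digits), `u` (9 digits), `v` (9 digits) -/
def rows : List (List ℕ) := [
  [0, 0, 0, 1, 2, 0, 0, 0, 1, 0, 1, 0, 2, 0, 1, 0, 1, 1, 2, 0, 2, 1, 2, 1],
  [0, 0, 0, 1, 2, 1, 0, 0, 1, 0, 1, 1, 2, 0, 0, 0, 1, 1, 0, 2, 0, 1, 1, 0],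
  [0, 0, 0, 1, 2, 2, 0, 0, 1, 0, 2, 0, 1, 0, 1, 0, 1, 1, 2, 1, 1, 2, 0, 1],
  [0, 0, 0, 2, 1, 0, 0, 0, 1, 0, 1, 1, 2, 0, 2, 0, 2, 1, 1, 2, 2, 1, 0, 2],
  [0, 0, 0, 2, 1, 1, 0, 0, 1, 0, 1, 2, 2, 0, 2, 0, 2, 1, 0, 2, 0, 1, 0, 2],
  [0, 0, 0, 2, 1, 2, 0, 0, 1, 0, 1, 0, 2, 0, 2, 0, 2, 1, 2, 2, 1, 1, 0, 2],
  [0, 0, 1, 0, 0, 1, 0, 0, 1, 0, 1, 0, 2, 0, 0, 0, 0, 1, 2, 2, 1, 1, 0, 0],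
  [0, 0, 1, 0, 1, 1, 0, 0, 1, 2, 1, 0, 1, 1, 0, 0, 2, 1, 0, 1, 1, 1, 0, 1],
  [0, 0, 1, 0, 2, 1, 0, 0, 1, 2, 1, 0, 0, 2, 0, 0, 1, 1, 0, 0, 1, 1, 1, 2],
  [0, 0, 1, 1, 0, 1, 0, 0, 1, 0, 1, 0, 2, 0, 0, 0, 0, 1, 0, 2, 2, 1, 0, 0],
  [0, 0, 1, 1, 1, 2, 0, 0, 1, 0, 1, 2, 2, 0, 1, 0, 2, 1, 2, 1, 2, 1, 1, 1],
  [0, 0, 1, 1, 2, 0, 0, 0, 1, 0, 1, 2, 2, 0, 1, 0, 1, 1, 2, 0, 2, 1, 2, 1],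
  [0, 0, 1, 2, 0, 1, 0, 0, 1, 0, 1, 0, 2, 0, 0, 0, 0, 1, 1, 2, 0, 1, 0, 0],
  [0, 0, 1, 2, 1, 0, 0, 0, 1, 0, 1, 0, 2, 0, 0, 0, 2, 1, 1, 1, 0, 1, 2, 0],
  [0, 0, 1, 2, 2, 2, 0, 0, 1, 0, 1, 0, 2, 0, 0, 0, 1, 1, 1, 0, 0, 1, 1, 0],
  [0, 0, 2, 0, 0, 2, 0, 1, 0, 0, 0, 1, 1, 0, 0, 0, 1, 0, 0, 2, 1, 1, 1, 0],
  [0, 0, 2, 0, 1, 2, 0, 0, 1, 0, 1, 0, 2, 0, 1, 0, 2, 1, 2, 1, 2, 1, 1, 1],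
  [0, 0, 2, 0, 2, 2, 0, 0, 1, 0, 1, 1, 2, 0, 2, 0, 1, 1, 1, 2, 2, 1, 0, 2],
  [0, 0, 2, 1, 0, 2, 0, 0, 1, 0, 1, 0, 2, 1, 2, 0, 1, 1, 0, 1, 2, 1, 1, 1],
  [0, 0, 2, 1, 1, 1, 0, 0, 1, 0, 1, 1, 2, 0, 0, 0, 2, 1, 0, 2, 0, 1, 2, 0],
  [0, 0, 2, 1, 2, 0, 0, 0, 1, 0, 1, 0, 2, 0, 2, 0, 1, 1, 2, 2, 1, 1, 0, 2],
  [0, 0, 2, 2, 0, 2, 0, 0, 1, 0, 1, 1, 2, 1, 1, 0, 2, 1, 1, 0, 1, 2, 2, 1],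
  [0, 0, 2, 2, 1, 0, 0, 0, 1, 0, 2, 0, 1, 0, 1, 0, 2, 1, 2, 1, 1, 2, 0, 1],
  [0, 0, 2, 2, 2, 1, 0, 0, 1, 0, 1, 2, 2, 0, 2, 0, 1, 1, 0, 2, 0, 1, 0, 2],
  [0, 1, 0, 0, 1, 0, 0, 0, 1, 0, 1, 0, 2, 0, 0, 0, 0, 1, 1, 0, 0, 2, 1, 1],
  [0, 1, 0, 0, 1, 1, 0, 0, 1, 0, 1, 0, 2, 2, 1, 0, 0, 1, 1, 0, 0, 2, 1, 2],
  [0, 1, 0, 0, 1, 2, 0, 0, 1, 0, 1, 0, 2, 1, 2, 0, 0, 1, 1, 0, 0, 2, 1, 0],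
  [0, 1, 0, 2, 2, 0, 0, 0, 1, 0, 1, 0, 2, 0, 2, 0, 1, 1, 2, 0, 0, 0, 1, 2],
  [0, 1, 0, 2, 2, 1, 0, 0, 1, 0, 1, 2, 2, 0, 1, 0, 0, 1, 2, 0, 2, 1, 2, 0],
  [0, 1, 0, 2, 2, 2, 0, 0, 1, 0, 1, 0, 2, 0, 0, 0, 0, 1, 0, 1, 2, 2, 2, 1],
  [0, 1, 1, 0, 0, 1, 0, 0, 1, 0, 1, 0, 2, 1, 1, 0, 0, 1, 2, 0, 1, 1, 2, 1],
  [0, 1, 1, 0, 1, 0, 0, 0, 1, 0, 1, 0, 2, 0, 1, 0, 0, 1, 2, 1, 1, 1, 1, 0],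
  [0, 1, 1, 0, 2, 2, 0, 0, 1, 0, 1, 0, 2, 0, 2, 0, 0, 1, 2, 0, 1, 0, 2, 2],
  [0, 1, 1, 1, 0, 1, 0, 0, 1, 0, 1, 0, 2, 1, 2, 0, 2, 1, 1, 0, 0, 2, 1, 0],
  [0, 1, 1, 1, 1, 1, 0, 0, 1, 0, 1, 0, 2, 1, 0, 0, 1, 0, 1, 2, 1, 1, 2, 0],
  [0, 1, 1, 1, 2, 1, 0, 0, 1, 0, 1, 0, 2, 1, 2, 0, 1, 1, 1, 0, 2, 0, 2, 1],
  [0, 1, 1, 2, 0, 1, 0, 0, 1, 0, 1, 1, 2, 1, 2, 0, 2, 1, 1, 2, 1, 2, 1, 0],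
  [0, 1, 1, 2, 1, 2, 0, 0, 1, 0, 1, 0, 2, 0, 2, 0, 2, 1, 1, 2, 2, 0, 2, 2],
  [0, 1, 1, 2, 2, 0, 0, 0, 1, 0, 1, 0, 2, 2, 2, 0, 1, 0, 0, 0, 1, 1, 1, 1],
  [0, 1, 2, 0, 0, 2, 0, 0, 1, 0, 1, 0, 2, 1, 0, 0, 2, 1, 2, 1, 2, 1, 1, 1],
  [0, 1, 2, 0, 1, 0, 0, 0, 1, 0, 1, 0, 2, 1, 0, 0, 0, 1, 2, 0, 2, 1, 2, 1],
  [0, 1, 2, 0, 2, 1, 0, 0, 1, 0, 1, 0, 2, 0, 1, 0, 0, 1, 2, 0, 2, 1, 2, 0],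
  [0, 1, 2, 1, 0, 2, 0, 0, 1, 0, 1, 1, 2, 1, 2, 0, 0, 1, 1, 0, 2, 1, 1, 2],
  [0, 1, 2, 1, 1, 2, 0, 0, 1, 0, 1, 1, 2, 0, 2, 0, 0, 1, 1, 0, 2, 0, 1, 2],
  [0, 1, 2, 1, 2, 2, 0, 0, 1, 0, 1, 0, 2, 2, 0, 0, 1, 1, 1, 1, 2, 2, 1, 2],
  [0, 1, 2, 2, 0, 2, 0, 0, 1, 1, 0, 0, 0, 1, 1, 0, 0, 1, 1, 2, 0, 0, 1, 1],
  [0, 1, 2, 2, 1, 1, 0, 0, 1, 0, 1, 0, 2, 0, 2, 0, 0, 1, 1, 1, 1, 0, 1, 2],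
  [0, 1, 2, 2, 2, 0, 0, 0, 1, 0, 1, 0, 2, 1, 2, 0, 1, 1, 1, 0, 0, 2, 1, 0],
  [0, 2, 0, 0, 2, 0, 0, 0, 1, 0, 1, 1, 2, 2, 2, 0, 1, 1, 2, 2, 1, 0, 1, 2],
  [0, 2, 0, 0, 2, 1, 0, 0, 1, 0, 1, 2, 2, 2, 2, 0, 2, 1, 0, 0, 1, 2, 2, 2],
  [0, 2, 0, 0, 2, 2, 0, 0, 1, 0, 1, 0, 2, 2, 2, 0, 1, 1, 1, 1, 0, 2, 1, 1],
  [0, 2, 0, 1, 1, 0, 0, 0, 1, 0, 1, 1, 2, 0, 0, 0, 2, 1, 1, 1, 0, 2, 1, 2],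
  [0, 2, 0, 1, 1, 1, 0, 0, 1, 0, 1, 0, 2, 0, 2, 0, 1, 1, 1, 1, 2, 1, 0, 0],
  [0, 2, 0, 1, 1, 2, 0, 0, 1, 0, 1, 0, 2, 2, 2, 0, 0, 1, 2, 1, 2, 1, 1, 1],
  [0, 2, 1, 0, 0, 1, 0, 0, 1, 0, 1, 0, 2, 2, 1, 0, 0, 1, 2, 1, 1, 1, 1, 1],
  [0, 2, 1, 0, 1, 2, 0, 0, 1, 0, 1, 1, 2, 1, 0, 0, 2, 1, 0, 2, 0, 1, 1, 0],
  [0, 2, 1, 0, 2, 0, 0, 0, 1, 0, 1, 0, 2, 1, 1, 0, 0, 1, 2, 2, 1, 2, 1, 1],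
  [0, 2, 1, 1, 0, 1, 0, 0, 1, 0, 1, 0, 2, 2, 0, 0, 2, 1, 2, 0, 0, 1, 1, 1],
  [0, 2, 1, 1, 1, 0, 0, 0, 1, 0, 2, 0, 1, 2, 1, 0, 1, 0, 1, 0, 1, 1, 2, 0],
  [0, 2, 1, 1, 2, 2, 0, 0, 1, 0, 1, 0, 2, 2, 1, 0, 1, 1, 0, 1, 2, 1, 2, 0],
  [0, 2, 1, 2, 0, 1, 0, 0, 1, 0, 1, 0, 2, 2, 2, 0, 1, 1, 2, 1, 2, 1, 1, 1],
  [0, 2, 1, 2, 1, 1, 0, 0, 1, 0, 1, 1, 2, 2, 0, 0, 0, 1, 2, 2, 2, 0, 2, 2],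
  [0, 2, 1, 2, 2, 1, 0, 0, 1, 0, 2, 0, 1, 1, 0, 0, 1, 0, 0, 2, 1, 1, 1, 1],
  [0, 2, 2, 0, 0, 2, 0, 0, 1, 0, 1, 1, 2, 1, 0, 0, 0, 1, 0, 2, 0, 1, 1, 0],
  [0, 2, 2, 0, 1, 1, 0, 0, 1, 0, 1, 1, 2, 1, 2, 0, 0, 1, 0, 1, 2, 2, 2, 2],
  [0, 2, 2, 0, 2, 0, 0, 0, 1, 0, 1, 0, 2, 2, 2, 0, 2, 1, 2, 1, 2, 1, 1, 1],
  [0, 2, 2, 1, 0, 2, 0, 0, 1, 1, 0, 0, 0, 1, 2, 0, 0, 1, 1, 1, 0, 0, 1, 2],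
  [0, 2, 2, 1, 1, 0, 0, 0, 1, 0, 1, 0, 2, 2, 2, 0, 1, 0, 1, 1, 1, 0, 1, 2],
  [0, 2, 2, 1, 2, 1, 0, 0, 1, 0, 1, 0, 2, 0, 0, 0, 1, 1, 1, 0, 2, 2, 2, 2],
  [0, 2, 2, 2, 0, 2, 0, 0, 1, 0, 1, 0, 2, 1, 1, 0, 2, 1, 2, 0, 1, 2, 2, 1],
  [0, 2, 2, 2, 1, 2, 0, 0, 1, 0, 1, 0, 2, 0, 0, 0, 2, 1, 0, 2, 2, 2, 1, 2],
  [0, 2, 2, 2, 2, 2, 0, 0, 1, 0, 1, 0, 2, 0, 2, 0, 2, 1, 0, 1, 1, 1, 0, 0],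
  [1, 0, 0, 0, 0, 2, 0, 0, 1, 0, 1, 0, 2, 1, 0, 0, 2, 1, 1, 2, 0, 2, 0, 2],
  [1, 0, 0, 0, 1, 2, 0, 0, 1, 0, 1, 0, 2, 0, 2, 0, 2, 1, 1, 2, 0, 1, 2, 1],
  [1, 0, 0, 0, 2, 2, 0, 0, 1, 0, 1, 0, 2, 2, 1, 0, 2, 1, 1, 2, 0, 0, 1, 0],
  [1, 0, 0, 1, 0, 2, 0, 0, 1, 0, 1, 0, 2, 0, 2, 0, 0, 1, 0, 1, 1, 2, 1, 2],
  [1, 0, 0, 1, 1, 1, 0, 0, 1, 0, 1, 0, 2, 2, 0, 0, 1, 1, 0, 2, 1, 2, 1, 2],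
  [1, 0, 0, 1, 2, 0, 0, 0, 1, 0, 1, 0, 2, 0, 1, 0, 1, 1, 1, 0, 1, 2, 2, 0],
  [1, 0, 0, 2, 0, 2, 0, 0, 1, 0, 1, 1, 2, 1, 2, 0, 2, 1, 2, 1, 1, 1, 0, 0],
  [1, 0, 0, 2, 1, 0, 0, 0, 1, 0, 1, 0, 2, 0, 1, 0, 1, 0, 0, 1, 1, 1, 0, 0],
  [1, 0, 0, 2, 2, 1, 0, 0, 1, 0, 1, 0, 2, 2, 1, 0, 2, 1, 1, 1, 0, 0, 1, 0],
  [1, 0, 1, 1, 2, 0, 0, 0, 1, 0, 1, 0, 2, 0, 0, 0, 1, 1, 2, 1, 0, 1, 2, 1],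
  [1, 0, 1, 1, 2, 1, 0, 0, 1, 0, 1, 0, 2, 2, 1, 0, 2, 1, 1, 1, 1, 1, 1, 2],
  [1, 0, 1, 1, 2, 2, 0, 0, 1, 0, 1, 1, 2, 0, 1, 0, 0, 1, 2, 1, 0, 1, 1, 2],
  [1, 0, 1, 2, 1, 0, 0, 0, 1, 0, 1, 0, 2, 2, 0, 0, 2, 1, 2, 2, 1, 0, 2, 0],
  [1, 0, 1, 2, 1, 1, 0, 0, 1, 0, 1, 0, 2, 2, 0, 0, 2, 1, 2, 1, 1, 0, 2, 0],
  [1, 0, 1, 2, 1, 2, 0, 0, 1, 0, 1, 0, 2, 0, 0, 0, 2, 1, 1, 0, 2, 0, 2, 2],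
  [1, 0, 2, 0, 0, 1, 0, 0, 1, 0, 1, 0, 2, 2, 2, 0, 1, 1, 2, 2, 2, 1, 0, 1],
  [1, 0, 2, 0, 1, 1, 0, 0, 1, 0, 1, 0, 2, 2, 0, 0, 1, 1, 2, 2, 2, 1, 1, 2],
  [1, 0, 2, 0, 2, 1, 0, 0, 1, 0, 1, 0, 2, 2, 1, 0, 1, 1, 2, 2, 2, 1, 2, 0],
  [1, 0, 2, 1, 0, 1, 0, 0, 1, 0, 1, 0, 2, 2, 2, 0, 1, 1, 1, 2, 2, 2, 0, 2],
  [1, 0, 2, 1, 1, 2, 0, 0, 1, 0, 1, 0, 2, 1, 1, 0, 0, 1, 1, 2, 1, 0, 1, 1],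
  [1, 0, 2, 1, 2, 0, 0, 0, 1, 0, 1, 1, 2, 0, 1, 0, 1, 1, 1, 0, 1, 2, 2, 0],
  [1, 0, 2, 2, 0, 1, 0, 0, 1, 0, 1, 0, 2, 2, 2, 0, 1, 0, 0, 2, 1, 1, 0, 2],
  [1, 0, 2, 2, 1, 0, 0, 0, 1, 0, 1, 2, 2, 0, 1, 0, 1, 0, 0, 1, 1, 1, 0, 0],
  [1, 0, 2, 2, 2, 2, 0, 0, 1, 0, 1, 0, 2, 0, 1, 0, 0, 1, 2, 1, 0, 1, 1, 2],
  [1, 1, 0, 0, 0, 2, 0, 0, 1, 0, 1, 0, 2, 0, 1, 0, 1, 1, 1, 1, 0, 2, 1, 1],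
  [1, 1, 0, 0, 1, 0, 0, 0, 1, 0, 1, 0, 2, 0, 0, 0, 0, 1, 1, 0, 0, 0, 1, 2],
  [1, 1, 0, 0, 2, 1, 0, 0, 1, 0, 1, 0, 2, 2, 1, 0, 0, 1, 1, 0, 0, 0, 1, 0],
  [1, 1, 0, 1, 0, 2, 0, 0, 1, 0, 1, 0, 2, 0, 0, 0, 2, 1, 1, 1, 1, 2, 2, 0],
  [1, 1, 0, 1, 1, 2, 0, 0, 1, 0, 1, 0, 2, 0, 1, 0, 2, 1, 2, 2, 2, 1, 0, 1],
  [1, 1, 0, 1, 2, 2, 0, 0, 1, 0, 1, 0, 2, 2, 1, 0, 0, 1, 1, 1, 0, 0, 1, 0],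
  [1, 1, 0, 2, 0, 2, 0, 0, 1, 0, 1, 0, 2, 1, 0, 0, 1, 0, 0, 1, 1, 1, 0, 0],
  [1, 1, 0, 2, 1, 1, 0, 0, 1, 0, 1, 0, 2, 2, 2, 0, 2, 1, 1, 1, 2, 2, 1, 0],
  [1, 1, 0, 2, 2, 0, 0, 0, 1, 0, 1, 0, 2, 0, 2, 0, 2, 1, 2, 0, 1, 1, 2, 2],
  [1, 1, 1, 0, 1, 0, 0, 0, 1, 0, 1, 0, 2, 2, 0, 0, 0, 1, 2, 0, 1, 0, 2, 0],
  [1, 1, 1, 0, 1, 1, 0, 0, 1, 0, 1, 0, 2, 1, 1, 0, 0, 1, 2, 0, 1, 2, 2, 1],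
  [1, 1, 1, 0, 1, 2, 0, 0, 1, 0, 1, 0, 2, 0, 2, 0, 0, 1, 2, 0, 1, 1, 2, 2],
  [1, 1, 1, 2, 2, 0, 0, 0, 1, 0, 1, 0, 2, 0, 1, 0, 1, 1, 2, 1, 2, 1, 1, 1],
  [1, 1, 1, 2, 2, 1, 0, 0, 1, 0, 2, 0, 1, 2, 0, 0, 2, 1, 2, 0, 1, 0, 2, 0],
  [1, 1, 1, 2, 2, 2, 0, 0, 1, 0, 1, 1, 2, 2, 1, 0, 0, 1, 2, 1, 0, 1, 1, 2],
  [1, 1, 2, 0, 0, 1, 0, 0, 1, 0, 1, 0, 2, 0, 1, 0, 0, 1, 2, 0, 2, 1, 2, 1],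
  [1, 1, 2, 0, 1, 0, 0, 0, 1, 0, 1, 0, 2, 1, 0, 0, 0, 1, 2, 0, 2, 1, 2, 2],
  [1, 1, 2, 0, 2, 2, 0, 0, 1, 0, 1, 0, 2, 1, 1, 0, 1, 1, 2, 2, 2, 0, 0, 1],
  [1, 1, 2, 1, 0, 1, 0, 0, 1, 0, 1, 0, 2, 0, 2, 0, 1, 1, 2, 0, 1, 1, 2, 2],
  [1, 1, 2, 1, 1, 1, 0, 0, 1, 0, 1, 0, 2, 0, 1, 0, 1, 0, 1, 1, 1, 0, 1, 2],
  [1, 1, 2, 1, 2, 1, 0, 0, 1, 0, 1, 0, 2, 0, 2, 0, 2, 1, 2, 0, 0, 2, 1, 1],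
  [1, 1, 2, 2, 0, 1, 0, 0, 1, 0, 1, 1, 2, 2, 1, 0, 0, 1, 2, 2, 1, 1, 0, 1],
  [1, 1, 2, 2, 1, 2, 0, 0, 1, 0, 1, 0, 2, 2, 2, 0, 0, 1, 2, 1, 0, 1, 1, 2],
  [1, 1, 2, 2, 2, 0, 0, 0, 1, 0, 1, 0, 2, 1, 1, 0, 2, 1, 2, 1, 1, 2, 0, 1],
  [1, 2, 0, 0, 0, 2, 0, 0, 1, 0, 1, 0, 2, 2, 0, 0, 2, 1, 1, 2, 0, 2, 1, 1],
  [1, 2, 0, 0, 1, 1, 0, 0, 1, 0, 1, 0, 2, 0, 1, 0, 2, 1, 1, 2, 0, 2, 0, 2],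
  [1, 2, 0, 0, 2, 0, 0, 0, 1, 0, 1, 0, 2, 1, 2, 0, 2, 1, 1, 2, 0, 2, 2, 0],
  [1, 2, 0, 1, 0, 2, 0, 0, 1, 0, 1, 0, 2, 1, 0, 0, 2, 1, 2, 2, 2, 1, 0, 1],
  [1, 2, 0, 1, 1, 0, 0, 0, 1, 0, 1, 0, 2, 1, 0, 0, 0, 1, 2, 1, 2, 1, 1, 1],
  [1, 2, 0, 1, 2, 1, 0, 0, 1, 0, 1, 0, 2, 1, 0, 0, 1, 1, 2, 0, 2, 1, 2, 1],
  [1, 2, 0, 2, 0, 2, 0, 0, 1, 0, 1, 0, 2, 2, 1, 0, 1, 1, 0, 0, 2, 2, 1, 1],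
  [1, 2, 0, 2, 1, 2, 0, 0, 1, 0, 1, 0, 2, 2, 1, 0, 2, 1, 1, 0, 2, 2, 2, 0],
  [1, 2, 0, 2, 2, 2, 0, 0, 1, 0, 1, 0, 2, 2, 1, 0, 1, 1, 1, 0, 0, 0, 1, 0],
  [1, 2, 1, 0, 2, 0, 0, 0, 1, 0, 2, 0, 1, 2, 0, 0, 0, 1, 2, 0, 1, 0, 2, 0],
  [1, 2, 1, 0, 2, 1, 0, 0, 1, 0, 2, 0, 1, 1, 2, 0, 0, 1, 2, 0, 1, 1, 2, 2],
  [1, 2, 1, 0, 2, 2, 0, 0, 1, 0, 1, 0, 2, 1, 0, 0, 0, 1, 2, 1, 1, 1, 1, 0],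
  [1, 2, 1, 1, 1, 0, 0, 0, 1, 0, 1, 0, 2, 2, 0, 0, 1, 1, 2, 1, 1, 0, 2, 0],
  [1, 2, 1, 1, 1, 1, 0, 0, 1, 0, 1, 0, 2, 2, 0, 0, 1, 1, 2, 0, 1, 0, 2, 0],
  [1, 2, 1, 1, 1, 2, 0, 0, 1, 0, 1, 0, 2, 0, 1, 0, 1, 0, 1, 2, 1, 1, 2, 0],
  [1, 2, 2, 0, 0, 1, 0, 0, 1, 0, 1, 1, 2, 0, 2, 0, 1, 1, 1, 1, 2, 1, 2, 2],
  [1, 2, 2, 0, 1, 2, 0, 0, 1, 0, 1, 0, 2, 0, 0, 0, 2, 1, 2, 1, 2, 1, 0, 2],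
  [1, 2, 2, 0, 2, 0, 0, 0, 1, 0, 1, 1, 2, 0, 2, 0, 2, 1, 0, 2, 2, 2, 1, 1],
  [1, 2, 2, 1, 0, 1, 0, 0, 1, 0, 1, 0, 2, 0, 0, 0, 2, 1, 1, 0, 0, 1, 1, 0],
  [1, 2, 2, 1, 1, 0, 0, 0, 1, 0, 1, 0, 2, 0, 0, 0, 1, 1, 1, 2, 0, 1, 0, 0],
  [1, 2, 2, 1, 2, 2, 0, 0, 1, 0, 1, 0, 2, 0, 0, 0, 0, 1, 1, 1, 0, 1, 2, 0],
  [1, 2, 2, 2, 0, 1, 0, 0, 1, 0, 1, 0, 2, 1, 0, 0, 0, 1, 2, 1, 0, 1, 1, 2],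
  [1, 2, 2, 2, 1, 1, 0, 0, 1, 0, 1, 0, 2, 0, 0, 0, 1, 1, 1, 2, 1, 0, 0, 2],
  [1, 2, 2, 2, 2, 1, 0, 0, 1, 0, 1, 0, 2, 2, 0, 0, 2, 1, 1, 2, 2, 1, 1, 1],
  [2, 0, 0, 0, 0, 1, 0, 0, 1, 0, 1, 0, 2, 1, 2, 0, 1, 1, 1, 1, 0, 2, 0, 0],
  [2, 0, 0, 0, 1, 1, 0, 0, 1, 0, 1, 0, 2, 1, 1, 0, 1, 1, 1, 1, 0, 2, 2, 2],
  [2, 0, 0, 0, 2, 1, 0, 0, 1, 0, 1, 0, 2, 1, 0, 0, 1, 1, 1, 1, 0, 2, 1, 1],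
  [2, 0, 0, 1, 0, 1, 0, 0, 1, 0, 1, 0, 2, 1, 2, 0, 1, 1, 2, 1, 0, 0, 0, 1],
  [2, 0, 0, 1, 1, 2, 0, 0, 1, 0, 1, 1, 2, 2, 1, 0, 1, 0, 1, 2, 1, 1, 2, 0],
  [2, 0, 0, 1, 2, 0, 0, 0, 1, 0, 1, 0, 2, 0, 1, 0, 1, 0, 1, 0, 1, 2, 2, 1],
  [2, 0, 0, 2, 0, 1, 0, 0, 1, 0, 1, 0, 2, 1, 2, 0, 2, 1, 0, 2, 2, 2, 0, 1],
  [2, 0, 0, 2, 1, 0, 0, 0, 1, 0, 1, 2, 2, 2, 1, 0, 0, 1, 1, 1, 0, 0, 1, 1],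
  [2, 0, 0, 2, 2, 2, 0, 0, 1, 0, 1, 1, 2, 0, 2, 0, 1, 1, 2, 2, 0, 1, 1, 1],
  [2, 0, 1, 0, 0, 2, 0, 0, 1, 0, 1, 0, 2, 1, 1, 0, 0, 1, 2, 1, 1, 2, 0, 1],
  [2, 0, 1, 0, 1, 2, 0, 0, 1, 0, 1, 0, 2, 2, 2, 0, 0, 1, 2, 1, 1, 1, 1, 0],
  [2, 0, 1, 0, 2, 2, 0, 0, 1, 0, 1, 0, 2, 0, 0, 0, 0, 1, 2, 1, 1, 0, 2, 2],
  [2, 0, 1, 1, 0, 2, 0, 0, 1, 0, 1, 0, 2, 2, 2, 0, 1, 0, 1, 2, 1, 1, 2, 0],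
  [2, 0, 1, 1, 1, 1, 0, 0, 1, 0, 1, 0, 2, 1, 1, 0, 1, 1, 1, 1, 2, 0, 2, 1],
  [2, 0, 1, 1, 2, 0, 0, 0, 1, 0, 1, 0, 2, 1, 2, 0, 0, 1, 1, 1, 0, 2, 0, 0],
  [2, 0, 1, 2, 0, 2, 0, 0, 1, 0, 1, 0, 2, 0, 0, 0, 1, 1, 0, 0, 2, 2, 1, 0],
  [2, 0, 1, 2, 1, 0, 0, 0, 1, 0, 1, 0, 2, 1, 0, 0, 0, 1, 2, 2, 2, 1, 0, 1],
  [2, 0, 1, 2, 2, 1, 0, 0, 1, 0, 1, 0, 2, 1, 0, 0, 1, 1, 2, 1, 2, 1, 1, 1],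
  [2, 0, 2, 1, 2, 0, 0, 0, 1, 0, 1, 1, 2, 0, 0, 0, 1, 1, 2, 1, 0, 1, 0, 2],
  [2, 0, 2, 1, 2, 1, 0, 0, 1, 0, 1, 0, 2, 1, 0, 0, 1, 0, 1, 1, 1, 0, 1, 2],
  [2, 0, 2, 1, 2, 2, 0, 0, 1, 0, 1, 0, 2, 0, 1, 0, 1, 1, 1, 2, 2, 2, 0, 2],
  [2, 0, 2, 2, 1, 0, 0, 0, 1, 0, 1, 0, 2, 2, 1, 0, 0, 1, 0, 1, 2, 2, 1, 2],
  [2, 0, 2, 2, 1, 1, 0, 0, 1, 0, 1, 0, 2, 1, 1, 0, 2, 1, 2, 2, 1, 2, 1, 1],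
  [2, 0, 2, 2, 1, 2, 0, 0, 1, 0, 1, 0, 2, 1, 2, 0, 2, 1, 1, 1, 0, 2, 0, 0],
  [2, 1, 0, 0, 0, 1, 0, 0, 1, 0, 1, 0, 2, 0, 0, 0, 1, 1, 1, 1, 0, 1, 2, 0],
  [2, 1, 0, 0, 1, 0, 0, 0, 1, 0, 1, 0, 2, 0, 0, 0, 0, 1, 1, 0, 0, 1, 1, 0],
  [2, 1, 0, 0, 2, 2, 0, 0, 1, 0, 1, 0, 2, 0, 0, 0, 2, 1, 1, 2, 0, 1, 0, 0],
  [2, 1, 0, 1, 0, 1, 0, 0, 1, 0, 1, 0, 2, 2, 2, 0, 1, 1, 2, 0, 2, 1, 2, 1],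
  [2, 1, 0, 1, 1, 1, 0, 0, 1, 0, 1, 0, 2, 2, 2, 0, 1, 0, 1, 0, 1, 2, 2, 1],
  [2, 1, 0, 1, 2, 1, 0, 0, 1, 0, 1, 0, 2, 0, 0, 0, 1, 1, 0, 1, 2, 1, 0, 2],
  [2, 1, 0, 2, 0, 1, 0, 0, 1, 0, 1, 0, 2, 1, 1, 0, 0, 1, 0, 2, 1, 1, 1, 1],
  [2, 1, 0, 2, 1, 2, 0, 0, 1, 0, 1, 0, 2, 0, 1, 0, 2, 1, 1, 1, 2, 2, 1, 0],
  [2, 1, 0, 2, 2, 0, 0, 0, 1, 0, 1, 0, 2, 0, 0, 0, 2, 1, 2, 2, 0, 0, 0, 2],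
  [2, 1, 1, 0, 0, 2, 0, 0, 1, 0, 1, 0, 2, 0, 2, 0, 0, 1, 2, 0, 1, 2, 2, 2],
  [2, 1, 1, 0, 1, 0, 0, 0, 1, 0, 1, 0, 2, 2, 0, 0, 0, 1, 2, 0, 1, 1, 2, 0],
  [2, 1, 1, 0, 2, 1, 0, 0, 1, 0, 1, 0, 2, 1, 1, 0, 0, 1, 2, 0, 1, 0, 2, 1],
  [2, 1, 1, 1, 0, 2, 0, 0, 1, 0, 1, 1, 2, 2, 2, 0, 0, 1, 1, 0, 2, 0, 1, 2],
  [2, 1, 1, 1, 1, 2, 0, 0, 1, 0, 1, 0, 2, 1, 0, 0, 0, 1, 2, 2, 0, 1, 0, 1],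
  [2, 1, 1, 1, 2, 2, 0, 0, 1, 0, 1, 1, 2, 0, 2, 0, 0, 1, 1, 0, 2, 1, 1, 2],
  [2, 1, 1, 2, 0, 2, 0, 0, 1, 0, 1, 0, 2, 1, 1, 0, 0, 1, 1, 1, 1, 2, 0, 1],
  [2, 1, 1, 2, 1, 1, 0, 0, 1, 0, 1, 0, 2, 1, 2, 0, 2, 1, 2, 2, 0, 2, 2, 2],
  [2, 1, 1, 2, 2, 0, 0, 0, 1, 0, 1, 0, 2, 2, 2, 0, 2, 1, 2, 0, 2, 1, 2, 1],
  [2, 1, 2, 0, 1, 0, 0, 0, 1, 0, 1, 0, 2, 1, 0, 0, 0, 1, 2, 0, 2, 1, 2, 0],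
  [2, 1, 2, 0, 1, 1, 0, 0, 1, 0, 1, 0, 2, 0, 1, 0, 0, 1, 2, 0, 2, 1, 2, 2],
  [2, 1, 2, 0, 1, 2, 0, 0, 1, 0, 1, 0, 2, 2, 2, 0, 0, 1, 2, 0, 2, 1, 2, 1],
  [2, 1, 2, 2, 2, 0, 0, 0, 1, 0, 1, 0, 2, 1, 2, 0, 2, 1, 1, 0, 2, 1, 2, 1],
  [2, 1, 2, 2, 2, 1, 0, 0, 1, 0, 1, 0, 2, 0, 1, 0, 1, 0, 0, 2, 1, 1, 0, 2],
  [2, 1, 2, 2, 2, 2, 0, 0, 1, 0, 1, 0, 2, 2, 1, 0, 2, 1, 2, 2, 0, 1, 1, 2],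
  [2, 2, 0, 0, 0, 1, 0, 0, 1, 0, 1, 0, 2, 2, 0, 0, 1, 1, 1, 1, 0, 1, 1, 2],
  [2, 2, 0, 0, 1, 2, 0, 0, 1, 0, 1, 1, 2, 1, 0, 0, 0, 1, 0, 2, 0, 1, 0, 0],
  [2, 2, 0, 0, 2, 0, 0, 0, 1, 0, 1, 1, 2, 1, 2, 0, 0, 1, 1, 2, 2, 1, 0, 2],
  [2, 2, 0, 1, 0, 1, 0, 0, 1, 0, 1, 0, 2, 0, 1, 0, 0, 1, 2, 1, 2, 1, 1, 1],
  [2, 2, 0, 1, 1, 0, 0, 0, 1, 0, 2, 0, 1, 0, 0, 0, 1, 1, 2, 1, 0, 0, 0, 1],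
  [2, 2, 0, 1, 2, 2, 0, 0, 1, 0, 1, 1, 2, 0, 1, 0, 1, 0, 0, 0, 1, 1, 1, 1],
  [2, 2, 0, 2, 0, 1, 0, 0, 1, 0, 1, 0, 2, 0, 2, 0, 2, 1, 2, 1, 1, 1, 1, 2],
  [2, 2, 0, 2, 1, 1, 0, 0, 1, 0, 2, 0, 1, 0, 0, 0, 2, 1, 0, 2, 2, 2, 0, 1],
  [2, 2, 0, 2, 2, 1, 0, 0, 1, 0, 1, 1, 2, 0, 0, 0, 0, 1, 2, 2, 2, 0, 2, 2],
  [2, 2, 1, 0, 0, 2, 0, 0, 1, 0, 1, 1, 2, 1, 0, 0, 1, 1, 0, 2, 0, 1, 0, 0],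
  [2, 2, 1, 0, 1, 1, 0, 0, 1, 0, 1, 0, 2, 1, 0, 0, 0, 1, 2, 2, 1, 1, 0, 1],
  [2, 2, 1, 0, 2, 0, 0, 0, 1, 0, 1, 0, 2, 0, 2, 0, 0, 1, 2, 1, 1, 1, 1, 2],
  [2, 2, 1, 1, 0, 2, 0, 0, 1, 0, 1, 0, 2, 1, 1, 0, 0, 1, 0, 1, 1, 2, 0, 1],
  [2, 2, 1, 1, 1, 0, 0, 0, 1, 0, 1, 0, 2, 0, 2, 0, 1, 1, 0, 2, 1, 2, 2, 1],
  [2, 2, 1, 1, 2, 1, 0, 0, 1, 0, 1, 0, 2, 2, 0, 0, 2, 1, 0, 0, 1, 2, 1, 1],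
  [2, 2, 1, 2, 0, 2, 0, 0, 1, 0, 1, 0, 2, 0, 1, 0, 2, 1, 1, 0, 1, 2, 2, 1],
  [2, 2, 1, 2, 1, 2, 0, 0, 1, 0, 1, 0, 2, 0, 1, 0, 2, 1, 2, 0, 2, 1, 2, 1],
  [2, 2, 1, 2, 2, 2, 0, 0, 1, 0, 1, 0, 2, 0, 1, 0, 1, 0, 0, 0, 1, 1, 1, 1],
  [2, 2, 2, 0, 2, 0, 0, 0, 1, 0, 1, 0, 2, 0, 1, 0, 1, 1, 2, 2, 2, 1, 0, 1],
  [2, 2, 2, 0, 2, 1, 0, 0, 1, 0, 1, 0, 2, 0, 0, 0, 1, 1, 2, 2, 2, 0, 1, 2],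
  [2, 2, 2, 0, 2, 2, 0, 0, 1, 0, 1, 0, 2, 0, 2, 0, 1, 1, 2, 2, 2, 2, 2, 0],
  [2, 2, 2, 1, 1, 0, 0, 0, 1, 0, 2, 0, 1, 1, 1, 0, 1, 1, 1, 0, 2, 2, 2, 2],
  [2, 2, 2, 1, 1, 1, 0, 0, 1, 0, 1, 0, 2, 0, 0, 0, 2, 1, 0, 0, 2, 1, 1, 1],
  [2, 2, 2, 1, 1, 2, 0, 0, 1, 0, 1, 0, 2, 0, 2, 0, 1, 1, 2, 1, 1, 1, 1, 2]
]

/-- decode a row -/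
def dec (r : List ℕ) : Key × M3 × M3 :=
  let g : ℕ → ZMod 3 := fun i => c3 (r.getD i 0)
  ((g 0, g 1, g 2, g 3, g 4, g 5),
    !![g 6, g 7, g 8; g 9, g 10, g 11; g 12, g 13, g 14],
    !![g 15, g 16, g 17; g 18, g 19, g 20; g 21, g 22, g 23])

/-- the table -/
def tbl : List (Key × M3 × M3) := rows.map dec

set_option maxRecDepth 100000 in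
theorem tbl_ok : ∀ k : Key, det3 (Mof k) = 1 → ∃ e ∈ tbl, good k e := by
  decide +kernel

end Cfsg.Agent.Helper93.ORT
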