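import Cfsg.Agent.Lib.Helper93.ORTable

/-! # OR3 project (S2459): piece Q3a from the table. -/

set_option autoImplicit false

namespace Cfsg.Agent.Helper93.ORT

open Matrix Cfsg.Agent.Helper93.OR

local notation "SL3" => Matrix.SpecialLinearGroup (Fin 3)
local notation "M3" => Matrix (Fin 3) (Fin 3) (ZMod 3)

/-- (Q3a) every matrix over `ZMod 3` of determinant 1 with first column `(1,1,0)` is a product of
two `SL₃`-conjugates of `X3`. -/
theorem q3_table (M : Matrix (Fin 3) (Fin 3) (ZMod 3)) (hdet : M.det = 1)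
    (hcol : ∀ i, M i 0 = ![1, 1, 0] i) :
    ∃ u v : SL3 (ZMod 3), M = ((u * X3 * u⁻¹ * (v * X3 * v⁻¹) : SL3 (ZMod 3)) :
      Matrix (Fin 3) (Fin 3) (ZMod 3)) := by
  have hM : M = Mof (M 0 1, M 0 2, M 1 1, M 1 2, M 2 1, M 2 2) := by
    have h0 := hcol 0
    have h1 := hcol 1
    have h2 := hcol 2
    simp at h0 h1 h2
    ext i j; fin_cases i <;> fin_cases j <;> simp [Mof, h0, h1, h2]
  obtain ⟨e, he, hk, hu, hv, heq⟩ := tbl_ok (M 0 1, M 0 2, M 1 1, M 1 2, M 2 1, M 2 2)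
    (by rw [det3_eq, ← hM]; exact hdet)
  refine ⟨⟨e.2.1, by rw [← det3_eq]; exact hu⟩, ⟨e.2.2, by rw [← det3_eq]; exact hv⟩, ?_⟩
  rw [hM, eq_of_eq3 heq]
  simp only [Matrix.SpecialLinearGroup.coe_mul, Matrix.SpecialLinearGroup.coe_inv, cj, mul3_eq,
    adj3_eq]
  rfl

end Cfsg.Agent.Helper93.ORT
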