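import Cfsg.Agent.Lib.Helper93.SubfD

set_option autoImplicit false
set_option linter.unusedSectionVars false
set_option linter.unusedVariables false

/-!
# Subfield subgroups of `SL_n`: the maximality theorem
-/

namespace Cfsg.Agent.Helper93.SubfL

open Matrix Cfsg.Geo Cfsg.Agent.Helper93

variable {ι : Type} [Fintype ι] [DecidableEq ι] {F : Type*} [Field F]
variable {F₀ : Subfield F}

lemma exists_not_mem_subfield [Fintype F] {r : ℕ} (hr : r.Prime)
    (hcard : Fintype.card F = Nat.card F₀ ^ r) : ∃ a : F, a ∉ F₀ := by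
  by_contra hcon
  push Not at hcon
  have h1 : Nat.card F₀ = Fintype.card F := by
    rw [← Nat.card_eq_fintype_card]
    exact Nat.card_congr (Equiv.subtypeUnivEquiv hcon)
  rw [← h1] at hcard
  have hq0 : 2 ≤ Nat.card F₀ := Finite.one_lt_card
  have h2 : Nat.card F₀ ^ 1 = Nat.card F₀ ^ r := by rw [pow_one]; exact hcard
  have h3 := Nat.pow_right_injective hq0 h2
  rw [← h3] at hr
  exact Nat.not_prime_one hr

lemma subfield_lt [Fintype F] (h2 : 2 ≤ Fintype.card ι) {r : ℕ} (hr : r.Prime)
    (hcard : Fintype.card F = Nat.card F₀ ^ r) :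
    subfieldSubgroup F₀ (1 : GL ι F) ⊓ specialLinear ι F < specialLinear ι F := by
  refine lt_of_le_of_ne inf_le_right ?_
  intro heq
  obtain ⟨a, ha⟩ := exists_not_mem_subfield hr hcard
  obtain ⟨i, j, hij⟩ : ∃ i j : ι, i ≠ j := by
    have : Nontrivial ι := Fintype.one_lt_card_iff_nontrivial.mp (by omega)
    exact exists_pair_ne ι
  have h0 : (a • (Pi.single j 1 : ι → F)) ⬝ᵥ Pi.single i 1 = 0 := by
    rw [smul_dotProduct, single_dot_single_ne hij.symm, smul_zero]
  have hmem : tv (a • (Pi.single j 1 : ι → F)) (Pi.single i 1) h0 ∈ specialLinear ι F :=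
    tv_mem_SL _ _ _
  rw [← heq] at hmem
  have hH := (Subgroup.mem_inf.1 hmem).1
  obtain ⟨lam, hlam, hl⟩ := mem_subfield_imp hH
  obtain ⟨y, hy, hy'⟩ := hl (Pi.single i 1) ((ratVec_one_iff _).2 (Rat.single i))
  obtain ⟨z, hz, hz'⟩ := hl (Pi.single j 1) ((ratVec_one_iff _).2 (Rat.single j))
  rw [ratVec_one_iff] at hy hz
  rw [tv_coe, tvMat_mulVec] at hy' hz'
  rw [h0, zero_smul, add_zero] at hy'
  rw [smul_dotProduct, single_dot_single_self, smul_eq_mul, mul_one] at hz'
  have h1 := congrFun hy' i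
  rw [Pi.single_eq_same, Pi.smul_apply, smul_eq_mul] at h1
  have h3 := congrFun hz' i
  rw [Pi.add_apply, Pi.single_eq_of_ne hij, Pi.smul_apply, Pi.single_eq_same, smul_eq_mul,
    mul_one, zero_add, Pi.smul_apply, smul_eq_mul] at h3
  have hlam' : lam = (y i)⁻¹ := eq_inv_of_mul_eq_one_left h1.symm
  apply ha
  rw [h3, hlam']
  exact F₀.mul_mem (F₀.inv_mem (hy i)) (hz i)

/-- the subfield group in standard position is maximal in `SL` -/
theorem subfield_max_one [Fintype F] (h5 : 5 ≤ Fintype.card ι) {r : ℕ} (hr : r.Prime)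
    (hcard : Fintype.card F = Nat.card F₀ ^ r) :
    IsMaximalIn (specialLinear ι F)
      (subfieldSubgroup F₀ (1 : GL ι F) ⊓ specialLinear ι F) := by
  have h3 : 3 ≤ Fintype.card ι := by omega
  refine ⟨subfield_lt (by omega) hr hcard, ?_⟩
  intro M' hHM hMS
  by_cases hN : NoBad F₀ M'
  · left
    apply le_antisymm _ hHM
    intro g hg
    refine Subgroup.mem_inf.2 ⟨?_, hMS hg⟩
    by_contra hgH
    exact dickson_step h3 hr hcard hHM hN hg hgH
  · right
    exact le_antisymm hMS (SL_le_of_bad h5 hr hcard hHM hN)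

lemma isMaximalIn_map {G : Type*} [Group G] (θ : G ≃* G) {K H : Subgroup G}
    (h : IsMaximalIn K H) : IsMaximalIn (K.map θ.toMonoidHom) (H.map θ.toMonoidHom) := by
  obtain ⟨hlt, hmax⟩ := h
  have hinj : Function.Injective θ.toMonoidHom := θ.injective
  have hsurj : Function.Surjective θ.toMonoidHom := θ.surjective
  refine ⟨(Subgroup.map_lt_map_iff_of_injective hinj).2 hlt, ?_⟩
  intro M hHM hMK
  have hM : (M.comap θ.toMonoidHom).map θ.toMonoidHom = M :=
    Subgroup.map_comap_eq_self_of_surjective hsurj M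
  have h1 : H ≤ M.comap θ.toMonoidHom := by
    rw [← Subgroup.map_le_iff_le_comap]; exact hHM
  have h2 : M.comap θ.toMonoidHom ≤ K := by
    intro x hx
    obtain ⟨y, hy, hyx⟩ := hMK hx
    have : y = x := hinj hyx
    rw [← this]; exact hy
  rcases hmax _ h1 h2 with h | h
  · left; rw [← hM, h]
  · right; rw [← hM, h]

lemma subfield_conj (P : GL ι F) : subfieldSubgroup F₀ P =
    (subfieldSubgroup F₀ (1 : GL ι F)).map (MulAut.conj P).toMonoidHom := by
  have h1 : ∀ X : Subgroup (GL ι F), X.map (MulAut.conj (1 : GL ι F)).toMonoidHom = X := by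
    intro X
    ext x
    rw [Subgroup.mem_map]
    constructor
    · rintro ⟨y, hy, rfl⟩
      simpa using hy
    · intro hx
      exact ⟨x, hx, by simp⟩
  unfold subfieldSubgroup
  rw [h1]

lemma SL_map_conj (P : GL ι F) :
    (specialLinear ι F).map (MulAut.conj P).toMonoidHom = specialLinear ι F := by
  have hn : (specialLinear ι F).Normal := by unfold specialLinear; infer_instance
  ext x
  rw [Subgroup.mem_map]
  constructor
  · rintro ⟨y, hy, rfl⟩
    exact hn.conj_mem y hy P
  · intro hx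
    refine ⟨P⁻¹ * x * P, ?_, ?_⟩
    · have := hn.conj_mem x hx P⁻¹
      rwa [inv_inv] at this
    · show P * (P⁻¹ * x * P) * P⁻¹ = x
      group

/-- the subfield groups are maximal in `SL` -/
theorem subfield_max [Fintype F] (h5 : 5 ≤ Fintype.card ι) {r : ℕ} (hr : r.Prime)
    (hcard : Fintype.card F = Nat.card F₀ ^ r) (P : GL ι F) :
    IsMaximalIn (specialLinear ι F) (subfieldSubgroup F₀ P ⊓ specialLinear ι F) := by
  have h := isMaximalIn_map (MulAut.conj P) (subfield_max_one (F₀ := F₀) (ι := ι) h5 hr hcard)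
  rw [SL_map_conj, Subgroup.map_inf _ _ _ (MulAut.conj P).injective, SL_map_conj,
    ← subfield_conj] at h
  exact h

end Cfsg.Agent.Helper93.SubfL
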