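import Cfsg.Agent.Lib.Helper93.OTS
import Cfsg.Agent.Lib.Helper93.SubfE

set_option autoImplicit false
set_option linter.unusedSectionVars false
set_option linter.unusedVariables false

/-!
# Subfield subgroups of orthogonal groups: basic vocabulary (helper93)

`oE Q u w` is the Eichler transformation as a total function, `HSO Q F₀` the subfield group in
standard position inside `Ω`, `ONoBad` says that every Eichler transformation of `M` with rational
centre has a rational direction, `OCtx` packs the standing hypotheses on the overgroup `M`.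
-/

namespace Cfsg.Agent.Helper93.SubfL.OSf

open Matrix QuadraticMap Cfsg.Geo Cfsg.Agent.Helper93
open Cfsg.Agent.S0794 Cfsg.Agent.Helper14.ReflGen

variable {ι : Type} [Fintype ι] [DecidableEq ι] {F : Type*} [Field F]
variable (Q : QuadraticForm F (ι → F))

/-- the Eichler transformation with centre `u` and direction `w`, as a total function -/
noncomputable def oE (u w : ι → F) : GL ι F := by
  classical
  exact if h : Q u = 0 ∧ polar (⇑Q) u w = 0 then eichGL Q u w h.1 h.2 else 1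

lemma oE_val {u w : ι → F} (hu : Q u = 0) (huw : polar (⇑Q) u w = 0) :
    ((oE Q u w : GL ι F) : Matrix ι ι F) = eichM Q u w := by
  unfold oE
  rw [dif_pos ⟨hu, huw⟩]
  rfl

lemma oE_apply {u w : ι → F} (hu : Q u = 0) (huw : polar (⇑Q) u w = 0) (x : ι → F) :
    ((oE Q u w : GL ι F) : Matrix ι ι F) *ᵥ x
      = x + polar (⇑Q) u x • w - polar (⇑Q) w x • u - (Q w * polar (⇑Q) u x) • u := by
  rw [oE_val Q hu huw, eichM_mulVec]

lemma isom_of_mem_omegaGL {g : GL ι F} (hg : g ∈ omegaGL (⇑Q)) (x : ι → F) :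
    Q ((g : Matrix ι ι F) *ᵥ x) = Q x := by
  unfold omegaGL at hg
  obtain ⟨a, _, rfl⟩ := Subgroup.mem_map.1 hg
  exact a.2 x x

lemma oE_mem_omega (hQ : (polarBilin Q).Nondegenerate) (hn : 5 ≤ Fintype.card ι)
    (u w : ι → F) : oE Q u w ∈ omegaGL (⇑Q) := by
  unfold oE
  split_ifs with h
  · exact eichGL_mem_omegaGL Q hQ hn u w h.1 h.2
  · exact Subgroup.one_mem _

lemma oE_conj {g : GL ι F} (hg : ∀ x, Q ((g : Matrix ι ι F) *ᵥ x) = Q x) {u w : ι → F}
    (hu : Q u = 0) (huw : polar (⇑Q) u w = 0) :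
    g * oE Q u w * g⁻¹ = oE Q ((g : Matrix ι ι F) *ᵥ u) ((g : Matrix ι ι F) *ᵥ w) := by
  have hu' : Q ((g : Matrix ι ι F) *ᵥ u) = 0 := by rw [hg]; exact hu
  have huw' : polar (⇑Q) ((g : Matrix ι ι F) *ᵥ u) ((g : Matrix ι ι F) *ᵥ w) = 0 := by
    rw [polar_of_isometry Q _ hg]; exact huw
  apply Units.ext
  rw [Units.val_mul, Units.val_mul, oE_val Q hu huw, oE_val Q hu' huw']
  exact eichM_conj Q _ _ (by rw [← Units.val_mul, mul_inv_cancel, Units.val_one]) hg u w

lemma oE_smul_left (c : F) {u w : ι → F} (hu : Q u = 0) (huw : polar (⇑Q) u w = 0) :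
    oE Q (c • u) w = oE Q u (c • w) := by
  apply Units.ext
  rw [oE_val Q (by rw [Q_smul', hu, mul_zero]) (by rw [polar_smul_left, huw, smul_zero]),
    oE_val Q hu (by rw [polar_smul_right, huw, smul_zero]), eichM_smul_left]

lemma oE_mul {u w w' : ι → F} (hu : Q u = 0) (huw : polar (⇑Q) u w = 0)
    (huw' : polar (⇑Q) u w' = 0) : oE Q u w * oE Q u w' = oE Q u (w + w') := by
  apply Units.ext
  rw [Units.val_mul, oE_val Q hu huw, oE_val Q hu huw',
    oE_val Q hu (by rw [polar_add_right, huw, huw', add_zero]), eichM_mul Q u w w' hu huw huw']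

lemma oE_zero (u : ι → F) : oE Q u 0 = 1 := by
  by_cases hu : Q u = 0
  · apply Units.ext
    rw [oE_val Q hu (polar_zero_right _ _), eichM_zero, Units.val_one]
  · unfold oE
    rw [dif_neg (fun h => hu h.1)]

lemma oE_inv {u w : ι → F} (hu : Q u = 0) (huw : polar (⇑Q) u w = 0) :
    (oE Q u w)⁻¹ = oE Q u (-w) := by
  apply inv_eq_of_mul_eq_one_right
  rw [oE_mul Q hu huw (by rw [polar_neg_right, huw, neg_zero]), add_neg_cancel, oE_zero]

/-- the direction only matters modulo the centre -/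
lemma oE_add_smul_self {u w : ι → F} (hu : Q u = 0) (huw : polar (⇑Q) u w = 0) (t : F) :
    oE Q u (w + t • u) = oE Q u w := by
  have huu : polar (⇑Q) u u = 0 := by rw [polar_self', hu, mul_zero]
  have huw2 : polar (⇑Q) u (w + t • u) = 0 := by
    rw [polar_add_right, polar_smul_right, huw, huu, smul_zero, add_zero]
  apply gl_ext
  intro x
  rw [oE_apply Q hu huw2, oE_apply Q hu huw, polar_add_left, polar_smul_left, Q_add', Q_smul', hu,
    polar_smul_right, polar_comm (⇑Q) w u, huw]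
  simp only [smul_eq_mul, mul_zero, add_zero]
  module

/-- swapping the two vectors of a totally singular pair -/
lemma oE_swap {u w : ι → F} (hu : Q u = 0) (hw : Q w = 0) (huw : polar (⇑Q) u w = 0) :
    oE Q u w = oE Q w (-u) := by
  have hwu : polar (⇑Q) w u = 0 := by rw [polar_comm]; exact huw
  apply gl_ext
  intro x
  rw [oE_apply Q hu huw, oE_apply Q hw (by rw [polar_neg_right, hwu, neg_zero]), hw,
    polar_neg_left, QuadraticMap.map_neg, hu]
  module

variable {F₀ : Subfield F}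

/-- the quadratic form takes rational values on rational vectors -/
def RatQ (F₀ : Subfield F) : Prop := ∀ v : ι → F, Rat F₀ v → Q v ∈ F₀

variable {Q}

lemma RatQ.polar (h : RatQ Q F₀) {x y : ι → F} (hx : Rat F₀ x) (hy : Rat F₀ y) :
    polar (⇑Q) x y ∈ F₀ := by
  unfold QuadraticMap.polar
  exact F₀.sub_mem (F₀.sub_mem (h _ (hx.add hy)) (h _ hx)) (h _ hy)

variable (Q)

/-- the subfield group in standard position, inside `Ω` -/
def HSO (F₀ : Subfield F) : Subgroup (GL ι F) :=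
  subfieldSubgroup F₀ (1 : GL ι F) ⊓ omegaGL (⇑Q)

lemma oE_rat_mem (hQ : (polarBilin Q).Nondegenerate) (hn : 5 ≤ Fintype.card ι) (hr : RatQ Q F₀)
    {u w : ι → F} (hu : Rat F₀ u) (hw : Rat F₀ w) (hu0 : Q u = 0)
    (huw : polar (⇑Q) u w = 0) : oE Q u w ∈ HSO Q F₀ := by
  refine Subgroup.mem_inf.2 ⟨?_, oE_mem_omega Q hQ hn u w⟩
  apply mem_H1_of (one_ne_zero : (1 : F) ≠ 0)
  intro x hx
  rw [inv_one, one_smul, oE_apply Q hu0 huw]
  exact (((hx.add (Rat.smul (hr.polar hu hx) hw)).sub (Rat.smul (hr.polar hw hx) hu))).sub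
    (Rat.smul (F₀.mul_mem (hr _ hw) (hr.polar hu hx)) hu)

/-- every Eichler transformation of `M` with rational centre has a rational direction -/
def ONoBad (F₀ : Subfield F) (M : Subgroup (GL ι F)) : Prop :=
  ∀ u w : ι → F, Rat F₀ u → u ≠ 0 → Q u = 0 → polar (⇑Q) u w = 0 → oE Q u w ∈ M →
    ∃ t : F, Rat F₀ (w + t • u)

/-- the standing hypotheses on the overgroup `M` -/
structure OCtx (F₀ : Subfield F) (M : Subgroup (GL ι F)) : Prop where
  nd : (polarBilin Q).Nondegenerate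
  rat : RatQ Q F₀
  le : HSO Q F₀ ≤ M
  sub : M ≤ omegaGL (⇑Q)
  dim : 13 ≤ Fintype.card ι

variable {Q} {M : Subgroup (GL ι F)}

lemma OCtx.isom (C : OCtx Q F₀ M) {m : GL ι F} (hm : m ∈ M) (x : ι → F) :
    Q ((m : Matrix ι ι F) *ᵥ x) = Q x :=
  isom_of_mem_omegaGL Q (C.sub hm) x

lemma OCtx.polar_isom (C : OCtx Q F₀ M) {m : GL ι F} (hm : m ∈ M) (x y : ι → F) :
    polar (⇑Q) ((m : Matrix ι ι F) *ᵥ x) ((m : Matrix ι ι F) *ᵥ y) = polar (⇑Q) x y :=
  polar_of_isometry Q _ (C.isom hm) x y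

lemma OCtx.oE_mem (C : OCtx Q F₀ M) {u w : ι → F} (hu : Rat F₀ u) (hw : Rat F₀ w)
    (hu0 : Q u = 0) (huw : polar (⇑Q) u w = 0) : oE Q u w ∈ M :=
  C.le (oE_rat_mem Q C.nd (le_trans (by norm_num) C.dim) C.rat hu hw hu0 huw)

lemma OCtx.conj_mem (C : OCtx Q F₀ M) {g : GL ι F} (hg : g ∈ M) {u w : ι → F}
    (hu0 : Q u = 0) (huw : polar (⇑Q) u w = 0) (h : oE Q u w ∈ M) :
    oE Q ((g : Matrix ι ι F) *ᵥ u) ((g : Matrix ι ι F) *ᵥ w) ∈ M := by
  rw [← oE_conj Q (C.isom hg) hu0 huw]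
  exact M.mul_mem (M.mul_mem hg h) (M.inv_mem hg)

/-- the transported form of `ONoBad`: directions at the image of a rational centre -/
lemma OCtx.noBad_conj (C : OCtx Q F₀ M) (hN : ONoBad Q F₀ M) {g : GL ι F} (hg : g ∈ M)
    {u0 : ι → F} (hu : Rat F₀ u0) (hu0 : u0 ≠ 0) (hq : Q u0 = 0) {y : ι → F}
    (hy : polar (⇑Q) ((g : Matrix ι ι F) *ᵥ u0) y = 0)
    (h : oE Q ((g : Matrix ι ι F) *ᵥ u0) y ∈ M) :
    ∃ t : F, Rat F₀ (((g⁻¹ : GL ι F) : Matrix ι ι F) *ᵥ y + t • u0) := by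
  have hq' : Q ((g : Matrix ι ι F) *ᵥ u0) = 0 := by rw [C.isom hg]; exact hq
  have h1 := C.conj_mem (M.inv_mem hg) hq' hy h
  rw [gl_inv_apply_apply] at h1
  have hy' : polar (⇑Q) u0 (((g⁻¹ : GL ι F) : Matrix ι ι F) *ᵥ y) = 0 := by
    rw [← C.polar_isom hg, gl_apply_inv_apply]; exact hy
  exact hN u0 _ hu hu0 hq hy' h1

end Cfsg.Agent.Helper93.SubfL.OSf
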