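import Cfsg.Agent.Lib.Helper93.OSf0

set_option autoImplicit false
set_option linter.unusedSectionVars false
set_option linter.unusedVariables false

/-!
# OSf pack A1 (written by helper68 for helper93's OSf lemma server)

Rational Riesz / dual / perp / separation lemmas for the polar form of a quadratic form whose
values on rational vectors are rational: the mirror of `USfA.lean`, section `rational`.
-/

namespace Cfsg.Agent.Helper93.SubfL.OSf

open Matrix QuadraticMap Cfsg.Geo Cfsg.Agent.Helper93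
open Cfsg.Agent.S0794 Cfsg.Agent.Helper14.ReflGen

variable {ι : Type} [Fintype ι] [DecidableEq ι] {F : Type*} [Field F]
variable {Q : QuadraticForm F (ι → F)} {F₀ : Subfield F} {M : Subgroup (GL ι F)}

/-- helper68: the coordinate vector of the functional `x ↦ polar Q x w` -/
def h68_pvec (Q : QuadraticForm F (ι → F)) (w : ι → F) : ι → F :=
  fun j => polar (⇑Q) (Pi.single j 1) w

lemma h68_pvec_dot (Q : QuadraticForm F (ι → F)) (w x : ι → F) :
    h68_pvec Q w ⬝ᵥ x = polar (⇑Q) x w := by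
  have h := LinearMap.pi_apply_eq_sum_univ ((polarBilin Q).flip w) x
  simp only [LinearMap.flip_apply, polarBilin_apply_apply, smul_eq_mul] at h
  rw [h]
  unfold h68_pvec dotProduct
  refine Finset.sum_congr rfl (fun i _ => ?_)
  rw [mul_comm]
  have hs : (Pi.single i (1 : F) : ι → F) = fun j => if i = j then 1 else 0 := by
    funext j
    rw [Pi.single_apply]
    simp only [eq_comm]
  show x i * polar (⇑Q) (Pi.single i 1) w = _
  rw [hs]

lemma h68_pvec_rat (hr : RatQ Q F₀) {x : ι → F} (hx : Rat F₀ x) : Rat F₀ (h68_pvec Q x) :=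
  fun j => hr.polar (Rat.single j) hx

lemma h68_pvec_inj (hQ : (polarBilin Q).Nondegenerate) {v w : ι → F}
    (h : h68_pvec Q v = h68_pvec Q w) : v = w := by
  rw [← sub_eq_zero]
  apply hQ.2
  intro x
  rw [polarBilin_apply_apply, polar_sub_right, ← h68_pvec_dot Q v, ← h68_pvec_dot Q w, h, sub_self]

lemma h68_rat_riesz0 [Finite F] (hQ : (polarBilin Q).Nondegenerate) (hr : RatQ Q F₀)
    {ψ : ι → F} (hψ : Rat F₀ ψ) : ∃ v : ι → F, Rat F₀ v ∧ h68_pvec Q v = ψ := by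
  have hinj : Function.Injective (fun v : {v : ι → F // Rat F₀ v} =>
      (⟨h68_pvec Q v.1, h68_pvec_rat hr v.2⟩ : {v : ι → F // Rat F₀ v})) := by
    intro v w h
    apply Subtype.ext
    exact h68_pvec_inj hQ (congrArg Subtype.val h)
  obtain ⟨v, hv⟩ := Finite.surjective_of_injective hinj ⟨ψ, hψ⟩
  exact ⟨v.1, v.2, congrArg Subtype.val hv⟩

/-- (A1) rational Riesz -/
theorem rat_riesz_q [Finite F] (hQ : (polarBilin Q).Nondegenerate) (hr : RatQ Q F₀) {ψ : ι → F}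
    (hψ : Rat F₀ ψ) : ∃ v : ι → F, Rat F₀ v ∧ ∀ x, polar (⇑Q) v x = ψ ⬝ᵥ x := by
  obtain ⟨v, hv, hvψ⟩ := h68_rat_riesz0 hQ hr hψ
  exact ⟨v, hv, fun x => by rw [polar_comm, ← h68_pvec_dot Q v x, hvψ]⟩

/-- (A2) a vector with rational pairings against rational vectors is rational -/
theorem rat_of_polar [Finite F] (hQ : (polarBilin Q).Nondegenerate) (hr : RatQ Q F₀) {w : ι → F}
    (h : ∀ x, Rat F₀ x → polar (⇑Q) w x ∈ F₀) : Rat F₀ w := by
  have hw : Rat F₀ (h68_pvec Q w) := by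
    intro j
    show polar (⇑Q) (Pi.single j 1) w ∈ F₀
    rw [polar_comm]
    exact h _ (Rat.single j)
  obtain ⟨v, hv, hvw⟩ := h68_rat_riesz0 hQ hr hw
  rw [← h68_pvec_inj hQ hvw]
  exact hv

/-- (A3) -/
theorem exists_rat_dual1_q [Finite F] (hQ : (polarBilin Q).Nondegenerate) (hr : RatQ Q F₀)
    {x : ι → F} (hx : Rat F₀ x) (hx0 : x ≠ 0) {α : F} (hα : α ∈ F₀) :
    ∃ p : ι → F, Rat F₀ p ∧ polar (⇑Q) x p = α := by
  obtain ⟨i, hi⟩ := Function.ne_iff.mp hx0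
  have hi' : x i ≠ 0 := hi
  obtain ⟨p, hp, hpf⟩ := rat_riesz_q hQ hr
    (Rat.smul (F₀.mul_mem hα (F₀.inv_mem (hx i))) (Rat.single (F₀ := F₀) i))
  refine ⟨p, hp, ?_⟩
  rw [polar_comm, hpf, smul_dotProduct, single_dotProduct, one_mul, smul_eq_mul, mul_assoc,
    inv_mul_cancel₀ hi', mul_one]

/-- (A4) -/
theorem exists_rat_dual2_q [Finite F] (hQ : (polarBilin Q).Nondegenerate) (hr : RatQ Q F₀)
    {x d : ι → F} (hx : Rat F₀ x) (hx0 : x ≠ 0) (hd : Rat F₀ d) (hind : ∀ α : F, d ≠ α • x)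
    {α β : F} (hα : α ∈ F₀) (hβ : β ∈ F₀) :
    ∃ p : ι → F, Rat F₀ p ∧ polar (⇑Q) x p = α ∧ polar (⇑Q) d p = β := by
  have hd0 : d ≠ 0 := fun h => hind 0 (by rw [h, zero_smul])
  have hind' : ∀ α : F, x ≠ α • d := by
    intro a h
    have ha : a ≠ 0 := by
      intro h0; rw [h0, zero_smul] at h; exact hx0 h
    apply hind a⁻¹
    rw [h, smul_smul, inv_mul_cancel₀ ha, one_smul]
  obtain ⟨ε1, hε1, h1d, h1x⟩ := exists_rat_sep hd hd0 hind'
  obtain ⟨ε2, hε2, h2x, h2d⟩ := exists_rat_sep hx hx0 hind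
  have r1 : ε1 ⬝ᵥ x ∈ F₀ := Rat.dot hε1 hx
  have r2 : ε2 ⬝ᵥ d ∈ F₀ := Rat.dot hε2 hd
  obtain ⟨p, hp, hpf⟩ := rat_riesz_q hQ hr
    ((Rat.smul (F₀.mul_mem hα (F₀.inv_mem r1)) hε1).add
      (Rat.smul (F₀.mul_mem hβ (F₀.inv_mem r2)) hε2))
  refine ⟨p, hp, ?_, ?_⟩
  · rw [polar_comm, hpf, add_dotProduct, smul_dotProduct, smul_dotProduct, h2x, smul_zero,
      add_zero, smul_eq_mul, mul_assoc, inv_mul_cancel₀ h1x, mul_one]
  · rw [polar_comm, hpf, add_dotProduct, smul_dotProduct, smul_dotProduct, h1d, smul_zero,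
      zero_add, smul_eq_mul, mul_assoc, inv_mul_cancel₀ h2d, mul_one]

/-- (A5) -/
theorem exists_rat_perp_q (hr : RatQ Q F₀) (m : ℕ) (ψ : Fin m → ι → F)
    (hψ : ∀ k, Rat F₀ (ψ k)) (hm : m < Fintype.card ι) :
    ∃ x : ι → F, Rat F₀ x ∧ x ≠ 0 ∧ ∀ k, polar (⇑Q) x (ψ k) = 0 := by
  obtain ⟨x, hx, hx0, hk⟩ := exists_rat_ker (F₀ := F₀) m (fun k => h68_pvec Q (ψ k))
    (fun k => h68_pvec_rat hr (hψ k)) hm
  exact ⟨x, hx, hx0, fun k => by rw [← h68_pvec_dot Q]; exact hk k⟩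

/-- (A6) -/
theorem rat_sep1_q [Finite F] (hQ : (polarBilin Q).Nondegenerate) (hr : RatQ Q F₀)
    {e x : ι → F} (he : Rat F₀ e) (he0 : e ≠ 0) (hx : ∀ α : F, x ≠ α • e) :
    ∃ y : ι → F, Rat F₀ y ∧ polar (⇑Q) y e = 0 ∧ polar (⇑Q) y x ≠ 0 := by
  obtain ⟨ε, hε, hεe, hεx⟩ := exists_rat_sep he he0 hx
  obtain ⟨y, hy, hyf⟩ := rat_riesz_q hQ hr hε
  exact ⟨y, hy, by rw [hyf]; exact hεe, by rw [hyf]; exact hεx⟩

end Cfsg.Agent.Helper93.SubfL.OSf
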