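import Cfsg.Agent.Lib.Helper93.OSfA1

set_option autoImplicit false
set_option linter.unusedSectionVars false
set_option linter.unusedVariables false

namespace Cfsg.Agent.Helper93.SubfL.OSf

open Matrix QuadraticMap Cfsg.Geo Cfsg.Agent.Helper93
open Cfsg.Agent.S0794 Cfsg.Agent.Helper14.ReflGen

variable {ι : Type} [Fintype ι] [DecidableEq ι] {F : Type*} [Field F]
variable {Q : QuadraticForm F (ι → F)} {F₀ : Subfield F} {M : Subgroup (GL ι F)}

/-- (A7) every vector is a combination of rational vectors with `F₀`-independent coefficients: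
rational linear equations pass to the components. Proof: `τ` an `F₀`-basis of `F`,
`v j i := (τ.repr (x i)) j`. -/
theorem rat_decomp [Finite F] (F₀ : Subfield F) (x : ι → F) :
    ∃ (k : ℕ) (τ : Fin k → F) (v : Fin k → ι → F), (∀ j, Rat F₀ (v j)) ∧
      x = ∑ j, τ j • v j ∧
      ∀ ψ : ι → F, Rat F₀ ψ → ψ ⬝ᵥ x = 0 → ∀ j, ψ ⬝ᵥ v j = 0 := by
  classical
  have hfin : Module.Finite F₀ F := Module.Finite.of_finite
  let b := Module.finBasis F₀ F
  refine ⟨Module.finrank F₀ F, fun j => b j, fun j i => ((b.repr (x i) j : F₀) : F), ?_, ?_, ?_⟩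
  · intro j i
    exact (b.repr (x i) j).2
  · funext i
    rw [Finset.sum_apply]
    simp only [Pi.smul_apply, smul_eq_mul]
    conv_lhs => rw [← b.sum_repr (x i)]
    apply Finset.sum_congr rfl
    intro j _
    rw [Subfield.smul_def, mul_comm, smul_eq_mul]
  · intro ψ hψ h0 j
    have h1 : b.repr (ψ ⬝ᵥ x) j = 0 := by
      rw [h0, map_zero]
      rfl
    have h2 : ψ ⬝ᵥ x = ∑ i, (⟨ψ i, hψ i⟩ : F₀) • x i := by
      unfold dotProduct
      apply Finset.sum_congr rfl
      intro i _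
      rw [Subfield.smul_def, smul_eq_mul]
    rw [h2, map_sum] at h1
    simp only [map_smul, Finsupp.coe_finsetSum, Finset.sum_apply, Finsupp.coe_smul,
      Pi.smul_apply, smul_eq_mul] at h1
    have h3 := congrArg (Subtype.val) h1
    rw [ZeroMemClass.coe_zero] at h3
    rw [← h3]
    unfold dotProduct
    push_cast
    rfl

/-- the functional `B(p, ·)` of a rational vector `p` is rational -/
lemma helper57_polarVec_rat (hr : RatQ Q F₀) {p : ι → F} (hp : Rat F₀ p) :
    Rat F₀ (Cfsg.polarVec (⇑Q) p) :=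
  fun i => hr.polar hp (Rat.single i)

lemma helper57_polar_sum (e : ι → F) {k : ℕ} (τ : Fin k → F) (w : Fin k → ι → F) :
    polar (⇑Q) e (∑ j, τ j • w j) = ∑ j, τ j * polar (⇑Q) e (w j) := by
  have h := map_sum (polarBilin Q e) (fun j => τ j • w j) Finset.univ
  simp only [polarBilin_apply_apply, map_smul, smul_eq_mul] at h
  exact h

/-- (A13) a rational vector outside the span of a rational family has a rational dual vector
orthogonal to the family. -/
theorem exists_rat_dual_fam [Finite F] (hQ : (polarBilin Q).Nondegenerate) (hr : RatQ Q F₀)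
    (m : ℕ) (ψ : Fin m → ι → F) (hψ : ∀ k, Rat F₀ (ψ k)) {e : ι → F} (he : Rat F₀ e)
    (hind : ∀ c : Fin m → F, e ≠ ∑ k, c k • ψ k) :
    ∃ p : ι → F, Rat F₀ p ∧ polar (⇑Q) e p = 1 ∧ ∀ k, polar (⇑Q) (ψ k) p = 0 := by
  -- a dual vector over `F`
  have h1 : ∃ v, (∀ k, polar (⇑Q) (ψ k) v = 0) ∧ polar (⇑Q) e v ≠ 0 := by
    by_contra hcon
    push Not at hcon
    have heS : e ∈ Submodule.span F (Set.range ψ) := by
      rw [← LinearMap.BilinForm.orthogonal_orthogonal hQ (pb_isRefl Q)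
        (Submodule.span F (Set.range ψ)), LinearMap.BilinForm.mem_orthogonal_iff]
      intro t ht
      rw [LinearMap.BilinForm.mem_orthogonal_iff] at ht
      have h2 : ∀ k, polar (⇑Q) (ψ k) t = 0 := fun k => by
        have h3 := ht (ψ k) (Submodule.subset_span ⟨k, rfl⟩)
        rw [polarBilin_apply_apply] at h3
        exact h3
      have h4 := hcon t h2
      rw [polarBilin_apply_apply, polar_comm]
      exact h4
    obtain ⟨c, hc⟩ := (Submodule.mem_span_range_iff_exists_fun F).mp heS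
    exact hind c hc.symm
  obtain ⟨v, hv, hev⟩ := h1
  obtain ⟨k, τ, w, hw, hvw, hpass⟩ := rat_decomp F₀ v
  have hcomp : ∀ k' j, polar (⇑Q) (ψ k') (w j) = 0 := by
    intro k' j
    have h5 := hpass _ (helper57_polarVec_rat hr (hψ k'))
      (by rw [Cfsg.Agent.Helper13.polarVec_dotProduct]; exact hv k') j
    rwa [Cfsg.Agent.Helper13.polarVec_dotProduct] at h5
  have hex : ∃ j, polar (⇑Q) e (w j) ≠ 0 := by
    by_contra hcon
    push Not at hcon
    apply hev
    rw [hvw, helper57_polar_sum]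
    apply Finset.sum_eq_zero
    intro j _
    rw [hcon j, mul_zero]
  obtain ⟨j, hj⟩ := hex
  refine ⟨(polar (⇑Q) e (w j))⁻¹ • w j,
    Rat.smul (F₀.inv_mem (hr.polar he (hw j))) (hw j), ?_, ?_⟩
  · rw [polar_smul_right, smul_eq_mul, inv_mul_cancel₀ hj]
  · intro k'
    rw [polar_smul_right, hcomp, smul_zero]

/-- (A8) via (A7), (A13) -/
theorem rat_sep2_q [Finite F] (hQ : (polarBilin Q).Nondegenerate) (hr : RatQ Q F₀)
    {e1 e2 x : ι → F} (he1 : Rat F₀ e1) (he2 : Rat F₀ e2)
    (hx : ∀ a b : F, x ≠ a • e1 + b • e2) :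
    ∃ y : ι → F, Rat F₀ y ∧ polar (⇑Q) y e1 = 0 ∧ polar (⇑Q) y e2 = 0 ∧ polar (⇑Q) y x ≠ 0 := by
  obtain ⟨k, τ, w, hw, hxw, hpass⟩ := rat_decomp F₀ x
  have hex : ∃ j, ∀ a b : F, w j ≠ a • e1 + b • e2 := by
    by_contra hcon
    push Not at hcon
    choose a b hab using hcon
    apply hx (∑ j, τ j * a j) (∑ j, τ j * b j)
    have h1 : ∑ j, τ j • w j = (∑ j, τ j * a j) • e1 + (∑ j, τ j * b j) • e2 := by
      rw [Finset.sum_smul, Finset.sum_smul, ← Finset.sum_add_distrib]
      apply Finset.sum_congr rfl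
      intro j _
      rw [hab j, smul_add, smul_smul, smul_smul]
    exact hxw.trans h1
  obtain ⟨j, hj⟩ := hex
  obtain ⟨p, hp, hp1, hp0⟩ := exists_rat_dual_fam hQ hr 2 ![e1, e2]
    (by
      intro k
      fin_cases k
      · exact he1
      · exact he2) (hw j)
    (by
      intro c h
      apply hj (c 0) (c 1)
      rw [h, Fin.sum_univ_two]
      rfl)
  have h10 : polar (⇑Q) e1 p = 0 := hp0 0
  have h20 : polar (⇑Q) e2 p = 0 := hp0 1
  refine ⟨p, hp, ?_, ?_, ?_⟩
  · rw [polar_comm]; exact h10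
  · rw [polar_comm]; exact h20
  · intro h0
    have h5 := hpass _ (helper57_polarVec_rat hr hp)
      (by rw [Cfsg.Agent.Helper13.polarVec_dotProduct]; exact h0) j
    rw [Cfsg.Agent.Helper13.polarVec_dotProduct, polar_comm, hp1] at h5
    exact one_ne_zero h5

end Cfsg.Agent.Helper93.SubfL.OSf
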