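import Cfsg.Agent.Lib.Helper93.OSfA2

set_option autoImplicit false
set_option linter.unusedSectionVars false
set_option linter.unusedVariables false

namespace Cfsg.Agent.Helper93.SubfL.OSf

open Matrix QuadraticMap Cfsg.Geo Cfsg.Agent.Helper93
open Cfsg.Agent.S0794 Cfsg.Agent.Helper14.ReflGen

variable {ι : Type} [Fintype ι] [DecidableEq ι] {F : Type*} [Field F]
variable {Q : QuadraticForm F (ι → F)} {F₀ : Subfield F} {M : Subgroup (GL ι F)}

/-- a rational non-zero vector orthogonal to a rational family and two more rational vectors -/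
lemma helper50_rat_perp2 (hr : RatQ Q F₀) (m : ℕ) (ψ : Fin m → ι → F)
    (hψ : ∀ k, Rat F₀ (ψ k)) {a b : ι → F} (ha : Rat F₀ a) (hb : Rat F₀ b)
    (hm : m + 2 < Fintype.card ι) :
    ∃ x : ι → F, Rat F₀ x ∧ x ≠ 0 ∧ (∀ k, polar (⇑Q) x (ψ k) = 0) ∧ polar (⇑Q) x a = 0 ∧
      polar (⇑Q) x b = 0 := by
  have hψ' : ∀ k : Fin (m + 1 + 1), Rat F₀ ((Fin.cons a (Fin.cons b ψ) : Fin (m + 1 + 1) → ι → F) k) := by
    intro k
    refine Fin.cases ?_ (fun k' => ?_) k
    · rw [Fin.cons_zero]; exact ha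
    · rw [Fin.cons_succ]
      refine Fin.cases ?_ (fun k'' => ?_) k'
      · rw [Fin.cons_zero]; exact hb
      · rw [Fin.cons_succ]; exact hψ k''
  obtain ⟨x, hx, hx0, hxψ⟩ := exists_rat_perp_q hr (m + 1 + 1)
    (Fin.cons a (Fin.cons b ψ) : Fin (m + 1 + 1) → ι → F) hψ' (by omega)
  refine ⟨x, hx, hx0, fun k => ?_, ?_, ?_⟩
  · have h := hxψ (Fin.succ (Fin.succ k))
    rw [Fin.cons_succ, Fin.cons_succ] at h
    exact h
  · have h := hxψ 0
    rw [Fin.cons_zero] at h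
    exact h
  · have h := hxψ (Fin.succ 0)
    rw [Fin.cons_succ, Fin.cons_zero] at h
    exact h

/-- in characteristic two, every element of the finite subfield is a square in the subfield -/
lemma helper50_sqrt_mem [Finite F] (F₀ : Subfield F) (h2 : (2 : F) = 0) {c : F} (hc : c ∈ F₀) :
    ∃ a : F, a ∈ F₀ ∧ a * a = c := by
  have : CharP (↥F₀) 2 := by
    apply CharTwo.of_one_ne_zero_of_two_eq_zero one_ne_zero
    apply Subtype.ext
    push_cast
    exact h2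
  obtain ⟨a, ha⟩ := isSquare_of_charTwo' (⟨c, hc⟩ : ↥F₀)
  refine ⟨(a : F), a.2, ?_⟩
  have := congrArg (fun t : ↥F₀ => (t : F)) ha
  simp only [Subfield.coe_mul] at this
  exact this.symm

/-- in odd characteristic, a ternary diagonal form over the finite subfield is isotropic -/
lemma helper50_ternary [Finite F] (F₀ : Subfield F) (h2 : (2 : F) ≠ 0) {c1 c2 c3 : F}
    (h1 : c1 ∈ F₀) (h2' : c2 ∈ F₀) (h3 : c3 ∈ F₀) (hc1 : c1 ≠ 0) (hc2 : c2 ≠ 0) :
    ∃ a b : F, a ∈ F₀ ∧ b ∈ F₀ ∧ a * a * c1 + b * b * c2 + c3 = 0 := by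
  classical
  have : Fintype (↥F₀) := Fintype.ofFinite _
  have hchar : ringChar (↥F₀) ≠ 2 := by
    intro h
    have : CharP (↥F₀) 2 := ringChar.of_eq h
    have h0 : ((2 : ℕ) : ↥F₀) = 0 := CharP.cast_eq_zero (↥F₀) 2
    apply h2
    exact (congrArg Subtype.val h0 : (2 : F) = 0)
  have hodd := FiniteField.odd_card_of_char_ne_two hchar
  have hd1 : (⟨c1, h1⟩ : ↥F₀) ≠ 0 := fun h => hc1 (congrArg Subtype.val h)
  have hd2 : (⟨c2, h2'⟩ : ↥F₀) ≠ 0 := fun h => hc2 (congrArg Subtype.val h)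
  obtain ⟨a, b, hab⟩ := FiniteField.exists_root_sum_quadratic
    (f := Polynomial.C (⟨c1, h1⟩ : ↥F₀) * Polynomial.X ^ 2)
    (g := Polynomial.C (⟨c2, h2'⟩ : ↥F₀) * Polynomial.X ^ 2 + Polynomial.C 0 * Polynomial.X
      + Polynomial.C (⟨c3, h3⟩ : ↥F₀))
    (Polynomial.degree_C_mul_X_pow 2 hd1) (Polynomial.degree_quadratic hd2) hodd
  refine ⟨(a : F), (b : F), a.2, b.2, ?_⟩
  have := congrArg (fun t : ↥F₀ => (t : F)) hab
  simp only [Polynomial.eval_add, Polynomial.eval_mul, Polynomial.eval_C, Polynomial.eval_pow,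
    Polynomial.eval_X, zero_mul, add_zero] at this
  push_cast at this
  linear_combination this

/-- (A9) a non-zero rational singular vector orthogonal to `m` given rational vectors
(`n ≥ m + 3`): rational `x1 ⊥ ψ`; `x2 ⊥ ψ, x1, p1` (`B(x1,p1)=1`); `x3 ⊥ ψ, x1, x2`; char 2:
`a x1 + x2` with `a² = Q x2 / Q x1` (Frobenius onto on `F₀`); odd char:
`FiniteField.exists_root_sum_quadratic` on `↥F₀`. -/
theorem exists_rat_sing [Finite F] (hQ : (polarBilin Q).Nondegenerate) (hr : RatQ Q F₀)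
    (m : ℕ) (ψ : Fin m → ι → F) (hψ : ∀ k, Rat F₀ (ψ k)) (hm : m + 2 < Fintype.card ι) :
    ∃ z : ι → F, Rat F₀ z ∧ z ≠ 0 ∧ Q z = 0 ∧ ∀ k, polar (⇑Q) z (ψ k) = 0 := by
  obtain ⟨x1, hx1, hx10, hx1ψ⟩ := exists_rat_perp_q hr m ψ hψ (by omega)
  by_cases hq1 : Q x1 = 0
  · exact ⟨x1, hx1, hx10, hq1, hx1ψ⟩
  obtain ⟨p1, hp1, hxp1⟩ := exists_rat_dual1_q hQ hr hx1 hx10 F₀.one_mem
  obtain ⟨x2, hx2, hx20, hx2ψ, hx2x1, hx2p1⟩ := helper50_rat_perp2 hr m ψ hψ hx1 hp1 hm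
  by_cases hq2 : Q x2 = 0
  · exact ⟨x2, hx2, hx20, hq2, hx2ψ⟩
  have hx1x2 : polar (⇑Q) x1 x2 = 0 := by rw [polar_comm]; exact hx2x1
  by_cases h2 : (2 : F) = 0
  · -- characteristic two
    have hc : Q x2 * (Q x1)⁻¹ ∈ F₀ := F₀.mul_mem (hr _ hx2) (F₀.inv_mem (hr _ hx1))
    obtain ⟨a, ha, haa⟩ := helper50_sqrt_mem F₀ h2 hc
    have ha0 : a ≠ 0 := by
      rintro rfl
      rw [mul_zero] at haa
      exact mul_ne_zero hq2 (inv_ne_zero hq1) haa.symm
    refine ⟨a • x1 + x2, (Rat.smul ha hx1).add hx2, ?_, ?_, fun k => ?_⟩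
    · intro h0
      have h1 : polar (⇑Q) (a • x1 + x2) p1 = a := by
        rw [polar_add_left, polar_smul_left, hxp1, hx2p1, smul_eq_mul, mul_one, add_zero]
      rw [h0, polar_zero_left] at h1
      exact ha0 h1.symm
    · rw [Q_add', Q_smul', polar_smul_left, hx1x2, smul_zero, add_zero, haa,
        inv_mul_cancel_right₀ hq1]
      linear_combination Q x2 * h2
    · rw [polar_add_left, polar_smul_left, hx1ψ k, hx2ψ k, smul_zero, add_zero]
  · -- odd characteristic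
    obtain ⟨x3, hx3, hx30, hx3ψ, hx3x1, hx3x2⟩ := helper50_rat_perp2 hr m ψ hψ hx1 hx2 hm
    by_cases hq3 : Q x3 = 0
    · exact ⟨x3, hx3, hx30, hq3, hx3ψ⟩
    obtain ⟨a, b, ha, hb, hab⟩ := helper50_ternary F₀ h2 (hr _ hx1) (hr _ hx2) (hr _ hx3) hq1 hq2
    have hx1x3 : polar (⇑Q) x1 x3 = 0 := by rw [polar_comm]; exact hx3x1
    have hx2x3 : polar (⇑Q) x2 x3 = 0 := by rw [polar_comm]; exact hx3x2
    refine ⟨a • x1 + b • x2 + x3, ((Rat.smul ha hx1).add (Rat.smul hb hx2)).add hx3, ?_, ?_,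
      fun k => ?_⟩
    · intro h0
      have h1 : polar (⇑Q) x3 (a • x1 + b • x2 + x3) = 2 * Q x3 := by
        rw [polar_add_right, polar_add_right, polar_smul_right, polar_smul_right, hx3x1, hx3x2,
          polar_self', smul_zero, smul_zero, zero_add, zero_add]
      rw [h0, polar_zero_right] at h1
      exact mul_ne_zero h2 hq3 h1.symm
    · simp only [Q_add', Q_smul', polar_add_left, polar_smul_left, polar_smul_right, hx1x2,
        hx1x3, hx2x3, smul_zero, add_zero]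
      linear_combination hab
    · rw [polar_add_left, polar_add_left, polar_smul_left, polar_smul_left, hx1ψ k, hx2ψ k,
        hx3ψ k, smul_zero, smul_zero, add_zero, add_zero]

/-- (A10) `e' = p - Q p • e` with `B(e,p) = 1` -/
theorem hyp_partner1_q [Finite F] (hQ : (polarBilin Q).Nondegenerate) (hr : RatQ Q F₀)
    {e : ι → F} (he : Rat F₀ e) (he0 : e ≠ 0) (hee : Q e = 0) :
    ∃ e' : ι → F, Rat F₀ e' ∧ Q e' = 0 ∧ polar (⇑Q) e e' = 1 := by
  obtain ⟨p, hp, hep⟩ := exists_rat_dual1_q hQ hr he he0 F₀.one_mem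
  have hpe : polar (⇑Q) p e = 1 := by rw [polar_comm]; exact hep
  refine ⟨p - Q p • e, hp.sub (Rat.smul (hr _ hp) he), ?_, ?_⟩
  · rw [Q_sub, Q_smul', polar_smul_right, hpe, hee]
    simp only [smul_eq_mul]
    ring
  · rw [polar_sub_right, polar_smul_right, hep, polar_self', hee]
    simp

/-- (A11) a rational singular partner orthogonal to a rational family `ψ ⊥ e`, `e ∉ span ψ` -/
theorem hyp_partner_fam [Finite F] (hQ : (polarBilin Q).Nondegenerate) (hr : RatQ Q F₀)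
    (m : ℕ) (ψ : Fin m → ι → F) (hψ : ∀ k, Rat F₀ (ψ k)) {e : ι → F} (he : Rat F₀ e)
    (hee : Q e = 0) (heψ : ∀ k, polar (⇑Q) e (ψ k) = 0)
    (hind : ∀ c : Fin m → F, e ≠ ∑ k, c k • ψ k) :
    ∃ e' : ι → F, Rat F₀ e' ∧ Q e' = 0 ∧ polar (⇑Q) e e' = 1 ∧ ∀ k, polar (⇑Q) (ψ k) e' = 0 := by
  obtain ⟨p, hp, hep, hψp⟩ := exists_rat_dual_fam hQ hr m ψ hψ he hind
  have hpe : polar (⇑Q) p e = 1 := by rw [polar_comm]; exact hep
  refine ⟨p - Q p • e, hp.sub (Rat.smul (hr _ hp) he), ?_, ?_, fun k => ?_⟩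
  · rw [Q_sub, Q_smul', polar_smul_right, hpe, hee]
    simp only [smul_eq_mul]
    ring
  · rw [polar_sub_right, polar_smul_right, hep, polar_self', hee]
    simp
  · rw [polar_sub_right, polar_smul_right, hψp k, polar_comm (⇑Q) (ψ k) e, heψ k]
    simp

/-- (A12) a rational non-singular vector orthogonal to a rational hyperbolic pair -/
theorem exists_rat_nonsing2 [Finite F] (hQ : (polarBilin Q).Nondegenerate) (hr : RatQ Q F₀)
    (hn : 5 ≤ Fintype.card ι) {u u' : ι → F} (hu : Rat F₀ u) (hu' : Rat F₀ u') (hq : Q u = 0)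
    (hq' : Q u' = 0) (huu' : polar (⇑Q) u u' = 1) :
    ∃ x : ι → F, Rat F₀ x ∧ Q x ≠ 0 ∧ polar (⇑Q) x u = 0 ∧ polar (⇑Q) x u' = 0 := by
  obtain ⟨x1, hx1, hx10, -, hx1u, hx1u'⟩ :=
    helper50_rat_perp2 hr 0 (fun k : Fin 0 => k.elim0) (fun k => k.elim0) hu hu' (by omega)
  by_cases hq1 : Q x1 = 0
  swap
  · exact ⟨x1, hx1, hq1, hx1u, hx1u'⟩
  -- the family `![u, u']`
  have hψ : ∀ k : Fin 2, Rat F₀ ((![u, u'] : Fin 2 → ι → F) k) := by
    intro k
    fin_cases k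
    · exact hu
    · exact hu'
  have hxψ : ∀ k : Fin 2, polar (⇑Q) x1 ((![u, u'] : Fin 2 → ι → F) k) = 0 := by
    intro k
    fin_cases k
    · exact hx1u
    · exact hx1u'
  have hu'u : polar (⇑Q) u' u = 1 := by rw [polar_comm]; exact huu'
  have hind : ∀ c : Fin 2 → F, x1 ≠ ∑ k, c k • (![u, u'] : Fin 2 → ι → F) k := by
    intro c hc
    rw [Fin.sum_univ_two] at hc
    simp only [Matrix.cons_val_zero, Matrix.cons_val_one] at hc
    have h1 : polar (⇑Q) x1 u' = c 0 := by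
      rw [hc, polar_add_left, polar_smul_left, polar_smul_left, huu', polar_self', hq']
      simp
    have h2 : polar (⇑Q) x1 u = c 1 := by
      rw [hc, polar_add_left, polar_smul_left, polar_smul_left, hu'u, polar_self', hq]
      simp
    rw [hx1u'] at h1
    rw [hx1u] at h2
    apply hx10
    rw [hc, ← h1, ← h2, zero_smul, zero_smul, add_zero]
  obtain ⟨e', he', hqe', hxe', hψe'⟩ := hyp_partner_fam hQ hr 2 ![u, u'] hψ hx1 hq1 hxψ hind
  refine ⟨x1 + e', hx1.add he', ?_, ?_, ?_⟩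
  · rw [Q_add', hq1, hqe', hxe']
    simp
  · have h := hψe' 0
    simp only [Matrix.cons_val_zero] at h
    rw [polar_add_left, hx1u, polar_comm (⇑Q) e' u, h, add_zero]
  · have h := hψe' 1
    simp only [Matrix.cons_val_one, Matrix.cons_val_zero] at h
    rw [polar_add_left, hx1u', polar_comm (⇑Q) e' u', h, add_zero]

end Cfsg.Agent.Helper93.SubfL.OSf
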