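import Cfsg.Agent.Lib.Helper93.OSfA3

set_option autoImplicit false
set_option linter.unusedSectionVars false
set_option linter.unusedVariables false
set_option maxHeartbeats 800000

/-!
# Orthogonal subfield maximality: stabilisers of rational singular points (helper93)
-/

namespace Cfsg.Agent.Helper93.SubfL.OSf

open Matrix QuadraticMap Cfsg.Geo Cfsg.Agent.Helper93
open Cfsg.Agent.S0794 Cfsg.Agent.Helper14.ReflGen

variable {ι : Type} [Fintype ι] [DecidableEq ι] {F : Type*} [Field F]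
variable {Q : QuadraticForm F (ι → F)} {F₀ : Subfield F} {M : Subgroup (GL ι F)}

/-- an element of `M` mapping a rational singular point to a rational point lies in the subfield
group -/
theorem stab_mem [Fintype F] (C : OCtx Q F₀ M) (hN : ONoBad Q F₀ M) {g : GL ι F} (hg : g ∈ M)
    {u v : ι → F} (hu : Rat F₀ u) (hu0 : u ≠ 0) (hqu : Q u = 0) (hv : Rat F₀ v) {μ : F}
    (hgu : (g : Matrix ι ι F) *ᵥ u = μ • v) : g ∈ HSO Q F₀ := by
  have hQ := C.nd
  have hr := C.rat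
  have hn5 : 5 ≤ Fintype.card ι := le_trans (by norm_num) C.dim
  have hμ : μ ≠ 0 := by
    intro h0
    apply hu0
    have := gl_inv_apply_apply g u
    rw [hgu, h0, zero_smul, Matrix.mulVec_zero] at this
    exact this.symm
  have hv0 : v ≠ 0 := by
    intro h0
    apply hu0
    have := gl_inv_apply_apply g u
    rw [hgu, h0, smul_zero, Matrix.mulVec_zero] at this
    exact this.symm
  have hqv : Q v = 0 := by
    have h1 : Q ((g : Matrix ι ι F) *ᵥ u) = 0 := by rw [C.isom hg]; exact hqu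
    rw [hgu, Q_smul'] at h1
    exact (mul_eq_zero.1 h1).resolve_left (mul_ne_zero hμ hμ)
  obtain ⟨u', hu', hqu', huu'⟩ := hyp_partner1_q hQ hr hu hu0 hqu
  obtain ⟨v', hv', hqv', hvv'⟩ := hyp_partner1_q hQ hr hv hv0 hqv
  obtain ⟨β, hβ⟩ : ∃ β, β = (g : Matrix ι ι F) *ᵥ u' := ⟨_, rfl⟩
  have hqβ : Q β = 0 := by rw [hβ, C.isom hg]; exact hqu'
  have hvβ : polar (⇑Q) v β = μ⁻¹ := by
    have h1 : polar (⇑Q) (μ • v) β = 1 := by rw [← hgu, hβ, C.polar_isom hg]; exact huu'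
    rw [polar_smul_left, smul_eq_mul] at h1
    exact eq_inv_of_mul_eq_one_left (by rw [mul_comm]; exact h1)
  obtain ⟨s, hs⟩ : ∃ s, s = μ * polar (⇑Q) β v' := ⟨_, rfl⟩
  obtain ⟨w0, hw0⟩ : ∃ w0, w0 = μ • β - v' - s • v := ⟨_, rfl⟩
  have hvv : polar (⇑Q) v v = 0 := by rw [polar_self', hqv, mul_zero]
  have hv'v : polar (⇑Q) v' v = 1 := by rw [polar_comm]; exact hvv'
  have hv'v' : polar (⇑Q) v' v' = 0 := by rw [polar_self', hqv', mul_zero]
  have hw0v : polar (⇑Q) v w0 = 0 := by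
    rw [hw0, polar_sub_right, polar_sub_right, polar_smul_right, polar_smul_right, hvβ, hvv',
      hvv, smul_eq_mul, smul_eq_mul, mul_inv_cancel₀ hμ, mul_zero]
    ring
  have hw0v' : polar (⇑Q) w0 v' = 0 := by
    rw [hw0, polar_sub_left, polar_sub_left, polar_smul_left, polar_smul_left, hv'v', hvv',
      smul_eq_mul, smul_eq_mul, ← hs]
    ring
  have hw0v2 : polar (⇑Q) w0 v = 0 := by rw [polar_comm]; exact hw0v
  have hβe : μ • β = w0 + (v' + s • v) := by rw [hw0]; abel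
  have hQw0 : Q w0 + s = 0 := by
    have h1 : Q (μ • β) = 0 := by rw [Q_smul', hqβ, mul_zero]
    rw [hβe, Q_add', Q_add', Q_smul', hqv, hqv', polar_add_right, polar_smul_right,
      polar_smul_right, hw0v', hw0v2, hv'v] at h1
    simp only [smul_eq_mul, mul_zero, mul_one, add_zero, zero_add] at h1
    exact h1
  have hvw0n : polar (⇑Q) v (-w0) = 0 := by rw [polar_neg_right, hw0v, neg_zero]
  obtain ⟨l, hl⟩ : ∃ l, l = oE Q v (-w0) * g := ⟨_, rfl⟩
  have hlΩ : l ∈ omegaGL (⇑Q) := by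
    rw [hl]; exact Subgroup.mul_mem _ (oE_mem_omega Q hQ hn5 _ _) (C.sub hg)
  have hlisom : ∀ x, Q ((l : Matrix ι ι F) *ᵥ x) = Q x := isom_of_mem_omegaGL Q hlΩ
  have hlu : (l : Matrix ι ι F) *ᵥ u = μ • v := by
    rw [hl, gl_mul_apply, hgu, oE_apply Q hqv hvw0n]
    simp only [polar_smul_right, polar_neg_left, hvv, hw0v2, smul_zero, neg_zero, zero_smul,
      mul_zero, add_zero, sub_zero]
  have hlu' : (l : Matrix ι ι F) *ᵥ u' = μ⁻¹ • v' := by
    rw [hl, gl_mul_apply, ← hβ]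
    have e : β = μ⁻¹ • (w0 + (v' + s • v)) := by
      rw [← hβe, smul_smul, inv_mul_cancel₀ hμ, one_smul]
    have h2 : polar (⇑Q) w0 β = μ⁻¹ * (2 * Q w0) := by
      rw [e, polar_smul_right, polar_add_right, polar_add_right, polar_smul_right, hw0v', hw0v2,
        polar_self', smul_eq_mul, smul_eq_mul]
      ring
    rw [oE_apply Q hqv hvw0n, hvβ, polar_neg_left, QuadraticMap.map_neg, h2]
    have hs' : s = - Q w0 := by linear_combination hQw0
    rw [e, hs']
    module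
  have hkey : ∀ x : ι → F, Rat F₀ x → polar (⇑Q) u x = 0 → polar (⇑Q) u' x = 0 →
      Rat F₀ (μ • ((l : Matrix ι ι F) *ᵥ x)) := by
    intro x hx hux hu'x
    have h1 : oE Q u x ∈ M := C.oE_mem hu hx hqu hux
    have h2 := C.conj_mem hg hqu hux h1
    have hvgx : polar (⇑Q) v ((g : Matrix ι ι F) *ᵥ x) = 0 := by
      have h3 : polar (⇑Q) (μ • v) ((g : Matrix ι ι F) *ᵥ x) = 0 := by
        rw [← hgu, C.polar_isom hg]; exact hux
      rw [polar_smul_left, smul_eq_mul] at h3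
      exact (mul_eq_zero.1 h3).resolve_left hμ
    rw [hgu, oE_smul_left Q μ hqv hvgx] at h2
    obtain ⟨t, ht⟩ := hN v _ hv hv0 hqv (by rw [polar_smul_right, hvgx, smul_zero]) h2
    obtain ⟨y, hy⟩ : ∃ y, y = μ • ((g : Matrix ι ι F) *ᵥ x) + t • v := ⟨_, rfl⟩
    rw [← hy] at ht
    have hvy : polar (⇑Q) v y = 0 := by
      rw [hy, polar_add_right, polar_smul_right, polar_smul_right, hvgx, hvv, smul_zero,
        smul_zero, add_zero]
    have h4 : μ • ((l : Matrix ι ι F) *ᵥ x) = y + (polar (⇑Q) w0 y - t) • v := by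
      have e1 : μ • ((g : Matrix ι ι F) *ᵥ x) = y - t • v := by rw [hy]; abel
      rw [hl, gl_mul_apply, ← Matrix.mulVec_smul, e1, Matrix.mulVec_sub, Matrix.mulVec_smul,
        oE_apply Q hqv hvw0n, oE_apply Q hqv hvw0n, hvy, hvv, polar_neg_left, polar_neg_left,
        hw0v2]
      simp only [zero_smul, mul_zero, add_zero, sub_zero, neg_zero]
      module
    have h5 : polar (⇑Q) (μ • ((l : Matrix ι ι F) *ᵥ x)) v' = 0 := by
      have h6 : polar (⇑Q) ((l : Matrix ι ι F) *ᵥ x) ((l : Matrix ι ι F) *ᵥ u') = 0 := by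
        rw [polar_of_isometry Q _ hlisom, polar_comm]; exact hu'x
      rw [hlu', polar_smul_right, smul_eq_mul] at h6
      rw [polar_smul_left, (mul_eq_zero.1 h6).resolve_left (inv_ne_zero hμ), smul_zero]
    rw [h4, polar_add_left, polar_smul_left, hvv', smul_eq_mul, mul_one] at h5
    have h7 : polar (⇑Q) w0 y - t = -polar (⇑Q) y v' := by linear_combination h5
    rw [h4, h7]
    exact ht.add (Rat.smul (F₀.neg_mem (hr.polar ht hv')) hv)
  obtain ⟨x1, hx1, hqx1, hx1u, hx1u'⟩ := exists_rat_nonsing2 hQ hr hn5 hu hu' hqu hqu' huu'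
  have hμ2 : μ * μ ∈ F₀ := by
    have h1 := hkey x1 hx1 (by rw [polar_comm]; exact hx1u) (by rw [polar_comm]; exact hx1u')
    have h2 := hr _ h1
    rw [Q_smul', hlisom] at h2
    have h3 : μ * μ = (μ * μ * Q x1) * (Q x1)⁻¹ := by
      rw [mul_assoc, mul_inv_cancel₀ hqx1, mul_one]
    rw [h3]; exact F₀.mul_mem h2 (F₀.inv_mem (hr _ hx1))
  have hlH : l ∈ HSO Q F₀ := by
    refine Subgroup.mem_inf.2 ⟨?_, hlΩ⟩
    apply mem_H1_of (inv_ne_zero hμ)
    intro ξ hξ
    rw [inv_inv]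
    obtain ⟨x, hx⟩ : ∃ x, x = ξ - polar (⇑Q) u' ξ • u - polar (⇑Q) u ξ • u' := ⟨_, rfl⟩
    have hxr : Rat F₀ x := by
      rw [hx]
      exact (hξ.sub (Rat.smul (hr.polar hu' hξ) hu)).sub (Rat.smul (hr.polar hu hξ) hu')
    have huu : polar (⇑Q) u u = 0 := by rw [polar_self', hqu, mul_zero]
    have hu'u' : polar (⇑Q) u' u' = 0 := by rw [polar_self', hqu', mul_zero]
    have hu'u : polar (⇑Q) u' u = 1 := by rw [polar_comm]; exact huu'
    have hux : polar (⇑Q) u x = 0 := by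
      rw [hx, polar_sub_right, polar_sub_right, polar_smul_right, polar_smul_right, huu, huu',
        smul_eq_mul, smul_eq_mul]
      ring
    have hu'x : polar (⇑Q) u' x = 0 := by
      rw [hx, polar_sub_right, polar_sub_right, polar_smul_right, polar_smul_right, hu'u, hu'u',
        smul_eq_mul, smul_eq_mul]
      ring
    have e : ξ = x + polar (⇑Q) u' ξ • u + polar (⇑Q) u ξ • u' := by rw [hx]; abel
    have e2 : μ • (polar (⇑Q) u ξ • (μ⁻¹ • v')) = polar (⇑Q) u ξ • v' := by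
      rw [smul_smul, smul_smul]
      congr 1
      field_simp
    have e3 : μ • (polar (⇑Q) u' ξ • (μ • v)) = (polar (⇑Q) u' ξ * (μ * μ)) • v := by
      rw [smul_smul, smul_smul]
      congr 1
      ring
    have h1 : μ • ((l : Matrix ι ι F) *ᵥ ξ) = μ • ((l : Matrix ι ι F) *ᵥ x)
        + (polar (⇑Q) u' ξ * (μ * μ)) • v + polar (⇑Q) u ξ • v' := by
      conv_lhs => rw [e]
      rw [Matrix.mulVec_add, Matrix.mulVec_add, Matrix.mulVec_smul, Matrix.mulVec_smul, hlu, hlu',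
        smul_add, smul_add, e2, e3]
    rw [h1]
    exact ((hkey x hxr hux hu'x).add (Rat.smul (F₀.mul_mem (hr.polar hu' hξ) hμ2) hv)).add
      (Rat.smul (hr.polar hu hξ) hv')
  have h8 : oE Q v (-w0) ∈ M := by
    have : oE Q v (-w0) = l * g⁻¹ := by rw [hl, mul_inv_cancel_right]
    rw [this]; exact M.mul_mem (C.le hlH) (M.inv_mem hg)
  obtain ⟨t', ht'⟩ := hN v _ hv hv0 hqv hvw0n h8
  have ht'F : t' ∈ F₀ := by
    have h9 := hr.polar ht' hv'
    rw [polar_add_left, polar_neg_left, hw0v', polar_smul_left, hvv', neg_zero, zero_add,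
      smul_eq_mul, mul_one] at h9
    exact h9
  have hw0r : Rat F₀ (-w0) := by
    have e : -w0 = (-w0 + t' • v) - t' • v := by abel
    rw [e]; exact ht'.sub (Rat.smul ht'F hv)
  have h10 : oE Q v (-w0) ∈ HSO Q F₀ := oE_rat_mem Q hQ hn5 hr hv hw0r hqv hvw0n
  have : g = (oE Q v (-w0))⁻¹ * l := by rw [hl, inv_mul_cancel_left]
  rw [this]
  exact Subgroup.mul_mem _ (Subgroup.inv_mem _ h10) hlH

/-- the subfield group is a proper subgroup of `Ω` -/
lemma hso_lt [Fintype F] (hQ : (polarBilin Q).Nondegenerate) (hrq : RatQ Q F₀)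
    (hn : 7 ≤ Fintype.card ι) {r : ℕ} (hr : r.Prime)
    (hcard : Fintype.card F = Nat.card F₀ ^ r) : HSO Q F₀ < omegaGL (⇑Q) := by
  unfold HSO
  refine lt_of_le_of_ne inf_le_right ?_
  intro heq
  obtain ⟨a0, ha0⟩ := exists_not_mem_subfield hr hcard
  obtain ⟨u, hu, hu0, hqu, -⟩ := exists_rat_sing hQ hrq 0 (fun k => k.elim0)
    (fun k => k.elim0) (by omega)
  obtain ⟨u', hu', hqu', huu'⟩ := hyp_partner1_q hQ hrq hu hu0 hqu
  obtain ⟨b, hb, hb0, hqb, hk⟩ := exists_rat_sing hQ hrq 2 ![u, u']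
    (by intro k; fin_cases k; exacts [hu, hu']) (by omega)
  have hbu : polar (⇑Q) b u = 0 := hk 0
  have hbu' : polar (⇑Q) b u' = 0 := hk 1
  have hub : polar (⇑Q) u b = 0 := by rw [polar_comm]; exact hbu
  have hmem : oE Q u (a0 • b) ∈ omegaGL (⇑Q) := oE_mem_omega Q hQ (by omega) _ _
  rw [← heq] at hmem
  have hH := (Subgroup.mem_inf.1 hmem).1
  obtain ⟨lam, hlam, hl⟩ := mem_subfield_imp hH
  obtain ⟨y1, hy1, hy1'⟩ := hl u ((ratVec_one_iff _).2 hu)
  obtain ⟨z1, hz1, hz1'⟩ := hl u' ((ratVec_one_iff _).2 hu')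
  rw [ratVec_one_iff] at hy1 hz1
  have huab : polar (⇑Q) u (a0 • b) = 0 := by rw [polar_smul_right, hub, smul_zero]
  have huu : polar (⇑Q) u u = 0 := by rw [polar_self', hqu, mul_zero]
  rw [oE_apply Q hqu huab, huu, polar_smul_left, hbu] at hy1'
  simp only [zero_smul, smul_zero, mul_zero, add_zero, sub_zero] at hy1'
  rw [oE_apply Q hqu huab, huu', polar_smul_left, hbu', Q_smul', hqb] at hz1'
  simp only [one_smul, smul_zero, zero_smul, mul_zero, mul_one, sub_zero] at hz1'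
  obtain ⟨i, hi⟩ := Function.ne_iff.mp hu0
  have hi' : u i ≠ 0 := hi
  have h1 := congrFun hy1' i
  rw [Pi.smul_apply, smul_eq_mul] at h1
  have hyi : y1 i ≠ 0 := by
    intro h
    rw [h, mul_zero] at h1
    exact hi' h1
  have hlamF : lam ∈ F₀ := by
    have : lam = u i * (y1 i)⁻¹ := by
      rw [h1, mul_assoc, mul_inv_cancel₀ hyi, mul_one]
    rw [this]
    exact F₀.mul_mem (hu i) (F₀.inv_mem (hy1 i))
  obtain ⟨j, hj⟩ := Function.ne_iff.mp hb0
  have hj' : b j ≠ 0 := hj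
  have h3 := congrFun hz1' j
  rw [Pi.add_apply, Pi.smul_apply, Pi.smul_apply, smul_eq_mul, smul_eq_mul] at h3
  apply ha0
  have h4 : a0 * b j = lam * z1 j - u' j := by linear_combination h3
  have e : a0 = (lam * z1 j - u' j) * (b j)⁻¹ := by
    rw [← h4, mul_assoc, mul_inv_cancel₀ hj', mul_one]
  rw [e]
  exact F₀.mul_mem (F₀.sub_mem (F₀.mul_mem hlamF (hz1 j)) (hu' j)) (F₀.inv_mem (hb j))

end Cfsg.Agent.Helper93.SubfL.OSf
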