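import Cfsg.Agent.Lib.Helper93.OSf0
import Cfsg.Agent.Lib.Helper98.SL2Ident

set_option autoImplicit false
set_option linter.unusedSectionVars false
set_option linter.unusedVariables false
set_option linter.style.haveILetI false

/-!
# Subfield subgroups of orthogonal groups: the `SL₂` move (pack M, written by helper98)
-/

namespace Cfsg.Agent.Helper93.SubfL.OSf

open Matrix QuadraticMap Cfsg.Geo Cfsg.Agent.Helper93
open Cfsg.Agent.S0794 Cfsg.Agent.Helper14.ReflGen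
open Cfsg.Agent.Helper98.Ident
open Cfsg.Agent.Helper98.Dickson Cfsg.Agent.Helper59.SL2Sub
open Cfsg.Agent.Helper5 Cfsg.Agent.Helper98.SL2CT

variable {ι : Type} [Fintype ι] [DecidableEq ι] {F : Type*} [Field F]
variable {Q : QuadraticForm F (ι → F)} {F₀ : Subfield F} {M : Subgroup (GL ι F)}

lemma h98_ll_pow (a : F) (n : ℕ) : (ll a) ^ n = ll (n • a) := by
  induction n with
  | zero => simp [ll_zero]
  | succ n ih => rw [pow_succ, ih, ll_mul, succ_nsmul]

lemma h98_ll_pow_char (p : ℕ) [CharP F p] (a : F) : (ll a) ^ p = 1 := by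
  rw [h98_ll_pow, nsmul_eq_mul, CharP.cast_eq_zero F p, zero_mul, ll_zero]

/-- (M1) a subgroup of `SL₂(F)` with a non-trivial upper and a non-trivial lower unipotent has an
element with lower right corner `0`. Sylow: `P₁ ∋ uu a`, `P₂ ∋ ll b` Sylow `p`-subgroups of `K`,
`g P₂ g⁻¹ = P₁`; a `p`-group fixes a non-zero vector of `F²`; the fixed vectors of `uu a` are
`F e₁`, of `ll b` are `F e₂`; hence `g e₂ ∈ F e₁`. -/
theorem sl2_exists_zero_corner [Fintype F] (K : Subgroup (S2 F)) {a b : F} (ha : a ≠ 0)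
    (hb : b ≠ 0) (hu : uu a ∈ K) (hl : ll b ∈ K) : ∃ k ∈ K, k.1 1 1 = 0 := by
  classical
  obtain ⟨p, hpc⟩ := CharP.exists F
  haveI : CharP F p := hpc
  haveI : Fact p.Prime := ⟨(CharP.char_is_prime_or_zero F p).resolve_right
    (fun h0 => by
      subst h0
      haveI : CharZero F := CharP.charP_to_charZero F
      exact not_finite F)⟩
  haveI : Finite (S2 F) := inferInstanceAs (Finite {A : Matrix (Fin 2) (Fin 2) F // A.det = 1})
  have hP0 : IsPGroup p ((slU F).comap K.subtype) :=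
    (isPGroup_slU p).comap_of_injective K.subtype K.subtype_injective
  obtain ⟨U, hU⟩ := hP0.exists_le_sylow
  have huu_slU : ∀ a : F, uu a ∈ slU F := by
    intro a
    rw [mem_slU_iff']
    exact ⟨rfl, rfl, rfl⟩
  have hu0U : (⟨uu a, hu⟩ : K) ∈ U := hU (by
    rw [Subgroup.mem_comap]; exact huu_slU a)
  have hu0ne : uu a ≠ (1 : S2 F) := by
    intro h
    have h' := congrArg (fun g : S2 F => g.1 0 1) h
    simp only [uu_01, one_ent01] at h'
    exact ha h'
  obtain ⟨h, hh⟩ := exists_conj p K.subtype U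
  have hh0 := hh _ hu0U
  rw [conjHom_apply] at hh0
  have hut : (h⁻¹).1 1 0 = 0 := by
    apply ut_of_conj_mem_slU h⁻¹ (uu a) (huu_slU a) hu0ne
    rw [inv_inv]
    exact hh0
  have hut' : h.1 1 0 = 0 := by
    rw [inv_10] at hut
    exact neg_eq_zero.mp hut
  have inU : ∀ u ∈ U, ((u : K) : S2 F) ∈ slU F := by
    intro u hu
    have h5 := hh u hu
    rw [conjHom_apply] at h5
    have h6 := conj_mem_slU h _ hut' h5
    have e : h * (h⁻¹ * K.subtype u * h) * h⁻¹ = (u : S2 F) := by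
      show h * (h⁻¹ * (u : S2 F) * h) * h⁻¹ = (u : S2 F)
      group
    rw [e] at h6
    exact h6
  -- the lower unipotent generates a `p`-group
  have hxp : (⟨ll b, hl⟩ : K) ^ p = 1 := Subtype.ext (h98_ll_pow_char p b)
  have hx : IsPGroup p (Subgroup.zpowers (⟨ll b, hl⟩ : K)) := by
    intro y
    obtain ⟨y, hy⟩ := y
    obtain ⟨n, rfl⟩ := Subgroup.mem_zpowers_iff.mp hy
    refine ⟨1, Subtype.ext ?_⟩
    show ((⟨ll b, hl⟩ : K) ^ n) ^ p ^ 1 = 1
    rw [pow_one, ← zpow_natCast, ← _root_.zpow_mul, mul_comm, _root_.zpow_mul, zpow_natCast, hxp, _root_.one_zpow]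
  obtain ⟨P, hP⟩ := hx.exists_le_sylow
  obtain ⟨g, hg⟩ := MulAction.exists_smul_eq K P U
  have hxP : (⟨ll b, hl⟩ : K) ∈ P := hP (Subgroup.mem_zpowers _)
  have hgx : g * (⟨ll b, hl⟩ : K) * g⁻¹ ∈ U := by
    rw [← hg]
    show g * (⟨ll b, hl⟩ : K) * g⁻¹ ∈ ((g • P : Sylow p K) : Subgroup K)
    rw [Sylow.coe_subgroup_smul]
    have h12 := Subgroup.smul_mem_pointwise_smul _ (MulAut.conj g) (P : Subgroup K) hxP
    rwa [MulAut.smul_def, MulAut.conj_apply] at h12
  have h7 := inU _ hgx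
  rw [mem_slU_iff'] at h7
  have h8 := h7.2.1
  have h9 : ((g * (⟨ll b, hl⟩ : K) * g⁻¹ : K) : S2 F) = (g : S2 F) * ll b * (g : S2 F)⁻¹ := rfl
  rw [h9, mul_ent, mul_ent, mul_ent, inv_ent00, inv_ent10] at h8
  simp only [ll_00, ll_01, ll_10, ll_11] at h8
  refine ⟨(g : S2 F), g.2, ?_⟩
  have h10 : (g : S2 F).1 1 1 * (g : S2 F).1 1 1 * b = 0 := by
    linear_combination h8
  rcases mul_eq_zero.mp h10 with h11 | h11
  · exact mul_self_eq_zero.mp h11
  · exact absurd h11 hb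

/-- the element `h` of `SL₂` is induced on the pair `(e, u)` by an element of `M` -/
def h98Lift (M : Subgroup (GL ι F)) (e u : ι → F) (h : S2 F) : Prop :=
  ∃ d ∈ M,
    (d : Matrix ι ι F) *ᵥ e = h.1 0 0 • e + h.1 1 0 • u ∧
    (d : Matrix ι ι F) *ᵥ u = h.1 0 1 • e + h.1 1 1 • u

lemma h98Lift.one (e u : ι → F) : h98Lift M e u 1 := by
  refine ⟨1, M.one_mem, ?_, ?_⟩
  · rw [Units.val_one, Matrix.one_mulVec, one_ent00, one_ent10, one_smul, zero_smul, add_zero]
  · rw [Units.val_one, Matrix.one_mulVec, one_ent01, one_ent11, one_smul, zero_smul, zero_add]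

lemma h98Lift.mul {e u : ι → F} {h1 h2 : S2 F} (H1 : h98Lift M e u h1) (H2 : h98Lift M e u h2) :
    h98Lift M e u (h1 * h2) := by
  obtain ⟨d1, hd1, he1, hu1⟩ := H1
  obtain ⟨d2, hd2, he2, hu2⟩ := H2
  refine ⟨d1 * d2, M.mul_mem hd1 hd2, ?_, ?_⟩
  · rw [Units.val_mul, ← Matrix.mulVec_mulVec, he2, Matrix.mulVec_add, Matrix.mulVec_smul,
      Matrix.mulVec_smul, he1, hu1, mul_ent, mul_ent]
    module
  · rw [Units.val_mul, ← Matrix.mulVec_mulVec, hu2, Matrix.mulVec_add, Matrix.mulVec_smul,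
      Matrix.mulVec_smul, he1, hu1, mul_ent, mul_ent]
    module

lemma h98Lift.inv {e u : ι → F} {h : S2 F} (H : h98Lift M e u h) : h98Lift M e u h⁻¹ := by
  obtain ⟨d, hd, he, hu⟩ := H
  have hdet := det_eq h
  refine ⟨d⁻¹, M.inv_mem hd, ?_, ?_⟩
  · rw [inv_ent00, inv_ent10]
    have key : (d : Matrix ι ι F) *ᵥ (h.1 1 1 • e + (-h.1 1 0) • u) = e := by
      rw [Matrix.mulVec_add, Matrix.mulVec_smul, Matrix.mulVec_smul, he, hu]
      have e1 : h.1 1 1 • (h.1 0 0 • e + h.1 1 0 • u) + (-h.1 1 0) • (h.1 0 1 • e + h.1 1 1 • u)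
          = (h.1 0 0 * h.1 1 1 - h.1 0 1 * h.1 1 0) • e := by module
      rw [e1, hdet, one_smul]
    have h7 := gl_inv_apply_apply d (h.1 1 1 • e + (-h.1 1 0) • u)
    rw [key] at h7
    exact h7
  · rw [inv_ent01, inv_ent11]
    have key : (d : Matrix ι ι F) *ᵥ ((-h.1 0 1) • e + h.1 0 0 • u) = u := by
      rw [Matrix.mulVec_add, Matrix.mulVec_smul, Matrix.mulVec_smul, he, hu]
      have e1 : (-h.1 0 1) • (h.1 0 0 • e + h.1 1 0 • u) + h.1 0 0 • (h.1 0 1 • e + h.1 1 1 • u)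
          = (h.1 0 0 * h.1 1 1 - h.1 0 1 * h.1 1 0) • u := by module
      rw [e1, hdet, one_smul]
    have h7 := gl_inv_apply_apply d ((-h.1 0 1) • e + h.1 0 0 • u)
    rw [key] at h7
    exact h7

theorem h98Lift_closure {e u : ι → F} (gens : Set (S2 F))
    (hgens : ∀ h ∈ gens, h98Lift M e u h) :
    ∀ h ∈ Subgroup.closure gens, h98Lift M e u h := by
  intro h hh
  induction hh using Subgroup.closure_induction with
  | mem x hx => exact hgens x hx
  | one => exact h98Lift.one e u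
  | mul x y _ _ hx hy => exact hx.mul hy
  | inv x _ hx => exact hx.inv

/-- (M2) lifting `K = closure {uu 1, ll t}` to `M` through the pair `(d, c)` and (M1) -/
theorem exists_move [Fintype F] {x1 x2 : GL ι F} (h1 : x1 ∈ M) (h2 : x2 ∈ M)
    {c d : ι → F} {t : F} (ht : t ≠ 0)
    (h1d : (x1 : Matrix ι ι F) *ᵥ d = d) (h1c : (x1 : Matrix ι ι F) *ᵥ c = c + d)
    (h2c : (x2 : Matrix ι ι F) *ᵥ c = c) (h2d : (x2 : Matrix ι ι F) *ᵥ d = d + t • c) :
    ∃ δ ∈ M, ∃ μ : F, μ ≠ 0 ∧ (δ : Matrix ι ι F) *ᵥ c = μ • d := by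
  have hgens : ∀ h ∈ ({uu (1 : F), ll t} : Set (S2 F)), h98Lift M d c h := by
    intro h hh
    rcases hh with rfl | rfl
    · refine ⟨x1, h1, ?_, ?_⟩
      · rw [h1d, uu_00, uu_10, one_smul, zero_smul, add_zero]
      · rw [h1c, uu_01, uu_11, one_smul, one_smul, add_comm]
    · refine ⟨x2, h2, ?_, ?_⟩
      · rw [h2d, ll_00, ll_10, one_smul]
      · rw [h2c, ll_01, ll_11, one_smul, zero_smul, zero_add]
  obtain ⟨k, hk, hk11⟩ := sl2_exists_zero_corner
    (Subgroup.closure ({uu (1 : F), ll t} : Set (S2 F))) (one_ne_zero (α := F)) ht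
    (Subgroup.subset_closure (by simp)) (Subgroup.subset_closure (by simp))
  obtain ⟨δ, hδ, -, hδc⟩ := h98Lift_closure _ hgens k hk
  have hdet := det_eq k
  refine ⟨δ, hδ, k.1 0 1, ?_, ?_⟩
  · intro h0
    rw [hk11, h0, mul_zero, zero_mul, sub_zero] at hdet
    exact zero_ne_one hdet
  · rw [hδc, hk11, zero_smul, add_zero]

end Cfsg.Agent.Helper93.SubfL.OSf
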