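import Cfsg.Agent.Lib.Helper93.OSfA3

set_option autoImplicit false
set_option linter.unusedSectionVars false
set_option linter.unusedVariables false

/-!
# (OSfR) a singular vector with rational pairing ratios is a rational point
(helper16 for helper93's OSf server)
-/

namespace Cfsg.Agent.Helper93.SubfL.OSf

open Matrix QuadraticMap Cfsg.Geo Cfsg.Agent.Helper93
open Cfsg.Agent.S0794 Cfsg.Agent.Helper14.ReflGen

variable {ι : Type} [Fintype ι] [DecidableEq ι] {F : Type*} [Field F]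
variable {Q : QuadraticForm F (ι → F)} {F₀ : Subfield F} {M : Subgroup (GL ι F)}

/-- singular vector built from a hyperbolic pair and a vector perpendicular to it -/
lemma helper16_sing {e f y : ι → F} (hee : Q e = 0) (hff : Q f = 0)
    (hef : polar (⇑Q) e f = 1) (hey : polar (⇑Q) e y = 0) (hfy : polar (⇑Q) f y = 0) :
    Q (f + (y + (-(Q y)) • e)) = 0 := by
  have hye : polar (⇑Q) y e = 0 := by rw [polar_comm]; exact hey
  have hfe : polar (⇑Q) f e = 1 := by rw [polar_comm]; exact hef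
  rw [QuadraticMap.map_add Q f, QuadraticMap.map_add Q y, QuadraticMap.map_smul, hee, hff,
    polar_add_right, polar_smul_right, polar_smul_right, hye, hfy, hfe]
  simp

/-- projection to the perp of a hyperbolic pair -/
lemma helper16_proj {z0 z1 : ι → F} (hz0Q : Q z0 = 0) (hz1Q : Q z1 = 0)
    (h01 : polar (⇑Q) z0 z1 = 1) (x : ι → F) :
    polar (⇑Q) z0 (x - polar (⇑Q) z1 x • z0 - polar (⇑Q) z0 x • z1) = 0 ∧
    polar (⇑Q) z1 (x - polar (⇑Q) z1 x • z0 - polar (⇑Q) z0 x • z1) = 0 := by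
  have h00 : polar (⇑Q) z0 z0 = 0 := by rw [polar_self', hz0Q, mul_zero]
  have h11 : polar (⇑Q) z1 z1 = 0 := by rw [polar_self', hz1Q, mul_zero]
  have h10 : polar (⇑Q) z1 z0 = 1 := by rw [polar_comm]; exact h01
  constructor
  · rw [polar_sub_right, polar_sub_right, polar_smul_right, polar_smul_right, h00, h01]
    simp
  · rw [polar_sub_right, polar_sub_right, polar_smul_right, polar_smul_right, h10, h11]
    simp

/-- splitting a rational vector along a rational hyperbolic pair into singular pieces -/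
lemma helper16_split (hr : RatQ Q F₀) {e f y : ι → F} (he : Rat F₀ e) (hf : Rat F₀ f)
    (hy : Rat F₀ y) (hee : Q e = 0) (hff : Q f = 0) (hef : polar (⇑Q) e f = 1) :
    ∃ (s : ι → F) (a b : F), Rat F₀ s ∧ Q s = 0 ∧ a ∈ F₀ ∧ b ∈ F₀ ∧ y = s + a • e + b • f ∧
      ∀ t : ι → F, polar (⇑Q) t e = 0 → polar (⇑Q) t f = 0 → polar (⇑Q) t y = 0 →
        polar (⇑Q) t s = 0 := by
  obtain ⟨h1, h2⟩ := helper16_proj hee hff hef y
  set p := polar (⇑Q) f y with hp
  set r := polar (⇑Q) e y with hr'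
  set y' := y - p • e - r • f with hy'
  have hpF : p ∈ F₀ := hr.polar hf hy
  have hrF : r ∈ F₀ := hr.polar he hy
  have hy'R : Rat F₀ y' := (hy.sub (Rat.smul hpF he)).sub (Rat.smul hrF hf)
  have hqF : Q y' ∈ F₀ := hr _ hy'R
  refine ⟨f + (y' + (-(Q y')) • e), p + Q y', r - 1, ?_, helper16_sing hee hff hef h1 h2,
    F₀.add_mem hpF hqF, F₀.sub_mem hrF F₀.one_mem, ?_, ?_⟩
  · exact hf.add (hy'R.add (Rat.smul (F₀.neg_mem hqF) he))
  · rw [hy']
    module
  · intro t hte htf hty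
    rw [polar_add_right, polar_add_right, polar_smul_right, hy', polar_sub_right, polar_sub_right,
      polar_smul_right, polar_smul_right, hte, htf, hty]
    simp

/-- a property of the values `B(c, ·)` spreads from the rational singular vectors of the perp of a
family to all rational vectors there -/
lemma helper16_spread (hr : RatQ Q F₀) (c : ι → F) (T : F → Prop)
    (hTadd : ∀ a b, T a → T b → T (a + b)) (hTmul : ∀ r ∈ F₀, ∀ a, T a → T (r * a))
    {m : ℕ} (ψ : Fin m → ι → F) {e f : ι → F} (he : Rat F₀ e) (hf : Rat F₀ f)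
    (hee : Q e = 0) (hff : Q f = 0) (hef : polar (⇑Q) e f = 1)
    (heψ : ∀ k, polar (⇑Q) (ψ k) e = 0) (hfψ : ∀ k, polar (⇑Q) (ψ k) f = 0)
    (hsing : ∀ s : ι → F, Rat F₀ s → Q s = 0 → (∀ k, polar (⇑Q) (ψ k) s = 0) →
      T (polar (⇑Q) c s))
    {y : ι → F} (hy : Rat F₀ y) (hyψ : ∀ k, polar (⇑Q) (ψ k) y = 0) : T (polar (⇑Q) c y) := by
  obtain ⟨s, a, b, hs, hQs, ha, hb, hyeq, hperp⟩ := helper16_split hr he hf hy hee hff hef
  have h1 : polar (⇑Q) c y = polar (⇑Q) c s + a * polar (⇑Q) c e + b * polar (⇑Q) c f := by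
    have := congrArg (polar (⇑Q) c) hyeq
    rw [polar_add_right, polar_add_right, polar_smul_right, polar_smul_right, smul_eq_mul,
      smul_eq_mul] at this
    exact this
  rw [h1]
  exact hTadd _ _ (hTadd _ _ (hsing s hs hQs (fun k => hperp _ (heψ k) (hfψ k) (hyψ k)))
    (hTmul a ha _ (hsing e he hee heψ))) (hTmul b hb _ (hsing f hf hff hfψ))

/-- a vector perpendicular to all rational vectors is zero -/
lemma helper16_zero_of_rat (hQ : (polarBilin Q).Nondegenerate) {d : ι → F}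
    (h : ∀ x : ι → F, Rat F₀ x → polar (⇑Q) d x = 0) : d = 0 := by
  have hlin : (polarBilin Q) d = 0 := by
    apply LinearMap.pi_ext
    intro i x
    have e1 : (Pi.single i x : ι → F) = x • Pi.single i (1 : F) := by
      rw [← Pi.single_smul, smul_eq_mul, mul_one]
    rw [e1, map_smul, polarBilin_apply_apply, h _ (Rat.single i), smul_zero, LinearMap.zero_apply]
  apply hQ.1
  intro y
  rw [hlin, LinearMap.zero_apply]

/-- (R) `φ = B(c,·)`. Pick rational singular `z0` with `φ z0 = α0 ≠ 0` (rational singular vectors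
span: `e, f, f + y - Q y • e`), partner `z0'`, `N₁ = ⟨z0,z0'⟩^⊥ ∩ V₀` is spanned over `F₀` by its
singular vectors, so `φ(N₁) ⊆ F₀ α0` by `hstar z0 w`; `φ z0' ∈ F₀ α0` by `hstar z0' w` for a
singular `w ∈ N₁` with `φ w ≠ 0` (if none, `c ∈ ⟨z0,z0'⟩` is a multiple of `z0` or `z0'`);
then `α0⁻¹ • c` is rational by (A2). -/
theorem rat_of_star [Finite F] (hQ : (polarBilin Q).Nondegenerate) (hr : RatQ Q F₀)
    (hn : 9 ≤ Fintype.card ι) {c : ι → F} (hc0 : c ≠ 0) (hc : Q c = 0)
    (hstar : ∀ z w : ι → F, Rat F₀ z → Rat F₀ w → Q z = 0 → Q w = 0 → polar (⇑Q) z w = 0 →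
      (∀ a : F, w ≠ a • z) → z ≠ 0 → polar (⇑Q) c z ≠ 0 → polar (⇑Q) c w ≠ 0 →
      polar (⇑Q) c z * (polar (⇑Q) c w)⁻¹ ∈ F₀) :
    ∃ (μ : F) (v : ι → F), Rat F₀ v ∧ c = μ • v := by
  -- a rational hyperbolic pair
  obtain ⟨e0, he0, he00, he0Q, -⟩ :=
    exists_rat_sing hQ hr 0 (fun k => k.elim0) (fun k => k.elim0) (by omega)
  obtain ⟨f0, hf0, hf0Q, he0f0⟩ := hyp_partner1_q hQ hr he0 he00 he0Q
  -- Step 1: a rational singular `z0` with `φ z0 ≠ 0`
  obtain ⟨z0, hz0, hz0Q, hα0⟩ : ∃ z0 : ι → F, Rat F₀ z0 ∧ Q z0 = 0 ∧ polar (⇑Q) c z0 ≠ 0 := by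
    by_contra hcon
    push Not at hcon
    have hall : ∀ y : ι → F, Rat F₀ y → polar (⇑Q) c y = 0 := fun y hy =>
      helper16_spread hr c (fun a => a = 0)
        (by intro a b ha hb; rw [ha, hb, add_zero]) (by intro r _ a ha; rw [ha, mul_zero])
        (m := 0) (fun k => k.elim0) he0 hf0 he0Q hf0Q he0f0 (fun k => k.elim0) (fun k => k.elim0)
        (fun s hs hsQ _ => hcon s hs hsQ) hy (fun k => k.elim0)
    exact hc0 (helper16_zero_of_rat hQ hall)
  set α0 := polar (⇑Q) c z0 with hα0def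
  have hz00 : z0 ≠ 0 := by
    rintro rfl
    apply hα0
    rw [hα0def, polar_zero_right]
  -- the target set `F₀ α0`
  set T : F → Prop := fun a => ∃ r ∈ F₀, a = r * α0 with hT
  have hT0 : T 0 := ⟨0, F₀.zero_mem, by rw [zero_mul]⟩
  have hTadd : ∀ a b, T a → T b → T (a + b) := by
    rintro a b ⟨r, hr1, rfl⟩ ⟨r', hr2, rfl⟩
    exact ⟨r + r', F₀.add_mem hr1 hr2, by ring⟩
  have hTmul : ∀ r ∈ F₀, ∀ a, T a → T (r * a) := by
    rintro r hr1 a ⟨r', hr2, rfl⟩
    exact ⟨r * r', F₀.mul_mem hr1 hr2, by ring⟩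
  -- Step 2: rational singular vectors perpendicular to `z0`
  have claim2 : ∀ w : ι → F, Rat F₀ w → Q w = 0 → polar (⇑Q) z0 w = 0 → T (polar (⇑Q) c w) := by
    intro w hw hwQ hz0w
    by_cases hφw : polar (⇑Q) c w = 0
    · rw [hφw]; exact hT0
    by_cases hmult : ∃ a : F, w = a • z0
    · obtain ⟨a, rfl⟩ := hmult
      obtain ⟨i, hi⟩ : ∃ i, z0 i ≠ 0 := by
        by_contra hcon
        push Not at hcon
        exact hz00 (funext hcon)
      have haF : a ∈ F₀ := by
        have h1 : a * z0 i ∈ F₀ := hw i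
        have h2 : a = a * z0 i * (z0 i)⁻¹ := by field_simp
        rw [h2]
        exact F₀.mul_mem h1 (F₀.inv_mem (hz0 i))
      exact ⟨a, haF, by rw [polar_smul_right, smul_eq_mul]⟩
    · push Not at hmult
      have h1 := hstar z0 w hz0 hw hz0Q hwQ hz0w hmult hz00 hα0 hφw
      refine ⟨(α0 * (polar (⇑Q) c w)⁻¹)⁻¹, F₀.inv_mem h1, ?_⟩
      field_simp
  -- Step 3: a partner of `z0` and the perp of the pair
  obtain ⟨z1, hz1, hz1Q, hz0z1⟩ := hyp_partner1_q hQ hr hz0 hz00 hz0Q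
  have hz1z0 : polar (⇑Q) z1 z0 = 1 := by rw [polar_comm]; exact hz0z1
  have h00 : polar (⇑Q) z0 z0 = 0 := by rw [polar_self', hz0Q, mul_zero]
  have h11 : polar (⇑Q) z1 z1 = 0 := by rw [polar_self', hz1Q, mul_zero]
  have hz10 : z1 ≠ 0 := by
    rintro rfl
    rw [polar_zero_right] at hz0z1
    exact zero_ne_one hz0z1
  set ψ : Fin 2 → ι → F := ![z0, z1] with hψdef
  have hψ : ∀ k, Rat F₀ (ψ k) := by
    intro k
    fin_cases k
    · exact hz0
    · exact hz1
  obtain ⟨e, he, he0', heQ, heψ⟩ := exists_rat_sing hQ hr 2 ψ hψ (by omega)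
  have hez0 : polar (⇑Q) e z0 = 0 := heψ 0
  have hez1 : polar (⇑Q) e z1 = 0 := heψ 1
  have hind : ∀ c' : Fin 2 → F, e ≠ ∑ k, c' k • ψ k := by
    intro c' hcon
    rw [Fin.sum_univ_two] at hcon
    have hψ0 : ψ 0 = z0 := rfl
    have hψ1 : ψ 1 = z1 := rfl
    rw [hψ0, hψ1] at hcon
    have h1 : c' 0 = 0 := by
      have := hez1
      rw [hcon, polar_add_left, polar_smul_left, polar_smul_left, hz0z1, h11] at this
      simpa using this
    have h2 : c' 1 = 0 := by
      have := hez0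
      rw [hcon, polar_add_left, polar_smul_left, polar_smul_left, hz1z0, h00] at this
      simpa using this
    apply he0'
    rw [hcon, h1, h2, zero_smul, zero_smul, add_zero]
  obtain ⟨f, hf, hfQ, hef, hfψ⟩ := hyp_partner_fam hQ hr 2 ψ hψ he heQ heψ hind
  have heψ' : ∀ k, polar (⇑Q) (ψ k) e = 0 := fun k => by rw [polar_comm]; exact heψ k
  have claim3 : ∀ y : ι → F, Rat F₀ y → (∀ k, polar (⇑Q) (ψ k) y = 0) → T (polar (⇑Q) c y) := by
    intro y hy hyψ
    exact helper16_spread hr c T hTadd hTmul ψ he hf heQ hfQ hef heψ' hfψ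
      (fun s hs hsQ hsψ => claim2 s hs hsQ (hsψ 0)) hy hyψ
  -- the decomposition of a rational vector along `z0, z1`
  have hdec : ∀ x : ι → F, Rat F₀ x →
      ∃ y : ι → F, Rat F₀ y ∧ (∀ k, polar (⇑Q) (ψ k) y = 0) ∧
        polar (⇑Q) c x = polar (⇑Q) c y + polar (⇑Q) z1 x * α0 +
          polar (⇑Q) z0 x * polar (⇑Q) c z1 := by
    intro x hx
    obtain ⟨h1, h2⟩ := helper16_proj hz0Q hz1Q hz0z1 x
    refine ⟨x - polar (⇑Q) z1 x • z0 - polar (⇑Q) z0 x • z1,
      (hx.sub (Rat.smul (hr.polar hz1 hx) hz0)).sub (Rat.smul (hr.polar hz0 hx) hz1), ?_, ?_⟩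
    · intro k
      fin_cases k
      · exact h1
      · exact h2
    · have e1 : x = (x - polar (⇑Q) z1 x • z0 - polar (⇑Q) z0 x • z1) + polar (⇑Q) z1 x • z0 +
          polar (⇑Q) z0 x • z1 := by module
      have := congrArg (polar (⇑Q) c) e1
      rw [polar_add_right, polar_add_right, polar_smul_right, polar_smul_right, smul_eq_mul,
        smul_eq_mul] at this
      exact this
  -- Step 4: the value at the partner
  have claim4 : T (polar (⇑Q) c z1) := by
    by_cases hβ : polar (⇑Q) c z1 = 0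
    · rw [hβ]; exact hT0
    obtain ⟨w, hw, hwQ, hwψ, hφw⟩ : ∃ w : ι → F, Rat F₀ w ∧ Q w = 0 ∧
        (∀ k, polar (⇑Q) (ψ k) w = 0) ∧ polar (⇑Q) c w ≠ 0 := by
      by_contra hcon
      push Not at hcon
      have hall : ∀ y : ι → F, Rat F₀ y → (∀ k, polar (⇑Q) (ψ k) y = 0) →
          polar (⇑Q) c y = 0 := fun y hy hyψ =>
        helper16_spread hr c (fun a => a = 0)
          (by intro a b ha hb; rw [ha, hb, add_zero]) (by intro r _ a ha; rw [ha, mul_zero])
          ψ he hf heQ hfQ hef heψ' hfψ (fun s hs hsQ hsψ => hcon s hs hsQ hsψ) hy hyψ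
      -- then `c = α0 • z1 + β • z0`
      have hd : c - α0 • z1 - polar (⇑Q) c z1 • z0 = 0 := by
        apply helper16_zero_of_rat (F₀ := F₀) hQ
        intro x hx
        obtain ⟨y, hy, hyψ, hxy⟩ := hdec x hx
        rw [polar_sub_left, polar_sub_left, polar_smul_left, polar_smul_left, hxy, hall y hy hyψ,
          smul_eq_mul, smul_eq_mul]
        ring
      have hceq : c = α0 • z1 + polar (⇑Q) c z1 • z0 := by
        have : c = (c - α0 • z1 - polar (⇑Q) c z1 • z0) + α0 • z1 + polar (⇑Q) c z1 • z0 := by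
          module
        rw [hd, zero_add] at this
        exact this
      have hQc : Q c = α0 * polar (⇑Q) c z1 := by
        conv_lhs => rw [hceq]
        rw [QuadraticMap.map_add Q, QuadraticMap.map_smul, QuadraticMap.map_smul, hz0Q, hz1Q,
          polar_smul_left, polar_smul_right, hz1z0]
        simp
      rw [hc] at hQc
      rcases mul_eq_zero.1 hQc.symm with h | h
      · exact hα0 h
      · exact hβ h
    have hwz0 : polar (⇑Q) z0 w = 0 := hwψ 0
    have hwz1 : polar (⇑Q) z1 w = 0 := hwψ 1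
    have hnm : ∀ a : F, w ≠ a • z1 := by
      intro a hcon
      have h1 := hwz0
      rw [hcon, polar_smul_right, hz0z1, smul_eq_mul, mul_one] at h1
      apply hφw
      rw [hcon, h1, zero_smul, polar_zero_right]
    have h1 := hstar z1 w hz1 hw hz1Q hwQ hwz1 hnm hz10 hβ hφw
    obtain ⟨r', hr', hw'⟩ := claim2 w hw hwQ hwz0
    refine ⟨polar (⇑Q) c z1 * (polar (⇑Q) c w)⁻¹ * r', F₀.mul_mem h1 hr', ?_⟩
    rw [mul_assoc, ← hw']
    field_simp
  -- Step 5: all rational vectors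
  have claim5 : ∀ x : ι → F, Rat F₀ x → T (polar (⇑Q) c x) := by
    intro x hx
    obtain ⟨y, hy, hyψ, hxy⟩ := hdec x hx
    rw [hxy]
    exact hTadd _ _ (hTadd _ _ (claim3 y hy hyψ) ⟨_, hr.polar hz1 hx, rfl⟩)
      (hTmul _ (hr.polar hz0 hx) _ claim4)
  -- conclusion
  refine ⟨α0, α0⁻¹ • c, ?_, ?_⟩
  · apply rat_of_polar hQ hr
    intro x hx
    obtain ⟨r, hrF, hrx⟩ := claim5 x hx
    rw [polar_smul_left, hrx, smul_eq_mul]
    have : α0⁻¹ * (r * α0) = r := by field_simp
    rw [this]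
    exact hrF
  · rw [smul_smul, mul_inv_cancel₀ hα0, one_smul]

end Cfsg.Agent.Helper93.SubfL.OSf
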