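import Cfsg.Agent.Lib.Helper93.OSfB
import Cfsg.Agent.Lib.Helper93.OSfM
import Cfsg.Agent.Lib.Helper93.OSfR

set_option autoImplicit false
set_option linter.unusedSectionVars false
set_option linter.unusedVariables false
set_option maxHeartbeats 800000

/-!
# Orthogonal subfield maximality: the case without irrational directions (helper93)
-/

namespace Cfsg.Agent.Helper93.SubfL.OSf

open Matrix QuadraticMap Cfsg.Geo Cfsg.Agent.Helper93
open Cfsg.Agent.S0794 Cfsg.Agent.Helper14.ReflGen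

variable {ι : Type} [Fintype ι] [DecidableEq ι] {F : Type*} [Field F]
variable {Q : QuadraticForm F (ι → F)} {F₀ : Subfield F} {M : Subgroup (GL ι F)}

/-- an element of `M` mapping a rational singular point into a rational totally singular line maps
it to a rational point -/
theorem adj_rat [Fintype F] (C : OCtx Q F₀ M) (hN : ONoBad Q F₀ M) {g : GL ι F} (hg : g ∈ M)
    {u0 : ι → F} (hu : Rat F₀ u0) (hu0 : u0 ≠ 0) (hqu : Q u0 = 0)
    {z w : ι → F} (hz : Rat F₀ z) (hw : Rat F₀ w) (hqz : Q z = 0) (hqw : Q w = 0)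
    (hzw : polar (⇑Q) z w = 0) (hind : ∀ a : F, w ≠ a • z) (hz0 : z ≠ 0) {a b : F} (ha : a ≠ 0)
    (hgu : (g : Matrix ι ι F) *ᵥ u0 = a • w + b • z) :
    ∃ (μ : F) (v : ι → F), Rat F₀ v ∧ (g : Matrix ι ι F) *ᵥ u0 = μ • v := by
  have hQ := C.nd
  have hr := C.rat
  obtain ⟨c, hc⟩ : ∃ c, c = (g : Matrix ι ι F) *ᵥ u0 := ⟨_, rfl⟩
  rw [← hc] at hgu ⊢
  have hqc : Q c = 0 := by rw [hc, C.isom hg]; exact hqu
  have hzz : polar (⇑Q) z z = 0 := by rw [polar_self', hqz, mul_zero]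
  have hww : polar (⇑Q) w w = 0 := by rw [polar_self', hqw, mul_zero]
  have hwz : polar (⇑Q) w z = 0 := by rw [polar_comm]; exact hzw
  have hcc : polar (⇑Q) c c = 0 := by rw [polar_self', hqc, mul_zero]
  have hcz : polar (⇑Q) c z = 0 := by
    rw [hgu, polar_add_left, polar_smul_left, polar_smul_left, hwz, hzz, smul_zero, smul_zero,
      add_zero]
  have hcw : polar (⇑Q) c w = 0 := by
    rw [hgu, polar_add_left, polar_smul_left, polar_smul_left, hww, hzw, smul_zero, smul_zero,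
      add_zero]
  have ha1 : a⁻¹ * a = 1 := inv_mul_cancel₀ ha
  have ha2 : a * a⁻¹ = 1 := mul_inv_cancel₀ ha
  have hcz' : polar (⇑Q) c ((-a⁻¹) • z) = 0 := by rw [polar_smul_right, hcz, smul_zero]
  have e1 : oE Q c ((-a⁻¹) • z) = oE Q z w := by
    apply gl_ext
    intro x
    have hcx : polar (⇑Q) c x = a * polar (⇑Q) w x + b * polar (⇑Q) z x := by
      rw [hgu, polar_add_left, polar_smul_left, polar_smul_left, smul_eq_mul, smul_eq_mul]
    rw [oE_apply Q hqc hcz', oE_apply Q hqz hzw, hqw, Q_smul', hqz, polar_smul_left, hcx, hgu]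
    simp only [smul_eq_mul, mul_zero, zero_mul, zero_smul, sub_zero]
    ext i
    simp only [Pi.add_apply, Pi.sub_apply, Pi.smul_apply, smul_eq_mul]
    linear_combination (polar (⇑Q) z x * w i - polar (⇑Q) w x * z i) * ha1
  have h1 : oE Q ((g : Matrix ι ι F) *ᵥ u0) ((-a⁻¹) • z) ∈ M := by
    rw [← hc, e1]; exact C.oE_mem hz hw hqz hzw
  have hcz'' : polar (⇑Q) ((g : Matrix ι ι F) *ᵥ u0) ((-a⁻¹) • z) = 0 := by
    rw [← hc]; exact hcz'
  obtain ⟨t, ht⟩ := C.noBad_conj hN hg hu hu0 hqu hcz'' h1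
  obtain ⟨z0, hz0def⟩ : ∃ z0, z0 = ((g⁻¹ : GL ι F) : Matrix ι ι F) *ᵥ ((-a⁻¹) • z) + t • u0 :=
    ⟨_, rfl⟩
  rw [← hz0def] at ht
  have hgz0 : (g : Matrix ι ι F) *ᵥ z0 = (-a⁻¹) • z + t • c := by
    rw [hz0def, Matrix.mulVec_add, gl_apply_inv_apply, Matrix.mulVec_smul, ← hc]
  have hzexp : z = (-a) • ((g : Matrix ι ι F) *ᵥ z0) + (a * t) • c := by
    rw [hgz0]
    ext i
    simp only [Pi.add_apply, Pi.smul_apply, smul_eq_mul]
    linear_combination (- z i) * ha2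
  have hwexp : w = a⁻¹ • c - (a⁻¹ * b) • z := by
    rw [hgu]
    ext i
    simp only [Pi.add_apply, Pi.sub_apply, Pi.smul_apply, smul_eq_mul]
    linear_combination (- w i) * ha1
  have hu0z0 : polar (⇑Q) u0 z0 = 0 := by
    rw [← C.polar_isom hg, ← hc, hgz0, polar_add_right, polar_smul_right, polar_smul_right, hcz,
      hcc, smul_zero, smul_zero, add_zero]
  obtain ⟨pw, hpw, hzpw, hwpw⟩ := exists_rat_dual2_q hQ hr hz hz0 hw hind F₀.zero_mem F₀.one_mem
  have hind0 : ∀ α : F, z0 ≠ α • u0 := by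
    intro α h
    have h2 : (g : Matrix ι ι F) *ᵥ z0 = α • c := by rw [h, Matrix.mulVec_smul, ← hc]
    have h3 : z = (a * (t - α)) • c := by
      rw [hzexp, h2]; module
    have h4 : polar (⇑Q) z pw = (a * (t - α)) * a := by
      conv_lhs => rw [h3, hgu]
      rw [polar_smul_left, polar_add_left, polar_smul_left, polar_smul_left, hzpw, hwpw,
        smul_eq_mul, smul_eq_mul, smul_eq_mul]
      ring
    rw [hzpw] at h4
    have h5 : a * (t - α) = 0 := by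
      rcases mul_eq_zero.1 h4.symm with h | h
      · exact h
      · exact absurd h ha
    apply hz0
    rw [h3, h5, zero_smul]
  obtain ⟨p1, hp1, hu0p1, hz0p1⟩ :=
    exists_rat_dual2_q hQ hr hu hu0 ht hind0 F₀.one_mem F₀.zero_mem
  obtain ⟨p2, hp2, hu0p2, hz0p2⟩ :=
    exists_rat_dual2_q hQ hr hu hu0 ht hind0 F₀.zero_mem F₀.one_mem
  obtain ⟨y0, hy0, hy00, hk⟩ := exists_rat_perp_q hr 4 ![u0, z0, p1, p2]
    (by intro k; fin_cases k; exacts [hu, ht, hp1, hp2]) (by have := C.dim; omega)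
  have hy0u0 : polar (⇑Q) y0 u0 = 0 := hk 0
  have hy0z0 : polar (⇑Q) y0 z0 = 0 := hk 1
  have hy0p1 : polar (⇑Q) y0 p1 = 0 := hk 2
  have hy0p2 : polar (⇑Q) y0 p2 = 0 := hk 3
  have hu0y0 : polar (⇑Q) u0 y0 = 0 := by rw [polar_comm]; exact hy0u0
  obtain ⟨y, hy⟩ : ∃ y, y = (g : Matrix ι ι F) *ᵥ y0 := ⟨_, rfl⟩
  have hxM : oE Q c y ∈ M := by
    rw [hc, hy]; exact C.conj_mem hg hqu hu0y0 (C.oE_mem hu hy0 hqu hu0y0)
  have hcy : polar (⇑Q) c y = 0 := by rw [hc, hy, C.polar_isom hg]; exact hu0y0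
  have hgz0y : polar (⇑Q) ((g : Matrix ι ι F) *ᵥ z0) y = 0 := by
    rw [hy, C.polar_isom hg, polar_comm]; exact hy0z0
  have hzy : polar (⇑Q) z y = 0 := by
    conv_lhs => rw [hzexp]
    rw [polar_add_left, polar_smul_left, polar_smul_left, hgz0y, hcy, smul_zero, smul_zero,
      add_zero]
  have hwy : polar (⇑Q) w y = 0 := by
    conv_lhs => rw [hwexp]
    rw [polar_sub_left, polar_smul_left, polar_smul_left, hcy, hzy, smul_zero, smul_zero,
      sub_zero]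
  have hxz : ((oE Q c y : GL ι F) : Matrix ι ι F) *ᵥ z = (1 : F) • z := by
    rw [oE_apply Q hqc hcy, hcz, polar_comm (⇑Q) y z, hzy]
    simp only [zero_smul, mul_zero, add_zero, sub_zero, one_smul]
  have hxH := stab_mem C hN hxM hz hz0 hqz hz hxz
  obtain ⟨lam, hlam, hl⟩ := mem_subfield_imp (Subgroup.mem_inf.1 hxH).1
  have hlamF : lam ∈ F₀ := by
    obtain ⟨η, hη, hη'⟩ := hl z ((ratVec_one_iff _).2 hz)
    rw [ratVec_one_iff] at hη
    rw [hxz, one_smul] at hη'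
    obtain ⟨i, hi⟩ := Function.ne_iff.mp hz0
    have hi' : z i ≠ 0 := hi
    have h1 := congrFun hη' i
    rw [Pi.smul_apply, smul_eq_mul] at h1
    have hηi : η i ≠ 0 := by
      intro h; rw [h, mul_zero] at h1; exact hi' h1
    have : lam = z i * (η i)⁻¹ := by rw [h1, mul_assoc, mul_inv_cancel₀ hηi, mul_one]
    rw [this]; exact F₀.mul_mem (hz i) (F₀.inv_mem (hη i))
  have hxrat : ∀ ξ, Rat F₀ ξ → Rat F₀ (((oE Q c y : GL ι F) : Matrix ι ι F) *ᵥ ξ) := by
    intro ξ hξ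
    obtain ⟨η, hη, hη'⟩ := hl ξ ((ratVec_one_iff _).2 hξ)
    rw [ratVec_one_iff] at hη
    rw [hη']; exact Rat.smul hlamF hη
  have hysep : ∀ a' b' : F, y ≠ a' • z + b' • w := by
    intro a' b' h
    have hP1 : polar (⇑Q) y ((g : Matrix ι ι F) *ᵥ p1) = 0 := by
      rw [hy, C.polar_isom hg]; exact hy0p1
    have hP2 : polar (⇑Q) y ((g : Matrix ι ι F) *ᵥ p2) = 0 := by
      rw [hy, C.polar_isom hg]; exact hy0p2
    have hcP1 : polar (⇑Q) c ((g : Matrix ι ι F) *ᵥ p1) = 1 := by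
      rw [hc, C.polar_isom hg]; exact hu0p1
    have hcP2 : polar (⇑Q) c ((g : Matrix ι ι F) *ᵥ p2) = 0 := by
      rw [hc, C.polar_isom hg]; exact hu0p2
    have hzP1 : polar (⇑Q) ((g : Matrix ι ι F) *ᵥ z0) ((g : Matrix ι ι F) *ᵥ p1) = 0 := by
      rw [C.polar_isom hg]; exact hz0p1
    have hzP2 : polar (⇑Q) ((g : Matrix ι ι F) *ᵥ z0) ((g : Matrix ι ι F) *ᵥ p2) = 1 := by
      rw [C.polar_isom hg]; exact hz0p2
    have hzQ1 : polar (⇑Q) z ((g : Matrix ι ι F) *ᵥ p1) = a * t := by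
      conv_lhs => rw [hzexp]
      rw [polar_add_left, polar_smul_left, polar_smul_left, hzP1, hcP1, smul_eq_mul, smul_eq_mul]
      ring
    have hzQ2 : polar (⇑Q) z ((g : Matrix ι ι F) *ᵥ p2) = -a := by
      conv_lhs => rw [hzexp]
      rw [polar_add_left, polar_smul_left, polar_smul_left, hzP2, hcP2, smul_eq_mul, smul_eq_mul]
      ring
    have hwQ1 : polar (⇑Q) w ((g : Matrix ι ι F) *ᵥ p1) = a⁻¹ - (a⁻¹ * b) * (a * t) := by
      conv_lhs => rw [hwexp]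
      rw [polar_sub_left, polar_smul_left, polar_smul_left, hcP1, hzQ1, smul_eq_mul, smul_eq_mul]
      ring
    have hwQ2 : polar (⇑Q) w ((g : Matrix ι ι F) *ᵥ p2) = -(a⁻¹ * b) * (-a) := by
      conv_lhs => rw [hwexp]
      rw [polar_sub_left, polar_smul_left, polar_smul_left, hcP2, hzQ2, smul_eq_mul, smul_eq_mul]
      ring
    rw [h, polar_add_left, polar_smul_left, polar_smul_left, hzQ1, hwQ1, smul_eq_mul,
      smul_eq_mul] at hP1
    rw [h, polar_add_left, polar_smul_left, polar_smul_left, hzQ2, hwQ2, smul_eq_mul,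
      smul_eq_mul] at hP2
    have hb' : b' * a⁻¹ = 0 := by linear_combination hP1 + t * hP2
    have hb'0 : b' = 0 := (mul_eq_zero.1 hb').resolve_right (inv_ne_zero ha)
    rw [hb'0] at hP2
    have ha'0 : a' = 0 := by
      have h9 : a' * (-a) = 0 := by linear_combination hP2
      exact (mul_eq_zero.1 h9).resolve_right (neg_ne_zero.2 ha)
    rw [ha'0, hb'0, zero_smul, zero_smul, add_zero] at h
    apply hy00
    have h10 := gl_inv_apply_apply g y0
    rw [← hy, h, Matrix.mulVec_zero] at h10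
    exact h10.symm
  obtain ⟨ξ, hξ, hξz, hξw, hξy⟩ := rat_sep2_q hQ hr hz hw hysep
  have hcξ : polar (⇑Q) c ξ = 0 := by
    rw [hgu, polar_add_left, polar_smul_left, polar_smul_left, polar_comm (⇑Q) w ξ,
      polar_comm (⇑Q) z ξ, hξw, hξz, smul_zero, smul_zero, add_zero]
  have hxξ := hxrat ξ hξ
  rw [oE_apply Q hqc hcy, hcξ] at hxξ
  simp only [zero_smul, mul_zero, add_zero, sub_zero] at hxξ
  have hne : polar (⇑Q) y ξ ≠ 0 := by rw [polar_comm]; exact hξy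
  refine ⟨(polar (⇑Q) y ξ)⁻¹, ξ - (ξ - polar (⇑Q) y ξ • c), hξ.sub hxξ, ?_⟩
  rw [sub_sub_cancel, smul_smul, inv_mul_cancel₀ hne, one_smul]

/-- the image of a rational singular point under an element of `M` has rational ratios of
pairings against rational totally singular pairs -/
theorem star_ratio [Fintype F] (C : OCtx Q F₀ M) (hN : ONoBad Q F₀ M) {g : GL ι F} (hg : g ∈ M)
    {u0 : ι → F} (hu : Rat F₀ u0) (hu0 : u0 ≠ 0) (hqu : Q u0 = 0)
    {z w : ι → F} (hz : Rat F₀ z) (hw : Rat F₀ w) (hqz : Q z = 0) (hqw : Q w = 0)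
    (hzw : polar (⇑Q) z w = 0) (hind : ∀ a : F, w ≠ a • z) (hz0 : z ≠ 0)
    (hα : polar (⇑Q) ((g : Matrix ι ι F) *ᵥ u0) z ≠ 0)
    (hβ : polar (⇑Q) ((g : Matrix ι ι F) *ᵥ u0) w ≠ 0) :
    polar (⇑Q) ((g : Matrix ι ι F) *ᵥ u0) z * (polar (⇑Q) ((g : Matrix ι ι F) *ᵥ u0) w)⁻¹
      ∈ F₀ := by
  have hQ := C.nd
  have hr := C.rat
  obtain ⟨c, hc⟩ : ∃ c, c = (g : Matrix ι ι F) *ᵥ u0 := ⟨_, rfl⟩
  rw [← hc] at hα hβ ⊢
  obtain ⟨α, hαdef⟩ : ∃ α, α = polar (⇑Q) c z := ⟨_, rfl⟩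
  obtain ⟨β, hβdef⟩ : ∃ β, β = polar (⇑Q) c w := ⟨_, rfl⟩
  rw [← hαdef] at hα ⊢
  rw [← hβdef] at hβ ⊢
  have hqc : Q c = 0 := by rw [hc, C.isom hg]; exact hqu
  have hcc : polar (⇑Q) c c = 0 := by rw [polar_self', hqc, mul_zero]
  have hzz : polar (⇑Q) z z = 0 := by rw [polar_self', hqz, mul_zero]
  have hww : polar (⇑Q) w w = 0 := by rw [polar_self', hqw, mul_zero]
  have hwz : polar (⇑Q) w z = 0 := by rw [polar_comm]; exact hzw
  obtain ⟨d, hd⟩ : ∃ d, d = α • w - β • z := ⟨_, rfl⟩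
  have hcd : polar (⇑Q) c d = 0 := by
    rw [hd, polar_sub_right, polar_smul_right, polar_smul_right, ← hαdef, ← hβdef, smul_eq_mul,
      smul_eq_mul]
    ring
  have hzd : polar (⇑Q) z d = 0 := by
    rw [hd, polar_sub_right, polar_smul_right, polar_smul_right, hzw, hzz, smul_zero, smul_zero,
      sub_zero]
  have hwd : polar (⇑Q) w d = 0 := by
    rw [hd, polar_sub_right, polar_smul_right, polar_smul_right, hww, hwz, smul_zero, smul_zero,
      sub_zero]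
  have hx1M : oE Q z w ∈ M := C.oE_mem hz hw hqz hzw
  have hx1c : ((oE Q z w : GL ι F) : Matrix ι ι F) *ᵥ c = c + d := by
    rw [oE_apply Q hqz hzw, hqw, polar_comm (⇑Q) z c, polar_comm (⇑Q) w c, ← hαdef, ← hβdef, hd]
    simp only [zero_mul, zero_smul, sub_zero]
    abel
  have hx1d : ((oE Q z w : GL ι F) : Matrix ι ι F) *ᵥ d = d := by
    rw [oE_apply Q hqz hzw, hzd, hwd]
    simp only [zero_smul, mul_zero, add_zero, sub_zero]
  obtain ⟨dt, hdt⟩ : ∃ dt, dt = ((g⁻¹ : GL ι F) : Matrix ι ι F) *ᵥ d := ⟨_, rfl⟩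
  have hgdt : (g : Matrix ι ι F) *ᵥ dt = d := by rw [hdt, gl_apply_inv_apply]
  have hdind : ∀ α' : F, dt ≠ α' • u0 := by
    intro α' h
    have h2 : d = α' • c := by rw [← hgdt, h, Matrix.mulVec_smul, ← hc]
    have h3 : polar (⇑Q) d z = 0 := by rw [polar_comm]; exact hzd
    rw [h2, polar_smul_left, ← hαdef, smul_eq_mul] at h3
    have h4 : α' = 0 := (mul_eq_zero.1 h3).resolve_right hα
    rw [h4, zero_smul] at h2
    apply hind (α⁻¹ * β)
    have h5 : α • w = β • z := by rw [← sub_eq_zero, ← hd, h2]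
    rw [← smul_smul, ← h5, smul_smul, inv_mul_cancel₀ hα, one_smul]
  obtain ⟨y0, hy0, hy0u0, hy0dt⟩ := rat_sep1_q hQ hr hu hu0 hdind
  have hu0y0 : polar (⇑Q) u0 y0 = 0 := by rw [polar_comm]; exact hy0u0
  obtain ⟨y, hy⟩ : ∃ y, y = (g : Matrix ι ι F) *ᵥ y0 := ⟨_, rfl⟩
  have hx2M : oE Q c y ∈ M := by
    rw [hc, hy]; exact C.conj_mem hg hqu hu0y0 (C.oE_mem hu hy0 hqu hu0y0)
  have hcy : polar (⇑Q) c y = 0 := by rw [hc, hy, C.polar_isom hg]; exact hu0y0
  have hyd : polar (⇑Q) y d ≠ 0 := by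
    rw [hy, ← hgdt, C.polar_isom hg]; exact hy0dt
  have hx2c : ((oE Q c y : GL ι F) : Matrix ι ι F) *ᵥ c = c := by
    rw [oE_apply Q hqc hcy, hcc, polar_comm (⇑Q) y c, hcy]
    simp only [zero_smul, mul_zero, add_zero, sub_zero]
  have hx2d : ((oE Q c y : GL ι F) : Matrix ι ι F) *ᵥ d = d + (-(polar (⇑Q) y d)) • c := by
    rw [oE_apply Q hqc hcy, hcd]
    simp only [zero_smul, mul_zero, add_zero, sub_zero]
    rw [neg_smul, sub_eq_add_neg]
  obtain ⟨δ, hδ, μ, hμ, hδc⟩ :=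
    exists_move hx1M hx2M (neg_ne_zero.2 hyd) hx1d hx1c hx2c hx2d
  have hg'u : ((δ * g : GL ι F) : Matrix ι ι F) *ᵥ u0 = (μ * α) • w + (-(μ * β)) • z := by
    rw [gl_mul_apply, ← hc, hδc, hd, smul_sub, smul_smul, smul_smul, neg_smul, sub_eq_add_neg]
  obtain ⟨μ', v, hv, hμv⟩ := adj_rat C hN (M.mul_mem hδ hg) hu hu0 hqu hz hw hqz hqw hzw hind
    hz0 (mul_ne_zero hμ hα) hg'u
  rw [hg'u] at hμv
  obtain ⟨pw, hpw, hzpw, hwpw⟩ := exists_rat_dual2_q hQ hr hz hz0 hw hind F₀.zero_mem F₀.one_mem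
  obtain ⟨pz, hpz, hzpz, hwpz⟩ := exists_rat_dual2_q hQ hr hz hz0 hw hind F₀.one_mem F₀.zero_mem
  have e1 : μ * α = μ' * polar (⇑Q) v pw := by
    have h := congrArg (fun x => polar (⇑Q) x pw) hμv
    simp only [polar_add_left, polar_smul_left, hzpw, hwpw, smul_eq_mul, mul_one, mul_zero,
      add_zero] at h
    exact h
  have e2 : -(μ * β) = μ' * polar (⇑Q) v pz := by
    have h := congrArg (fun x => polar (⇑Q) x pz) hμv
    simp only [polar_add_left, polar_smul_left, hzpz, hwpz, smul_eq_mul, mul_one, mul_zero,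
      zero_add] at h
    exact h
  have hne : μ' * polar (⇑Q) v pz ≠ 0 := by
    rw [← e2]; exact neg_ne_zero.2 (mul_ne_zero hμ hβ)
  have hμ'0 : μ' ≠ 0 := left_ne_zero_of_mul hne
  have hvpz : polar (⇑Q) v pz ≠ 0 := right_ne_zero_of_mul hne
  have h6 : μ * μ' * (α * polar (⇑Q) v pz + polar (⇑Q) v pw * β) = 0 := by
    linear_combination (μ' * polar (⇑Q) v pz) * e1 - (μ' * polar (⇑Q) v pw) * e2
  have h7 : α * polar (⇑Q) v pz + polar (⇑Q) v pw * β = 0 :=
    (mul_eq_zero.1 h6).resolve_left (mul_ne_zero hμ hμ'0)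
  have e3 : α * β⁻¹ = -(polar (⇑Q) v pw) * (polar (⇑Q) v pz)⁻¹ := by
    field_simp
    linear_combination h7
  rw [e3]
  exact F₀.mul_mem (F₀.neg_mem (hr.polar hv hpw)) (F₀.inv_mem (hr.polar hv hpz))

/-- an overgroup all of whose Eichler transformations at rational centres have rational
directions is contained in the subfield group -/
theorem le_of_noBad [Fintype F] (C : OCtx Q F₀ M) (hN : ONoBad Q F₀ M) : M ≤ HSO Q F₀ := by
  intro g hg
  have hdim := C.dim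
  obtain ⟨u0, hu, hu0, hqu, -⟩ := exists_rat_sing C.nd C.rat 0 (fun k => k.elim0)
    (fun k => k.elim0) (by omega)
  have hc0 : (g : Matrix ι ι F) *ᵥ u0 ≠ 0 := by
    intro h
    apply hu0
    have h1 := gl_inv_apply_apply g u0
    rw [h, Matrix.mulVec_zero] at h1
    exact h1.symm
  have hqc : Q ((g : Matrix ι ι F) *ᵥ u0) = 0 := by rw [C.isom hg]; exact hqu
  obtain ⟨μ, v, hv, hgu⟩ := rat_of_star C.nd C.rat (by omega) hc0 hqc
    (fun z w hz hw hqz hqw hzw hind hz0 hα hβ =>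
      star_ratio C hN hg hu hu0 hqu hz hw hqz hqw hzw hind hz0 hα hβ)
  exact stab_mem C hN hg hu hu0 hqu hv hgu

end Cfsg.Agent.Helper93.SubfL.OSf
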