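import Cfsg.Agent.Lib.Helper93.OSfA3

set_option autoImplicit false
set_option linter.unusedSectionVars false
set_option linter.unusedVariables false

namespace Cfsg.Agent.Helper93.SubfL.OSf

open Matrix QuadraticMap Cfsg.Geo Cfsg.Agent.Helper93
open Cfsg.Agent.S0794 Cfsg.Agent.Helper14.ReflGen

variable {ι : Type} [Fintype ι] [DecidableEq ι] {F : Type*} [Field F]
variable {Q : QuadraticForm F (ι → F)} {F₀ : Subfield F} {M : Subgroup (GL ι F)}

/-- a rational hyperbolic pair orthogonal to a rational hyperbolic pair `u, u'` and to a rational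
non-singular `x ⊥ u` -/
theorem helper87_hyp_pair [Finite F] (hQ : (polarBilin Q).Nondegenerate) (hr : RatQ Q F₀)
    (hn : 5 < Fintype.card ι) {u u' x : ι → F} (hu : Rat F₀ u) (hu' : Rat F₀ u') (hx : Rat F₀ x)
    (hqu : Q u = 0) (huu' : polar (⇑Q) u u' = 1) (hux : polar (⇑Q) u x = 0) (hqx : Q x ≠ 0) :
    ∃ e e' : ι → F, Rat F₀ e ∧ Rat F₀ e' ∧ Q e = 0 ∧ Q e' = 0 ∧ polar (⇑Q) e e' = 1 ∧
      polar (⇑Q) u e = 0 ∧ polar (⇑Q) u e' = 0 ∧ polar (⇑Q) x e = 0 ∧ polar (⇑Q) x e' = 0 := by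
  have hψ : ∀ k : Fin 3, Rat F₀ ((![u, u', x] : Fin 3 → ι → F) k) := by
    intro k; fin_cases k
    · exact hu
    · exact hu'
    · exact hx
  obtain ⟨e, he, he0, hqe, hperp⟩ := exists_rat_sing hQ hr 3 ![u, u', x] hψ (by omega)
  have heu : polar (⇑Q) e u = 0 := hperp 0
  have heu' : polar (⇑Q) e u' = 0 := hperp 1
  have hex : polar (⇑Q) e x = 0 := hperp 2
  have hind : ∀ c : Fin 3 → F, e ≠ ∑ k, c k • (![u, u', x] : Fin 3 → ι → F) k := by
    intro c hc
    rw [Fin.sum_univ_three] at hc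
    have hc' : e = c 0 • u + c 1 • u' + c 2 • x := hc
    have h1 : c 1 = 0 := by
      have h := heu
      rw [hc', polar_add_left, polar_add_left, polar_smul_left, polar_smul_left, polar_smul_left,
        polar_self', hqu, polar_comm (⇑Q) u' u, huu', polar_comm (⇑Q) x u, hux] at h
      simpa using h
    rw [h1, zero_smul, add_zero] at hc'
    have h2 : c 2 = 0 := by
      have h := hqe
      rw [hc', Q_add', Q_smul', Q_smul', hqu, polar_smul_left, polar_smul_right, hux] at h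
      simp only [smul_eq_mul, mul_zero, zero_add, add_zero] at h
      rcases mul_eq_zero.1 h with h | h
      · exact (mul_self_eq_zero.1 h)
      · exact absurd h hqx
    rw [h2, zero_smul, add_zero] at hc'
    have h0 : c 0 = 0 := by
      have h := heu'
      rw [hc', polar_smul_left, huu'] at h
      simpa using h
    rw [h0, zero_smul] at hc'
    exact he0 hc'
  obtain ⟨e', he', hqe', hee', hperp'⟩ := hyp_partner_fam hQ hr 3 ![u, u', x] hψ he hqe hperp hind
  exact ⟨e, e', he, he', hqe, hqe', hee', by rw [polar_comm]; exact heu, hperp' 0,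
    by rw [polar_comm]; exact hex, hperp' 2⟩

/-- if `w` has rational pairings with all rational singular vectors orthogonal to the rational
singular `u`, then it has rational pairings with all rational vectors orthogonal to `u` -/
theorem helper87_pair_rat [Finite F] (hQ : (polarBilin Q).Nondegenerate) (hr : RatQ Q F₀)
    (hn : 5 < Fintype.card ι) {u u' w : ι → F} (hu : Rat F₀ u) (hu' : Rat F₀ u')
    (hqu : Q u = 0) (huu' : polar (⇑Q) u u' = 1)
    (H : ∀ a : ι → F, Rat F₀ a → Q a = 0 → polar (⇑Q) u a = 0 → polar (⇑Q) w a ∈ F₀)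
    {x : ι → F} (hx : Rat F₀ x) (hux : polar (⇑Q) u x = 0) : polar (⇑Q) w x ∈ F₀ := by
  by_cases hqx : Q x = 0
  · exact H x hx hqx hux
  obtain ⟨e, e', he, he', hqe, hqe', hee', hue, hue', hxe, hxe'⟩ :=
    helper87_hyp_pair hQ hr hn hu hu' hx hqu huu' hux hqx
  have hqxF : Q x ∈ F₀ := hr x hx
  have h1 : polar (⇑Q) w (x + e - Q x • e') ∈ F₀ := by
    apply H _ ((hx.add he).sub (Rat.smul hqxF he'))
    · rw [Q_sub, Q_add', Q_smul', hqe, hqe', polar_smul_right, polar_add_left, hxe, hxe', hee']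
      simp only [smul_eq_mul]
      ring
    · rw [polar_sub_right, polar_add_right, polar_smul_right, hux, hue, hue']
      simp
  have h2 : polar (⇑Q) w e ∈ F₀ := H e he hqe hue
  have h3 : polar (⇑Q) w e' ∈ F₀ := H e' he' hqe' hue'
  have h4 : polar (⇑Q) w x = polar (⇑Q) w (x + e - Q x • e') - polar (⇑Q) w e
      + Q x * polar (⇑Q) w e' := by
    rw [polar_sub_right, polar_add_right, polar_smul_right, smul_eq_mul]
    ring
  rw [h4]
  exact F₀.add_mem (F₀.sub_mem h1 h2) (F₀.mul_mem hqxF h3)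

/-- a bad direction pairs irrationally with some rational singular vector orthogonal to the
centre -/
theorem helper87_exists_irr [Finite F] (hQ : (polarBilin Q).Nondegenerate) (hr : RatQ Q F₀)
    (hn : 5 < Fintype.card ι) {u w : ι → F} (hu : Rat F₀ u) (hu0 : u ≠ 0)
    (hqu : Q u = 0) (hw : ∀ t : F, ¬ Rat F₀ (w + t • u)) :
    ∃ a : ι → F, Rat F₀ a ∧ Q a = 0 ∧ polar (⇑Q) u a = 0 ∧ polar (⇑Q) w a ∉ F₀ := by
  by_contra hcon
  push Not at hcon
  obtain ⟨u', hu', hqu', huu'⟩ := hyp_partner1_q hQ hr hu hu0 hqu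
  apply hw (-(polar (⇑Q) w u'))
  apply rat_of_polar hQ hr
  intro x hx
  have hα : polar (⇑Q) u x ∈ F₀ := hr.polar hu hx
  have hx0 : Rat F₀ (x - polar (⇑Q) u x • u') := hx.sub (Rat.smul hα hu')
  have hux0 : polar (⇑Q) u (x - polar (⇑Q) u x • u') = 0 := by
    rw [polar_sub_right, polar_smul_right, huu']
    simp
  have h1 := helper87_pair_rat hQ hr hn hu hu' hqu huu' hcon hx0 hux0
  have h2 : polar (⇑Q) (w + -(polar (⇑Q) w u') • u) x
      = polar (⇑Q) w (x - polar (⇑Q) u x • u') := by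
    rw [polar_add_left, polar_smul_left, polar_sub_right, polar_smul_right]
    simp only [smul_eq_mul]
    ring
  rw [h2]
  exact h1

/-- (I1) extraction of a pure irrational long root element. `w1 ∉ V₀ + F u1`: rational singular
`a ⊥ u1` with `λ = B(w1,a) ∉ F₀` (A2 + spanning); rational t.s. `c ⊥ a,u1`; conjugating by
`oE a c ∈ M` (fixes `u1`): `λ c - μ a ∈ 𝒲`; rational singular `c' ⊥ a,u1`, `B(c,c')=1`,
`c'' ⊥ c',a,c,u1` singular: conjugating by `oE c' c''` gives `λ c'' ∈ 𝒲`. -/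
theorem bad_pure [Fintype F] (C : OCtx Q F₀ M) (hbad : ¬ ONoBad Q F₀ M) :
    ∃ (u b : ι → F) (lam : F), Rat F₀ u ∧ Rat F₀ b ∧ u ≠ 0 ∧ Q u = 0 ∧ Q b = 0 ∧
      polar (⇑Q) u b = 0 ∧ (∀ a : F, b ≠ a • u) ∧ lam ∉ F₀ ∧ oE Q u (lam • b) ∈ M := by
  have hQ := C.nd
  have hr := C.rat
  have hn : 13 ≤ Fintype.card ι := C.dim
  unfold ONoBad at hbad
  push Not at hbad
  obtain ⟨u, w, hu, hu0, hqu, huw, hM, hw⟩ := hbad
  obtain ⟨a, ha, hqa, hua, hlam⟩ := helper87_exists_irr hQ hr (by omega) hu hu0 hqu hw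
  obtain ⟨u', hu', hqu', huu'⟩ := hyp_partner1_q hQ hr hu hu0 hqu
  -- `a` is not a multiple of `u`
  have hau : ∀ c : Fin 1 → F, a ≠ ∑ k, c k • (![u] : Fin 1 → ι → F) k := by
    intro c hc
    rw [Fin.sum_univ_one] at hc
    have hc' : a = c 0 • u := hc
    apply hlam
    rw [hc', polar_smul_right, polar_comm (⇑Q) w u, huw, smul_zero]
    exact F₀.zero_mem
  have hψ1 : ∀ k : Fin 1, Rat F₀ ((![u] : Fin 1 → ι → F) k) := by
    intro k; fin_cases k
    exact hu
  have hperp1 : ∀ k : Fin 1, polar (⇑Q) a ((![u] : Fin 1 → ι → F) k) = 0 := by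
    intro k; fin_cases k
    show polar (⇑Q) a u = 0
    rw [polar_comm]; exact hua
  obtain ⟨a', ha', hqa', haa', hperpa'⟩ := hyp_partner_fam hQ hr 1 ![u] hψ1 ha hqa hperp1 hau
  have hua' : polar (⇑Q) u a' = 0 := hperpa' 0
  -- the vector `c`
  have hψ4 : ∀ k : Fin 4, Rat F₀ ((![u, u', a, a'] : Fin 4 → ι → F) k) := by
    intro k; fin_cases k
    exacts [hu, hu', ha, ha']
  obtain ⟨c, hc, hc0, hqc, hcperp⟩ := exists_rat_sing hQ hr 4 ![u, u', a, a'] hψ4 (by omega)
  have hcu : polar (⇑Q) c u = 0 := hcperp 0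
  have hcu' : polar (⇑Q) c u' = 0 := hcperp 1
  have hca : polar (⇑Q) c a = 0 := hcperp 2
  have hca' : polar (⇑Q) c a' = 0 := hcperp 3
  have hcind : ∀ d : Fin 2 → F, c ≠ ∑ k, d k • (![u, a] : Fin 2 → ι → F) k := by
    intro d hd
    rw [Fin.sum_univ_two] at hd
    have hd' : c = d 0 • u + d 1 • a := hd
    have h1 : d 1 = 0 := by
      have h := hca'
      rw [hd', polar_add_left, polar_smul_left, polar_smul_left, hua', haa'] at h
      simpa using h
    rw [h1, zero_smul, add_zero] at hd'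
    have h0 : d 0 = 0 := by
      have h := hcu'
      rw [hd', polar_smul_left, huu'] at h
      simpa using h
    rw [h0, zero_smul] at hd'
    exact hc0 hd'
  have hψ2 : ∀ k : Fin 2, Rat F₀ ((![u, a] : Fin 2 → ι → F) k) := by
    intro k; fin_cases k
    exacts [hu, ha]
  have hperp2 : ∀ k : Fin 2, polar (⇑Q) c ((![u, a] : Fin 2 → ι → F) k) = 0 := by
    intro k; fin_cases k
    exacts [hcu, hca]
  obtain ⟨c', hc', hqc', hcc', hc'perp⟩ := hyp_partner_fam hQ hr 2 ![u, a] hψ2 hc hqc hperp2 hcind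
  have huc' : polar (⇑Q) u c' = 0 := hc'perp 0
  have hac' : polar (⇑Q) a c' = 0 := hc'perp 1
  -- the vector `b = c''`
  have hψ5 : ∀ k : Fin 5, Rat F₀ ((![c', c, a, u, u'] : Fin 5 → ι → F) k) := by
    intro k; fin_cases k
    exacts [hc', hc, ha, hu, hu']
  obtain ⟨b, hb, hb0, hqb, hbperp⟩ := exists_rat_sing hQ hr 5 ![c', c, a, u, u'] hψ5 (by omega)
  have hbc' : polar (⇑Q) b c' = 0 := hbperp 0
  have hbc : polar (⇑Q) b c = 0 := hbperp 1
  have hba : polar (⇑Q) b a = 0 := hbperp 2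
  have hbu : polar (⇑Q) b u = 0 := hbperp 3
  have hbu' : polar (⇑Q) b u' = 0 := hbperp 4
  have hub : polar (⇑Q) u b = 0 := by rw [polar_comm]; exact hbu
  refine ⟨u, b, polar (⇑Q) w a, hu, hb, hu0, hqu, hqb, hub, ?_, hlam, ?_⟩
  · intro t ht
    have h := hbu'
    rw [ht, polar_smul_left, huu'] at h
    have ht0 : t = 0 := by simpa using h
    rw [ht0, zero_smul] at ht
    exact hb0 ht
  · -- first conjugation, by `oE a c`
    have hac : polar (⇑Q) a c = 0 := by rw [polar_comm]; exact hca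
    have hg : oE Q a c ∈ M := C.oE_mem ha hc hqa hac
    have h1 := C.conj_mem hg hqu huw hM
    have hgu : ((oE Q a c : GL ι F) : Matrix ι ι F) *ᵥ u = u := by
      rw [oE_apply Q hqa hac, polar_comm (⇑Q) a u, hua, hcu]
      simp
    have hgw : ((oE Q a c : GL ι F) : Matrix ι ι F) *ᵥ w
        = w + (polar (⇑Q) w a • c - polar (⇑Q) c w • a) := by
      rw [oE_apply Q hqa hac, hqc, polar_comm (⇑Q) a w]
      simp only [zero_mul, zero_smul, sub_zero]
      abel
    rw [hgu, hgw] at h1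
    have huy : polar (⇑Q) u (polar (⇑Q) w a • c - polar (⇑Q) c w • a) = 0 := by
      rw [polar_sub_right, polar_smul_right, polar_smul_right, polar_comm (⇑Q) u c, hcu, hua]
      simp
    have h2 : oE Q u (polar (⇑Q) w a • c - polar (⇑Q) c w • a) ∈ M := by
      have h := M.mul_mem (M.inv_mem hM) h1
      rw [oE_inv Q hqu huw, oE_mul Q hqu (by rw [polar_neg_right, huw, neg_zero])
        (by rw [polar_add_right, huw, huy, add_zero]), neg_add_cancel_left] at h
      exact h
    -- second conjugation, by `oE c' b`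
    have hc'b : polar (⇑Q) c' b = 0 := by rw [polar_comm]; exact hbc'
    have hh : oE Q c' b ∈ M := C.oE_mem hc' hb hqc' hc'b
    have h3 := C.conj_mem hh hqu huy h2
    have hhu : ((oE Q c' b : GL ι F) : Matrix ι ι F) *ᵥ u = u := by
      rw [oE_apply Q hqc' hc'b, polar_comm (⇑Q) c' u, huc', hbu]
      simp
    have hhy : ((oE Q c' b : GL ι F) : Matrix ι ι F) *ᵥ
        (polar (⇑Q) w a • c - polar (⇑Q) c w • a)
        = (polar (⇑Q) w a • c - polar (⇑Q) c w • a) + polar (⇑Q) w a • b := by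
      rw [oE_apply Q hqc' hc'b, hqb, polar_sub_right, polar_sub_right, polar_smul_right,
        polar_smul_right, polar_smul_right, polar_smul_right, hbc, hba,
        polar_comm (⇑Q) c' c, hcc', polar_comm (⇑Q) c' a, hac']
      simp
    rw [hhu, hhy] at h3
    have hulb : polar (⇑Q) u (polar (⇑Q) w a • b) = 0 := by
      rw [polar_smul_right, hub, smul_zero]
    have h4 := M.mul_mem (M.inv_mem h2) h3
    rw [oE_inv Q hqu huy, oE_mul Q hqu (by rw [polar_neg_right, huy, neg_zero])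
      (by rw [polar_add_right, huy, hulb, add_zero]), neg_add_cancel_left] at h4
    exact h4

end Cfsg.Agent.Helper93.SubfL.OSf
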