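import Cfsg.Agent.Lib.Helper93.SubfA

set_option autoImplicit false
set_option linter.unusedSectionVars false
set_option linter.unusedVariables false

/-!
# Subfield subgroups of `SL_n`: an irrational parameter on a rational flag generates `SL_n`
-/

namespace Cfsg.Agent.Helper93.SubfL

open Matrix Cfsg.Geo Cfsg.Agent.Helper93

variable {ι : Type} [Fintype ι] [DecidableEq ι] {F : Type*} [Field F]
variable {F₀ : Subfield F} {M : Subgroup (GL ι F)}

lemma moveC {c : F} {φ v ψ v1 : ι → F} (h : TvIn M (c • φ) v) (hy : TvIn M ψ v1)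
    (hφv1 : φ ⬝ᵥ v1 = 0) : TvIn M ((-(ψ ⬝ᵥ v) * c) • φ) v1 := by
  have h12 : (c • φ) ⬝ᵥ v1 = 0 := by rw [smul_dotProduct, hφv1, smul_zero]
  have := comm_mem h hy h12
  rwa [smul_smul] at this

lemma moveA {c : F} {φ v1 φ' w : ι → F} (h : TvIn M (c • φ) v1) (hx : TvIn M φ' w)
    (hφ'v1 : φ' ⬝ᵥ v1 = 0) : TvIn M ((-(c * (φ ⬝ᵥ w))) • φ') v1 := by
  have := comm_mem hx h hφ'v1
  rwa [smul_dotProduct, smul_eq_mul] at this

lemma exists_third (h3 : 3 ≤ Fintype.card ι) (i j : ι) : ∃ k : ι, k ≠ i ∧ k ≠ j := by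
  by_contra hcon
  push Not at hcon
  have : Fintype.card ι ≤ 2 := by
    have hsub : (Finset.univ : Finset ι) ⊆ {i, j} := by
      intro k _
      by_cases hk : k = i
      · rw [hk]; exact Finset.mem_insert_self _ _
      · rw [hcon k hk]; exact Finset.mem_insert_of_mem (Finset.mem_singleton_self _)
    calc Fintype.card ι = (Finset.univ : Finset ι).card := (Finset.card_univ).symm
      _ ≤ ({i, j} : Finset ι).card := Finset.card_le_card hsub
      _ ≤ 2 := Finset.card_le_two
  omega

lemma single_dot_single_ne {i j : ι} (h : i ≠ j) :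
    (Pi.single i (1 : F) : ι → F) ⬝ᵥ Pi.single j 1 = 0 := by
  rw [single_one_dotProduct, Pi.single_eq_of_ne h]

lemma single_dot_single_self (i : ι) :
    (Pi.single i (1 : F) : ι → F) ⬝ᵥ Pi.single i 1 = 1 := by
  rw [single_one_dotProduct, Pi.single_eq_same]

section

variable (hHM : subfieldSubgroup F₀ (1 : GL ι F) ⊓ specialLinear ι F ≤ M)

include hHM

lemma scale_std (h3 : 3 ≤ Fintype.card ι) {c b : F} (hb : b ∈ F₀) {i j : ι} (hij : i ≠ j)
    (h : TvIn M (c • (Pi.single j 1 : ι → F)) (Pi.single i 1)) :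
    TvIn M ((c * b) • (Pi.single j 1 : ι → F)) (Pi.single i 1) := by
  obtain ⟨k, hki, hkj⟩ := exists_third h3 i j
  have hx : TvIn M (b • (Pi.single k 1 : ι → F)) (Pi.single j 1) :=
    tvIn_rat hHM (Rat.smul hb (Rat.single k)) (Rat.single j)
      (by rw [smul_dotProduct, single_dot_single_ne hkj, smul_zero])
  have h12 : (b • (Pi.single k 1 : ι → F)) ⬝ᵥ Pi.single i 1 = 0 := by
    rw [smul_dotProduct, single_dot_single_ne hki, smul_zero]
  have s1 := comm_mem hx h h12
  rw [smul_dotProduct, single_dot_single_self, smul_eq_mul, mul_one, smul_smul] at s1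
  have hx' : TvIn M (Pi.single j 1 : ι → F) (Pi.single k 1) :=
    tvIn_rat hHM (Rat.single j) (Rat.single k) (single_dot_single_ne hkj.symm)
  have s2 := comm_mem hx' s1 (single_dot_single_ne hij.symm)
  rw [smul_dotProduct, single_dot_single_self, smul_eq_mul, mul_one] at s2
  exact s2.scal (by ring)

lemma spread (h5 : 5 ≤ Fintype.card ι) {a : F} {φ v : ι → F} (hφ : Rat F₀ φ) (hv : Rat F₀ v)
    (hφ0 : φ ≠ 0) (hv0 : v ≠ 0) (h : TvIn M (a • φ) v) {i j : ι} (hij : i ≠ j) :
    ∃ κ : F, κ ∈ F₀ ∧ κ ≠ 0 ∧ TvIn M ((a * κ) • (Pi.single j 1 : ι → F)) (Pi.single i 1) := by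
  obtain ⟨iv, hiv⟩ := Function.ne_iff.mp hv0
  have hiv' : v iv ≠ 0 := hiv
  obtain ⟨v1, hv1, hv10, hφv1, hj1, hiv1, hi1⟩ :=
    ex4 h5 hφ (Rat.single (F₀ := F₀) j) (Rat.single (F₀ := F₀) iv) (Rat.single (F₀ := F₀) i)
  rw [single_one_dotProduct] at hj1 hiv1 hi1
  have hy1 : TvIn M (Pi.single iv 1 : ι → F) v1 :=
    tvIn_rat hHM (Rat.single iv) hv1 (by rw [single_one_dotProduct]; exact hiv1)
  have s1 := moveC h hy1 hφv1
  rw [single_one_dotProduct] at s1
  obtain ⟨k1, hk1⟩ := Function.ne_iff.mp hv10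
  have hk1' : v1 k1 ≠ 0 := hk1
  have hk1i : k1 ≠ i := by
    rintro rfl
    exact hk1' hi1
  have s2 : ∃ κ : F, κ ∈ F₀ ∧ κ ≠ 0 ∧ TvIn M ((a * κ) • (Pi.single j 1 : ι → F)) v1 := by
    by_cases hcase : ∃ k, k ≠ j ∧ φ k ≠ 0
    · obtain ⟨k, hkj, hφk⟩ := hcase
      have hx : TvIn M (Pi.single j 1 : ι → F) (Pi.single k 1) :=
        tvIn_rat hHM (Rat.single j) (Rat.single k) (single_dot_single_ne hkj.symm)
      have hj1' : (Pi.single j 1 : ι → F) ⬝ᵥ v1 = 0 := by
        rw [single_one_dotProduct]; exact hj1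
      have s := moveA s1 hx hj1'
      rw [dotProduct_single_one] at s
      exact ⟨v iv * φ k, F₀.mul_mem (hv iv) (hφ k), mul_ne_zero hiv' hφk, s.scal (by ring)⟩
    · push Not at hcase
      have hφeq : φ = φ j • (Pi.single j 1 : ι → F) := by
        funext k
        by_cases hkj : k = j
        · rw [hkj, Pi.smul_apply, Pi.single_eq_same, smul_eq_mul, mul_one]
        · rw [hcase k hkj, Pi.smul_apply, Pi.single_eq_of_ne hkj, smul_zero]
      have hφj : φ j ≠ 0 := by
        intro h0
        apply hφ0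
        rw [hφeq, h0, zero_smul]
      refine ⟨-(v iv) * φ j, F₀.mul_mem (F₀.neg_mem (hv iv)) (hφ j),
        mul_ne_zero (neg_ne_zero.mpr hiv') hφj, ?_⟩
      have e : (-(v iv) * a) • φ = (a * (-(v iv) * φ j)) • (Pi.single j 1 : ι → F) := by
        conv_lhs => rw [hφeq]
        rw [smul_smul]
        congr 1
        ring
      rw [← e]
      exact s1
  obtain ⟨κ, hκ, hκ0, s2⟩ := s2
  have hy3 : TvIn M (Pi.single k1 1 : ι → F) (Pi.single i 1) :=
    tvIn_rat hHM (Rat.single k1) (Rat.single i) (single_dot_single_ne hk1i)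
  have s3 := moveC s2 hy3 (single_dot_single_ne hij.symm)
  rw [single_one_dotProduct] at s3
  exact ⟨-(v1 k1) * κ, F₀.mul_mem (F₀.neg_mem (hv1 k1)) hκ,
    mul_ne_zero (neg_ne_zero.mpr hk1') hκ0, s3.scal (by ring)⟩

end

/-- parameters good for all standard flags -/
def RR (M : Subgroup (GL ι F)) : Set F :=
  {c | ∀ i j : ι, i ≠ j → TvIn M (c • (Pi.single j 1 : ι → F)) (Pi.single i 1)}

lemma RR_of_mem (hHM : subfieldSubgroup F₀ (1 : GL ι F) ⊓ specialLinear ι F ≤ M) {c : F}
    (hc : c ∈ F₀) : c ∈ RR M := by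
  intro i j hij
  exact tvIn_rat hHM (Rat.smul hc (Rat.single j)) (Rat.single i)
    (by rw [smul_dotProduct, single_dot_single_ne hij.symm, smul_zero])

lemma RR_add {c d : F} (hc : c ∈ RR M) (hd : d ∈ RR M) : c + d ∈ RR M := by
  intro i j hij
  have := (hc i j hij).add (hd i j hij)
  rwa [← add_smul] at this

lemma RR_mul (h3 : 3 ≤ Fintype.card ι) {c d : F} (hc : c ∈ RR M) (hd : d ∈ RR M) :
    c * d ∈ RR M := by
  intro i k hik
  obtain ⟨j, hji, hjk⟩ := exists_third h3 i k
  have hx := hd j k hjk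
  have hy := hc i j hji.symm
  have h12 : (d • (Pi.single k 1 : ι → F)) ⬝ᵥ Pi.single i 1 = 0 := by
    rw [smul_dotProduct, single_dot_single_ne hik.symm, smul_zero]
  have s := comm_mem hx hy h12
  rw [smul_dotProduct, single_dot_single_self, smul_eq_mul, mul_one, smul_smul] at s
  have s' := s.neg
  rw [← neg_smul] at s'
  exact s'.scal (by ring)

/-- the good parameters form a subalgebra over the subfield -/
def RRalg (h3 : 3 ≤ Fintype.card ι)
    (hHM : subfieldSubgroup F₀ (1 : GL ι F) ⊓ specialLinear ι F ≤ M) : Subalgebra F₀ F where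
  carrier := RR M
  mul_mem' := fun hc hd => RR_mul h3 hc hd
  one_mem' := RR_of_mem hHM F₀.one_mem
  add_mem' := fun hc hd => RR_add hc hd
  zero_mem' := RR_of_mem hHM F₀.zero_mem
  algebraMap_mem' := fun r => RR_of_mem hHM r.2

lemma finrank_eq_of_card [Fintype F] {r : ℕ} (hcard : Fintype.card F = Nat.card F₀ ^ r) :
    Module.finrank F₀ F = r := by
  have h1 := Module.natCard_eq_pow_finrank (K := F₀) (V := F)
  rw [Nat.card_eq_fintype_card, hcard] at h1
  have h2 : 2 ≤ Nat.card F₀ := by
    have : 1 < Nat.card F₀ := Finite.one_lt_card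
    omega
  exact (Nat.pow_right_injective h2 h1).symm

/-- `SL` is generated by the elementary transvections -/
theorem SL_le_of_elem (M : Subgroup (GL ι F))
    (hM : ∀ (i j : ι), i ≠ j → ∀ c : F, TvIn M (c • (Pi.single j 1 : ι → F)) (Pi.single i 1)) :
    Cfsg.Geo.specialLinear ι F ≤ M := by
  intro g hg
  have hdet : (g : Matrix ι ι F).det = 1 := by
    unfold Cfsg.Geo.specialLinear at hg
    rw [MonoidHom.mem_ker] at hg
    have := congrArg Units.val hg
    rwa [Matrix.GeneralLinearGroup.val_det_apply] at this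
  by_cases hnt : Nontrivial ι
  · have key : ∀ A : Matrix.SpecialLinearGroup ι F, Matrix.SpecialLinearGroup.toGL A ∈ M := by
      intro A
      have htr : ∀ (i j : ι) (hij : i ≠ j) (c : F),
          Matrix.SpecialLinearGroup.toGL (Matrix.SpecialLinearGroup.transvection hij c) ∈ M := by
        intro i j hij c
        obtain ⟨h0, this⟩ := hM i j hij c
        convert this using 1
        apply Units.ext
        rw [tv_coe, ← elem_transvection_eq i j hij c]
        rfl
      refine Matrix.SpecialLinearGroup.diagonal_transvection_induction'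
        (fun A => Matrix.SpecialLinearGroup.toGL A ∈ M) A ?_ htr ?_
      · intro i j hij c hc
        have : Matrix.SpecialLinearGroup.diag2n hij c hc =
            Matrix.SpecialLinearGroup.transvection hij c *
            Matrix.SpecialLinearGroup.transvection hij.symm (-c⁻¹) *
            Matrix.SpecialLinearGroup.transvection hij c *
            Matrix.SpecialLinearGroup.transvection hij (-1) *
            Matrix.SpecialLinearGroup.transvection hij.symm 1 *
            Matrix.SpecialLinearGroup.transvection hij (-1) :=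
          Subtype.ext (diag2n_matrix_decompose' hij c hc)
        show Matrix.SpecialLinearGroup.toGL _ ∈ M
        rw [this]
        simp only [map_mul]
        refine M.mul_mem (M.mul_mem (M.mul_mem (M.mul_mem (M.mul_mem ?_ ?_) ?_) ?_) ?_) ?_ <;>
          exact htr _ _ _ _
      · intro A B hA hB
        show Matrix.SpecialLinearGroup.toGL (A * B) ∈ M
        rw [map_mul]
        exact M.mul_mem hA hB
    have := key ⟨(g : Matrix ι ι F), hdet⟩
    convert this using 1
    apply Units.ext
    rfl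
  · rw [not_nontrivial_iff_subsingleton] at hnt
    have : g = 1 := by
      apply Units.ext
      ext a b
      have hab : a = b := Subsingleton.elim a b
      subst hab
      have h1 : (g : Matrix ι ι F).det = (g : Matrix ι ι F) a a := by
        rw [Matrix.det_eq_elem_of_subsingleton _ a]
      rw [Units.val_one, Matrix.one_apply_eq, ← h1, hdet]
    rw [this]; exact M.one_mem

/-- a rational flag with an irrational parameter forces `M` to contain `SL` -/
theorem SL_le_of_bad [Fintype F] (h5 : 5 ≤ Fintype.card ι) {r : ℕ} (hr : r.Prime)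
    (hcard : Fintype.card F = Nat.card F₀ ^ r)
    (hHM : subfieldSubgroup F₀ (1 : GL ι F) ⊓ specialLinear ι F ≤ M)
    (hbad : ¬ NoBad F₀ M) : specialLinear ι F ≤ M := by
  have h3 : 3 ≤ Fintype.card ι := by omega
  unfold NoBad at hbad
  push Not at hbad
  obtain ⟨φ, v, a, hφ, hv, hφ0, hv0, h, ha⟩ := hbad
  have haR : a ∈ RR M := by
    intro i j hij
    obtain ⟨κ, hκ, hκ0, s⟩ := spread hHM h5 hφ hv hφ0 hv0 h hij
    have := scale_std hHM h3 (F₀.inv_mem hκ) hij s
    exact this.scal (by rw [mul_assoc, mul_inv_cancel₀ hκ0, mul_one])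
  have hfr : (Module.finrank F₀ F).Prime := by rw [finrank_eq_of_card hcard]; exact hr
  haveI := Subalgebra.isSimpleOrder_of_finrank_prime F₀ F hfr
  have htop : RRalg h3 hHM = ⊤ := by
    rcases eq_bot_or_eq_top (RRalg h3 hHM) with hb | ht
    · exfalso
      have : a ∈ (⊥ : Subalgebra F₀ F) := by rw [← hb]; exact haR
      rw [Algebra.mem_bot] at this
      obtain ⟨x, rfl⟩ := this
      exact ha x.2
    · exact ht
  apply SL_le_of_elem
  intro i j hij c
  have : c ∈ RRalg h3 hHM := by rw [htop]; exact Algebra.mem_top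
  exact this i j hij

end Cfsg.Agent.Helper93.SubfL
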