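import Cfsg.Agent.Lib.Helper93.USub

set_option autoImplicit false
set_option linter.unusedSectionVars false
set_option linter.unusedVariables false

/-!
# Subfield subgroups of `SL_n`: rational vectors and rational transvections
-/

namespace Cfsg.Agent.Helper93.SubfL

open Matrix Cfsg.Geo Cfsg.Agent.Helper93

variable {ι : Type} [Fintype ι] [DecidableEq ι] {F : Type*} [Field F]
variable {F₀ : Subfield F}

/-- vectors with all coordinates in the subfield -/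
def Rat (F₀ : Subfield F) (v : ι → F) : Prop := ∀ i, v i ∈ F₀

lemma Rat.zero : Rat F₀ (0 : ι → F) := fun _ => F₀.zero_mem

lemma Rat.add {x y : ι → F} (hx : Rat F₀ x) (hy : Rat F₀ y) : Rat F₀ (x + y) :=
  fun i => F₀.add_mem (hx i) (hy i)

lemma Rat.neg {x : ι → F} (hx : Rat F₀ x) : Rat F₀ (-x) := fun i => F₀.neg_mem (hx i)

lemma Rat.sub {x y : ι → F} (hx : Rat F₀ x) (hy : Rat F₀ y) : Rat F₀ (x - y) :=
  fun i => F₀.sub_mem (hx i) (hy i)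

lemma Rat.smul {c : F} (hc : c ∈ F₀) {x : ι → F} (hx : Rat F₀ x) : Rat F₀ (c • x) :=
  fun i => F₀.mul_mem hc (hx i)

lemma Rat.single (i : ι) : Rat F₀ (Pi.single i (1 : F)) := by
  intro j
  by_cases h : j = i
  · rw [h, Pi.single_eq_same]; exact F₀.one_mem
  · rw [Pi.single_eq_of_ne h]; exact F₀.zero_mem

lemma Rat.dot {x y : ι → F} (hx : Rat F₀ x) (hy : Rat F₀ y) : x ⬝ᵥ y ∈ F₀ := by
  unfold dotProduct
  exact sum_mem (fun i _ => F₀.mul_mem (hx i) (hy i))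

lemma ratVec_one_iff (x : ι → F) : RatVec F₀ (1 : GL ι F) x ↔ Rat F₀ x := by
  constructor
  · rintro ⟨u, hu, rfl⟩
    rw [Units.val_one, Matrix.one_mulVec]; exact hu
  · intro hx
    exact ⟨x, hx, by rw [Units.val_one, Matrix.one_mulVec]⟩

lemma mem_H1_of {g : GL ι F} {lam : F} (hlam : lam ≠ 0)
    (h : ∀ x, Rat F₀ x → Rat F₀ (lam⁻¹ • ((g : Matrix ι ι F) *ᵥ x))) :
    g ∈ subfieldSubgroup F₀ (1 : GL ι F) := by
  apply mem_subfield_of hlam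
  intro x hx
  rw [ratVec_one_iff] at hx ⊢
  exact h x hx

lemma rat_tv_mem {φ v : ι → F} (hφ : Rat F₀ φ) (hv : Rat F₀ v) (h : φ ⬝ᵥ v = 0) :
    tv φ v h ∈ subfieldSubgroup F₀ (1 : GL ι F) ⊓ specialLinear ι F := by
  refine Subgroup.mem_inf.2 ⟨?_, tv_mem_SL φ v h⟩
  apply mem_H1_of (lam := 1) one_ne_zero
  intro x hx
  rw [inv_one, one_smul, tv_coe, tvMat_mulVec]
  exact hx.add (Rat.smul (hφ.dot hx) hv)

/-! ### transvections in a subgroup -/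

/-- the transvection `x ↦ x + (φ ⬝ x) v` exists and lies in `M` -/
def TvIn (M : Subgroup (GL ι F)) (φ v : ι → F) : Prop := ∃ h : φ ⬝ᵥ v = 0, tv φ v h ∈ M

variable {M : Subgroup (GL ι F)}

lemma TvIn.congr {φ φ' v v' : ι → F} (h : TvIn M φ v) (hφ : φ = φ') (hv : v = v') :
    TvIn M φ' v' := by
  subst hφ; subst hv; exact h

lemma TvIn.scal {c c' : F} {φ v : ι → F} (h : TvIn M (c • φ) v) (hc : c = c') :
    TvIn M (c' • φ) v := by
  subst hc; exact h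

lemma tvIn_rat (hHM : subfieldSubgroup F₀ (1 : GL ι F) ⊓ specialLinear ι F ≤ M)
    {φ v : ι → F} (hφ : Rat F₀ φ) (hv : Rat F₀ v) (h : φ ⬝ᵥ v = 0) : TvIn M φ v :=
  ⟨h, hHM (rat_tv_mem hφ hv h)⟩

lemma tv_smul_left (c : F) (φ v : ι → F) (h : (c • φ) ⬝ᵥ v = 0) :
    tv (c • φ) v h = tv φ (c • v) (by rw [dotProduct_smul]; rwa [smul_dotProduct] at h) := by
  apply Units.ext
  rw [tv_coe, tv_coe]; unfold tvMat
  rw [Matrix.vecMulVec_smul, Matrix.smul_vecMulVec]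

lemma TvIn.to_right {c : F} {φ v : ι → F} (h : TvIn M (c • φ) v) : TvIn M φ (c • v) := by
  obtain ⟨h0, hm⟩ := h
  rw [tv_smul_left] at hm
  exact ⟨_, hm⟩

lemma TvIn.to_left {c : F} {φ v : ι → F} (h : TvIn M φ (c • v)) : TvIn M (c • φ) v := by
  obtain ⟨h0, hm⟩ := h
  have h1 : (c • φ) ⬝ᵥ v = 0 := by rw [smul_dotProduct]; rwa [dotProduct_smul] at h0
  refine ⟨h1, ?_⟩
  rw [tv_smul_left]
  exact hm

lemma TvIn.conj {φ v : ι → F} (h : TvIn M φ v) {g : GL ι F} (hg : g ∈ M) :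
    TvIn M (φ ᵥ* ((g⁻¹ : GL ι F) : Matrix ι ι F)) ((g : Matrix ι ι F) *ᵥ v) := by
  obtain ⟨h0, hm⟩ := h
  have := M.mul_mem (M.mul_mem hg hm) (M.inv_mem hg)
  rw [conj_tv] at this
  exact ⟨_, this⟩

lemma TvIn.add {φ φ' v : ι → F} (h : TvIn M φ v) (h' : TvIn M φ' v) : TvIn M (φ + φ') v := by
  obtain ⟨h0, hm⟩ := h
  obtain ⟨h0', hm'⟩ := h'
  have := M.mul_mem hm hm'
  rw [tv_mul_tv] at this
  exact ⟨_, this⟩

lemma TvIn.neg {φ v : ι → F} (h : TvIn M φ v) : TvIn M (-φ) v := by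
  obtain ⟨h0, hm⟩ := h
  have := M.inv_mem hm
  rw [← tv_neg_eq_inv] at this
  exact ⟨_, this⟩

/-- the commutator formula for two transvections, the centre of the second lying on the axis of
the first -/
lemma comm_tv (φ1 u1 φ2 u2 : ι → F) (h1 : φ1 ⬝ᵥ u1 = 0) (h2 : φ2 ⬝ᵥ u2 = 0)
    (h12 : φ1 ⬝ᵥ u2 = 0) :
    tv φ1 u1 h1 * tv φ2 u2 h2 * (tv φ1 u1 h1)⁻¹ =
      tv φ2 u2 h2 * tv ((-(φ2 ⬝ᵥ u1)) • φ1) u2 (by rw [smul_dotProduct, h12, smul_zero]) := by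
  rw [conj_tv, tv_mul_tv]
  refine tv_congr _ ?_ ?_
  · rw [tv_inv, tv_coe]
    unfold tvMat
    rw [Matrix.vecMul_add, Matrix.vecMul_one, Matrix.vecMul_vecMulVec, dotProduct_neg]
  · rw [tv_coe, tvMat_mulVec, h12, zero_smul, add_zero]

lemma comm_mem {φ1 u1 φ2 u2 : ι → F} (hx : TvIn M φ1 u1) (hy : TvIn M φ2 u2)
    (h12 : φ1 ⬝ᵥ u2 = 0) : TvIn M ((-(φ2 ⬝ᵥ u1)) • φ1) u2 := by
  obtain ⟨h1, hx⟩ := hx
  obtain ⟨h2, hy⟩ := hy
  refine ⟨by rw [smul_dotProduct, h12, smul_zero], ?_⟩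
  have h := comm_tv φ1 u1 φ2 u2 h1 h2 h12
  have h3 : (tv φ2 u2 h2)⁻¹ * (tv φ1 u1 h1 * tv φ2 u2 h2 * (tv φ1 u1 h1)⁻¹) ∈ M :=
    M.mul_mem (M.inv_mem hy) (M.mul_mem (M.mul_mem hx hy) (M.inv_mem hx))
  rw [h, inv_mul_cancel_left] at h3
  exact h3

/-! ### existence of rational vectors -/

lemma exists_rat_ker (m : ℕ) (ψ : Fin m → ι → F) (hψ : ∀ k, Rat F₀ (ψ k))
    (hm : m < Fintype.card ι) :
    ∃ x : ι → F, Rat F₀ x ∧ x ≠ 0 ∧ ∀ k, ψ k ⬝ᵥ x = 0 := by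
  classical
  let A : Matrix (Fin m) ι F₀ := fun k i => ⟨ψ k i, hψ k i⟩
  have hker : LinearMap.ker A.mulVecLin ≠ ⊥ := by
    apply LinearMap.ker_ne_bot_of_finrank_lt
    rw [Module.finrank_fin_fun, Module.finrank_fintype_fun_eq_card]
    exact hm
  obtain ⟨x0, hx0, hx0ne⟩ := Submodule.exists_mem_ne_zero_of_ne_bot hker
  refine ⟨fun i => (x0 i : F), fun i => (x0 i).2, ?_, ?_⟩
  · intro h0
    apply hx0ne
    funext i
    have := congrFun h0 i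
    exact Subtype.ext this
  · intro k
    rw [LinearMap.mem_ker, Matrix.mulVecLin_apply] at hx0
    have h1 := congrFun hx0 k
    have h2 : (F₀.subtype ((A *ᵥ x0) k)) = ψ k ⬝ᵥ fun i => (x0 i : F) := by
      simp only [Matrix.mulVec, dotProduct, map_sum, map_mul]
      rfl
    rw [← h2, h1]
    simp

lemma ex1 (h2 : 2 ≤ Fintype.card ι) {a : ι → F} (ha : Rat F₀ a) :
    ∃ x : ι → F, Rat F₀ x ∧ x ≠ 0 ∧ a ⬝ᵥ x = 0 := by
  obtain ⟨x, hx, hx0, hk⟩ := exists_rat_ker (F₀ := F₀) 1 ![a]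
    (by intro k; fin_cases k; exact ha) (by omega)
  exact ⟨x, hx, hx0, hk 0⟩

lemma ex2 (h3 : 3 ≤ Fintype.card ι) {a b : ι → F} (ha : Rat F₀ a) (hb : Rat F₀ b) :
    ∃ x : ι → F, Rat F₀ x ∧ x ≠ 0 ∧ a ⬝ᵥ x = 0 ∧ b ⬝ᵥ x = 0 := by
  obtain ⟨x, hx, hx0, hk⟩ := exists_rat_ker (F₀ := F₀) 2 ![a, b]
    (by intro k; fin_cases k; exacts [ha, hb]) (by omega)
  exact ⟨x, hx, hx0, hk 0, hk 1⟩

lemma ex2' (h3 : 3 ≤ Fintype.card ι) {a b : ι → F} (ha : Rat F₀ a) (hb : Rat F₀ b) :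
    ∃ x : ι → F, Rat F₀ x ∧ x ≠ 0 ∧ x ⬝ᵥ a = 0 ∧ x ⬝ᵥ b = 0 := by
  obtain ⟨x, hx, hx0, h1, h2⟩ := ex2 h3 ha hb
  exact ⟨x, hx, hx0, by rw [dotProduct_comm]; exact h1, by rw [dotProduct_comm]; exact h2⟩

lemma ex4 (h5 : 5 ≤ Fintype.card ι) {a b c d : ι → F} (ha : Rat F₀ a) (hb : Rat F₀ b)
    (hc : Rat F₀ c) (hd : Rat F₀ d) :
    ∃ x : ι → F, Rat F₀ x ∧ x ≠ 0 ∧ a ⬝ᵥ x = 0 ∧ b ⬝ᵥ x = 0 ∧ c ⬝ᵥ x = 0 ∧ d ⬝ᵥ x = 0 := by
  obtain ⟨x, hx, hx0, hk⟩ := exists_rat_ker (F₀ := F₀) 4 ![a, b, c, d]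
    (by intro k; fin_cases k; exacts [ha, hb, hc, hd]) (by omega)
  exact ⟨x, hx, hx0, hk 0, hk 1, hk 2, hk 3⟩

/-- rational functionals vanishing at `e` separate `x` from the line of `e` -/
lemma exists_rat_sep {e : ι → F} (he : Rat F₀ e) (he0 : e ≠ 0) {x : ι → F}
    (hx : ∀ α : F, x ≠ α • e) : ∃ ε : ι → F, Rat F₀ ε ∧ ε ⬝ᵥ e = 0 ∧ ε ⬝ᵥ x ≠ 0 := by
  by_contra hcon
  push Not at hcon
  obtain ⟨i0, hi0⟩ := Function.ne_iff.mp he0
  have hi0' : e i0 ≠ 0 := hi0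
  apply hx (x i0 / e i0)
  funext j
  have hε : Rat F₀ (e i0 • (Pi.single j 1 : ι → F) - e j • Pi.single i0 1) :=
    (Rat.smul (he i0) (Rat.single j)).sub (Rat.smul (he j) (Rat.single i0))
  have h1 : (e i0 • (Pi.single j 1 : ι → F) - e j • Pi.single i0 1) ⬝ᵥ e = 0 := by
    rw [sub_dotProduct, smul_dotProduct, smul_dotProduct, single_one_dotProduct,
      single_one_dotProduct, smul_eq_mul, smul_eq_mul]
    ring
  have h2 := hcon _ hε h1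
  rw [sub_dotProduct, smul_dotProduct, smul_dotProduct, single_one_dotProduct,
    single_one_dotProduct, smul_eq_mul, smul_eq_mul] at h2
  rw [Pi.smul_apply, smul_eq_mul, div_mul_eq_mul_div, eq_div_iff hi0']
  linear_combination h2

/-! ### the standing hypothesis: no rational flag carries an irrational parameter -/

/-- every transvection of `M` along a rational flag has its parameter in the subfield -/
def NoBad (F₀ : Subfield F) (M : Subgroup (GL ι F)) : Prop :=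
  ∀ (φ v : ι → F) (a : F), Rat F₀ φ → Rat F₀ v → φ ≠ 0 → v ≠ 0 → TvIn M (a • φ) v → a ∈ F₀

section main

variable (h3 : 3 ≤ Fintype.card ι)
  (hHM : subfieldSubgroup F₀ (1 : GL ι F) ⊓ specialLinear ι F ≤ M) (hN : NoBad F₀ M)

include h3 hHM hN

/-- a transvection of `M` with rational centre is rational -/
lemma L1 {φ v : ι → F} (hτ : TvIn M φ v) (hv : Rat F₀ v) (hv0 : v ≠ 0) : Rat F₀ φ := by
  intro j
  obtain ⟨ψ, hψ, hψ0, hψv, hψw⟩ := ex2' h3 hv (Rat.single (F₀ := F₀) j)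
  have hx : TvIn M ψ (Pi.single j 1) := tvIn_rat hHM hψ (Rat.single j) hψw
  have hc := comm_mem hx hτ hψv
  have := hN ψ v _ hψ hv hψ0 hv0 hc
  rw [dotProduct_single_one] at this
  have := F₀.neg_mem this
  rwa [neg_neg] at this

/-- a transvection of `M` with rational axis is rational -/
lemma L1' {φ v : ι → F} (hτ : TvIn M φ v) (hφ : Rat F₀ φ) (hφ0 : φ ≠ 0) : Rat F₀ v := by
  intro j
  obtain ⟨w, hw, hw0, hφw, hjw⟩ := ex2 h3 hφ (Rat.single (F₀ := F₀) j)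
  have hy : TvIn M (Pi.single j 1) w := tvIn_rat hHM (Rat.single j) hw hjw
  have hc := comm_mem hτ hy hφw
  have := hN φ w _ hφ hw hφ0 hw0 hc
  rw [single_one_dotProduct] at this
  have := F₀.neg_mem this
  rwa [neg_neg] at this

/-- an element of `M` mapping a rational point to a rational point is rational up to a scalar -/
lemma L2 {m : GL ι F} (hm : m ∈ M) {e e' : ι → F} (he : Rat F₀ e) (he0 : e ≠ 0)
    (he' : Rat F₀ e') (he'0 : e' ≠ 0) {lam : F} (hlam : lam ≠ 0)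
    (hme : (m : Matrix ι ι F) *ᵥ e = lam • e') :
    ∀ w, Rat F₀ w → Rat F₀ (lam⁻¹ • ((m : Matrix ι ι F) *ᵥ w)) := by
  intro w hw
  obtain ⟨ψ, hψ, hψ0, hψe, hψw⟩ := ex2' h3 he hw
  obtain ⟨ψm, hψm⟩ : ∃ ψm, ψm = ψ ᵥ* ((m⁻¹ : GL ι F) : Matrix ι ι F) := ⟨_, rfl⟩
  have h1 : TvIn M ψ e := tvIn_rat hHM hψ he hψe
  have h2 := h1.conj hm
  rw [hme, ← hψm] at h2
  have h3' := h2.to_left
  have hrat : Rat F₀ (lam • ψm) := L1 h3 hHM hN h3' he' he'0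
  have hne : lam • ψm ≠ 0 := by
    intro h0
    rcases smul_eq_zero.mp h0 with h | h
    · exact hlam h
    · apply hψ0
      have : ψm ᵥ* (m : Matrix ι ι F) = ψ := by
        rw [hψm, Matrix.vecMul_vecMul, ← Units.val_mul, inv_mul_cancel, Units.val_one,
          Matrix.vecMul_one]
      rw [← this, h, Matrix.zero_vecMul]
  have h4 : TvIn M ψ w := tvIn_rat hHM hψ hw hψw
  have h5 := h4.conj hm
  rw [← hψm] at h5
  have h6 : TvIn M (lam • ψm) (lam⁻¹ • ((m : Matrix ι ι F) *ᵥ w)) := by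
    apply TvIn.to_left
    rw [smul_smul, mul_inv_cancel₀ hlam, one_smul]
    exact h5
  exact L1' h3 hHM hN h6 hrat hne

/-- an incidence between the image of a rational point and a rational hyperplane forces the image
to be a rational point -/
lemma incid {m : GL ι F} (hm : m ∈ M) {e ψ : ι → F} (he : Rat F₀ e) (he0 : e ≠ 0)
    (hψ : Rat F₀ ψ) (hψ0 : ψ ≠ 0) (hinc : ψ ⬝ᵥ ((m : Matrix ι ι F) *ᵥ e) = 0) :
    ∃ (lam : F) (e' : ι → F), lam ≠ 0 ∧ Rat F₀ e' ∧ e' ≠ 0 ∧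
      (m : Matrix ι ι F) *ᵥ e = lam • e' := by
  have hu0 : (m : Matrix ι ι F) *ᵥ e ≠ 0 := by
    intro h0
    apply he0
    have := gl_inv_apply_apply m e
    rw [← this, h0, Matrix.mulVec_zero]
  obtain ⟨w, hw, hw0, hψw⟩ := ex1 (by omega) hψ
  obtain ⟨x, hx⟩ : ∃ x, x = ((m⁻¹ : GL ι F) : Matrix ι ι F) *ᵥ w := ⟨_, rfl⟩
  have hmx : (m : Matrix ι ι F) *ᵥ x = w := by rw [hx]; exact gl_apply_inv_apply m w
  by_cases hcase : ∃ α : F, x = α • e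
  · obtain ⟨α, hα⟩ := hcase
    have hαu : w = α • ((m : Matrix ι ι F) *ᵥ e) := by rw [← hmx, hα, Matrix.mulVec_smul]
    have hα0 : α ≠ 0 := by
      rintro rfl
      exact hw0 (by rw [hαu, zero_smul])
    exact ⟨α⁻¹, w, inv_ne_zero hα0, hw, hw0,
      by rw [hαu, smul_smul, inv_mul_cancel₀ hα0, one_smul]⟩
  · push Not at hcase
    obtain ⟨ε, hε, hεe, hεx⟩ := exists_rat_sep he he0 hcase
    have h1 : TvIn M ε e := tvIn_rat hHM hε he hεe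
    have h2 := h1.conj hm
    have h3'' : TvIn M ψ w := tvIn_rat hHM hψ hw hψw
    have hc := comm_mem h3'' h2 hinc
    have hcw : (ε ᵥ* ((m⁻¹ : GL ι F) : Matrix ι ι F)) ⬝ᵥ w = ε ⬝ᵥ x := by
      rw [hx, Matrix.dotProduct_mulVec]
    rw [hcw] at hc
    have hc' := hc.to_right
    have hr := L1' h3 hHM hN hc' hψ hψ0
    have hc0 : -(ε ⬝ᵥ x) ≠ 0 := neg_ne_zero.mpr hεx
    refine ⟨(-(ε ⬝ᵥ x))⁻¹, (-(ε ⬝ᵥ x)) • ((m : Matrix ι ι F) *ᵥ e), inv_ne_zero hc0, hr,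
      smul_ne_zero hc0 hu0, ?_⟩
    rw [smul_smul, inv_mul_cancel₀ hc0, one_smul]

/-- elements of `M` outside the subfield group are in general position -/
lemma generic_of_not_mem {m : GL ι F} (hm : m ∈ M)
    (hmH : m ∉ subfieldSubgroup F₀ (1 : GL ι F)) {e ψ : ι → F} (he : Rat F₀ e) (he0 : e ≠ 0)
    (hψ : Rat F₀ ψ) (hψ0 : ψ ≠ 0) : ψ ⬝ᵥ ((m : Matrix ι ι F) *ᵥ e) ≠ 0 := by
  intro hinc
  obtain ⟨lam, e', hlam, he', he'0, hme⟩ := incid h3 hHM hN hm he he0 hψ hψ0 hinc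
  exact hmH (mem_H1_of hlam (L2 h3 hHM hN hm he he0 he' he'0 hlam hme))

end main

end Cfsg.Agent.Helper93.SubfL
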