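import Cfsg.Agent.Lib.Helper98.SL2Bruhat
import Cfsg.Agent.Lib.Helper93.SubfA

set_option autoImplicit false
set_option linter.unusedSectionVars false
set_option linter.unusedVariables false
set_option linter.style.haveILetI false

/-!
# Subfield subgroups of `SL_n`: the `SL₂` step
-/

namespace Cfsg.Agent.Helper93.SubfL

open Matrix Cfsg.Geo Cfsg.Agent.Helper93
open Cfsg.Agent.Helper98.Ident Cfsg.Agent.Helper98.Dickson Cfsg.Agent.Helper59.SL2Sub
open Cfsg.Agent.Helper5 Cfsg.Agent.Helper98.SL2CT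

section dk

variable {F : Type*} [Field F] [Fintype F]

/-- a subgroup of `SL₂(F)` containing the centre, a nontrivial upper unipotent, a nontrivial lower
unipotent and at least four upper unipotents: its upper unipotents are parametrised by a
multiple of a subfield -/
theorem dk (p : ℕ) [Fact p.Prime] [CharP F p] (K : Subgroup (S2 F)) (hcen : Subgroup.center (S2 F) ≤ K) {c1 : F} (hc1 : c1 ≠ 0)
    (h1 : uu c1 ∈ K) {c2 : F} (hc2 : c2 ≠ 0) (h2 : ll c2 ∈ K)
    (h4 : 4 ≤ Nat.card {a : F // uu a ∈ K}) :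
    ∃ (k : Subfield F) (s : F), s ≠ 0 ∧ ∀ a : F, uu a ∈ K ↔ s * a ∈ k := by
  classical
  haveI : Finite (S2 F) := inferInstanceAs (Finite {A : Matrix (Fin 2) (Fin 2) F // A.det = 1})
  have hP0 : IsPGroup p ((slU F).comap K.subtype) :=
    (isPGroup_slU p).comap_of_injective K.subtype K.subtype_injective
  obtain ⟨U, hU⟩ := hP0.exists_le_sylow
  have huu_slU : ∀ a : F, uu a ∈ slU F := by
    intro a
    rw [mem_slU_iff']
    exact ⟨rfl, rfl, rfl⟩
  have hu0U : (⟨uu c1, h1⟩ : K) ∈ U := hU (by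
    rw [Subgroup.mem_comap]; exact huu_slU c1)
  have hu0ne : uu c1 ≠ (1 : S2 F) := by
    intro h
    have h' := congrArg (fun g : S2 F => g.1 0 1) h
    simp only [uu_01, one_ent01] at h'
    exact hc1 h'
  obtain ⟨h, hh⟩ := exists_conj p K.subtype U
  have hh0 := hh _ hu0U
  rw [conjHom_apply] at hh0
  have hut : (h⁻¹).1 1 0 = 0 := by
    apply ut_of_conj_mem_slU h⁻¹ (uu c1) (huu_slU c1) hu0ne
    rw [inv_inv]
    exact hh0
  have hut' : h.1 1 0 = 0 := by
    rw [inv_10] at hut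
    exact neg_eq_zero.mp hut
  have inU : ∀ u ∈ U, ((u : K) : S2 F) ∈ slU F := by
    intro u hu
    have h5 := hh u hu
    rw [conjHom_apply] at h5
    have h6 := conj_mem_slU h _ hut' h5
    have e : h * (h⁻¹ * K.subtype u * h) * h⁻¹ = (u : S2 F) := by
      show h * (h⁻¹ * (u : S2 F) * h) * h⁻¹ = (u : S2 F)
      group
    rw [e] at h6
    exact h6
  have hne : (U : Subgroup K) ≠ ⊥ := by
    intro hbot
    have hm : (⟨uu c1, h1⟩ : K) ∈ (U : Subgroup K) := hu0U
    rw [hbot, Subgroup.mem_bot] at hm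
    exact hu0ne (congrArg Subtype.val hm)
  have S : Setup p K U := ⟨hcen, inU, hne⟩
  have hBK : BK K ≠ ⊤ := by
    intro htop
    have hm : (⟨ll c2, h2⟩ : K) ∈ BK K := by rw [htop]; trivial
    rw [mem_BK] at hm
    exact hc2 hm
  have hcardU : 4 ≤ Nat.card (U : Subgroup K) := by
    refine le_trans h4 ?_
    apply Nat.card_le_card_of_injective (fun a : {a : F // uu a ∈ K} =>
      (⟨⟨uu a.1, a.2⟩, (S.mem_U_iff _).mp (huu_slU a.1)⟩ : (U : Subgroup K)))
    intro a b hab
    have h7 := congrArg (fun x : (U : Subgroup K) => ((x : K) : S2 F).1 0 1) hab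
    exact Subtype.ext h7
  haveI : (ZK K).Normal := by
    unfold ZK
    infer_instance
  rcases S.main (QuotientGroup.mk' (ZK K)) (QuotientGroup.mk'_surjective _)
      (QuotientGroup.ker_mk' _) hBK with hidx | ⟨h2', -⟩ | ⟨h3', -⟩
  · obtain ⟨s, x0, hL⟩ := S.hyp hidx
    obtain ⟨k, -, hk, -⟩ := ident p hL
    refine ⟨k, (s : F), s.ne_zero, fun a => ?_⟩
    rw [hk, ← theta_uu s x0 a]
    constructor
    · intro ha
      exact Subgroup.mem_map_of_mem _ ha
    · intro ha
      obtain ⟨y, hy, hya⟩ := ha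
      have : y = uu a := (theta s x0).injective hya
      rw [← this]
      exact hy
  · rw [h2'] at hcardU
    omega
  · rw [h3'] at hcardU
    omega

end dk

section lift

variable {ι : Type} [Fintype ι] [DecidableEq ι] {F : Type*} [Field F]
variable {M : Subgroup (GL ι F)}

/-- the element `h` of `SL₂` is induced on the plane `⟨e, u⟩` (up to sign) by an element of `M` -/
def Lift (M : Subgroup (GL ι F)) (e u : ι → F) (h : S2 F) : Prop :=
  ∃ d ∈ M, ∃ s : F, s * s = 1 ∧
    (d : Matrix ι ι F) *ᵥ e = s • (h.1 0 0 • e + h.1 1 0 • u) ∧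
    (d : Matrix ι ι F) *ᵥ u = s • (h.1 0 1 • e + h.1 1 1 • u)

lemma Lift.one (e u : ι → F) : Lift M e u 1 := by
  refine ⟨1, M.one_mem, 1, one_mul 1, ?_, ?_⟩
  · rw [Units.val_one, Matrix.one_mulVec, one_ent00, one_ent10, one_smul, one_smul, zero_smul,
      add_zero]
  · rw [Units.val_one, Matrix.one_mulVec, one_ent01, one_ent11, one_smul, zero_smul, one_smul,
      zero_add]

lemma Lift.mul {e u : ι → F} {h1 h2 : S2 F} (H1 : Lift M e u h1) (H2 : Lift M e u h2) :
    Lift M e u (h1 * h2) := by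
  obtain ⟨d1, hd1, s1, hs1, he1, hu1⟩ := H1
  obtain ⟨d2, hd2, s2, hs2, he2, hu2⟩ := H2
  refine ⟨d1 * d2, M.mul_mem hd1 hd2, s1 * s2, by rw [mul_mul_mul_comm, hs1, hs2, mul_one],
    ?_, ?_⟩
  · rw [Units.val_mul, ← Matrix.mulVec_mulVec, he2, Matrix.mulVec_smul, Matrix.mulVec_add,
      Matrix.mulVec_smul, Matrix.mulVec_smul, he1, hu1, mul_ent, mul_ent]
    module
  · rw [Units.val_mul, ← Matrix.mulVec_mulVec, hu2, Matrix.mulVec_smul, Matrix.mulVec_add,
      Matrix.mulVec_smul, Matrix.mulVec_smul, he1, hu1, mul_ent, mul_ent]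
    module

lemma Lift.inv {e u : ι → F} {h : S2 F} (H : Lift M e u h) : Lift M e u h⁻¹ := by
  obtain ⟨d, hd, s, hs, he, hu⟩ := H
  have hdet := det_eq h
  refine ⟨d⁻¹, M.inv_mem hd, s, hs, ?_, ?_⟩
  · rw [inv_ent00, inv_ent10]
    have key : (d : Matrix ι ι F) *ᵥ (s • (h.1 1 1 • e + (-h.1 1 0) • u)) = e := by
      rw [Matrix.mulVec_smul, Matrix.mulVec_add, Matrix.mulVec_smul, Matrix.mulVec_smul, he, hu]
      have e1 : s • (h.1 1 1 • s • (h.1 0 0 • e + h.1 1 0 • u) +
          (-h.1 1 0) • s • (h.1 0 1 • e + h.1 1 1 • u))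
          = (s * s * (h.1 0 0 * h.1 1 1 - h.1 0 1 * h.1 1 0)) • e := by module
      rw [e1, hs, hdet, one_mul, one_smul]
    have h7 := gl_inv_apply_apply d (s • (h.1 1 1 • e + (-h.1 1 0) • u))
    rw [key] at h7
    exact h7
  · rw [inv_ent01, inv_ent11]
    have key : (d : Matrix ι ι F) *ᵥ (s • ((-h.1 0 1) • e + h.1 0 0 • u)) = u := by
      rw [Matrix.mulVec_smul, Matrix.mulVec_add, Matrix.mulVec_smul, Matrix.mulVec_smul, he, hu]
      have e1 : s • ((-h.1 0 1) • s • (h.1 0 0 • e + h.1 1 0 • u) +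
          h.1 0 0 • s • (h.1 0 1 • e + h.1 1 1 • u))
          = (s * s * (h.1 0 0 * h.1 1 1 - h.1 0 1 * h.1 1 0)) • u := by module
      rw [e1, hs, hdet, one_mul, one_smul]
    have h7 := gl_inv_apply_apply d (s • ((-h.1 0 1) • e + h.1 0 0 • u))
    rw [key] at h7
    exact h7

theorem lift_closure {e u : ι → F} (gens : Set (S2 F)) (hgens : ∀ h ∈ gens, Lift M e u h) :
    ∀ h ∈ Subgroup.closure gens, Lift M e u h := by
  intro h hh
  induction hh using Subgroup.closure_induction with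
  | mem x hx => exact hgens x hx
  | one => exact Lift.one e u
  | mul x y _ _ hx hy => exact hx.mul hy
  | inv x _ hx => exact hx.inv

end lift

end Cfsg.Agent.Helper93.SubfL
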