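import Cfsg.Agent.Lib.Helper93.SpSfB
import Cfsg.Agent.Lib.Helper93.SubfB
import Cfsg.Agent.Lib.Helper93.SubfC

set_option autoImplicit false
set_option linter.unusedSectionVars false
set_option linter.unusedVariables false
set_option linter.unusedSimpArgs false
set_option linter.style.haveILetI false

/-!
# Subfield subgroups of `Sp_n`: the `SL₂` steps
-/

namespace Cfsg.Agent.Helper93.SubfL.SpSf

open Matrix Cfsg.Geo Cfsg.Agent.Helper93
open Cfsg.Agent.Helper98.Ident Cfsg.Agent.Helper98.Dickson Cfsg.Agent.Helper59.SL2Sub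
open Cfsg.Agent.Helper5 Cfsg.Agent.Helper98.SL2CT

section lift2

variable {ι : Type} [Fintype ι] [DecidableEq ι] {F : Type*} [Field F]
variable {f : (ι → F) → (ι → F) → F} {M : Subgroup (GL ι F)}

/-- the element `h` of `SL₂` is induced on the plane `⟨e, u⟩` by an element of `M` acting as a
sign on the perp of the plane -/
def Lift2 (f : (ι → F) → (ι → F) → F) (M : Subgroup (GL ι F)) (e u : ι → F) (h : S2 F) : Prop :=
  ∃ d ∈ M, ∃ s : F, s * s = 1 ∧
    (d : Matrix ι ι F) *ᵥ e = h.1 0 0 • e + h.1 1 0 • u ∧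
    (d : Matrix ι ι F) *ᵥ u = h.1 0 1 • e + h.1 1 1 • u ∧
    ∀ x : ι → F, f x e = 0 → f x u = 0 → (d : Matrix ι ι F) *ᵥ x = s • x

lemma Lift2.one (e u : ι → F) : Lift2 f M e u 1 := by
  refine ⟨1, M.one_mem, 1, one_mul 1, ?_, ?_, ?_⟩
  · rw [Units.val_one, Matrix.one_mulVec, one_ent00, one_ent10, one_smul, zero_smul, add_zero]
  · rw [Units.val_one, Matrix.one_mulVec, one_ent01, one_ent11, one_smul, zero_smul, zero_add]
  · intro x _ _
    rw [Units.val_one, Matrix.one_mulVec, one_smul]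

lemma Lift2.mul {e u : ι → F} {h1 h2 : S2 F} (H1 : Lift2 f M e u h1) (H2 : Lift2 f M e u h2) :
    Lift2 f M e u (h1 * h2) := by
  obtain ⟨d1, hd1, s1, hs1, he1, hu1, hp1⟩ := H1
  obtain ⟨d2, hd2, s2, hs2, he2, hu2, hp2⟩ := H2
  refine ⟨d1 * d2, M.mul_mem hd1 hd2, s1 * s2, by rw [mul_mul_mul_comm, hs1, hs2, mul_one],
    ?_, ?_, ?_⟩
  · rw [Units.val_mul, ← Matrix.mulVec_mulVec, he2, Matrix.mulVec_add, Matrix.mulVec_smul,
      Matrix.mulVec_smul, he1, hu1, mul_ent, mul_ent]
    module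
  · rw [Units.val_mul, ← Matrix.mulVec_mulVec, hu2, Matrix.mulVec_add, Matrix.mulVec_smul,
      Matrix.mulVec_smul, he1, hu1, mul_ent, mul_ent]
    module
  · intro x hx1 hx2
    rw [Units.val_mul, ← Matrix.mulVec_mulVec, hp2 x hx1 hx2, Matrix.mulVec_smul, hp1 x hx1 hx2,
      smul_smul, mul_comm s2 s1]

lemma Lift2.inv {e u : ι → F} {h : S2 F} (H : Lift2 f M e u h) : Lift2 f M e u h⁻¹ := by
  obtain ⟨d, hd, s, hs, he, hu, hp⟩ := H
  have hdet := det_eq h
  refine ⟨d⁻¹, M.inv_mem hd, s, hs, ?_, ?_, ?_⟩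
  · rw [inv_ent00, inv_ent10]
    have key : (d : Matrix ι ι F) *ᵥ (h.1 1 1 • e + (-h.1 1 0) • u) = e := by
      rw [Matrix.mulVec_add, Matrix.mulVec_smul, Matrix.mulVec_smul, he, hu]
      have e1 : h.1 1 1 • (h.1 0 0 • e + h.1 1 0 • u) + (-h.1 1 0) • (h.1 0 1 • e + h.1 1 1 • u)
          = (h.1 0 0 * h.1 1 1 - h.1 0 1 * h.1 1 0) • e := by module
      rw [e1, hdet, one_smul]
    have h7 := gl_inv_apply_apply d (h.1 1 1 • e + (-h.1 1 0) • u)
    rw [key] at h7
    exact h7
  · rw [inv_ent01, inv_ent11]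
    have key : (d : Matrix ι ι F) *ᵥ ((-h.1 0 1) • e + h.1 0 0 • u) = u := by
      rw [Matrix.mulVec_add, Matrix.mulVec_smul, Matrix.mulVec_smul, he, hu]
      have e1 : (-h.1 0 1) • (h.1 0 0 • e + h.1 1 0 • u) + h.1 0 0 • (h.1 0 1 • e + h.1 1 1 • u)
          = (h.1 0 0 * h.1 1 1 - h.1 0 1 * h.1 1 0) • u := by module
      rw [e1, hdet, one_smul]
    have h7 := gl_inv_apply_apply d ((-h.1 0 1) • e + h.1 0 0 • u)
    rw [key] at h7
    exact h7
  · intro x hx1 hx2
    have h7 := gl_inv_apply_apply d (s • x)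
    rw [Matrix.mulVec_smul, hp x hx1 hx2, smul_smul, hs, one_smul] at h7
    exact h7

theorem lift2_closure {e u : ι → F} (gens : Set (S2 F)) (hgens : ∀ h ∈ gens, Lift2 f M e u h) :
    ∀ h ∈ Subgroup.closure gens, Lift2 f M e u h := by
  intro h hh
  induction hh using Subgroup.closure_induction with
  | mem x hx => exact hgens x hx
  | one => exact Lift2.one e u
  | mul x y _ _ hx hy => exact hx.mul hy
  | inv x _ hx => exact hx.inv

lemma lift2_center (hneg : (-1 : GL ι F) ∈ M) {e u : ι → F} {h : S2 F}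
    (hz : h ∈ Subgroup.center (S2 F)) : Lift2 f M e u h := by
  obtain ⟨h10, h01, hd, h00⟩ := center_entries hz
  rcases h00 with h' | h'
  · refine ⟨1, M.one_mem, 1, one_mul 1, ?_, ?_, ?_⟩
    · rw [Units.val_one, Matrix.one_mulVec, h10, h', one_smul, zero_smul, add_zero]
    · rw [Units.val_one, Matrix.one_mulVec, h01, ← hd, h', one_smul, zero_smul, zero_add]
    · intro x _ _
      rw [Units.val_one, Matrix.one_mulVec, one_smul]
  · refine ⟨-1, hneg, -1, by ring, ?_, ?_, ?_⟩
    · rw [Units.val_neg, Units.val_one, Matrix.neg_mulVec, Matrix.one_mulVec, h10, h', zero_smul,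
        add_zero, neg_smul, one_smul]
    · rw [Units.val_neg, Units.val_one, Matrix.neg_mulVec, Matrix.one_mulVec, h01, ← hd, h',
        zero_smul, zero_add, neg_smul, one_smul]
    · intro x _ _
      rw [Units.val_neg, Units.val_one, Matrix.neg_mulVec, Matrix.one_mulVec, neg_smul, one_smul]

/-- an upper unipotent of the induced group gives a transvection of `M` -/
lemma lift_uu (hf : IsSymplecticForm f) {e u : ι → F} (heu : f e u ≠ 0) {a : F}
    (H : Lift2 f M e u (uu a)) :
    stv hf e (a / f u e) ∈ M ∨ ((2 : F) ≠ 0 ∧ stv hf e (2 * a / f u e) ∈ M) := by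
  obtain ⟨d, hd, s, hs, he, hu, hp⟩ := H
  rw [uu_00, uu_10, one_smul, zero_smul, add_zero] at he
  rw [uu_01, uu_11, one_smul] at hu
  have hbl := hf.bilinear
  have hue : f u e ≠ 0 := by rw [hf.skew]; exact neg_ne_zero.mpr heu
  by_cases hs1 : s = 1
  · left
    have : d = stv hf e (a / f u e) := by
      apply gl_ext_plane hf heu
      · rw [he, stv_apply, hf.alternating, mul_zero, zero_smul, add_zero]
      · rw [hu, stv_apply, div_mul_cancel₀ a hue, add_comm]
      · intro x hx1 hx2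
        rw [hp x hx1 hx2, hs1, one_smul, stv_apply, hx1, mul_zero, zero_smul, add_zero]
    rw [← this]; exact hd
  · right
    have h2 : (2 : F) ≠ 0 := by
      intro h2
      apply hs1
      have h0 : (s - 1) * (s - 1) = 0 := by linear_combination hs + (1 - s) * h2
      exact sub_eq_zero.mp (mul_self_eq_zero.mp h0)
    refine ⟨h2, ?_⟩
    have : d * d = stv hf e (2 * a / f u e) := by
      apply gl_ext_plane hf heu
      · rw [gl_mul_apply, he, he, stv_apply, hf.alternating, mul_zero, zero_smul, add_zero]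
      · rw [gl_mul_apply, hu, Matrix.mulVec_add, Matrix.mulVec_smul, he, hu, stv_apply,
          div_mul_cancel₀ _ hue]
        module
      · intro x hx1 hx2
        rw [gl_mul_apply, hp x hx1 hx2, Matrix.mulVec_smul, hp x hx1 hx2, smul_smul, hs, one_smul,
          stv_apply, hx1, mul_zero, zero_smul, add_zero]
    rw [← this]; exact M.mul_mem hd hd

end lift2

section fields

variable {F : Type*} [Field F] [Fintype F] {F₀ : Subfield F}

/-- a subfield strictly above a subfield of prime index is everything -/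
lemma subfield_top_of {r : ℕ} (hr : r.Prime) (hcard : Fintype.card F = Nat.card F₀ ^ r)
    (k : Subfield F) (hle : ∀ c ∈ F₀, c ∈ k) {a : F} (ha : a ∈ k) (haF : a ∉ F₀) :
    ∀ x : F, x ∈ k := by
  have hfr : (Module.finrank F₀ F).Prime := by rw [finrank_eq_of_card hcard]; exact hr
  haveI := Subalgebra.isSimpleOrder_of_finrank_prime F₀ F hfr
  let A : Subalgebra F₀ F :=
    { carrier := (k : Set F)
      mul_mem' := fun hc hd => k.mul_mem hc hd
      one_mem' := k.one_mem
      add_mem' := fun hc hd => k.add_mem hc hd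
      zero_mem' := k.zero_mem
      algebraMap_mem' := fun r => hle _ r.2 }
  rcases eq_bot_or_eq_top A with hb | ht
  · exfalso
    have : a ∈ (⊥ : Subalgebra F₀ F) := by rw [← hb]; exact ha
    rw [Algebra.mem_bot] at this
    obtain ⟨x, rfl⟩ := this
    exact haF x.2
  · intro x
    have : x ∈ A := by rw [ht]; exact Algebra.mem_top
    exact this

/-- Dickson: two opposite root groups over `F₀`, twisted by a scalar whose square is irrational,
generate a group with an irrational unipotent (odd characteristic) -/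
theorem dk2 (p : ℕ) [Fact p.Prime] [CharP F p] (F₀ : Subfield F) (h2 : (2 : F) ≠ 0)
    (K : Subgroup (S2 F)) (hcen : Subgroup.center (S2 F) ≤ K) {t : F} (ht : t ≠ 0)
    (ht2 : t * t ∉ F₀) (hu : ∀ c ∈ F₀, uu (c * t) ∈ K) (hl : ∀ c ∈ F₀, ll (c * t) ∈ K)
    (h3 : 3 ≤ Nat.card F₀) (h5 : 4 ≤ Nat.card F₀ ∨ ¬ 5 ∣ Nat.card (S2 F)) :
    ∃ a : F, uu a ∈ K ∧ ∀ c ∈ F₀, a ≠ c * t := by
  classical
  by_contra hcon
  push Not at hcon
  haveI : Finite (S2 F) := inferInstanceAs (Finite {A : Matrix (Fin 2) (Fin 2) F // A.det = 1})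
  have hP0 : IsPGroup p ((slU F).comap K.subtype) :=
    (isPGroup_slU p).comap_of_injective K.subtype K.subtype_injective
  obtain ⟨U, hU⟩ := hP0.exists_le_sylow
  have huu_slU : ∀ a : F, uu a ∈ slU F := by
    intro a
    rw [mem_slU_iff']
    exact ⟨rfl, rfl, rfl⟩
  have h1 : uu t ∈ K := by
    have := hu 1 F₀.one_mem
    rwa [one_mul] at this
  have hl1 : ll t ∈ K := by
    have := hl 1 F₀.one_mem
    rwa [one_mul] at this
  have hl2 : ll (-t) ∈ K := by
    have := hl (-1) (F₀.neg_mem F₀.one_mem)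
    rwa [neg_one_mul] at this
  have hu0U : (⟨uu t, h1⟩ : K) ∈ U := hU (by
    rw [Subgroup.mem_comap]; exact huu_slU t)
  have hu0ne : uu t ≠ (1 : S2 F) := by
    intro h
    have h' := congrArg (fun g : S2 F => g.1 0 1) h
    simp only [uu_01, one_ent01] at h'
    exact ht h'
  obtain ⟨h, hh⟩ := exists_conj p K.subtype U
  have hh0 := hh _ hu0U
  rw [conjHom_apply] at hh0
  have hut : (h⁻¹).1 1 0 = 0 := by
    apply ut_of_conj_mem_slU h⁻¹ (uu t) (huu_slU t) hu0ne
    rw [inv_inv]
    exact hh0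
  have hut' : h.1 1 0 = 0 := by
    rw [inv_10] at hut
    exact neg_eq_zero.mp hut
  have inU : ∀ u ∈ U, ((u : K) : S2 F) ∈ slU F := by
    intro u hu
    have h5 := hh u hu
    rw [conjHom_apply] at h5
    have h6 := conj_mem_slU h _ hut' h5
    have e : h * (h⁻¹ * K.subtype u * h) * h⁻¹ = (u : S2 F) := by
      show h * (h⁻¹ * (u : S2 F) * h) * h⁻¹ = (u : S2 F)
      group
    rw [e] at h6
    exact h6
  have hne : (U : Subgroup K) ≠ ⊥ := by
    intro hbot
    have hm : (⟨uu t, h1⟩ : K) ∈ (U : Subgroup K) := hu0U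
    rw [hbot, Subgroup.mem_bot] at hm
    exact hu0ne (congrArg Subtype.val hm)
  have S : Setup p K U := ⟨hcen, inU, hne⟩
  have hBK : BK K ≠ ⊤ := by
    intro htop
    have hm : (⟨ll t, hl1⟩ : K) ∈ BK K := by rw [htop]; trivial
    rw [mem_BK] at hm
    exact ht hm
  have hcardU : Nat.card F₀ ≤ Nat.card (U : Subgroup K) := by
    apply Nat.card_le_card_of_injective (fun c : F₀ =>
      (⟨⟨uu (c.1 * t), hu c.1 c.2⟩, (S.mem_U_iff _).mp (huu_slU _)⟩ : (U : Subgroup K)))
    intro a b hab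
    have h7 := congrArg (fun x : (U : Subgroup K) => ((x : K) : S2 F).1 0 1) hab
    exact Subtype.ext (mul_right_cancel₀ ht h7)
  haveI : (ZK K).Normal := by
    unfold ZK
    infer_instance
  rcases S.main (QuotientGroup.mk' (ZK K)) (QuotientGroup.mk'_surjective _)
      (QuotientGroup.ker_mk' _) hBK with hidx | ⟨h2', -⟩ | ⟨h3', hA⟩
  · obtain ⟨s, x0, hL⟩ := S.hyp hidx
    obtain ⟨k, -, hk, hdec⟩ := ident p hL
    have hs0 : (s : F) ≠ 0 := s.ne_zero
    -- pulling back upper unipotents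
    have hpull : ∀ x : F, x ∈ k → uu ((s : F)⁻¹ * x) ∈ K := by
      intro x hx
      have hxL := (hk x).1 hx
      obtain ⟨y, hy, hyx⟩ := Subgroup.mem_map.1 hxL
      have : y = uu ((s : F)⁻¹ * x) := by
        apply (theta s x0).injective
        rw [theta_uu, mul_inv_cancel_left₀ hs0]
        exact hyx
      rw [← this]
      exact hy
    obtain ⟨c1, hc1, hc1e⟩ := hcon _ (hpull 1 k.one_mem)
    rw [mul_one] at hc1e
    have hc10 : c1 ≠ 0 := by
      intro h0
      rw [h0, zero_mul] at hc1e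
      exact inv_ne_zero hs0 hc1e
    have hkF : ∀ x ∈ k, x ∈ F₀ := by
      intro x hx
      obtain ⟨c, hc, hce⟩ := hcon _ (hpull x hx)
      have : x = c * c1⁻¹ := by
        have e1 : x = (s : F) * ((s : F)⁻¹ * x) := by rw [mul_inv_cancel_left₀ hs0]
        have e2 : (s : F) * t = c1⁻¹ := by
          apply eq_inv_of_mul_eq_one_left
          calc (s : F) * t * c1 = (s : F) * (c1 * t) := by ring
            _ = (s : F) * (s : F)⁻¹ := by rw [hc1e]
            _ = 1 := mul_inv_cancel₀ hs0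
        rw [e1, hce, ← e2]
        ring
      rw [this]
      exact F₀.mul_mem hc (F₀.inv_mem hc1)
    -- the product of the first column entries of an element of `L` lies in `k`
    have hprod : ∀ g ∈ K, (theta s x0 g).1 0 0 * (theta s x0 g).1 1 0 ∈ F₀ := by
      intro g hg
      have hgL : theta s x0 g ∈ K.map (theta s x0).toMonoidHom := Subgroup.mem_map_of_mem _ hg
      obtain ⟨τ, -, hτ2, hτ⟩ := hdec _ hgL
      have hτ0 : (τ : F) ≠ 0 := τ.ne_zero
      have e00 := (mem_SLK.1 hτ) 0 0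
      have e10 := (mem_SLK.1 hτ) 1 0
      rw [mul_ent, inv_ent00, inv_ent10, dd_11, dd_10, neg_zero, mul_zero, add_zero] at e00 e10
      have := k.mul_mem (k.mul_mem e00 e10) hτ2
      have e : (theta s x0 g).1 0 0 * ((τ⁻¹ : Fˣ) : F) * ((theta s x0 g).1 1 0 * ((τ⁻¹ : Fˣ) : F))
          * (τ : F) ^ 2 = (theta s x0 g).1 0 0 * (theta s x0 g).1 1 0 := by
        rw [Units.val_inv_eq_inv_val]
        field_simp
      rw [e] at this
      exact hkF _ this
    have p1 := hprod _ hl1
    have p2 := hprod _ hl2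
    rw [theta_00, theta_10, ll_00, ll_10] at p1 p2
    have hts : t * ((s⁻¹ : Fˣ) : F) ∈ F₀ := by
      have h2' : (2 : F) ∈ F₀ := by
        have := F₀.add_mem F₀.one_mem F₀.one_mem
        rwa [one_add_one_eq_two] at this
      have h4 := F₀.sub_mem p1 p2
      have e : (1 - x0 * t) * (t * ((s⁻¹ : Fˣ) : F)) - (1 - x0 * -t) * (-t * ((s⁻¹ : Fˣ) : F))
          = 2 * (t * ((s⁻¹ : Fˣ) : F)) := by ring
      rw [e] at h4
      have : t * ((s⁻¹ : Fˣ) : F) = 2⁻¹ * (2 * (t * ((s⁻¹ : Fˣ) : F))) := by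
        rw [← mul_assoc, inv_mul_cancel₀ h2, one_mul]
      rw [this]
      exact F₀.mul_mem (F₀.inv_mem h2') h4
    apply ht2
    have : t * t = c1⁻¹ * (t * ((s⁻¹ : Fˣ) : F)) := by
      rw [Units.val_inv_eq_inv_val, hc1e]
      field_simp
    rw [this]
    exact F₀.mul_mem (F₀.inv_mem hc1) hts
  · rw [h2'] at hcardU
    omega
  · rcases h5 with h4 | h5'
    · rw [h3'] at hcardU
      omega
    · apply h5'
      obtain ⟨e⟩ := hA
      have c60 : Nat.card (K ⧸ ZK K) = 60 := by
        rw [Nat.card_congr e.toEquiv, nat_card_alternatingGroup]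
        simp [Nat.factorial]
      have hi : (ZK K).index = 60 := by rw [Subgroup.index_eq_card]; exact c60
      have d1 : 60 ∣ Nat.card K := by rw [← hi]; exact (ZK K).index_dvd_card
      have d2 : Nat.card K ∣ Nat.card (S2 F) := Subgroup.card_subgroup_dvd_card K
      exact dvd_trans (by norm_num : 5 ∣ 60) (dvd_trans d1 d2)

end fields

end Cfsg.Agent.Helper93.SubfL.SpSf
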