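import Cfsg.Agent.Lib.Helper93.OSfA3
import Cfsg.Agent.Lib.Helper93.SpSfC

set_option autoImplicit false
set_option linter.unusedSectionVars false
set_option linter.unusedVariables false

namespace Cfsg.Agent.Helper93.SubfL.OSf

open Matrix QuadraticMap Cfsg.Geo Cfsg.Agent.Helper93
open Cfsg.Agent.S0794 Cfsg.Agent.Helper14.ReflGen

variable {ι : Type} [Fintype ι] [DecidableEq ι] {F : Type*} [Field F]
variable {Q : QuadraticForm F (ι → F)} {F₀ : Subfield F} {M : Subgroup (GL ι F)}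

/-! ### helper70: the parameter set `Λ(p,q) = {λ | oE p (λ q) ∈ M}` -/

lemma h70_polar_smul_zero {p q : ι → F} (hpq : polar (⇑Q) p q = 0) (l : F) :
    polar (⇑Q) p (l • q) = 0 := by
  rw [polar_smul_right, hpq, smul_zero]

lemma h70_lam_add {p q : ι → F} (hp : Q p = 0) (hpq : polar (⇑Q) p q = 0) {l m : F}
    (hl : oE Q p (l • q) ∈ M) (hm : oE Q p (m • q) ∈ M) : oE Q p ((l + m) • q) ∈ M := by
  rw [add_smul, ← oE_mul Q hp (h70_polar_smul_zero hpq l) (h70_polar_smul_zero hpq m)]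
  exact M.mul_mem hl hm

lemma h70_lam_neg {p q : ι → F} (hp : Q p = 0) (hpq : polar (⇑Q) p q = 0) {l : F}
    (hl : oE Q p (l • q) ∈ M) : oE Q p ((-l) • q) ∈ M := by
  rw [neg_smul, ← oE_inv Q hp (h70_polar_smul_zero hpq l)]
  exact M.inv_mem hl

lemma h70_lam_rat (C : OCtx Q F₀ M) {p q : ι → F} (hrp : Rat F₀ p) (hrq : Rat F₀ q)
    (hp : Q p = 0) (hpq : polar (⇑Q) p q = 0) {l : F} (hl : l ∈ F₀) :
    oE Q p (l • q) ∈ M :=
  C.oE_mem hrp (Rat.smul hl hrq) hp (h70_polar_smul_zero hpq l)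

lemma h70_lam_swap {p q : ι → F} (hp : Q p = 0) (hq : Q q = 0) (hpq : polar (⇑Q) p q = 0)
    {l : F} (hl : oE Q p (l • q) ∈ M) : oE Q q (l • p) ∈ M := by
  have hqp : polar (⇑Q) q p = 0 := by rw [polar_comm]; exact hpq
  have hlq : Q (l • q) = 0 := by rw [Q_smul', hq, mul_zero]
  have h1 : oE Q p (l • q) = oE Q (l • q) (-p) := oE_swap Q hp hlq (h70_polar_smul_zero hpq l)
  have h2 : oE Q (l • q) (-p) = oE Q q (l • (-p)) :=
    oE_smul_left Q l hq (by rw [polar_neg_right, hqp, neg_zero])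
  have h3 : oE Q q (l • (-p)) = (oE Q q (l • p))⁻¹ := by
    rw [oE_inv Q hq (h70_polar_smul_zero hqp l), smul_neg]
  have h4 : oE Q q (l • p) = (oE Q p (l • q))⁻¹ := by
    rw [h1, h2, h3, inv_inv]
  rw [h4]
  exact M.inv_mem hl

/-- passing from `Λ(p,q)` to `Λ(p,q₂)` inside a rational totally singular triple -/
lemma h70_lam_triple [Finite F] (C : OCtx Q F₀ M) {p q q2 : ι → F} (hrp : Rat F₀ p)
    (hrq : Rat F₀ q) (hrq2 : Rat F₀ q2) (hp : Q p = 0) (hq2 : Q q2 = 0)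
    (hpq : polar (⇑Q) p q = 0) (hpq2 : polar (⇑Q) p q2 = 0) (hqq2 : polar (⇑Q) q q2 = 0)
    (hind : ∀ a b : F, q ≠ a • p + b • q2) {l : F} (hl : oE Q p (l • q) ∈ M) :
    oE Q p (l • q2) ∈ M := by
  have hψ : ∀ k, Rat F₀ ((![p, q2] : Fin 2 → ι → F) k) := by
    intro k; fin_cases k
    · exact hrp
    · exact hrq2
  have hind' : ∀ c : Fin 2 → F, q ≠ ∑ k, c k • (![p, q2] : Fin 2 → ι → F) k := by
    intro c
    rw [Fin.sum_univ_two]
    exact hind (c 0) (c 1)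
  obtain ⟨q', hrq', hqq', hψq'⟩ := exists_rat_dual_fam C.nd C.rat 2 ![p, q2] hψ hrq hind'
  have hpq' : polar (⇑Q) p q' = 0 := hψq' 0
  have hq2q' : polar (⇑Q) q2 q' = 0 := hψq' 1
  have hg : oE Q q2 q' ∈ M := C.oE_mem hrq2 hrq' hq2 hq2q'
  have hq2p : polar (⇑Q) q2 p = 0 := by rw [polar_comm]; exact hpq2
  have hq'p : polar (⇑Q) q' p = 0 := by rw [polar_comm]; exact hpq'
  have hq2q : polar (⇑Q) q2 q = 0 := by rw [polar_comm]; exact hqq2
  have hq'q : polar (⇑Q) q' q = 1 := by rw [polar_comm]; exact hqq'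
  have hgp : ((oE Q q2 q' : GL ι F) : Matrix ι ι F) *ᵥ p = p := by
    rw [oE_apply Q hq2 hq2q', hq2p, hq'p]
    simp
  have hgq : ((oE Q q2 q' : GL ι F) : Matrix ι ι F) *ᵥ (l • q) = l • q + (-l) • q2 := by
    rw [oE_apply Q hq2 hq2q', polar_smul_right, polar_smul_right, hq2q, hq'q]
    simp only [smul_eq_mul, mul_zero, mul_one, zero_smul, add_zero, sub_zero, neg_smul]
    rw [sub_eq_add_neg]
  have h1 := C.conj_mem hg hp (h70_polar_smul_zero hpq l) hl
  rw [hgp, hgq, ← oE_mul Q hp (h70_polar_smul_zero hpq l) (h70_polar_smul_zero hpq2 (-l))] at h1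
  have h2 : oE Q p ((-l) • q2) ∈ M := by
    have := M.mul_mem (M.inv_mem hl) h1
    rwa [inv_mul_cancel_left] at this
  have h3 := h70_lam_neg hp hpq2 h2
  rwa [neg_neg] at h3

/-- the `A₂` commutator relation: `Λ(e₁,f₃) · Λ(e₃,e₂) ⊆ Λ(e₁,e₂)` -/
lemma h70_lam_mul (C : OCtx Q F₀ M) {e1 e2 e3 f3 : ι → F} (h1 : Q e1 = 0) (h2 : Q e2 = 0)
    (h3 : Q e3 = 0) (h12 : polar (⇑Q) e1 e2 = 0) (h13 : polar (⇑Q) e1 e3 = 0)
    (h23 : polar (⇑Q) e2 e3 = 0) (h1f : polar (⇑Q) e1 f3 = 0) (h2f : polar (⇑Q) e2 f3 = 0)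
    (h3f : polar (⇑Q) e3 f3 = 1) (hf : Q f3 = 0) {l m : F} (hl : oE Q e1 (l • f3) ∈ M)
    (hm : oE Q e3 (m • e2) ∈ M) : oE Q e1 ((m * l) • e2) ∈ M := by
  have h32 : polar (⇑Q) e3 e2 = 0 := by rw [polar_comm]; exact h23
  have h21 : polar (⇑Q) e2 e1 = 0 := by rw [polar_comm]; exact h12
  have h31 : polar (⇑Q) e3 e1 = 0 := by rw [polar_comm]; exact h13
  have hf3 : polar (⇑Q) f3 e3 = 1 := by rw [polar_comm]; exact h3f
  have hf2 : polar (⇑Q) f3 e2 = 0 := by rw [polar_comm]; exact h2f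
  have hA3 : ((oE Q e1 (l • f3) : GL ι F) : Matrix ι ι F) *ᵥ e3 = e3 - l • e1 := by
    rw [oE_apply Q h1 (h70_polar_smul_zero h1f l), h13, polar_smul_left, hf3]
    simp
  have hA2 : ((oE Q e1 (l • f3) : GL ι F) : Matrix ι ι F) *ᵥ (m • e2) = m • e2 := by
    rw [oE_apply Q h1 (h70_polar_smul_zero h1f l), polar_smul_right, h12, polar_smul_left,
      polar_smul_right, hf2]
    simp
  have hX := C.conj_mem hl h3 (h70_polar_smul_zero h32 m) hm
  rw [hA3, hA2] at hX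
  -- `v = e3 - l e1`
  have hv : Q (e3 - l • e1) = 0 := by
    have : e3 - l • e1 = e3 + (-l) • e1 := by rw [neg_smul, sub_eq_add_neg]
    rw [this, Q_add', Q_smul', h3, h1, polar_smul_right, h31]
    simp
  have hv2 : polar (⇑Q) (e3 - l • e1) (m • e2) = 0 := by
    rw [polar_smul_right, polar_sub_left, polar_smul_left, h32, h12]
    simp
  have hme2 : Q (m • e2) = 0 := by rw [Q_smul', h2, mul_zero]
  have h2v : polar (⇑Q) e2 (-(e3 - l • e1)) = 0 := by
    rw [polar_neg_right, polar_sub_right, polar_smul_right, h23, h21]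
    simp
  have e1' : oE Q (e3 - l • e1) (m • e2) = oE Q e2 (m • (-(e3 - l • e1))) := by
    rw [oE_swap Q hv hme2 hv2, oE_smul_left Q m h2 h2v]
  -- the inverse of `B`
  have hB : (oE Q e3 (m • e2))⁻¹ = oE Q e2 (m • e3) := by
    have hne : -(m • e2) = (-m) • e2 := by rw [neg_smul]
    have hq : Q ((-m) • e2) = 0 := by rw [Q_smul', h2, mul_zero]
    rw [oE_inv Q h3 (h70_polar_smul_zero h32 m), hne,
      oE_swap Q h3 hq (h70_polar_smul_zero h32 (-m)),
      oE_smul_left Q (-m) h2 (by rw [polar_neg_right, h23, neg_zero])]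
    congr 1
    rw [smul_neg, neg_smul, neg_neg]
  have hprod : oE Q e2 (m • (-(e3 - l • e1))) * oE Q e2 (m • e3) = oE Q e2 ((m * l) • e1) := by
    rw [oE_mul Q h2 (h70_polar_smul_zero h2v m) (h70_polar_smul_zero h23 m)]
    congr 1
    rw [← smul_add, neg_sub, sub_add_cancel, smul_smul]
  have hY : oE Q e2 ((m * l) • e1) ∈ M := by
    rw [← hprod, ← e1', ← hB]
    exact M.mul_mem hX (M.inv_mem hm)
  exact h70_lam_swap h2 h1 h21 hY

/-- (I2) `Λ(p,q) = {λ | oE p (λ q) ∈ M}` for rational t.s. pairs: additive, `⊇ F₀`,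
`Λ(p,q) = Λ(q,p)` (`oE_swap`), `Λ(p,q) ⊆ Λ(p,q₂)` for a rational t.s. triple (conjugate by
`oE q₂ q'`, `q'` a partner of `q` orthogonal to `p, q₂`), and
`[oE e₁ (λ f₃), oE e₃ (μ e₂)] = oE e₁ (-(λ μ) e₂)`: `Λ` is a subfield; `subfield_top_of`. -/
theorem full_line_of_pure [Fintype F] (C : OCtx Q F₀ M) {r : ℕ} (hr : r.Prime)
    (hcard : Fintype.card F = Nat.card F₀ ^ r) {u b : ι → F} {lam : F} (hu : Rat F₀ u)
    (hb : Rat F₀ b) (hu0 : u ≠ 0) (hqu : Q u = 0) (hqb : Q b = 0) (hub : polar (⇑Q) u b = 0)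
    (hind : ∀ a : F, b ≠ a • u) (hlam : lam ∉ F₀) (hmem : oE Q u (lam • b) ∈ M) :
    ∀ μ : F, oE Q u (μ • b) ∈ M := by
  have hbu : polar (⇑Q) b u = 0 := by rw [polar_comm]; exact hub
  have hone : (1 : F) ∈ F₀ := F₀.one_mem
  have hzero : (0 : F) ∈ F₀ := F₀.zero_mem
  -- dual vectors of `u` and `b`
  obtain ⟨p1, hrp1, hup1, hbp1⟩ :=
    exists_rat_dual2_q C.nd C.rat hu hu0 hb hind hone hzero
  obtain ⟨p2, hrp2, hup2, hbp2⟩ :=
    exists_rat_dual2_q C.nd C.rat hu hu0 hb hind hzero hone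
  -- a third singular vector
  have hψ4 : ∀ k, Rat F₀ ((![u, b, p1, p2] : Fin 4 → ι → F) k) := by
    intro k; fin_cases k
    · exact hu
    · exact hb
    · exact hrp1
    · exact hrp2
  obtain ⟨e3, hre3, he30, hqe3, he3ψ⟩ :=
    exists_rat_sing C.nd C.rat 4 ![u, b, p1, p2] hψ4 (by have := C.dim; omega)
  have he3u : polar (⇑Q) e3 u = 0 := he3ψ 0
  have he3b : polar (⇑Q) e3 b = 0 := he3ψ 1
  have he3p1 : polar (⇑Q) e3 p1 = 0 := he3ψ 2
  have he3p2 : polar (⇑Q) e3 p2 = 0 := he3ψ 3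
  have hue3 : polar (⇑Q) u e3 = 0 := by rw [polar_comm]; exact he3u
  have hbe3 : polar (⇑Q) b e3 = 0 := by rw [polar_comm]; exact he3b
  -- `e3` is not in the span of `u, b`
  have hind3 : ∀ c : Fin 2 → F, e3 ≠ ∑ k, c k • (![u, b] : Fin 2 → ι → F) k := by
    intro c hc
    rw [Fin.sum_univ_two] at hc
    simp only [Matrix.cons_val_zero, Matrix.cons_val_one] at hc
    have ha : c 0 = 0 := by
      have := he3p1
      rw [hc, polar_add_left, polar_smul_left, polar_smul_left, hup1, hbp1] at this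
      simpa using this
    have hb' : c 1 = 0 := by
      have := he3p2
      rw [hc, polar_add_left, polar_smul_left, polar_smul_left, hup2, hbp2] at this
      simpa using this
    apply he30
    rw [hc, ha, hb']
    simp
  have hψ2 : ∀ k, Rat F₀ ((![u, b] : Fin 2 → ι → F) k) := by
    intro k; fin_cases k
    · exact hu
    · exact hb
  have he3ψ2 : ∀ k, polar (⇑Q) e3 ((![u, b] : Fin 2 → ι → F) k) = 0 := by
    intro k; fin_cases k
    · exact he3u
    · exact he3b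
  obtain ⟨f3, hrf3, hqf3, he3f3, hψf3⟩ :=
    hyp_partner_fam C.nd C.rat 2 ![u, b] hψ2 hre3 hqe3 he3ψ2 hind3
  have huf3 : polar (⇑Q) u f3 = 0 := hψf3 0
  have hbf3 : polar (⇑Q) b f3 = 0 := hψf3 1
  -- the transfer maps
  have T1 : ∀ l : F, oE Q u (l • b) ∈ M → oE Q u (l • f3) ∈ M := by
    intro l hl
    refine h70_lam_triple C hu hb hrf3 hqu hqf3 hub huf3 hbf3 ?_ hl
    intro a c hc
    have h0 : polar (⇑Q) e3 b = c := by
      rw [hc, polar_add_right, polar_smul_right, polar_smul_right, he3u, he3f3]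
      simp
    rw [he3b] at h0
    apply hind a
    rw [hc, ← h0]
    simp
  have T2 : ∀ m : F, oE Q u (m • b) ∈ M → oE Q e3 (m • b) ∈ M := by
    intro m hm
    have h1 : oE Q b (m • u) ∈ M := h70_lam_swap hqu hqb hub hm
    have h2 : oE Q b (m • e3) ∈ M := by
      refine h70_lam_triple C hb hu hre3 hqb hqe3 hbu hbe3 hue3 ?_ h1
      intro a c hc
      have h0 : polar (⇑Q) u p1 = 0 := by
        rw [hc, polar_add_left, polar_smul_left, polar_smul_left, hbp1, he3p1]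
        simp
      rw [hup1] at h0
      exact one_ne_zero h0
    exact h70_lam_swap hqb hqe3 hbe3 h2
  have Tmul : ∀ l m : F, oE Q u (l • b) ∈ M → oE Q u (m • b) ∈ M →
      oE Q u ((m * l) • b) ∈ M := by
    intro l m hl hm
    exact h70_lam_mul C hqu hqb hqe3 hub hue3 hbe3 huf3 hbf3 he3f3 hqf3 (T1 l hl) (T2 m hm)
  -- the subalgebra `Λ`
  have hfr : (Module.finrank F₀ F).Prime := by rw [finrank_eq_of_card hcard]; exact hr
  have := Subalgebra.isSimpleOrder_of_finrank_prime F₀ F hfr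
  let A : Subalgebra F₀ F :=
    { carrier := {μ : F | oE Q u (μ • b) ∈ M}
      mul_mem' := fun {c d} hc hd => Tmul d c hd hc
      one_mem' := h70_lam_rat C hu hb hqu hub hone
      add_mem' := fun {c d} hc hd => h70_lam_add hqu hub hc hd
      zero_mem' := h70_lam_rat C hu hb hqu hub hzero
      algebraMap_mem' := fun x => h70_lam_rat C hu hb hqu hub x.2 }
  rcases eq_bot_or_eq_top A with hbot | htop
  · exfalso
    have : lam ∈ (⊥ : Subalgebra F₀ F) := by rw [← hbot]; exact hmem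
    rw [Algebra.mem_bot] at this
    obtain ⟨x, rfl⟩ := this
    exact hlam x.2
  · intro μ
    have : μ ∈ A := by rw [htop]; exact Algebra.mem_top
    exact this

end Cfsg.Agent.Helper93.SubfL.OSf
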