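import Cfsg.Agent.Lib.Helper93.OSfA3

set_option autoImplicit false
set_option linter.unusedSectionVars false
set_option linter.unusedVariables false

namespace Cfsg.Agent.Helper93.SubfL.OSf

open Matrix QuadraticMap Cfsg.Geo Cfsg.Agent.Helper93
open Cfsg.Agent.S0794 Cfsg.Agent.Helper14.ReflGen

variable {ι : Type} [Fintype ι] [DecidableEq ι] {F : Type*} [Field F]
variable {Q : QuadraticForm F (ι → F)} {F₀ : Subfield F} {M : Subgroup (GL ι F)}

/-- a full long root group at `(u, q)` gives a full long root group at `(u, q₂)` for a rational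
totally singular independent triple `(u, q, q₂)`: conjugate by `oE q₂ q'`, `q'` a rational singular
partner of `q` orthogonal to `u` and `q₂`. -/
theorem h22_full_line_step [Fintype F] (C : OCtx Q F₀ M) {u q q₂ : ι → F} (hu : Rat F₀ u)
    (hq : Rat F₀ q) (hq₂ : Rat F₀ q₂) (hqu : Q u = 0) (hqq : Q q = 0) (hqq₂ : Q q₂ = 0)
    (huq : polar (⇑Q) u q = 0) (huq₂ : polar (⇑Q) u q₂ = 0) (hqq₂' : polar (⇑Q) q q₂ = 0)
    (hind : ∀ a c : F, q ≠ a • u + c • q₂)
    (hfull : ∀ μ : F, oE Q u (μ • q) ∈ M) : ∀ μ : F, oE Q u (μ • q₂) ∈ M := by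
  intro μ
  obtain ⟨q', hq'r, hq'q, hqq', hψq'⟩ := hyp_partner_fam C.nd C.rat 2 ![u, q₂]
    (by intro k; fin_cases k <;> simp [hu, hq₂]) hq hqq
    (by intro k; fin_cases k <;> simp [huq, hqq₂', polar_comm (⇑Q) q u])
    (by intro c; rw [Fin.sum_univ_two]; simpa using hind (c 0) (c 1))
  have huq' : polar (⇑Q) u q' = 0 := by simpa using hψq' 0
  have hq₂q' : polar (⇑Q) q₂ q' = 0 := by simpa using hψq' 1
  have hgM : oE Q q₂ q' ∈ M := C.oE_mem hq₂ hq'r hqq₂ hq₂q'
  have hp1 : polar (⇑Q) u ((-μ) • q) = 0 := by rw [polar_smul_right, huq, smul_zero]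
  have h1 := C.conj_mem hgM hqu hp1 (hfull (-μ))
  have hgu : ((oE Q q₂ q' : GL ι F) : Matrix ι ι F) *ᵥ u = u := by
    rw [oE_apply Q hqq₂ hq₂q', polar_comm (⇑Q) q₂ u, huq₂, polar_comm (⇑Q) q' u, huq']
    simp
  have hgq : ((oE Q q₂ q' : GL ι F) : Matrix ι ι F) *ᵥ ((-μ) • q) = (-μ) • q + μ • q₂ := by
    rw [oE_apply Q hqq₂ hq₂q', polar_smul_right, polar_smul_right, polar_comm (⇑Q) q₂ q, hqq₂',
      polar_comm (⇑Q) q' q, hqq', hq'q]
    simp
  rw [hgu, hgq] at h1
  have hp2 : polar (⇑Q) u (μ • q) = 0 := by rw [polar_smul_right, huq, smul_zero]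
  have hp3 : polar (⇑Q) u ((-μ) • q + μ • q₂) = 0 := by
    rw [polar_add_right, polar_smul_right, polar_smul_right, huq, huq₂, smul_zero, smul_zero,
      add_zero]
  have h2 := M.mul_mem (hfull μ) h1
  rw [oE_mul Q hqu hp2 hp3] at h2
  have h3 : μ • q + ((-μ) • q + μ • q₂) = μ • q₂ := by module
  rwa [h3] at h2

/-- (I3) from a full long root group to the full Eichler group at `u` -/
theorem ectr_of_full_line [Fintype F] (C : OCtx Q F₀ M) {u b : ι → F} (hu : Rat F₀ u)
    (hb : Rat F₀ b) (hu0 : u ≠ 0) (hqu : Q u = 0) (hqb : Q b = 0) (hub : polar (⇑Q) u b = 0)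
    (hind : ∀ a : F, b ≠ a • u) (hfull : ∀ μ : F, oE Q u (μ • b) ∈ M) : ECtr Q M u := by
  have hn : 13 ≤ Fintype.card ι := C.dim
  obtain ⟨u', hu'r, hqu', huu'⟩ := hyp_partner1_q C.nd C.rat hu hu0 hqu
  -- every rational singular vector orthogonal to `u` has a full line
  have hsing : ∀ s : ι → F, Rat F₀ s → Q s = 0 → polar (⇑Q) u s = 0 →
      ∀ μ : F, oE Q u (μ • s) ∈ M := by
    intro s hs hqs hus μ
    by_cases hsu : ∃ a : F, s = a • u
    · obtain ⟨a, rfl⟩ := hsu
      have h1 := oE_add_smul_self Q hqu (polar_zero_right _ _) (μ * a)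
      rw [zero_add, oE_zero] at h1
      rw [smul_smul, h1]
      exact M.one_mem
    · push Not at hsu
      obtain ⟨b', hb'r, hqb', hbb', hψb'⟩ := hyp_partner_fam C.nd C.rat 1 ![u]
        (by intro k; fin_cases k; simpa using hu) hb hqb
        (by intro k; fin_cases k; simpa [polar_comm (⇑Q) b u] using hub)
        (by intro c; simpa using hind (c 0))
      obtain ⟨s', hs'r, hqs', hss', hψs'⟩ := hyp_partner_fam C.nd C.rat 1 ![u]
        (by intro k; fin_cases k; simpa using hu) hs hqs
        (by intro k; fin_cases k; simpa [polar_comm (⇑Q) s u] using hus)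
        (by intro c; simpa using hsu (c 0))
      have hub' : polar (⇑Q) u b' = 0 := by simpa using hψb' 0
      have hus' : polar (⇑Q) u s' = 0 := by simpa using hψs' 0
      obtain ⟨b₃, hb₃r, hb₃0, hqb₃, hb₃ψ⟩ := exists_rat_sing C.nd C.rat 6 ![u, b, s, u', b', s']
        (by intro k; fin_cases k <;> simp [hu, hb, hs, hu'r, hb'r, hs'r]) (by omega)
      have h3u : polar (⇑Q) b₃ u = 0 := by simpa using hb₃ψ 0
      have h3b : polar (⇑Q) b₃ b = 0 := by simpa using hb₃ψ 1
      have h3s : polar (⇑Q) b₃ s = 0 := by simpa using hb₃ψ 2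
      have h3u' : polar (⇑Q) b₃ u' = 0 := by simpa using hb₃ψ 3
      have h3b' : polar (⇑Q) b₃ b' = 0 := by simpa using hb₃ψ 4
      have h3s' : polar (⇑Q) b₃ s' = 0 := by simpa using hb₃ψ 5
      have hub₃ : polar (⇑Q) u b₃ = 0 := by rw [polar_comm]; exact h3u
      have hind1 : ∀ a c : F, b ≠ a • u + c • b₃ := by
        intro a c h
        have h1 : polar (⇑Q) b b' = 1 := hbb'
        rw [h, polar_add_left, polar_smul_left, polar_smul_left, hub', h3b'] at h1
        simp at h1
      have hind2 : ∀ a c : F, b₃ ≠ a • u + c • s := by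
        intro a c h
        have h1 : polar (⇑Q) b₃ s' = 0 := h3s'
        rw [h, polar_add_left, polar_smul_left, polar_smul_left, hus', hss'] at h1
        have hc : c = 0 := by simpa using h1
        have h2 : polar (⇑Q) b₃ u' = 0 := h3u'
        rw [h, hc, polar_add_left, polar_smul_left, polar_smul_left, huu'] at h2
        have ha : a = 0 := by simpa using h2
        apply hb₃0
        rw [h, ha, hc]
        simp
      have hfull₃ : ∀ μ : F, oE Q u (μ • b₃) ∈ M :=
        h22_full_line_step C hu hb hb₃r hqu hqb hqb₃ hub hub₃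
          (by rw [polar_comm]; exact h3b) hind1 hfull
      exact h22_full_line_step C hu hb₃r hs hqu hqb₃ hqs hub₃ hus h3s hind2 hfull₃ μ
  -- every rational vector orthogonal to `u` has a full line
  have hrat : ∀ v : ι → F, Rat F₀ v → polar (⇑Q) u v = 0 → ∀ μ : F, oE Q u (μ • v) ∈ M := by
    intro v hv huv μ
    by_cases hqv : Q v = 0
    · exact hsing v hv hqv huv μ
    · obtain ⟨a, har, ha0, hqa, haψ⟩ := exists_rat_sing C.nd C.rat 3 ![u, v, u']
        (by intro k; fin_cases k <;> simp [hu, hv, hu'r]) (by omega)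
      have hau : polar (⇑Q) a u = 0 := by simpa using haψ 0
      have hav : polar (⇑Q) a v = 0 := by simpa using haψ 1
      have hau' : polar (⇑Q) a u' = 0 := by simpa using haψ 2
      have hua : polar (⇑Q) u a = 0 := by rw [polar_comm]; exact hau
      have hinda : ∀ c : Fin 2 → F, a ≠ ∑ k, c k • (![u, v] k) := by
        intro c h
        rw [Fin.sum_univ_two] at h
        simp only [Matrix.cons_val_zero, Matrix.cons_val_one] at h
        have h1 : Q a = 0 := hqa
        rw [h, Q_add', Q_smul', Q_smul', hqu, polar_smul_left, polar_smul_right, huv] at h1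
        have hc1 : c 1 = 0 := by
          have : c 1 * c 1 * Q v = 0 := by simpa using h1
          rcases mul_eq_zero.mp this with h2 | h2
          · exact mul_self_eq_zero.mp h2
          · exact absurd h2 hqv
        have h2 : polar (⇑Q) a u' = 0 := hau'
        rw [h, hc1, polar_add_left, polar_smul_left, polar_smul_left, huu'] at h2
        have hc0 : c 0 = 0 := by simpa using h2
        apply ha0
        rw [h, hc0, hc1]
        simp
      obtain ⟨a', ha'r, hqa', haa', hψa'⟩ := hyp_partner_fam C.nd C.rat 2 ![u, v]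
        (by intro k; fin_cases k <;> simp [hu, hv]) har hqa
        (by intro k; fin_cases k <;> simp [hau, hav]) hinda
      have hua' : polar (⇑Q) u a' = 0 := by simpa using hψa' 0
      have hva' : polar (⇑Q) v a' = 0 := by simpa using hψa' 1
      have hva : polar (⇑Q) v a = 0 := by rw [polar_comm]; exact hav
      have hs₁r : Rat F₀ (v + a - Q v • a') :=
        (hv.add har).sub (Rat.smul (C.rat v hv) ha'r)
      have hqs₁ : Q (v + a - Q v • a') = 0 := by
        rw [Q_sub, Q_add', Q_smul', hqa, hqa', polar_smul_right, polar_add_left, hva, hva', haa']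
        simp
      have hus₁ : polar (⇑Q) u (v + a - Q v • a') = 0 := by
        rw [polar_sub_right, polar_add_right, polar_smul_right, huv, hua, hua']
        simp
      have h1 := hsing _ hs₁r hqs₁ hus₁ μ
      have h2 := hsing a har hqa hua (-μ)
      have h3 := hsing a' ha'r hqa' hua' (μ * Q v)
      have hp1 : polar (⇑Q) u (μ • (v + a - Q v • a')) = 0 := by
        rw [polar_smul_right, hus₁, smul_zero]
      have hp2 : polar (⇑Q) u ((-μ) • a) = 0 := by rw [polar_smul_right, hua, smul_zero]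
      have hp3 : polar (⇑Q) u ((μ * Q v) • a') = 0 := by rw [polar_smul_right, hua', smul_zero]
      have hp12 : polar (⇑Q) u (μ • (v + a - Q v • a') + (-μ) • a) = 0 := by
        rw [polar_add_right, hp1, hp2, add_zero]
      have h4 := M.mul_mem (M.mul_mem h1 h2) h3
      rw [oE_mul Q hqu hp1 hp2, oE_mul Q hqu hp12 hp3] at h4
      have h5 : μ • (v + a - Q v • a') + (-μ) • a + (μ * Q v) • a' = μ • v := by module
      rwa [h5] at h4
  -- the general case
  refine ⟨hqu, fun w huw => ?_⟩
  have hψr : Rat F₀ (Cfsg.polarVec (⇑Q) u) := fun j => C.rat.polar hu (Rat.single j)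
  obtain ⟨k, τ, v, hvr, hw, hker⟩ := rat_decomp F₀ w
  have hvu : ∀ j, polar (⇑Q) u (v j) = 0 := by
    intro j
    have h1 := hker (Cfsg.polarVec (⇑Q) u) hψr
      (by rw [Cfsg.Agent.Helper13.polarVec_dotProduct]; exact huw) j
    rwa [Cfsg.Agent.Helper13.polarVec_dotProduct] at h1
  have hsum : ∀ s : Finset (Fin k), polar (⇑Q) u (∑ j ∈ s, τ j • v j) = 0 ∧
      oE Q u (∑ j ∈ s, τ j • v j) ∈ M := by
    intro s
    induction s using Finset.induction_on with
    | empty =>
      rw [Finset.sum_empty, oE_zero]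
      exact ⟨polar_zero_right _ _, M.one_mem⟩
    | insert j s hj ih =>
      rw [Finset.sum_insert hj]
      have hp : polar (⇑Q) u (τ j • v j) = 0 := by rw [polar_smul_right, hvu, smul_zero]
      refine ⟨by rw [polar_add_right, hp, ih.1, add_zero], ?_⟩
      rw [← oE_mul Q hqu hp ih.1]
      exact M.mul_mem (hrat (v j) (hvr j) (hvu j) (τ j)) ih.2
  have hmem := (hsum Finset.univ).2
  rw [← hw] at hmem
  exact ⟨oE Q u w, hmem, oE_val Q hqu huw⟩

end Cfsg.Agent.Helper93.SubfL.OSf
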