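import Cfsg.Agent.Lib.Helper93.OSfA3

set_option autoImplicit false
set_option linter.unusedSectionVars false
set_option linter.unusedVariables false

namespace Cfsg.Agent.Helper93.SubfL.OSf

open Matrix QuadraticMap Cfsg.Geo Cfsg.Agent.Helper93
open Cfsg.Agent.S0794 Cfsg.Agent.Helper14.ReflGen

variable {ι : Type} [Fintype ι] [DecidableEq ι] {F : Type*} [Field F]
variable {Q : QuadraticForm F (ι → F)} {F₀ : Subfield F} {M : Subgroup (GL ι F)}

/-- (I4) `ECtr` at one rational singular point gives `Ω ≤ M`: conjugate by `oE u' w`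
(`u'` a partner, `w ⊥ u'` rational with `Q w ≠ 0`) to a non-orthogonal point, `ECtr.all`,
`omegaGL_le_EG`. -/
theorem omega_le_of_ectr [Fintype F] (C : OCtx Q F₀ M) {u : ι → F} (hu : Rat F₀ u)
    (hu0 : u ≠ 0) (hqu : Q u = 0) (h : ECtr Q M u) : omegaGL (⇑Q) ≤ M := by
  have hn5 : 5 ≤ Fintype.card ι := le_trans (by norm_num) C.dim
  obtain ⟨u', hu'r, hqu', huu'⟩ := hyp_partner1_q C.nd C.rat hu hu0 hqu
  obtain ⟨x, hxr, hqx, hxu, hxu'⟩ := exists_rat_nonsing2 C.nd C.rat hn5 hu hu'r hqu hqu' huu'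
  have hu'x : polar (⇑Q) u' x = 0 := by rw [polar_comm]; exact hxu'
  have hgM : oE Q u' x ∈ M := C.oE_mem hu'r hxr hqu' hu'x
  have hz := h.conj (oE Q u' x) hgM (C.isom hgM)
  have hzval : ((oE Q u' x : GL ι F) : Matrix ι ι F) *ᵥ u = u + x - Q x • u' := by
    rw [oE_apply Q hqu' hu'x, polar_comm (⇑Q) u' u, huu', hxu]
    simp
  rw [hzval] at hz
  have hβ : polar (⇑Q) u (u + x - Q x • u') ≠ 0 := by
    rw [polar_sub_right, polar_add_right, polar_smul_right, polar_self', hqu,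
      polar_comm (⇑Q) u x, hxu, huu']
    simpa using hqx
  have hall := h.all C.nd hz hβ
  refine le_trans (omegaGL_le_EG Q C.nd hn5) ?_
  unfold EG
  rw [Subgroup.closure_le]
  rintro e ⟨a, b, ha, hab, he⟩
  obtain ⟨e', he'M, he'⟩ := (hall a ha).2 b hab
  have : e = e' := Units.ext (by rw [he, he'])
  rw [SetLike.mem_coe, this]
  exact he'M

end Cfsg.Agent.Helper93.SubfL.OSf
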