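import Cfsg.Agent.Lib.Helper93.OSf0

set_option autoImplicit false
set_option linter.unusedSectionVars false
set_option linter.unusedVariables false

namespace Cfsg.Agent.Helper93.SubfL.OSf

open Matrix QuadraticMap Cfsg.Geo Cfsg.Agent.Helper93
open Cfsg.Agent.S0794 Cfsg.Agent.Helper14.ReflGen

variable {ι : Type} [Fintype ι] [DecidableEq ι] {F : Type*} [Field F]
variable {Q : QuadraticForm F (ι → F)} {F₀ : Subfield F} {M : Subgroup (GL ι F)}

/-- `Ω` as the derived subgroup of the isometry group inside `GL`. -/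
lemma helper12_omegaGL_eq_commutator (Q0 : (ι → F) → F) :
    omegaGL Q0 = ⁅Cfsg.isometryGroup F Q0, Cfsg.isometryGroup F Q0⁆ := by
  unfold omegaGL Cfsg.Omega
  exact Subgroup.map_subtype_commutator _

lemma helper12_mem_isometryGroup (Q0 : (ι → F) → F) (g : GL ι F) :
    g ∈ Cfsg.isometryGroup F Q0 ↔ ∀ u : ι → F, Q0 ((g : Matrix ι ι F) *ᵥ u) = Q0 u := by
  unfold Cfsg.isometryGroup Cfsg.preserving
  constructor
  · intro h u
    exact h u u
  · intro h u v
    exact h u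

/-- the isometry group of a twisted form -/
lemma helper12_isometryGroup_twist (Q0 : (ι → F) → F) (P : GL ι F) {ζ : F} (hζ : ζ ≠ 0) :
    Cfsg.isometryGroup F (fun v : ι → F => ζ * Q0 ((P : Matrix ι ι F) *ᵥ v))
      = (Cfsg.isometryGroup F Q0).map (MulAut.conj P⁻¹).toMonoidHom := by
  ext g
  rw [helper12_mem_isometryGroup, Subgroup.mem_map]
  constructor
  · intro h
    refine ⟨P * g * P⁻¹, ?_, ?_⟩
    · rw [helper12_mem_isometryGroup]
      intro u
      have h1 := h ((P⁻¹ : GL ι F).1 *ᵥ u)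
      have h2 := mul_left_cancel₀ hζ h1
      have e1 : ((P * g * P⁻¹ : GL ι F) : Matrix ι ι F) *ᵥ u
          = (P : Matrix ι ι F) *ᵥ ((g : Matrix ι ι F) *ᵥ ((P⁻¹ : GL ι F).1 *ᵥ u)) := by
        rw [Units.val_mul, Units.val_mul, Matrix.mulVec_mulVec, Matrix.mulVec_mulVec]
      have e2 : (P : Matrix ι ι F) *ᵥ ((P⁻¹ : GL ι F).1 *ᵥ u) = u := by
        rw [Matrix.mulVec_mulVec, ← Units.val_mul, mul_inv_cancel, Units.val_one,
          Matrix.one_mulVec]
      rw [e1, h2, e2]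
    · simp [mul_assoc]
  · rintro ⟨h, hh, rfl⟩ u
    rw [helper12_mem_isometryGroup] at hh
    have h1 := hh ((P : Matrix ι ι F) *ᵥ u)
    have e1 : (P : Matrix ι ι F) *ᵥ
        ((((MulAut.conj P⁻¹).toMonoidHom h : GL ι F) : Matrix ι ι F) *ᵥ u)
        = (h : Matrix ι ι F) *ᵥ ((P : Matrix ι ι F) *ᵥ u) := by
      have : (MulAut.conj P⁻¹).toMonoidHom h = P⁻¹ * h * P := by
        simp
      rw [this, Units.val_mul, Units.val_mul, Matrix.mulVec_mulVec, Matrix.mulVec_mulVec,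
        ← Matrix.mul_assoc, ← Matrix.mul_assoc, ← Units.val_mul, mul_inv_cancel, Units.val_one,
        Matrix.one_mul]
    show ζ * Q0 _ = ζ * Q0 _
    rw [e1, h1]

/-- (T1) `Ω` of a twisted form -/
theorem omegaGL_twist (Q0 : (ι → F) → F) (P : GL ι F) {ζ : F} (hζ : ζ ≠ 0) :
    omegaGL (fun v : ι → F => ζ * Q0 ((P : Matrix ι ι F) *ᵥ v))
      = (omegaGL Q0).map (MulAut.conj P⁻¹).toMonoidHom := by
  rw [helper12_omegaGL_eq_commutator, helper12_omegaGL_eq_commutator,
    helper12_isometryGroup_twist Q0 P hζ, Subgroup.map_commutator]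

end Cfsg.Agent.Helper93.SubfL.OSf
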