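import Cfsg.Agent.Lib.Helper93.OSfC
import Cfsg.Agent.Lib.Helper93.OSfI1
import Cfsg.Agent.Lib.Helper93.OSfI2
import Cfsg.Agent.Lib.Helper93.OSfI3
import Cfsg.Agent.Lib.Helper93.OSfI4
import Cfsg.Agent.Lib.Helper93.OSfT
import Cfsg.Agent.Lib.Helper93.OTS2

set_option autoImplicit false
set_option linter.unusedSectionVars false
set_option linter.unusedVariables false

/-!
# Orthogonal subfield maximality: assembly (helper93)
-/

namespace Cfsg.Agent.Helper93.SubfL.OSf

open Matrix QuadraticMap Cfsg.Geo Cfsg.Agent.Helper93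
open Cfsg.Agent.S0794 Cfsg.Agent.Helper14.ReflGen

variable {ι : Type} [Fintype ι] [DecidableEq ι] {F : Type*} [Field F]
variable {Q : QuadraticForm F (ι → F)} {F₀ : Subfield F} {M : Subgroup (GL ι F)}

/-- an irrational direction at a rational centre forces `M = Ω` -/
theorem omega_le_of_bad [Fintype F] (C : OCtx Q F₀ M) {r : ℕ} (hr : r.Prime)
    (hcard : Fintype.card F = Nat.card F₀ ^ r) (hbad : ¬ ONoBad Q F₀ M) :
    omegaGL (⇑Q) ≤ M := by
  obtain ⟨u, b, lam, hu, hb, hu0, hqu, hqb, hub, hind, hlam, hmem⟩ := bad_pure C hbad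
  have hfull := full_line_of_pure C hr hcard hu hb hu0 hqu hqb hub hind hlam hmem
  exact omega_le_of_ectr C hu hu0 hqu (ectr_of_full_line C hu hb hu0 hqu hqb hub hind hfull)

/-- the subfield group in standard position is maximal in `Ω` of a rational quadratic form -/
theorem oso_max_one [Fintype F] (hQ : (polarBilin Q).Nondegenerate) (hrq : RatQ Q F₀)
    (hn : 13 ≤ Fintype.card ι) {r : ℕ} (hr : r.Prime)
    (hcard : Fintype.card F = Nat.card F₀ ^ r) :
    IsMaximalIn (omegaGL (⇑Q)) (HSO Q F₀) := by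
  refine ⟨hso_lt hQ hrq (by omega) hr hcard, ?_⟩
  intro M' hHM hMG
  have C : OCtx Q F₀ M' := ⟨hQ, hrq, hHM, hMG, hn⟩
  by_cases hN : ONoBad Q F₀ M'
  · left
    exact le_antisymm (le_of_noBad C hN) hHM
  · right
    exact le_antisymm hMG (omega_le_of_bad C hr hcard hN)

/-- a bundled quadratic form with non-degenerate polar form is a non-degenerate quadratic form in
the sense of the statements -/
lemma isNQF_of_bundled (Q : QuadraticForm F (ι → F)) (hQ : (polarBilin Q).Nondegenerate) :
    IsNondegenerateQuadraticForm (⇑Q) := by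
  refine ⟨?_, ⟨?_, ?_, ?_, ?_⟩, ?_⟩
  · intro c v
    rw [QuadraticMap.map_smul, smul_eq_mul, _root_.sq]
  · intro x y v
    exact polar_add_left Q x y v
  · intro c x v
    rw [polar_smul_left, smul_eq_mul]
  · intro v x y
    exact polar_add_right Q v x y
  · intro c v x
    rw [polar_smul_right, smul_eq_mul]
  · intro v hv
    constructor
    · by_contra hcon
      push Not at hcon
      apply hv
      apply hQ.2 v
      intro y
      rw [polarBilin_apply_apply]
      exact hcon y
    · by_contra hcon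
      push Not at hcon
      apply hv
      apply hQ.1 v
      intro y
      rw [polarBilin_apply_apply]
      exact hcon y

/-- twisting a non-degenerate quadratic form by a change of basis and a scalar -/
lemma twist_nd {Q0 : (ι → F) → F} (hQ0 : IsNondegenerateQuadraticForm Q0) (P : GL ι F) {ζ : F}
    (hζ : ζ ≠ 0) :
    IsNondegenerateQuadraticForm (fun v : ι → F => ζ * Q0 ((P : Matrix ι ι F) *ᵥ v)) := by
  have key : ∀ x y : ι → F,
      polar (fun v : ι → F => ζ * Q0 ((P : Matrix ι ι F) *ᵥ v)) x y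
        = ζ * polar Q0 ((P : Matrix ι ι F) *ᵥ x) ((P : Matrix ι ι F) *ᵥ y) := by
    intro x y
    unfold QuadraticMap.polar
    beta_reduce
    rw [Matrix.mulVec_add]
    ring
  refine ⟨?_, ⟨?_, ?_, ?_, ?_⟩, ?_⟩
  · intro c v
    beta_reduce
    rw [Matrix.mulVec_smul, hQ0.smul]
    ring
  · intro x y v
    rw [key, key, key, Matrix.mulVec_add, hQ0.polar_bilinear.add_left]
    ring
  · intro c x v
    rw [key, key, Matrix.mulVec_smul, hQ0.polar_bilinear.smul_left]
    ring
  · intro v x y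
    rw [key, key, key, Matrix.mulVec_add, hQ0.polar_bilinear.add_right]
    ring
  · intro c v x
    rw [key, key, Matrix.mulVec_smul, hQ0.polar_bilinear.smul_right]
    ring
  · intro v hv
    have hPv : (P : Matrix ι ι F) *ᵥ v ≠ 0 := by
      intro h0
      apply hv
      have := gl_inv_apply_apply P v
      rw [← this, h0, Matrix.mulVec_zero]
    obtain ⟨⟨x, hx⟩, ⟨x', hx'⟩⟩ := hQ0.nondegenerate _ hPv
    refine ⟨⟨((P⁻¹ : GL ι F) : Matrix ι ι F) *ᵥ x, ?_⟩,
      ⟨((P⁻¹ : GL ι F) : Matrix ι ι F) *ᵥ x', ?_⟩⟩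
    · rw [key, gl_apply_inv_apply]
      exact mul_ne_zero hζ hx
    · rw [key, gl_apply_inv_apply]
      exact mul_ne_zero hζ hx'

/-- `Ω` of the twisted form, conjugated back -/
lemma omegaGL_twist' (Q0 : (ι → F) → F) (P : GL ι F) {ζ : F} (hζ : ζ ≠ 0) :
    (omegaGL (fun v : ι → F => ζ * Q0 ((P : Matrix ι ι F) *ᵥ v))).map
      (MulAut.conj P).toMonoidHom = omegaGL Q0 := by
  rw [omegaGL_twist Q0 P hζ, Subgroup.map_map]
  have h : (MulAut.conj P).toMonoidHom.comp (MulAut.conj P⁻¹).toMonoidHom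
      = MonoidHom.id (GL ι F) := by
    apply MonoidHom.ext
    intro x
    simp only [MonoidHom.comp_apply, MulEquiv.coe_toMonoidHom, MulAut.conj_apply,
      MonoidHom.id_apply]
    group
  rw [h, Subgroup.map_id]

/-- the subfield groups of a non-degenerate quadratic form are maximal in `Ω` -/
theorem oso_max [Fintype F] {Q0 : (ι → F) → F} (hQ0 : IsNondegenerateQuadraticForm Q0)
    (hn : 13 ≤ Fintype.card ι) {r : ℕ} (hr : r.Prime)
    (hcard : Fintype.card F = Nat.card F₀ ^ r) (P : GL ι F) {ζ : F} (hζ : ζ ≠ 0)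
    (hP : IsQuadFormRationalStructure (fun v : ι → F => ζ * Q0 v) F₀ P) :
    IsMaximalIn (omegaGL Q0) (subfieldSubgroup F₀ P ⊓ omegaGL Q0) := by
  have hQ' := twist_nd hQ0 P hζ
  have hrq : RatQ (bundleQ hQ') F₀ := fun v hv => hP v hv
  have h := isMaximalIn_map (MulAut.conj P)
    (oso_max_one (bundleQ_nondeg hQ') hrq hn hr hcard)
  unfold HSO at h
  rw [Subgroup.map_inf _ _ (MulAut.conj P).toMonoidHom (MulAut.conj P).injective,
    ← subfield_conj, bundleQ_coe, omegaGL_twist' Q0 P hζ] at h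
  exact h

end Cfsg.Agent.Helper93.SubfL.OSf
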