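import Cfsg.Agent.Lib.Helper93.OEich

set_option autoImplicit false
set_option linter.unusedSectionVars false

namespace Cfsg.Agent.Helper93

open Matrix QuadraticMap Cfsg.Geo
open Cfsg.Agent.S0794 Cfsg.Agent.Helper14.ReflGen Cfsg.Agent.Helper13

section osim1

variable {F : Type*} [Field F] {ι : Type} [Fintype ι] [DecidableEq ι]
  (Q : QuadraticForm F (ι → F))

/-- the polynomial of `x ↦ polar Q x x` -/
noncomputable def qPoly : MvPolynomial ι F :=
  ∑ i, ∑ j, MvPolynomial.C (polar (⇑Q) (Pi.single i 1) (Pi.single j 1)) *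
    MvPolynomial.X i * MvPolynomial.X j

lemma polar_eq_sum (a y : ι → F) :
    polar (⇑Q) a y = ∑ j, polar (⇑Q) a (Pi.single j 1) * y j := by
  rw [← polarVec_dotProduct Q a y]
  rfl

lemma qPoly_eval (x : ι → F) : MvPolynomial.eval x (qPoly Q) = polar (⇑Q) x x := by
  unfold qPoly
  simp only [map_sum, map_mul, MvPolynomial.eval_C, MvPolynomial.eval_X]
  rw [polar_eq_sum Q x x]
  apply Finset.sum_congr rfl
  intro i _
  rw [polar_comm (⇑Q) x (Pi.single i 1), polar_eq_sum Q (Pi.single i 1) x, Finset.sum_mul]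
  apply Finset.sum_congr rfl
  intro j _
  ring

lemma qPoly_deg : (qPoly Q).totalDegree ≤ 2 := by
  unfold qPoly
  apply MvPolynomial.totalDegree_finsetSum_le
  intro i _
  apply MvPolynomial.totalDegree_finsetSum_le
  intro j _
  have h1 := MvPolynomial.totalDegree_mul
    (MvPolynomial.C (polar (⇑Q) (Pi.single i 1) (Pi.single j 1)) *
      (MvPolynomial.X i : MvPolynomial ι F))
    (MvPolynomial.X j : MvPolynomial ι F)
  have h2 := MvPolynomial.totalDegree_mul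
    (MvPolynomial.C (polar (⇑Q) (Pi.single i 1) (Pi.single j 1)) : MvPolynomial ι F)
    (MvPolynomial.X i : MvPolynomial ι F)
  rw [MvPolynomial.totalDegree_X] at h1 h2
  rw [MvPolynomial.totalDegree_C] at h2
  omega

/-- the polynomial of a linear functional -/
noncomputable def lPoly (l : ι → F) : MvPolynomial ι F :=
  ∑ i, MvPolynomial.C (l i) * MvPolynomial.X i

lemma lPoly_eval (l x : ι → F) : MvPolynomial.eval x (lPoly l) = l ⬝ᵥ x := by
  unfold lPoly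
  simp only [map_sum, map_mul, MvPolynomial.eval_C, MvPolynomial.eval_X]
  rfl

lemma lPoly_deg (l : ι → F) : (lPoly l).totalDegree ≤ 1 := by
  unfold lPoly
  apply MvPolynomial.totalDegree_finsetSum_le
  intro i _
  have h2 := MvPolynomial.totalDegree_mul (MvPolynomial.C (l i) : MvPolynomial ι F)
    (MvPolynomial.X i)
  rw [MvPolynomial.totalDegree_X, MvPolynomial.totalDegree_C] at h2
  omega

/-- Chevalley-Warning: a common nontrivial zero of two quadratic forms and `k` linear forms -/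
lemma cw_exists [Fintype F] (h2 : (2 : F) ≠ 0) (Q₁ Q₂ : QuadraticForm F (ι → F)) {k : ℕ}
    (L : Fin k → (ι → F)) (hk : 4 + k < Fintype.card ι) :
    ∃ x : ι → F, x ≠ 0 ∧ Q₁ x = 0 ∧ Q₂ x = 0 ∧ ∀ i, L i ⬝ᵥ x = 0 := by
  classical
  obtain ⟨f, hf0, hf1, hf2⟩ : ∃ f : Option (Option (Fin k)) → MvPolynomial ι F,
      f none = qPoly Q₁ ∧ f (some none) = qPoly Q₂ ∧ ∀ i, f (some (some i)) = lPoly (L i) :=
    ⟨fun o => o.elim (qPoly Q₁) (fun o' => o'.elim (qPoly Q₂) (fun i => lPoly (L i))),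
      rfl, rfl, fun _ => rfl⟩
  have hdeg : (∑ o, (f o).totalDegree) < Fintype.card ι := by
    rw [Fintype.sum_option, Fintype.sum_option, hf0, hf1]
    have h1 := qPoly_deg Q₁
    have h1' := qPoly_deg Q₂
    have h3 : ∑ i : Fin k, (f (some (some i))).totalDegree ≤ k := by
      calc ∑ i : Fin k, (f (some (some i))).totalDegree ≤ ∑ _i : Fin k, 1 :=
            Finset.sum_le_sum (fun i _ => by rw [hf2]; exact lPoly_deg (L i))
        _ = k := by simp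
    omega
  have hp : (ringChar F).Prime := CharP.char_is_prime F (ringChar F)
  have hdvd := char_dvd_card_solutions_of_fintype_sum_lt (ringChar F) hdeg
  rw [Fintype.card_eq_nat_card] at hdvd
  have h0mem : ∀ o, MvPolynomial.eval (0 : ι → F) (f o) = 0 := by
    intro o
    rcases o with _ | o
    · rw [hf0, qPoly_eval, polar_zero_left]
    · rcases o with _ | i
      · rw [hf1, qPoly_eval, polar_zero_left]
      · rw [hf2, lPoly_eval, dotProduct_zero]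
  have hne0 : Nonempty {x : ι → F // ∀ o, MvPolynomial.eval x (f o) = 0} := ⟨⟨0, h0mem⟩⟩
  have hpos : 0 < Nat.card {x : ι → F // ∀ o, MvPolynomial.eval x (f o) = 0} := Nat.card_pos
  have hlt : 1 < Nat.card {x : ι → F // ∀ o, MvPolynomial.eval x (f o) = 0} :=
    lt_of_lt_of_le hp.one_lt (Nat.le_of_dvd hpos hdvd)
  rw [Finite.one_lt_card_iff_nontrivial] at hlt
  obtain ⟨⟨x, hx⟩, hxne⟩ := @exists_ne _ hlt
    (⟨0, h0mem⟩ : {x : ι → F // ∀ o, MvPolynomial.eval x (f o) = 0})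
  refine ⟨x, fun h => hxne (Subtype.ext h), ?_, ?_, ?_⟩
  · have h := hx none
    rw [hf0, qPoly_eval, polar_self'] at h
    rcases mul_eq_zero.mp h with h | h
    · exact absurd h h2
    · exact h
  · have h := hx (some none)
    rw [hf1, qPoly_eval, polar_self'] at h
    rcases mul_eq_zero.mp h with h | h
    · exact absurd h h2
    · exact h
  · intro i
    have h := hx (some (some i))
    rwa [hf2, lPoly_eval] at h

lemma exists_dual_pair (l1 l2 : ι → F)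
    (hind : ∀ a b : F, (∀ x, a * (l1 ⬝ᵥ x) + b * (l2 ⬝ᵥ x) = 0) → a = 0 ∧ b = 0) :
    ∃ z1 z2 : ι → F, l1 ⬝ᵥ z1 = 1 ∧ l1 ⬝ᵥ z2 = 0 ∧ l2 ⬝ᵥ z1 = 0 ∧ l2 ⬝ᵥ z2 = 1 := by
  have hz2 : ∃ z, l1 ⬝ᵥ z = 0 ∧ l2 ⬝ᵥ z ≠ 0 := by
    by_contra hcon
    push Not at hcon
    obtain ⟨c, hc⟩ := exists_smul_of_ker_le l1 l2 hcon
    have := hind c (-1) (fun x => by rw [hc, smul_dotProduct, smul_eq_mul]; ring)
    exact absurd this.2 (by norm_num)
  have hz1 : ∃ z, l2 ⬝ᵥ z = 0 ∧ l1 ⬝ᵥ z ≠ 0 := by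
    by_contra hcon
    push Not at hcon
    obtain ⟨c, hc⟩ := exists_smul_of_ker_le l2 l1 hcon
    have := hind 1 (-c) (fun x => by rw [hc, smul_dotProduct, smul_eq_mul]; ring)
    exact absurd this.1 one_ne_zero
  obtain ⟨z2, h12, h22⟩ := hz2
  obtain ⟨z1, h21, h11⟩ := hz1
  refine ⟨(l1 ⬝ᵥ z1)⁻¹ • z1, (l2 ⬝ᵥ z2)⁻¹ • z2, ?_, ?_, ?_, ?_⟩
  · rw [dotProduct_smul, smul_eq_mul, inv_mul_cancel₀ h11]
  · rw [dotProduct_smul, h12, smul_zero]
  · rw [dotProduct_smul, h21, smul_zero]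
  · rw [dotProduct_smul, smul_eq_mul, inv_mul_cancel₀ h22]

lemma pv_indep (hQ : (polarBilin Q).Nondegenerate) {u v : ι → F}
    (h : ∀ s t : F, s • u + t • v = 0 → s = 0 ∧ t = 0) :
    ∀ a b : F, (∀ x, a * (Cfsg.polarVec (⇑Q) u ⬝ᵥ x) + b * (Cfsg.polarVec (⇑Q) v ⬝ᵥ x) = 0) →
      a = 0 ∧ b = 0 := by
  intro a b hab
  apply h
  apply hQ.1
  intro x
  rw [polarBilin_apply_apply, polar_add_left, polar_smul_left, polar_smul_left, smul_eq_mul,
    smul_eq_mul]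
  have := hab x
  rwa [polarVec_dotProduct, polarVec_dotProduct] at this

lemma indep_of_dot {u v φ : ι → F} (hφu : φ ⬝ᵥ u = 1) (hφv : φ ⬝ᵥ v = 0) (hv0 : v ≠ 0) :
    ∀ s t : F, s • u + t • v = 0 → s = 0 ∧ t = 0 := by
  intro s t hst
  have h1 := congrArg (fun y => φ ⬝ᵥ y) hst
  simp only [dotProduct_add, dotProduct_smul, hφu, hφv, smul_eq_mul, mul_one, mul_zero, add_zero,
    dotProduct_zero] at h1
  refine ⟨h1, ?_⟩
  rw [h1, zero_smul, zero_add] at hst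
  rcases smul_eq_zero.mp hst with h | h
  · exact h
  · exact absurd h hv0

lemma riesz (hQ : (polarBilin Q).Nondegenerate) (ψ : ι → F) :
    ∃ y, ∀ x, polar (⇑Q) y x = ψ ⬝ᵥ x := by
  obtain ⟨l, hl⟩ : ∃ l : Module.Dual F (ι → F), ∀ x, l x = ψ ⬝ᵥ x := by
    refine ⟨∑ i, ψ i • (LinearMap.proj i : (ι → F) →ₗ[F] F), fun x => ?_⟩
    simp only [LinearMap.sum_apply, LinearMap.smul_apply, LinearMap.proj_apply, smul_eq_mul]
    rfl
  refine ⟨(LinearMap.BilinForm.toDual (polarBilin Q) hQ).symm l, fun x => ?_⟩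
  rw [← hl x, ← polarBilin_apply_apply, ← LinearMap.BilinForm.toDual_def hQ,
    LinearEquiv.apply_symm_apply]

lemma exists_polar_ne_zero (hQ : (polarBilin Q).Nondegenerate) {e : ι → F} (he : e ≠ 0) :
    ∃ f, polar (⇑Q) e f ≠ 0 := by
  by_contra hcon
  push Not at hcon
  exact he (hQ.1 e (fun y => by rw [polarBilin_apply_apply]; exact hcon y))

/-- a nonzero singular vector perpendicular to three given vectors -/
lemma exists_sing_perp3 [Fintype F] (h2 : (2 : F) ≠ 0) (hn : 8 ≤ Fintype.card ι)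
    (a b c : ι → F) :
    ∃ e : ι → F, e ≠ 0 ∧ Q e = 0 ∧ polar (⇑Q) a e = 0 ∧ polar (⇑Q) b e = 0 ∧
      polar (⇑Q) c e = 0 := by
  obtain ⟨e, he0, heQ, _, hL⟩ := cw_exists h2 Q (0 : QuadraticForm F (ι → F))
    (![Cfsg.polarVec (⇑Q) a, Cfsg.polarVec (⇑Q) b, Cfsg.polarVec (⇑Q) c]) (by omega)
  refine ⟨e, he0, heQ, ?_, ?_, ?_⟩
  · simpa [polarVec_dotProduct] using hL 0
  · simpa [polarVec_dotProduct] using hL 1
  · simpa [polarVec_dotProduct] using hL 2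

lemma exists_sing_partner (hQ : (polarBilin Q).Nondegenerate) {v : ι → F} (hv0 : v ≠ 0)
    (hv : Q v = 0) : ∃ u, Q u = 0 ∧ polar (⇑Q) u v = 1 := by
  obtain ⟨x, hx⟩ := exists_polar_ne_zero Q hQ hv0
  obtain ⟨u0, hu0⟩ : ∃ u0, u0 = x - (Q x / polar (⇑Q) v x) • v := ⟨_, rfl⟩
  have h1 : Q u0 = 0 := by
    rw [hu0, Q_sub, Q_smul', hv, polar_smul_right, smul_eq_mul, polar_comm (⇑Q) x v,
      div_mul_cancel₀ _ hx]
    ring
  have h2' : polar (⇑Q) u0 v = polar (⇑Q) v x := by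
    rw [hu0, polar_sub_left, polar_smul_left, polar_self', hv, polar_comm (⇑Q) x v]
    simp
  refine ⟨(polar (⇑Q) v x)⁻¹ • u0, ?_, ?_⟩
  · rw [Q_smul', h1, mul_zero]
  · rw [polar_smul_left, h2', smul_eq_mul, inv_mul_cancel₀ hx]

lemma exists_sing_perp_not_perp [Fintype F] (h2 : (2 : F) ≠ 0)
    (hQ : (polarBilin Q).Nondegenerate) (hn : 8 ≤ Fintype.card ι) {v w : ι → F} (hv0 : v ≠ 0)
    (hv : Q v = 0) (hvw : polar (⇑Q) v w = 0) (hw : Q w ≠ 0) :
    ∃ s, Q s = 0 ∧ polar (⇑Q) v s = 0 ∧ polar (⇑Q) s w ≠ 0 := by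
  have hvspan : v ∉ Submodule.span F {w} := by
    intro hmem
    obtain ⟨c, hc⟩ := Submodule.mem_span_singleton.mp hmem
    have h1 : Q v = c * c * Q w := by rw [← hc, Q_smul']
    rw [hv] at h1
    have hc0 : c = 0 := by
      rcases mul_eq_zero.mp h1.symm with h | h
      · rcases mul_eq_zero.mp h with h | h <;> exact h
      · exact absurd h hw
    apply hv0
    rw [← hc, hc0, zero_smul]
  obtain ⟨t, htw, htv⟩ := exists_perp_pair Q hQ w v hvspan 1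
  obtain ⟨v', hv'def⟩ : ∃ v', v' = t - Q t • v := ⟨_, rfl⟩
  have hv'Q : Q v' = 0 := by
    rw [hv'def, Q_sub, Q_smul', hv, polar_smul_right, htv]
    simp
  have hvv' : polar (⇑Q) v v' = 1 := by
    rw [hv'def, polar_sub_right, polar_smul_right, polar_self', hv, polar_comm (⇑Q) v t, htv]
    simp
  have hwv' : polar (⇑Q) w v' = 0 := by
    rw [hv'def, polar_sub_right, polar_smul_right, htw, polar_comm (⇑Q) w v, hvw]
    simp
  obtain ⟨e, he0, heQ, hve, hv'e, hwe⟩ := exists_sing_perp3 Q h2 hn v v' w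
  obtain ⟨f1, hf1⟩ := exists_polar_ne_zero Q hQ he0
  obtain ⟨f, hfdef⟩ : ∃ f, f = f1 - polar (⇑Q) v f1 • v' - (polar (⇑Q) w f1 / (2 * Q w)) • w :=
    ⟨_, rfl⟩
  have h2w : (2 : F) * Q w ≠ 0 := mul_ne_zero h2 hw
  have hvf : polar (⇑Q) v f = 0 := by
    rw [hfdef, polar_sub_right, polar_sub_right, polar_smul_right, polar_smul_right, hvv', hvw]
    simp
  have hwf : polar (⇑Q) w f = 0 := by
    rw [hfdef, polar_sub_right, polar_sub_right, polar_smul_right, polar_smul_right, hwv',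
      polar_self', smul_eq_mul, smul_eq_mul, div_mul_cancel₀ _ h2w]
    ring
  have hef : polar (⇑Q) e f = polar (⇑Q) e f1 := by
    rw [hfdef, polar_sub_right, polar_sub_right, polar_smul_right, polar_smul_right,
      polar_comm (⇑Q) e v', hv'e, polar_comm (⇑Q) e w, hwe]
    simp
  have hef0 : polar (⇑Q) e f ≠ 0 := by rw [hef]; exact hf1
  obtain ⟨μ, hμ⟩ : ∃ μ, μ = (-Q w - Q f) / polar (⇑Q) e f := ⟨_, rfl⟩
  obtain ⟨t1, ht1def⟩ : ∃ t1, t1 = f + μ • e := ⟨_, rfl⟩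
  have ht1Q : Q t1 = -Q w := by
    rw [ht1def, Q_add', Q_smul', heQ, polar_smul_right, smul_eq_mul, polar_comm (⇑Q) f e, hμ,
      div_mul_cancel₀ _ hef0]
    ring
  have hvt1 : polar (⇑Q) v t1 = 0 := by
    rw [ht1def, polar_add_right, polar_smul_right, hvf, hve]
    simp
  have hwt1 : polar (⇑Q) w t1 = 0 := by
    rw [ht1def, polar_add_right, polar_smul_right, hwf, hwe]
    simp
  refine ⟨w + t1, ?_, ?_, ?_⟩
  · rw [Q_add', ht1Q, hwt1]
    ring
  · rw [polar_add_right, hvw, hvt1, add_zero]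
  · rw [polar_add_left, polar_self', polar_comm (⇑Q) t1 w, hwt1, add_zero]
    exact h2w

lemma exists_sing_perp_functional [Fintype F] (h2 : (2 : F) ≠ 0)
    (hQ : (polarBilin Q).Nondegenerate) (hn : 8 ≤ Fintype.card ι) {v : ι → F} (hv0 : v ≠ 0)
    (hv : Q v = 0) (ψ : ι → F) (hψ : ¬ ∃ μ : F, ∀ x, ψ ⬝ᵥ x = μ * polar (⇑Q) v x) :
    ∃ u, Q u = 0 ∧ polar (⇑Q) v u = 0 ∧ ψ ⬝ᵥ u ≠ 0 := by
  obtain ⟨w, hvw, hψw⟩ : ∃ w, polar (⇑Q) v w = 0 ∧ ψ ⬝ᵥ w ≠ 0 := by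
    by_contra hcon
    push Not at hcon
    obtain ⟨c, hc⟩ := exists_smul_of_ker_le (Cfsg.polarVec (⇑Q) v) ψ
      (fun x hx => hcon x (by rwa [polarVec_dotProduct] at hx))
    exact hψ ⟨c, fun x => by rw [hc, smul_dotProduct, polarVec_dotProduct, smul_eq_mul]⟩
  by_cases hw : Q w = 0
  · exact ⟨w, hw, hvw, hψw⟩
  · obtain ⟨s, hsQ, hvs, hsw⟩ := exists_sing_perp_not_perp Q h2 hQ hn hv0 hv hvw hw
    by_cases hψs : ψ ⬝ᵥ s = 0
    · refine ⟨w - (Q w / polar (⇑Q) s w) • s, ?_, ?_, ?_⟩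
      · rw [Q_sub, Q_smul', hsQ, polar_smul_right, smul_eq_mul, polar_comm (⇑Q) w s,
          div_mul_cancel₀ _ hsw]
        ring
      · rw [polar_sub_right, polar_smul_right, hvw, hvs]
        simp
      · rw [dotProduct_sub, dotProduct_smul, hψs, smul_zero, sub_zero]
        exact hψw
    · exact ⟨s, hsQ, hvs, hψs⟩

/-- a singular vector `e` and a vector `f` in the common kernel of two independent functionals
with `polar e f = 1` -/
lemma exists_sing_pair [Fintype F] (h2 : (2 : F) ≠ 0) (hQ : (polarBilin Q).Nondegenerate)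
    (hn : 9 ≤ Fintype.card ι) (l1 l2 : ι → F)
    (hind : ∀ a b : F, (∀ x, a * (l1 ⬝ᵥ x) + b * (l2 ⬝ᵥ x) = 0) → a = 0 ∧ b = 0) :
    ∃ e f : ι → F, Q e = 0 ∧ l1 ⬝ᵥ e = 0 ∧ l2 ⬝ᵥ e = 0 ∧ l1 ⬝ᵥ f = 0 ∧ l2 ⬝ᵥ f = 0 ∧
      polar (⇑Q) e f = 1 := by
  obtain ⟨z1, z2, h11, h12, h21, h22⟩ := exists_dual_pair l1 l2 hind
  obtain ⟨e, he0, heQ, _, hL⟩ := cw_exists h2 Q (0 : QuadraticForm F (ι → F))
    (![l1, l2, Cfsg.polarVec (⇑Q) z1, Cfsg.polarVec (⇑Q) z2]) (by omega)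
  have e1 : l1 ⬝ᵥ e = 0 := by simpa using hL 0
  have e2 : l2 ⬝ᵥ e = 0 := by simpa using hL 1
  have e3 : polar (⇑Q) z1 e = 0 := by simpa [polarVec_dotProduct] using hL 2
  have e4 : polar (⇑Q) z2 e = 0 := by simpa [polarVec_dotProduct] using hL 3
  obtain ⟨f1, hf1⟩ := exists_polar_ne_zero Q hQ he0
  obtain ⟨f0, hf0⟩ : ∃ f0, f0 = f1 - (l1 ⬝ᵥ f1) • z1 - (l2 ⬝ᵥ f1) • z2 := ⟨_, rfl⟩
  have g1 : l1 ⬝ᵥ f0 = 0 := by
    rw [hf0, dotProduct_sub, dotProduct_sub, dotProduct_smul, dotProduct_smul, h11, h12]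
    simp
  have g2 : l2 ⬝ᵥ f0 = 0 := by
    rw [hf0, dotProduct_sub, dotProduct_sub, dotProduct_smul, dotProduct_smul, h21, h22]
    simp
  have g3 : polar (⇑Q) e f0 = polar (⇑Q) e f1 := by
    rw [hf0, polar_sub_right, polar_sub_right, polar_smul_right, polar_smul_right,
      polar_comm (⇑Q) e z1, polar_comm (⇑Q) e z2, e3, e4]
    simp
  refine ⟨e, (polar (⇑Q) e f1)⁻¹ • f0, heQ, e1, e2, ?_, ?_, ?_⟩
  · rw [dotProduct_smul, g1, smul_zero]
  · rw [dotProduct_smul, g2, smul_zero]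
  · rw [polar_smul_right, g3, smul_eq_mul, inv_mul_cancel₀ hf1]

lemma omegaGL_le_SL (Q₀ : (ι → F) → F) : omegaGL Q₀ ≤ specialLinear ι F := by
  intro g hg
  unfold Cfsg.Geo.omegaGL at hg
  obtain ⟨x, hx, rfl⟩ := Subgroup.mem_map.1 hg
  have h := Abelianization.commutator_subset_ker
    ((Matrix.GeneralLinearGroup.det : GL ι F →* Fˣ).comp (Cfsg.isometryGroup F Q₀).subtype) hx
  unfold Cfsg.Geo.specialLinear
  rw [MonoidHom.mem_ker] at h ⊢
  exact h

end osim1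

end Cfsg.Agent.Helper93
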