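import Cfsg.Agent.Lib.Helper93.OSim1

set_option autoImplicit false
set_option linter.unusedSectionVars false

namespace Cfsg.Agent.Helper93

open Matrix QuadraticMap Cfsg.Geo
open Cfsg.Agent.S0794 Cfsg.Agent.Helper14.ReflGen Cfsg.Agent.Helper13

section osim2

variable {F : Type*} [Field F] {ι : Type} [Fintype ι] [DecidableEq ι]
  (Q Q' : QuadraticForm F (ι → F))

/-- `M` contains all Eichler transformations of `Q` -/
def HasEich (Q₀ : QuadraticForm F (ι → F)) (M : Subgroup (GL ι F)) : Prop :=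
  ∀ (u w : ι → F) (hu : Q₀ u = 0) (huw : polar (⇑Q₀) u w = 0), eichGL Q₀ u w hu huw ∈ M

lemma osim_case1 [Fintype F] (h2 : (2 : F) ≠ 0) (hQ : (polarBilin Q).Nondegenerate)
    (hn : 9 ≤ Fintype.card ι) {M : Subgroup (GL ι F)} (hM : HasEich Q M) (hM' : HasEich Q' M)
    {v : ι → F} (hv : Q v = 0) (hv' : Q' v = 0)
    (hind : ∀ a b : F, (∀ x, a * (Cfsg.polarVec (⇑Q) v ⬝ᵥ x) +
      b * (Cfsg.polarVec (⇑Q') v ⬝ᵥ x) = 0) → a = 0 ∧ b = 0) :
    ∃ (φ : ι → F) (h : φ ⬝ᵥ v = 0), tv φ v h ∈ M ∧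
      ¬ ∃ μ : F, ∀ x, φ ⬝ᵥ x = μ * polar (⇑Q) v x := by
  obtain ⟨e, f, heQ, hve0, hve0', hvf0, hvf0', hef⟩ := exists_sing_pair Q h2 hQ hn _ _ hind
  have hve : polar (⇑Q) v e = 0 := by rwa [polarVec_dotProduct] at hve0
  have hve' : polar (⇑Q') v e = 0 := by rwa [polarVec_dotProduct] at hve0'
  have hvf : polar (⇑Q) v f = 0 := by rwa [polarVec_dotProduct] at hvf0
  have hvf' : polar (⇑Q') v f = 0 := by rwa [polarVec_dotProduct] at hvf0'
  have hvv : polar (⇑Q) v v = 0 := by rw [polar_self', hv, mul_zero]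
  have hvv' : polar (⇑Q') v v = 0 := by rw [polar_self', hv', mul_zero]
  obtain ⟨c, hc⟩ : ∃ c, c = polar (⇑Q') f e := ⟨_, rfl⟩
  obtain ⟨φ, hφdef⟩ : ∃ φ, φ = c • Cfsg.polarVec (⇑Q) v - Cfsg.polarVec (⇑Q') v := ⟨_, rfl⟩
  have hφ : ∀ x, φ ⬝ᵥ x = c * polar (⇑Q) v x - polar (⇑Q') v x := by
    intro x
    rw [hφdef, sub_dotProduct, smul_dotProduct, polarVec_dotProduct, polarVec_dotProduct,
      smul_eq_mul]
  have hφv : φ ⬝ᵥ v = 0 := by rw [hφ, hvv, hvv']; ring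
  have hE : ∀ x, eichM Q v e *ᵥ x = x + polar (⇑Q) v x • e - polar (⇑Q) e x • v := by
    intro x
    rw [eichM_mulVec, heQ, zero_mul, zero_smul, sub_zero]
  have hE' : ∀ x, eichM Q' v f *ᵥ x = x + polar (⇑Q') v x • f - polar (⇑Q') f x • v
      - (Q' f * polar (⇑Q') v x) • v := fun x => eichM_mulVec Q' v f x
  have p0 : ∀ x, polar (⇑Q) v (eichM Q v e *ᵥ x) = polar (⇑Q) v x := by
    intro x
    rw [hE, polar_sub_right, polar_add_right, polar_smul_right, polar_smul_right, hve, hvv]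
    simp
  have p0' : ∀ x, polar (⇑Q') v (eichM Q' v f *ᵥ x) = polar (⇑Q') v x := by
    intro x
    rw [hE', polar_sub_right, polar_sub_right, polar_add_right, polar_smul_right,
      polar_smul_right, polar_smul_right, hvf', hvv']
    simp
  have p1 : ∀ x, polar (⇑Q) v (eichM Q' v f *ᵥ x) = polar (⇑Q) v x := by
    intro x
    rw [hE', polar_sub_right, polar_sub_right, polar_add_right, polar_smul_right,
      polar_smul_right, polar_smul_right, hvf, hvv]
    simp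
  have p2 : ∀ x, polar (⇑Q) e (eichM Q' v f *ᵥ x) = polar (⇑Q) e x + polar (⇑Q') v x := by
    intro x
    rw [hE', polar_sub_right, polar_sub_right, polar_add_right, polar_smul_right,
      polar_smul_right, polar_smul_right, hef, polar_comm (⇑Q) e v, hve]
    simp
  have p3 : ∀ x, polar (⇑Q') v (eichM Q v e *ᵥ x) = polar (⇑Q') v x := by
    intro x
    rw [hE, polar_sub_right, polar_add_right, polar_smul_right, polar_smul_right, hve', hvv']
    simp
  have p4 : ∀ x, polar (⇑Q') f (eichM Q v e *ᵥ x) =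
      polar (⇑Q') f x + polar (⇑Q) v x * c := by
    intro x
    rw [hE, polar_sub_right, polar_add_right, polar_smul_right, polar_smul_right, ← hc,
      polar_comm (⇑Q') f v, hvf']
    simp
  have hkey : ∀ x, eichM Q v e *ᵥ (eichM Q' v f *ᵥ x) =
      eichM Q' v f *ᵥ (eichM Q v e *ᵥ x) + (φ ⬝ᵥ x) • v := by
    intro x
    have l1 : eichM Q v e *ᵥ (eichM Q' v f *ᵥ x) = eichM Q' v f *ᵥ x + polar (⇑Q) v x • e
        - (polar (⇑Q) e x + polar (⇑Q') v x) • v := by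
      rw [hE, p1, p2]
    have l2 : eichM Q' v f *ᵥ (eichM Q v e *ᵥ x) = eichM Q v e *ᵥ x + polar (⇑Q') v x • f
        - (polar (⇑Q') f x + polar (⇑Q) v x * c) • v - (Q' f * polar (⇑Q') v x) • v := by
      rw [hE', p3, p4]
    rw [l1, l2, hE' x, hE x, hφ x]
    module
  have hφinv : ∀ x, φ ⬝ᵥ (eichM Q' v f *ᵥ (eichM Q v e *ᵥ x)) = φ ⬝ᵥ x := by
    intro x
    rw [hφ, hφ, p1, p0, p0', p3]
  have hEM : eichGL Q v e hv hve ∈ M := hM v e hv hve
  have hE'M : eichGL Q' v f hv' hvf' ∈ M := hM' v f hv' hvf'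
  have hprod : eichGL Q v e hv hve * eichGL Q' v f hv' hvf' =
      tv φ v hφv * (eichGL Q' v f hv' hvf' * eichGL Q v e hv hve) := by
    apply gl_ext
    intro x
    rw [gl_mul_apply, gl_mul_apply, gl_mul_apply, tv_coe, tvMat_mulVec]
    show eichM Q v e *ᵥ (eichM Q' v f *ᵥ x) = eichM Q' v f *ᵥ (eichM Q v e *ᵥ x)
      + (φ ⬝ᵥ (eichM Q' v f *ᵥ (eichM Q v e *ᵥ x))) • v
    rw [hφinv, hkey]
  have hmem : tv φ v hφv ∈ M := by
    have : tv φ v hφv = eichGL Q v e hv hve * eichGL Q' v f hv' hvf' *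
        (eichGL Q' v f hv' hvf' * eichGL Q v e hv hve)⁻¹ := by
      rw [hprod, mul_inv_cancel_right]
    rw [this]
    exact M.mul_mem (M.mul_mem hEM hE'M) (M.inv_mem (M.mul_mem hE'M hEM))
  refine ⟨φ, hφv, hmem, ?_⟩
  rintro ⟨μ, hμ⟩
  have := hind (c - μ) (-1) (fun x => by
    have := hμ x
    rw [hφ] at this
    rw [polarVec_dotProduct, polarVec_dotProduct]
    linear_combination this)
  exact absurd this.2 (by norm_num)

lemma osim_case2a {M : Subgroup (GL ι F)} (hM : HasEich Q M) (hM' : HasEich Q' M)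
    {v w : ι → F} (hv : Q v = 0) (h2 : (2 : F) ≠ 0) (lam : F)
    (hlam : ∀ x, polar (⇑Q') v x = lam * polar (⇑Q) v x) (hvw : polar (⇑Q) v w = 0)
    (hnp : ¬ ∃ μ : F, ∀ x, lam * polar (⇑Q) w x - polar (⇑Q') w x = μ * polar (⇑Q) v x) :
    ∃ (φ : ι → F) (h : φ ⬝ᵥ v = 0), tv φ v h ∈ M ∧
      ¬ ∃ μ : F, ∀ x, φ ⬝ᵥ x = μ * polar (⇑Q) v x := by
  have hvv : polar (⇑Q) v v = 0 := by rw [polar_self', hv, mul_zero]
  have hvv' : polar (⇑Q') v v = 0 := by rw [hlam, hvv, mul_zero]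
  have hv' : Q' v = 0 := by
    have h1 := polar_self' Q' v
    rw [hvv'] at h1
    rcases mul_eq_zero.mp h1.symm with h | h
    · exact absurd h h2
    · exact h
  have hvw' : polar (⇑Q') v w = 0 := by rw [hlam, hvw, mul_zero]
  have hwv' : polar (⇑Q') w v = 0 := by rw [polar_comm, hvw']
  have hvw2 : polar (⇑Q) v ((-lam) • w) = 0 := by rw [polar_smul_right, hvw, smul_zero]
  obtain ⟨κ, hκ⟩ : ∃ κ, κ = lam * Q' w - lam * lam * Q w := ⟨_, rfl⟩
  obtain ⟨φ, hφdef⟩ : ∃ φ, φ = lam • Cfsg.polarVec (⇑Q) w - Cfsg.polarVec (⇑Q') w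
      + κ • Cfsg.polarVec (⇑Q) v := ⟨_, rfl⟩
  have hφ : ∀ x, φ ⬝ᵥ x = lam * polar (⇑Q) w x - polar (⇑Q') w x + κ * polar (⇑Q) v x := by
    intro x
    rw [hφdef, add_dotProduct, sub_dotProduct, smul_dotProduct, smul_dotProduct,
      polarVec_dotProduct, polarVec_dotProduct, polarVec_dotProduct, smul_eq_mul, smul_eq_mul]
  have hφv : φ ⬝ᵥ v = 0 := by
    rw [hφ, polar_comm (⇑Q) w v, hvw, hwv', hvv]
    ring
  have hprod : eichGL Q' v w hv' hvw' * eichGL Q v ((-lam) • w) hv hvw2 = tv φ v hφv := by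
    apply gl_ext
    intro x
    rw [gl_mul_apply, tv_coe, tvMat_mulVec]
    show eichM Q' v w *ᵥ (eichM Q v ((-lam) • w) *ᵥ x) = x + (φ ⬝ᵥ x) • v
    have hE2 : eichM Q v ((-lam) • w) *ᵥ x = x - (lam * polar (⇑Q) v x) • w
        + (lam * polar (⇑Q) w x) • v - (lam * lam * Q w * polar (⇑Q) v x) • v := by
      rw [eichM_mulVec, polar_smul_left, Q_smul', smul_eq_mul]
      module
    have q0 : polar (⇑Q) v (eichM Q v ((-lam) • w) *ᵥ x) = polar (⇑Q) v x := by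
      rw [hE2, polar_sub_right, polar_add_right, polar_sub_right, polar_smul_right,
        polar_smul_right, polar_smul_right, hvw, hvv]
      simp
    have q1 : polar (⇑Q') v (eichM Q v ((-lam) • w) *ᵥ x) = lam * polar (⇑Q) v x := by
      rw [hlam, q0]
    have q2 : polar (⇑Q') w (eichM Q v ((-lam) • w) *ᵥ x) =
        polar (⇑Q') w x - (lam * polar (⇑Q) v x) * (2 * Q' w) := by
      rw [hE2, polar_sub_right, polar_add_right, polar_sub_right, polar_smul_right,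
        polar_smul_right, polar_smul_right, polar_self', hwv']
      simp
    rw [eichM_mulVec Q' v w, q1, q2, hE2, hφ, hκ]
    module
  refine ⟨φ, hφv, ?_, ?_⟩
  · rw [← hprod]
    exact M.mul_mem (hM' v w hv' hvw') (hM v _ hv hvw2)
  · rintro ⟨μ, hμ⟩
    apply hnp
    refine ⟨μ - κ, fun x => ?_⟩
    have := hμ x
    rw [hφ] at this
    linear_combination this

theorem osim_two_forms [Fintype F] (h2 : (2 : F) ≠ 0) (hQ : (polarBilin Q).Nondegenerate)
    (hn : 9 ≤ Fintype.card ι) {M : Subgroup (GL ι F)} (hM : HasEich Q M) (hM' : HasEich Q' M)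
    (hns : ¬ ∃ c : F, ∀ x, Q' x = c * Q x) :
    ∃ (v φ : ι → F) (h : φ ⬝ᵥ v = 0), v ≠ 0 ∧ Q v = 0 ∧ tv φ v h ∈ M ∧
      ¬ ∃ μ : F, ∀ x, φ ⬝ᵥ x = μ * polar (⇑Q) v x := by
  obtain ⟨v, hv0, hv, hv', _⟩ := cw_exists h2 Q Q' (fun i : Fin 0 => i.elim0) (by omega)
  have hcase1 : ∀ v₁ : ι → F, v₁ ≠ 0 → Q v₁ = 0 → Q' v₁ = 0 →
      (¬ ∃ l : F, ∀ x, polar (⇑Q') v₁ x = l * polar (⇑Q) v₁ x) →
      ∃ (v φ : ι → F) (h : φ ⬝ᵥ v = 0), v ≠ 0 ∧ Q v = 0 ∧ tv φ v h ∈ M ∧
        ¬ ∃ μ : F, ∀ x, φ ⬝ᵥ x = μ * polar (⇑Q) v x := by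
    intro v₁ h10 h1 h1' hnl
    have hind : ∀ a b : F, (∀ x, a * (Cfsg.polarVec (⇑Q) v₁ ⬝ᵥ x) +
        b * (Cfsg.polarVec (⇑Q') v₁ ⬝ᵥ x) = 0) → a = 0 ∧ b = 0 := by
      intro a b hab
      have hb : b = 0 := by
        by_contra hb
        have hb' : b ≠ 0 := hb
        apply hnl
        refine ⟨-a / b, fun x => ?_⟩
        have := hab x
        rw [polarVec_dotProduct, polarVec_dotProduct] at this
        rw [div_mul_eq_mul_div, eq_div_iff hb']
        linear_combination this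
      refine ⟨?_, hb⟩
      obtain ⟨x, hx⟩ := exists_polar_ne_zero Q hQ h10
      have := hab x
      rw [hb, zero_mul, add_zero, polarVec_dotProduct] at this
      rcases mul_eq_zero.mp this with h | h
      · exact h
      · exact absurd h hx
    obtain ⟨φ, h, hm, hnp⟩ := osim_case1 Q Q' h2 hQ hn hM hM' h1 h1' hind
    exact ⟨v₁, φ, h, h10, h1, hm, hnp⟩
  by_cases hl : ∃ l : F, ∀ x, polar (⇑Q') v x = l * polar (⇑Q) v x
  swap
  · exact hcase1 v hv0 hv hv' hl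
  obtain ⟨lam, hlam⟩ := hl
  by_cases h2a : ∃ w, polar (⇑Q) v w = 0 ∧
      ¬ ∃ μ : F, ∀ x, lam * polar (⇑Q) w x - polar (⇑Q') w x = μ * polar (⇑Q) v x
  · obtain ⟨w, hvw, hnp⟩ := h2a
    obtain ⟨φ, h, hm, hnp'⟩ := osim_case2a Q Q' hM hM' hv h2 lam hlam hvw hnp
    exact ⟨v, φ, h, hv0, hv, hm, hnp'⟩
  push Not at h2a
  obtain ⟨z, _, hzv⟩ := exists_sing_partner Q hQ hv0 hv
  have hz : polar (⇑Q) v z = 1 := by rw [polar_comm, hzv]
  obtain ⟨ψ, hψdef⟩ : ∃ ψ, ψ = lam • Cfsg.polarVec (⇑Q) z - Cfsg.polarVec (⇑Q') z := ⟨_, rfl⟩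
  have hψ : ∀ x, ψ ⬝ᵥ x = lam * polar (⇑Q) z x - polar (⇑Q') z x := by
    intro x
    rw [hψdef, sub_dotProduct, smul_dotProduct, polarVec_dotProduct, polarVec_dotProduct,
      smul_eq_mul]
  have hψv : ψ ⬝ᵥ v = 0 := by
    rw [hψ, polar_comm (⇑Q) z v, polar_comm (⇑Q') z v, hlam, hz]
    ring
  have hstar : ∀ w, polar (⇑Q) v w = 0 → ∀ x,
      lam * polar (⇑Q) w x - polar (⇑Q') w x = (ψ ⬝ᵥ w) * polar (⇑Q) v x := by
    intro w hvw x
    obtain ⟨μ, hμ⟩ := h2a w hvw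
    have h1 := hμ z
    rw [hz, mul_one] at h1
    rw [hμ x, hψ, polar_comm (⇑Q) z w, polar_comm (⇑Q') z w, h1]
  by_cases hψp : ∃ μ : F, ∀ x, ψ ⬝ᵥ x = μ * polar (⇑Q) v x
  swap
  · obtain ⟨x₁, hx1Q, hvx1, hψx1⟩ :=
      exists_sing_perp_functional Q h2 hQ (by omega) hv0 hv ψ hψp
    have hx10 : x₁ ≠ 0 := by
      rintro rfl
      exact hψx1 (dotProduct_zero ψ)
    have hx1pol : ∀ x, polar (⇑Q') x₁ x =
        lam * polar (⇑Q) x₁ x - (ψ ⬝ᵥ x₁) * polar (⇑Q) v x := by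
      intro x
      have := hstar x₁ hvx1 x
      linear_combination -this
    have hx1Q' : Q' x₁ = 0 := by
      have h1 := hx1pol x₁
      rw [polar_self', polar_self', hx1Q, hvx1] at h1
      have h3 : 2 * Q' x₁ = 0 := by rw [h1]; ring
      rcases mul_eq_zero.mp h3 with h | h
      · exact absurd h h2
      · exact h
    apply hcase1 x₁ hx10 hx1Q hx1Q'
    rintro ⟨l, hl⟩
    have hzero : (lam - l) • x₁ - (ψ ⬝ᵥ x₁) • v = 0 := by
      apply hQ.1
      intro y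
      rw [polarBilin_apply_apply, polar_sub_left, polar_smul_left, polar_smul_left, smul_eq_mul,
        smul_eq_mul]
      have h1 := hx1pol y
      rw [hl y] at h1
      linear_combination -h1
    have h3 := congrArg (fun t => ψ ⬝ᵥ t) hzero
    simp only [dotProduct_sub, dotProduct_smul, smul_eq_mul, hψv, mul_zero, sub_zero,
      dotProduct_zero] at h3
    have hll : lam - l = 0 := by
      rcases mul_eq_zero.mp h3 with h | h
      · exact h
      · exact absurd h hψx1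
    rw [hll, zero_smul, zero_sub, neg_eq_zero] at hzero
    rcases smul_eq_zero.mp hzero with h | h
    · exact hψx1 h
    · exact hv0 h
  obtain ⟨μ₀, hμ₀⟩ := hψp
  have hperp0 : ∀ w, polar (⇑Q) v w = 0 → ∀ x,
      lam * polar (⇑Q) w x - polar (⇑Q') w x = 0 := by
    intro w hvw x
    rw [hstar w hvw x, hμ₀ w, hvw]
    ring
  have hD : ∀ x y, lam * polar (⇑Q) x y - polar (⇑Q') x y =
      μ₀ * polar (⇑Q) v x * polar (⇑Q) v y := by
    intro x y
    have hx0 : polar (⇑Q) v (x - polar (⇑Q) v x • z) = 0 := by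
      rw [polar_sub_right, polar_smul_right, hz]
      simp
    have h1 := hperp0 _ hx0 y
    rw [polar_sub_left, polar_sub_left, polar_smul_left, polar_smul_left, smul_eq_mul,
      smul_eq_mul] at h1
    have h3 := hμ₀ y
    rw [hψ] at h3
    linear_combination h1 + polar (⇑Q) v x * h3
  by_cases hμ0 : μ₀ = 0
  · exfalso
    apply hns
    refine ⟨lam, fun x => ?_⟩
    have h1 := hD x x
    rw [polar_self', polar_self', hμ0] at h1
    have h3 : 2 * (Q' x - lam * Q x) = 0 := by linear_combination -h1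
    rcases mul_eq_zero.mp h3 with h | h
    · exact absurd h h2
    · linear_combination h
  · obtain ⟨x₁, hx10, hx1Q, hvx1, hzx1, _⟩ := exists_sing_perp3 Q h2 (by omega) v z z
    have hvspan : v ∉ Submodule.span F {x₁} := by
      intro hmem
      obtain ⟨c, hc⟩ := Submodule.mem_span_singleton.mp hmem
      have h1 : polar (⇑Q) z v = 0 := by rw [← hc, polar_smul_right, hzx1, smul_zero]
      rw [polar_comm, hz] at h1
      exact one_ne_zero h1
    obtain ⟨t, hx1t, htv⟩ := exists_perp_pair Q hQ x₁ v hvspan 1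
    have hlam1 : ∀ x, polar (⇑Q') x₁ x = lam * polar (⇑Q) x₁ x := by
      intro x
      have := hperp0 x₁ hvx1 x
      linear_combination -this
    have hnp : ¬ ∃ μ : F, ∀ x,
        lam * polar (⇑Q) t x - polar (⇑Q') t x = μ * polar (⇑Q) x₁ x := by
      rintro ⟨μ, hμ⟩
      have h1 := hμ z
      rw [hD t z, polar_comm (⇑Q) v t, htv, hz, polar_comm (⇑Q) x₁ z, hzx1] at h1
      apply hμ0
      linear_combination h1
    obtain ⟨φ, h, hm, hnp'⟩ := osim_case2a Q Q' hM hM' hx1Q h2 lam hlam1 hx1t hnp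
    exact ⟨x₁, φ, h, hx10, hx1Q, hm, hnp'⟩

end osim2

end Cfsg.Agent.Helper93
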