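import Cfsg.Agent.Lib.Helper93.OSim2

set_option autoImplicit false
set_option linter.unusedSectionVars false

namespace Cfsg.Agent.Helper93

open Matrix QuadraticMap Cfsg.Geo
open Cfsg.Agent.S0794 Cfsg.Agent.Helper14.ReflGen Cfsg.Agent.Helper13

section osim3

variable {F : Type*} [Field F] {ι : Type} [Fintype ι] [DecidableEq ι]
  (Q : QuadraticForm F (ι → F))

/-- the transvection `x ↦ x + φ(x) v` lies in `M` -/
def InS (M : Subgroup (GL ι F)) (v φ : ι → F) : Prop := ∃ h : φ ⬝ᵥ v = 0, tv φ v h ∈ M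

lemma InS.add {M : Subgroup (GL ι F)} {v φ ψ : ι → F} (h1 : InS M v φ) (h2 : InS M v ψ) :
    InS M v (φ + ψ) := by
  obtain ⟨s1, m1⟩ := h1
  obtain ⟨s2, m2⟩ := h2
  have := M.mul_mem m1 m2
  rw [tv_mul_tv] at this
  exact ⟨_, this⟩

lemma InS.neg {M : Subgroup (GL ι F)} {v φ : ι → F} (h1 : InS M v φ) : InS M v (-φ) := by
  obtain ⟨s1, m1⟩ := h1
  have := M.inv_mem m1
  rw [← tv_neg_eq_inv] at this
  exact ⟨_, this⟩

lemma InS.sub {M : Subgroup (GL ι F)} {v φ ψ : ι → F} (h1 : InS M v φ) (h2 : InS M v ψ) :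
    InS M v (φ - ψ) := by
  rw [sub_eq_add_neg]
  exact h1.add h2.neg

lemma InS.congr {M : Subgroup (GL ι F)} {v φ ψ : ι → F} (h1 : InS M v φ) (e : φ = ψ) :
    InS M v ψ := by
  subst e
  exact h1

lemma InS.conj_fix {M : Subgroup (GL ι F)} {v φ : ι → F} (h1 : InS M v φ) (p : GL ι F)
    (hp : p ∈ M) (hpv : (p : Matrix ι ι F) *ᵥ v = v) (ψ : ι → F)
    (hψ : ∀ x, ψ ⬝ᵥ x = φ ⬝ᵥ (((p⁻¹ : GL ι F) : Matrix ι ι F) *ᵥ x)) : InS M v ψ := by
  obtain ⟨s1, m1⟩ := h1
  have h3 := M.mul_mem (M.mul_mem hp m1) (M.inv_mem hp)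
  rw [conj_tv] at h3
  have e1 : φ ᵥ* ((p⁻¹ : GL ι F) : Matrix ι ι F) = ψ := by
    apply vec_ext_dot
    intro x
    rw [← Matrix.dotProduct_mulVec, hψ]
  rw [tv_congr _ e1 hpv] at h3
  exact ⟨_, h3⟩

lemma inS_of_vanish [Fintype F] (h2 : (2 : F) ≠ 0) (hQ : (polarBilin Q).Nondegenerate)
    (hn : 9 ≤ Fintype.card ι) {M : Subgroup (GL ι F)} (hM : HasEich Q M) {v u φ : ι → F}
    (hv0 : v ≠ 0) (hv : Q v = 0) (hu : Q u = 0) (huv : polar (⇑Q) u v = 0)
    (hφ : InS M v φ) (hφu : φ ⬝ᵥ u = 1) :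
    ∀ ψ : ι → F, ψ ⬝ᵥ v = 0 → ψ ⬝ᵥ u = 0 → InS M v ψ := by
  have hφv : φ ⬝ᵥ v = 0 := by
    obtain ⟨s, _⟩ := hφ
    exact s
  have step1 : ∀ w, polar (⇑Q) u w = 0 → polar (⇑Q) v w = 0 →
      InS M v (Cfsg.polarVec (⇑Q) w - (φ ⬝ᵥ w + Q w) • Cfsg.polarVec (⇑Q) u) := by
    intro w huw hvw
    have hpv : ((eichGL Q u w hu huw : GL ι F) : Matrix ι ι F) *ᵥ v = v := by
      show eichM Q u w *ᵥ v = v
      rw [eichM_mulVec, huv, polar_comm (⇑Q) w v, hvw]
      simp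
    have hconj := hφ.conj_fix (eichGL Q u w hu huw) (hM u w hu huw) hpv
      (φ + Cfsg.polarVec (⇑Q) w - (φ ⬝ᵥ w + Q w) • Cfsg.polarVec (⇑Q) u) (by
        intro x
        show _ = φ ⬝ᵥ (eichM Q u (-w) *ᵥ x)
        rw [eichM_mulVec, polar_neg_left, QuadraticMap.map_neg]
        simp only [sub_dotProduct, add_dotProduct, smul_dotProduct, polarVec_dotProduct,
          dotProduct_sub, dotProduct_add, dotProduct_smul, dotProduct_neg, smul_eq_mul, hφu]
        ring)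
    have := hconj.sub hφ
    refine this.congr ?_
    abel
  have huv_ind := indep_of_dot hφu hφv hv0
  obtain ⟨e, f, heQ, hue0, hve0, huf0, hvf0, hef⟩ :=
    exists_sing_pair Q h2 hQ hn _ _ (pv_indep Q hQ huv_ind)
  have hue : polar (⇑Q) u e = 0 := by rwa [polarVec_dotProduct] at hue0
  have hve : polar (⇑Q) v e = 0 := by rwa [polarVec_dotProduct] at hve0
  have huf : polar (⇑Q) u f = 0 := by rwa [polarVec_dotProduct] at huf0
  have hvf : polar (⇑Q) v f = 0 := by rwa [polarVec_dotProduct] at hvf0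
  have hall_u : ∀ c : F, InS M v (c • Cfsg.polarVec (⇑Q) u) := by
    intro c
    have hw1 : polar (⇑Q) u ((-c) • e + f) = 0 := by
      rw [polar_add_right, polar_smul_right, hue, huf]
      simp
    have hw1' : polar (⇑Q) v ((-c) • e + f) = 0 := by
      rw [polar_add_right, polar_smul_right, hve, hvf]
      simp
    have hw2 : polar (⇑Q) u ((-c) • e) = 0 := by rw [polar_smul_right, hue, smul_zero]
    have hw2' : polar (⇑Q) v ((-c) • e) = 0 := by rw [polar_smul_right, hve, smul_zero]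
    have s1 := step1 _ hw1 hw1'
    have s2 := step1 _ hw2 hw2'
    have s3 := step1 f huf hvf
    refine ((s1.sub s2).sub s3).congr ?_
    apply vec_ext_dot
    intro x
    simp only [sub_dotProduct, smul_dotProduct, polarVec_dotProduct, smul_eq_mul, dotProduct_add,
      dotProduct_smul, polar_add_left, polar_smul_left, Q_add', Q_smul', heQ, hef]
    ring
  have hall_w : ∀ w, polar (⇑Q) u w = 0 → polar (⇑Q) v w = 0 →
      InS M v (Cfsg.polarVec (⇑Q) w) := by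
    intro w huw hvw
    refine ((step1 w huw hvw).add (hall_u (φ ⬝ᵥ w + Q w))).congr ?_
    abel
  intro ψ hψv hψu
  obtain ⟨y, hy⟩ := riesz Q hQ ψ
  have h1 : polar (⇑Q) u y = 0 := by rw [polar_comm, hy, hψu]
  have h2' : polar (⇑Q) v y = 0 := by rw [polar_comm, hy, hψv]
  refine (hall_w y h1 h2').congr ?_
  apply vec_ext_dot
  intro x
  rw [polarVec_dotProduct, hy]

theorem osim_allTv_of_tv [Fintype F] (h2 : (2 : F) ≠ 0) (hQ : (polarBilin Q).Nondegenerate)
    (hn : 9 ≤ Fintype.card ι) {M : Subgroup (GL ι F)} (hM : HasEich Q M) {v φ : ι → F}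
    (hv0 : v ≠ 0) (hv : Q v = 0) (hφ : InS M v φ)
    (hnp : ¬ ∃ μ : F, ∀ x, φ ⬝ᵥ x = μ * polar (⇑Q) v x) : AllTv M v := by
  have hφv : φ ⬝ᵥ v = 0 := by
    obtain ⟨s, _⟩ := hφ
    exact s
  obtain ⟨u0, hu0Q, hvu0, hφu0⟩ := exists_sing_perp_functional Q h2 hQ (by omega) hv0 hv φ hnp
  obtain ⟨u, hudef⟩ : ∃ u, u = (φ ⬝ᵥ u0)⁻¹ • u0 := ⟨_, rfl⟩
  have huQ : Q u = 0 := by rw [hudef, Q_smul', hu0Q, mul_zero]
  have huv : polar (⇑Q) u v = 0 := by
    rw [hudef, polar_smul_left, polar_comm (⇑Q) u0 v, hvu0, smul_zero]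
  have hφu : φ ⬝ᵥ u = 1 := by rw [hudef, dotProduct_smul, smul_eq_mul, inv_mul_cancel₀ hφu0]
  have H1 := inS_of_vanish Q h2 hQ hn hM hv0 hv huQ huv hφ hφu
  have huv_ind := indep_of_dot hφu hφv hv0
  obtain ⟨e, f, heQ, hue0, hve0, huf0, hvf0, hef⟩ :=
    exists_sing_pair Q h2 hQ hn _ _ (pv_indep Q hQ huv_ind)
  have hve : polar (⇑Q) v e = 0 := by rwa [polarVec_dotProduct] at hve0
  have huf : polar (⇑Q) u f = 0 := by rwa [polarVec_dotProduct] at huf0
  have hvf : polar (⇑Q) v f = 0 := by rwa [polarVec_dotProduct] at hvf0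
  have hcf : ∀ c : F, InS M v (Cfsg.polarVec (⇑Q) (c • f)) := by
    intro c
    apply H1
    · rw [polarVec_dotProduct, polar_smul_left, polar_comm (⇑Q) f v, hvf, smul_zero]
    · rw [polarVec_dotProduct, polar_smul_left, polar_comm (⇑Q) f u, huf, smul_zero]
  have hf1 : InS M v (Cfsg.polarVec (⇑Q) f) := by
    have := hcf 1
    rwa [one_smul] at this
  have hfe : Cfsg.polarVec (⇑Q) f ⬝ᵥ e = 1 := by rw [polarVec_dotProduct, polar_comm, hef]
  have hev : polar (⇑Q) e v = 0 := by rw [polar_comm, hve]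
  have H2 := inS_of_vanish Q h2 hQ hn hM hv0 hv heQ hev hf1 hfe
  intro ψ hψ
  have h3 : InS M v (ψ - (ψ ⬝ᵥ e) • Cfsg.polarVec (⇑Q) f) := by
    apply H2
    · rw [sub_dotProduct, smul_dotProduct, polarVec_dotProduct, polar_comm (⇑Q) f v, hvf, hψ]
      simp
    · rw [sub_dotProduct, smul_dotProduct, hfe, smul_eq_mul, mul_one, sub_self]
  have h4 := h3.add (hcf (ψ ⬝ᵥ e))
  have h5 : InS M v ψ := by
    refine h4.congr ?_
    apply vec_ext_dot
    intro x
    rw [add_dotProduct, sub_dotProduct, smul_dotProduct, polarVec_dotProduct,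
      polarVec_dotProduct, polar_smul_left]
    simp only [smul_eq_mul]
    ring
  obtain ⟨_, hm⟩ := h5
  exact hm

lemma AllTv.add' {M : Subgroup (GL ι F)} {a b : ι → F} (ha : AllTv M a) (hb : AllTv M b) :
    AllTv M (a + b) := by
  by_cases hba : b ∈ Submodule.span F {a}
  · obtain ⟨c, hc⟩ := Submodule.mem_span_singleton.mp hba
    have : a + b = (1 + c) • a := by rw [← hc, add_smul, one_smul]
    rw [this]
    exact ha.smul _
  · obtain ⟨φ, hφP, hφ1⟩ := exists_functional_one _ _ hba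
    have hφa : φ ⬝ᵥ a = 0 := hφP a (Submodule.mem_span_singleton_self a)
    have h1 := hb.conj _ (ha φ hφa)
    rw [tv_coe, tvMat_mulVec, hφ1, one_smul, add_comm] at h1
    exact h1

theorem osim_all (h2 : (2 : F) ≠ 0) (hQ : (polarBilin Q).Nondegenerate)
    (hn : 5 ≤ Fintype.card ι) {M : Subgroup (GL ι F)} (hM : HasEich Q M) {v : ι → F}
    (hv0 : v ≠ 0) (hv : Q v = 0) (hA : AllTv M v) : ∀ a, AllTv M a := by
  obtain ⟨u, huQ, huv⟩ := exists_sing_partner Q hQ hv0 hv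
  have hneg : ∀ a, AllTv M a → AllTv M (-a) := fun a ha => by
    have := ha.smul (-1)
    rwa [neg_one_smul] at this
  have hstep : ∀ w, polar (⇑Q) u w = 0 → AllTv M (w - (polar (⇑Q) w v + Q w) • u) := by
    intro w huw
    have h1 := hA.conj _ (hM u w huQ huw)
    have e1 : ((eichGL Q u w huQ huw : GL ι F) : Matrix ι ι F) *ᵥ v =
        v + w - (polar (⇑Q) w v + Q w) • u := by
      show eichM Q u w *ᵥ v = _
      rw [eichM_mulVec, huv]
      module
    rw [e1] at h1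
    have h3 := h1.add' (hneg v hA)
    have e2 : v + w - (polar (⇑Q) w v + Q w) • u + -v = w - (polar (⇑Q) w v + Q w) • u := by
      abel
    rwa [e2] at h3
  obtain ⟨w0, huw0, _, hw0⟩ := exists_nonsingular_perp' Q hn hQ u u
  have hw0n : polar (⇑Q) u (-w0) = 0 := by rw [polar_neg_right, huw0, neg_zero]
  have h1 := hstep w0 huw0
  have h2' := hstep (-w0) hw0n
  have h3 := h1.add' h2'
  have e3 : w0 - (polar (⇑Q) w0 v + Q w0) • u +
      (-w0 - (polar (⇑Q) (-w0) v + Q (-w0)) • u) = (-(2 * Q w0)) • u := by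
    rw [polar_neg_left, QuadraticMap.map_neg]
    module
  rw [e3] at h3
  have hU : AllTv M u := by
    have := h3.smul (-(2 * Q w0))⁻¹
    rwa [smul_smul, inv_mul_cancel₀ (neg_ne_zero.mpr (mul_ne_zero h2 hw0)), one_smul] at this
  have hperp : ∀ w, polar (⇑Q) u w = 0 → AllTv M w := by
    intro w huw
    have := (hstep w huw).add' (hU.smul (polar (⇑Q) w v + Q w))
    rwa [sub_add_cancel] at this
  intro a
  have ha0 : polar (⇑Q) u (a - polar (⇑Q) u a • v) = 0 := by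
    rw [polar_sub_right, polar_smul_right, huv]
    simp
  have := (hperp _ ha0).add' (hA.smul (polar (⇑Q) u a))
  rwa [sub_add_cancel] at this

/-- `Q ∘ g⁻¹` as a quadratic form -/
noncomputable def compQ (g : GL ι F) : QuadraticForm F (ι → F) :=
  Q.comp (Matrix.toLin' ((g⁻¹ : GL ι F) : Matrix ι ι F))

lemma compQ_apply (g : GL ι F) (x : ι → F) :
    compQ Q g x = Q (((g⁻¹ : GL ι F) : Matrix ι ι F) *ᵥ x) := by
  unfold compQ
  rw [QuadraticMap.comp_apply, Matrix.toLin'_apply]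

lemma compQ_polar (g : GL ι F) (x y : ι → F) :
    polar (⇑(compQ Q g)) x y = polar (⇑Q) (((g⁻¹ : GL ι F) : Matrix ι ι F) *ᵥ x)
      (((g⁻¹ : GL ι F) : Matrix ι ι F) *ᵥ y) := by
  unfold polar
  rw [compQ_apply, compQ_apply, compQ_apply, Matrix.mulVec_add]

lemma hasEich_compQ {M : Subgroup (GL ι F)} (hM : HasEich Q M) (g : GL ι F) (hg : g ∈ M) :
    HasEich (compQ Q g) M := by
  intro u' w' hu' huw'
  have hu : Q (((g⁻¹ : GL ι F) : Matrix ι ι F) *ᵥ u') = 0 := by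
    rw [← compQ_apply]
    exact hu'
  have huw : polar (⇑Q) (((g⁻¹ : GL ι F) : Matrix ι ι F) *ᵥ u')
      (((g⁻¹ : GL ι F) : Matrix ι ι F) *ᵥ w') = 0 := by
    rw [← compQ_polar]
    exact huw'
  have hmem := M.mul_mem (M.mul_mem hg (hM _ _ hu huw)) (M.inv_mem hg)
  have e : eichGL (compQ Q g) u' w' hu' huw' = g * eichGL Q _ _ hu huw * g⁻¹ := by
    apply gl_ext
    intro x
    rw [gl_mul_apply, gl_mul_apply]
    show eichM (compQ Q g) u' w' *ᵥ x = (g : Matrix ι ι F) *ᵥ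
      (eichM Q _ _ *ᵥ (((g⁻¹ : GL ι F) : Matrix ι ι F) *ᵥ x))
    rw [eichM_mulVec, eichM_mulVec, compQ_polar, compQ_polar, compQ_apply]
    simp only [Matrix.mulVec_add, Matrix.mulVec_sub, Matrix.mulVec_smul, gl_apply_inv_apply]
  rw [e]
  exact hmem

theorem osim_isMaximalIn [Fintype F] (h2 : (2 : F) ≠ 0) (hQ : (polarBilin Q).Nondegenerate)
    (hn : 13 ≤ Fintype.card ι) :
    IsMaximalIn (specialLinear ι F) (quadSimilarityGroup (⇑Q) ⊓ specialLinear ι F) := by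
  have hn5 : 5 ≤ Fintype.card ι := by omega
  have hn9 : 9 ≤ Fintype.card ι := by omega
  have hK : HasEich Q (quadSimilarityGroup (⇑Q) ⊓ specialLinear ι F) := by
    intro u w hu huw
    refine ⟨⟨1, fun x => ?_⟩, omegaGL_le_SL (⇑Q) (eichGL_mem_omegaGL Q hQ hn5 u w hu huw)⟩
    rw [Units.val_one, one_mul]
    exact eichM_isometry Q u w hu huw x
  constructor
  · rw [SetLike.lt_iff_le_and_exists]
    refine ⟨inf_le_right, ?_⟩
    obtain ⟨v, hv0, hv, _, _⟩ := cw_exists h2 Q Q (fun i : Fin 0 => i.elim0) (by omega)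
    obtain ⟨u, huQ, huv⟩ := exists_sing_partner Q hQ hv0 hv
    obtain ⟨w, huw, hvw, hw⟩ := exists_nonsingular_perp' Q hn5 hQ u v
    have hside : Cfsg.polarVec (⇑Q) w ⬝ᵥ v = 0 := by
      rw [polarVec_dotProduct, polar_comm, hvw]
    refine ⟨tv (Cfsg.polarVec (⇑Q) w) v hside, tv_mem_SL _ _ _, ?_⟩
    rintro ⟨⟨c, hc⟩, _⟩
    have hτ : ∀ y, ((tv (Cfsg.polarVec (⇑Q) w) v hside : GL ι F) : Matrix ι ι F) *ᵥ y =
        y + polar (⇑Q) w y • v := by
      intro y
      rw [tv_coe, tvMat_mulVec, polarVec_dotProduct]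
    have hQτ : ∀ y, Q (y + polar (⇑Q) w y • v) = Q y + polar (⇑Q) w y * polar (⇑Q) y v := by
      intro y
      rw [Q_add', Q_smul', hv, polar_smul_right, smul_eq_mul]
      ring
    have h1 := hc w
    rw [hτ, hQτ, polar_comm (⇑Q) w v, hvw, mul_zero, add_zero] at h1
    have hc1 : (c : F) = 1 := mul_right_cancel₀ hw (by rw [one_mul]; exact h1.symm)
    have h3 := hc (u + w)
    rw [hτ, hQτ] at h3
    have e5 : polar (⇑Q) w (u + w) = 2 * Q w := by
      rw [polar_add_right, polar_self', polar_comm (⇑Q) w u, huw, zero_add]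
    have e6 : polar (⇑Q) (u + w) v = 1 := by
      rw [polar_add_left, huv, polar_comm (⇑Q) w v, hvw, add_zero]
    rw [e5, e6, hc1, one_mul, mul_one] at h3
    have h4 : 2 * Q w = 0 := by linear_combination h3
    rcases mul_eq_zero.mp h4 with h | h
    · exact h2 h
    · exact hw h
  · intro M hKM hMS
    by_cases hMK : M = quadSimilarityGroup (⇑Q) ⊓ specialLinear ι F
    · left; exact hMK
    right
    obtain ⟨g, hgM, hgK⟩ := SetLike.exists_of_lt (lt_of_le_of_ne hKM (Ne.symm hMK))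
    have hg : g ∉ quadSimilarityGroup (⇑Q) := fun h => hgK ⟨h, hMS hgM⟩
    have hM : HasEich Q M := fun u w hu huw => hKM (hK u w hu huw)
    have hM' : HasEich (compQ Q g) M := hasEich_compQ Q hM g hgM
    have hns : ¬ ∃ c : F, ∀ x, compQ Q g x = c * Q x := by
      rintro ⟨c, hc⟩
      have hc0 : c ≠ 0 := by
        rintro rfl
        obtain ⟨w, _, _, hw⟩ := exists_nonsingular_perp' Q hn5 hQ (0 : ι → F) 0
        apply hw
        have := hc ((g : Matrix ι ι F) *ᵥ w)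
        rwa [compQ_apply, gl_inv_apply_apply, zero_mul] at this
      apply hg
      refine ⟨Units.mk0 c⁻¹ (inv_ne_zero hc0), fun x => ?_⟩
      have := hc ((g : Matrix ι ι F) *ᵥ x)
      rw [compQ_apply, gl_inv_apply_apply] at this
      rw [Units.val_mk0, this, ← mul_assoc, inv_mul_cancel₀ hc0, one_mul]
    obtain ⟨v, φ, h, hv0, hv, hm, hnp⟩ := osim_two_forms Q (compQ Q g) h2 hQ hn9 hM hM' hns
    have hA := osim_allTv_of_tv Q h2 hQ hn9 hM hv0 hv ⟨h, hm⟩ hnp
    have hall := osim_all Q h2 hQ hn5 hM hv0 hv hA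
    exact le_antisymm hMS (SL_le_of_allTv M hall)

end osim3

end Cfsg.Agent.Helper93
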