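import Cfsg.Agent.Lib.Helper93.OEich

set_option autoImplicit false
set_option linter.unusedSectionVars false

namespace Cfsg.Agent.Helper93

open Matrix QuadraticMap Cfsg.Geo
open Cfsg.Agent.S0794 Cfsg.Agent.Helper14.ReflGen

section ots

variable {F : Type*} [Field F] {ι : Type} [Fintype ι] [DecidableEq ι]
  (Q : QuadraticForm F (ι → F))

/-- all Eichler transformations centred at the singular vector `u` lie in `M` -/
def ECtr (M : Subgroup (GL ι F)) (u : ι → F) : Prop :=
  Q u = 0 ∧ ∀ w, polar (⇑Q) u w = 0 → ∃ g ∈ M, (g : Matrix ι ι F) = eichM Q u w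

variable {Q}

lemma ECtr.conj {M : Subgroup (GL ι F)} {u : ι → F} (h : ECtr Q M u) (p : GL ι F) (hpM : p ∈ M)
    (hp : ∀ x, Q ((p : Matrix ι ι F) *ᵥ x) = Q x) : ECtr Q M ((p : Matrix ι ι F) *ᵥ u) := by
  refine ⟨by rw [hp]; exact h.1, fun w hw => ?_⟩
  have hMM' : (p : Matrix ι ι F) * ((p⁻¹ : GL ι F) : Matrix ι ι F) = 1 := by
    rw [← Units.val_mul, mul_inv_cancel, Units.val_one]
  have hw' : polar (⇑Q) u (((p⁻¹ : GL ι F) : Matrix ι ι F) *ᵥ w) = 0 := by
    rw [← polar_of_isometry Q _ hp, gl_apply_inv_apply]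
    exact hw
  obtain ⟨g, hgM, hg⟩ := h.2 _ hw'
  refine ⟨p * g * p⁻¹, M.mul_mem (M.mul_mem hpM hgM) (M.inv_mem hpM), ?_⟩
  rw [Units.val_mul, Units.val_mul, hg, eichM_conj Q _ _ hMM' hp, gl_apply_inv_apply]

lemma eichM_smul_left (c : F) (u w : ι → F) : eichM Q (c • u) w = eichM Q u (c • w) := by
  apply mat_ext_mulVec
  intro x
  rw [eichM_mulVec, eichM_mulVec, polar_smul_left, polar_smul_left, Q_smul']
  simp only [smul_eq_mul]
  module

lemma ECtr.smul {M : Subgroup (GL ι F)} {u : ι → F} (h : ECtr Q M u) (c : F) :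
    ECtr Q M (c • u) := by
  refine ⟨by rw [Q_smul', h.1, mul_zero], fun w hw => ?_⟩
  by_cases hc : c = 0
  · refine ⟨1, M.one_mem, ?_⟩
    rw [hc, zero_smul, Units.val_one]
    apply mat_ext_mulVec
    intro x
    rw [eichM_mulVec, Matrix.one_mulVec, polar_zero_left]
    simp
  · rw [polar_smul_left, smul_eq_mul] at hw
    have hw' : polar (⇑Q) u w = 0 := (mul_eq_zero.1 hw).resolve_left hc
    obtain ⟨g, hgM, hg⟩ := h.2 (c • w) (by rw [polar_smul_right, hw', smul_zero])
    exact ⟨g, hgM, by rw [hg, eichM_smul_left]⟩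

lemma ECtr.step {M : Subgroup (GL ι F)} {u u' z : ι → F} (hu : ECtr Q M u) (hu' : ECtr Q M u')
    (hβ : polar (⇑Q) u u' ≠ 0) (hz : Q z = 0) (huz : polar (⇑Q) u z ≠ 0) : ECtr Q M z := by
  obtain ⟨β, hβdef⟩ : ∃ β, β = polar (⇑Q) u u' := ⟨_, rfl⟩
  obtain ⟨c, hc⟩ : ∃ c, c = β / polar (⇑Q) u z := ⟨_, rfl⟩
  have hβ0 : β ≠ 0 := by rw [hβdef]; exact hβ
  have hc0 : c ≠ 0 := by rw [hc]; exact div_ne_zero hβ0 huz
  have hcz : c * polar (⇑Q) u z = β := by rw [hc, div_mul_cancel₀ _ huz]
  obtain ⟨w, hw⟩ : ∃ w, w = β⁻¹ • (c • z - u') := ⟨_, rfl⟩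
  have huw : polar (⇑Q) u w = 0 := by
    rw [hw, polar_smul_right, polar_sub_right, polar_smul_right, ← hβdef]
    simp only [smul_eq_mul]
    rw [hcz, sub_self, mul_zero]
  obtain ⟨g, hgM, hg⟩ := hu.2 w huw
  have hgI : ∀ x, Q ((g : Matrix ι ι F) *ᵥ x) = Q x := by
    intro x
    rw [hg]
    exact eichM_isometry Q u w hu.1 huw x
  have hb : β⁻¹ * β = 1 := inv_mul_cancel₀ hβ0
  have e1 : polar (⇑Q) (c • z - u') u' = c * polar (⇑Q) z u' := by
    rw [polar_sub_left, polar_smul_left, polar_self', hu'.1, smul_eq_mul]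
    ring
  have e2 : Q (c • z - u') = -(c * polar (⇑Q) z u') := by
    rw [Q_sub, Q_smul', hz, hu'.1, polar_smul_left, smul_eq_mul]
    ring
  have e3 : polar (⇑Q) w u' = β⁻¹ * (c * polar (⇑Q) z u') := by
    rw [hw, polar_smul_left, e1, smul_eq_mul]
  have e4 : Q w = β⁻¹ * β⁻¹ * (-(c * polar (⇑Q) z u')) := by rw [hw, Q_smul', e2]
  have h2 : polar (⇑Q) w u' + Q w * β = 0 := by
    rw [e3, e4]
    linear_combination (-(β⁻¹ * (c * polar (⇑Q) z u'))) * hb
  have hgu' : (g : Matrix ι ι F) *ᵥ u' = c • z := by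
    rw [hg, eichM_mulVec, ← hβdef]
    have h1 : β • w = c • z - u' := by rw [hw, smul_smul, mul_inv_cancel₀ hβ0, one_smul]
    have h3 : polar (⇑Q) w u' • u + (Q w * β) • u = 0 := by rw [← add_smul, h2, zero_smul]
    rw [h1]
    calc u' + (c • z - u') - polar (⇑Q) w u' • u - (Q w * β) • u
        = c • z - (polar (⇑Q) w u' • u + (Q w * β) • u) := by abel
      _ = c • z := by rw [h3, sub_zero]
  have h4 := hu'.conj g hgM hgI
  rw [hgu'] at h4
  have h5 := h4.smul c⁻¹
  rwa [smul_smul, inv_mul_cancel₀ hc0, one_smul] at h5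

lemma ECtr.all (hQ : (polarBilin Q).Nondegenerate) {M : Subgroup (GL ι F)} {u u' : ι → F}
    (hu : ECtr Q M u) (hu' : ECtr Q M u') (hβ : polar (⇑Q) u u' ≠ 0) :
    ∀ z, Q z = 0 → ECtr Q M z := by
  intro z hz
  by_cases huz : polar (⇑Q) u z = 0
  · by_cases hz0 : z = 0
    · rw [hz0]
      have := hu.smul 0
      rwa [zero_smul] at this
    · obtain ⟨q, hq⟩ : ∃ q, polar (⇑Q) z q ≠ 0 := by
        by_contra hcon
        push Not at hcon
        exact hz0 (hQ.1 z (fun y => by rw [polarBilin_apply_apply]; exact hcon y))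
      obtain ⟨v, hv1, hv2⟩ : ∃ v, polar (⇑Q) u v ≠ 0 ∧ polar (⇑Q) z v ≠ 0 := by
        by_cases h3 : polar (⇑Q) z u' = 0
        · by_cases h4 : polar (⇑Q) u q = 0
          · refine ⟨u' + q, ?_, ?_⟩
            · rw [polar_add_right, h4, add_zero]; exact hβ
            · rw [polar_add_right, h3, zero_add]; exact hq
          · exact ⟨q, h4, hq⟩
        · exact ⟨u', hβ, h3⟩
      obtain ⟨y, hy⟩ : ∃ y, y = v - (Q v / polar (⇑Q) u v) • u := ⟨_, rfl⟩
      have hyQ : Q y = 0 := by
        rw [hy, Q_sub, Q_smul', hu.1, polar_smul_right, smul_eq_mul, polar_comm (⇑Q) v u,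
          div_mul_cancel₀ _ hv1]
        ring
      have huy : polar (⇑Q) u y ≠ 0 := by
        rw [hy, polar_sub_right, polar_smul_right, polar_self', hu.1]
        simpa using hv1
      have hyz : polar (⇑Q) y z ≠ 0 := by
        rw [hy, polar_sub_left, polar_smul_left, huz, smul_zero, sub_zero, polar_comm]
        exact hv2
      have hCy : ECtr Q M y := hu.step hu' hβ hyQ huy
      exact hCy.step hu (by rw [polar_comm]; exact huy) hz hyz
  · exact hu.step hu' hβ hz huz

variable (Q)

lemma finrank_sup_span_le (W : Submodule F (ι → F)) (z : ι → F) :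
    Module.finrank F (W ⊔ Submodule.span F {z} : Submodule F (ι → F))
      ≤ Module.finrank F W + 1 := by
  classical
  have h4 := Submodule.finrank_add_le_finrank_add_finrank W (Submodule.span F {z})
  have h5 : Module.finrank F (Submodule.span F ({z} : Set (ι → F))) ≤ 1 := by
    have := finrank_span_finset_le_card (R := F) ({z} : Finset (ι → F))
    rwa [Finset.coe_singleton, Finset.card_singleton] at this
  omega

/-- the stabiliser of a totally singular subspace is maximal in `Ω` -/
theorem ots_stab_max [Finite F] (hQ : (polarBilin Q).Nondegenerate) (hn : 7 ≤ Fintype.card ι)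
    (W : Submodule F (ι → F)) (hW0 : W ≠ ⊥) (hW : ∀ w ∈ W, Q w = 0)
    (hexc : ∀ y, y ∉ W → Q y = 0 → (∀ w ∈ W, polar (⇑Q) w y = 0) →
      2 * (Module.finrank F W + 1) ≠ Fintype.card ι) :
    IsMaximalIn (omegaGL ⇑Q) (subspaceStabilizer W ⊓ omegaGL ⇑Q) := by
  have hn5 : 5 ≤ Fintype.card ι := by omega
  have hΩE := omegaGL_le_EG Q hQ hn5
  have hWpol : ∀ a ∈ W, ∀ b ∈ W, polar (⇑Q) a b = 0 := by
    intro a ha b hb
    unfold polar
    rw [hW _ (W.add_mem ha hb), hW a ha, hW b hb]
    simp
  have hΩI : ∀ g ∈ omegaGL ⇑Q, ∀ x, Q ((g : Matrix ι ι F) *ᵥ x) = Q x := by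
    intro g hg x
    obtain ⟨g', _, rfl⟩ := Subgroup.mem_map.1 hg
    exact g'.2 x x
  have hts_dim : ∀ T : Submodule F (ι → F), (∀ t ∈ T, Q t = 0) →
      2 * Module.finrank F T ≤ Fintype.card ι := by
    intro T hT
    have hTT : T ≤ LinearMap.BilinForm.orthogonal (polarBilin Q) T := by
      intro w hw
      rw [LinearMap.BilinForm.mem_orthogonal_iff]
      intro p hp
      rw [polarBilin_apply_apply]
      unfold polar
      rw [hT _ (T.add_mem hp hw), hT p hp, hT w hw]
      simp
    have h1 := Submodule.finrank_mono hTT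
    rw [LinearMap.BilinForm.finrank_orthogonal hQ, Module.finrank_fintype_fun_eq_card] at h1
    have h2 := Submodule.finrank_le T
    rw [Module.finrank_fintype_fun_eq_card] at h2
    omega
  have hEH : ∀ u w (hu : Q u = 0) (huw : polar (⇑Q) u w = 0),
      (∀ x ∈ W, eichM Q u w *ᵥ x ∈ W) →
      eichGL Q u w hu huw ∈ subspaceStabilizer W ⊓ omegaGL ⇑Q := by
    intro u w hu huw hmaps
    exact ⟨mem_stab_of_maps_le W _ hmaps, eichGL_mem_omegaGL Q hQ hn5 u w hu huw⟩
  constructor
  · refine SetLike.lt_iff_le_and_exists.2 ⟨inf_le_right, ?_⟩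
    obtain ⟨w0, hw0W, hw00⟩ := Submodule.exists_mem_ne_zero_of_ne_bot hW0
    obtain ⟨p, hp⟩ : ∃ p, polar (⇑Q) w0 p ≠ 0 := by
      by_contra hcon
      push Not at hcon
      exact hw00 (hQ.1 w0 (fun y => by rw [polarBilin_apply_apply]; exact hcon y))
    obtain ⟨y, hy⟩ : ∃ y, y = p - (Q p / polar (⇑Q) w0 p) • w0 := ⟨_, rfl⟩
    have hyQ : Q y = 0 := by
      rw [hy, Q_sub, Q_smul', hW w0 hw0W, polar_smul_right, smul_eq_mul, polar_comm (⇑Q) p w0,
        div_mul_cancel₀ _ hp]
      ring
    have hw0y : polar (⇑Q) w0 y ≠ 0 := by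
      rw [hy, polar_sub_right, polar_smul_right, polar_self', hW w0 hw0W]
      simpa using hp
    obtain ⟨v, hvy, hvw0, hvn⟩ : ∃ v, polar (⇑Q) y v = 0 ∧ polar (⇑Q) w0 v = 0 ∧
        v ∉ W ⊔ Submodule.span F {y} := by
      by_contra hcon
      push Not at hcon
      have hle : LinearMap.BilinForm.orthogonal (polarBilin Q) (Submodule.span F {y, w0})
          ≤ W ⊔ Submodule.span F {y} := by
        intro v hv
        rw [LinearMap.BilinForm.mem_orthogonal_iff] at hv
        have h1 := hv y (Submodule.subset_span (by simp))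
        have h2 := hv w0 (Submodule.subset_span (by simp))
        rw [polarBilin_apply_apply] at h1 h2
        exact hcon v h1 h2
      have h1 := Submodule.finrank_mono hle
      rw [LinearMap.BilinForm.finrank_orthogonal hQ, Module.finrank_fintype_fun_eq_card] at h1
      have hspan : Module.finrank F (Submodule.span F ({y, w0} : Set (ι → F))) ≤ 2 := by
        classical
        have := finrank_span_finset_le_card (R := F) ({y, w0} : Finset (ι → F))
        rw [Finset.coe_insert, Finset.coe_singleton] at this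
        exact le_trans this Finset.card_le_two
      have h3 := finrank_sup_span_le W y
      have h6 := hts_dim W hW
      omega
    refine ⟨eichGL Q y v hyQ hvy, eichGL_mem_omegaGL Q hQ hn5 y v hyQ hvy, ?_⟩
    rintro ⟨hstab, _⟩
    have hstab' := (mem_subspaceStabilizer_iff W _).1 hstab
    have h1 := (hstab' w0).1 hw0W
    change eichM Q y v *ᵥ w0 ∈ W at h1
    rw [eichM_mulVec, polar_comm (⇑Q) v w0, hvw0, zero_smul, sub_zero] at h1
    apply hvn
    have hβ : polar (⇑Q) y w0 ≠ 0 := by rw [polar_comm]; exact hw0y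
    have h2 : polar (⇑Q) y w0 • v - (Q v * polar (⇑Q) y w0) • y ∈ W := by
      have := W.sub_mem h1 hw0W
      have e : w0 + polar (⇑Q) y w0 • v - (Q v * polar (⇑Q) y w0) • y - w0
          = polar (⇑Q) y w0 • v - (Q v * polar (⇑Q) y w0) • y := by abel
      rwa [e] at this
    have e : v = (polar (⇑Q) y w0)⁻¹ • (polar (⇑Q) y w0 • v - (Q v * polar (⇑Q) y w0) • y)
        + Q v • y := by
      rw [smul_sub, smul_smul, smul_smul, inv_mul_cancel₀ hβ, one_smul, mul_comm (Q v),
        ← mul_assoc, inv_mul_cancel₀ hβ, one_mul]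
      abel
    rw [e]
    exact Submodule.add_mem_sup (W.smul_mem _ h2)
      (Submodule.smul_mem _ _ (Submodule.mem_span_singleton_self y))
  · intro M hHM hMG
    by_cases hMH : M ≤ subspaceStabilizer W ⊓ omegaGL ⇑Q
    · left; exact le_antisymm hMH hHM
    · right
      apply le_antisymm hMG
      obtain ⟨g, hgM, hgH⟩ := SetLike.not_le_iff_exists.1 hMH
      have hgI := hΩI g (hMG hgM)
      have hgS : g ∉ subspaceStabilizer W := fun h => hgH ⟨h, hMG hgM⟩
      have hWC : ∀ u ∈ W, ECtr Q M u := by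
        intro u hu
        refine ⟨hW u hu, fun w huw =>
          ⟨eichGL Q u w (hW u hu) huw, hHM (hEH u w (hW u hu) huw ?_), rfl⟩⟩
        intro x hx
        rw [eichM_mulVec, hWpol u hu x hx, zero_smul, add_zero, mul_zero, zero_smul, sub_zero]
        exact W.sub_mem hx (W.smul_mem _ hu)
      obtain ⟨w', hw'W, hgw'⟩ : ∃ w' ∈ W, (g : Matrix ι ι F) *ᵥ w' ∉ W := by
        by_contra hcon
        push Not at hcon
        exact hgS (mem_stab_of_maps_le W g hcon)
      obtain ⟨y, hy⟩ : ∃ y, y = (g : Matrix ι ι F) *ᵥ w' := ⟨_, rfl⟩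
      rw [← hy] at hgw'
      have hCy : ECtr Q M y := by
        rw [hy]
        exact (hWC w' hw'W).conj g hgM hgI
      have hyQ : Q y = 0 := hCy.1
      have hfin : ∀ u u', ECtr Q M u → ECtr Q M u' → polar (⇑Q) u u' ≠ 0 → omegaGL ⇑Q ≤ M := by
        intro u u' hu hu' hβ
        have hall := hu.all hQ hu' hβ
        refine le_trans hΩE ?_
        unfold EG
        rw [Subgroup.closure_le]
        rintro e ⟨a, b, ha, hab, he⟩
        obtain ⟨e', he'M, he'⟩ := (hall a ha).2 b hab
        have : e = e' := Units.ext (by rw [he, he'])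
        rw [SetLike.mem_coe, this]
        exact he'M
      by_cases hcase : ∃ w ∈ W, polar (⇑Q) w y ≠ 0
      · obtain ⟨w, hwW, hwy⟩ := hcase
        exact hfin w y (hWC w hwW) hCy hwy
      · push Not at hcase
        obtain ⟨v, hvW, hvy⟩ : ∃ v, (∀ w ∈ W, polar (⇑Q) w v = 0) ∧ polar (⇑Q) v y ≠ 0 := by
          by_contra hcon
          push Not at hcon
          apply hgw'
          rw [← LinearMap.BilinForm.orthogonal_orthogonal hQ (pb_isRefl Q) W,
            LinearMap.BilinForm.mem_orthogonal_iff]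
          intro v hv
          rw [LinearMap.BilinForm.mem_orthogonal_iff] at hv
          rw [polarBilin_apply_apply]
          apply hcon v
          intro w hw
          have := hv w hw
          rwa [polarBilin_apply_apply] at this
        obtain ⟨z, hz⟩ : ∃ z, z = v - (Q v / polar (⇑Q) v y) • y := ⟨_, rfl⟩
        have hzQ : Q z = 0 := by
          rw [hz, Q_sub, Q_smul', hyQ, polar_smul_right, smul_eq_mul, div_mul_cancel₀ _ hvy]
          ring
        have hzW : ∀ w ∈ W, polar (⇑Q) w z = 0 := by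
          intro w hw
          rw [hz, polar_sub_right, polar_smul_right, hvW w hw, hcase w hw, smul_zero, sub_zero]
        have hzy : polar (⇑Q) z y ≠ 0 := by
          rw [hz, polar_sub_left, polar_smul_left, polar_self', hyQ]
          simpa using hvy
        obtain ⟨w, hwW, hwz, hwQ⟩ : ∃ w, (∀ x ∈ W, polar (⇑Q) x w = 0) ∧
            polar (⇑Q) z w = 0 ∧ Q w ≠ 0 := by
          by_contra hcon
          push Not at hcon
          have hT : ∀ t ∈ LinearMap.BilinForm.orthogonal (polarBilin Q) (W ⊔ Submodule.span F {z}), Q t = 0 := by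
            intro t ht
            rw [LinearMap.BilinForm.mem_orthogonal_iff] at ht
            apply hcon t
            · intro x hx
              have := ht x (Submodule.mem_sup_left hx)
              rwa [polarBilin_apply_apply] at this
            · have := ht z (Submodule.mem_sup_right (Submodule.mem_span_singleton_self z))
              rwa [polarBilin_apply_apply] at this
          have h1 := hts_dim _ hT
          rw [LinearMap.BilinForm.finrank_orthogonal hQ, Module.finrank_fintype_fun_eq_card] at h1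
          have h3 := finrank_sup_span_le W z
          have hT' : ∀ t ∈ W ⊔ Submodule.span F {y}, Q t = 0 := by
            intro t ht
            obtain ⟨a, ha, b, hb, rfl⟩ := Submodule.mem_sup.1 ht
            obtain ⟨k, rfl⟩ := Submodule.mem_span_singleton.1 hb
            rw [Q_add', hW a ha, Q_smul', hyQ, polar_smul_right, hcase a ha]
            simp
          have h4 := hts_dim _ hT'
          have h5 : Module.finrank F W
              < Module.finrank F (W ⊔ Submodule.span F {y} : Submodule F (ι → F)) := by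
            apply Submodule.finrank_lt_finrank_of_lt
            refine lt_of_le_of_ne le_sup_left ?_
            intro heq
            apply hgw'
            rw [heq]
            exact Submodule.mem_sup_right (Submodule.mem_span_singleton_self y)
          have h6 := hexc y hgw' hyQ hcase
          omega
        have hE : eichGL Q z w hzQ hwz ∈ M := by
          apply hHM
          apply hEH z w hzQ hwz
          intro x hx
          rw [eichM_mulVec, polar_comm (⇑Q) z x, hzW x hx, polar_comm (⇑Q) w x, hwW x hx]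
          simp only [zero_smul, mul_zero, add_zero, sub_zero]
          exact hx
        have hEI : ∀ x, Q (((eichGL Q z w hzQ hwz : GL ι F) : Matrix ι ι F) *ᵥ x) = Q x :=
          fun x => eichM_isometry Q z w hzQ hwz x
        have hCy' := hCy.conj _ hE hEI
        apply hfin y _ hCy hCy'
        change polar (⇑Q) y (eichM Q z w *ᵥ y) ≠ 0
        rw [eichM_mulVec, polar_sub_right, polar_sub_right, polar_add_right, polar_smul_right,
          polar_smul_right, polar_smul_right, polar_self', hyQ]
        have hyw : polar (⇑Q) y w = polar (⇑Q) w y := polar_comm _ _ _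
        have hyz' : polar (⇑Q) y z = polar (⇑Q) z y := polar_comm _ _ _
        rw [hyw, hyz']
        simp only [smul_eq_mul]
        intro h0
        have h7 : Q w * (polar (⇑Q) z y * polar (⇑Q) z y) = 0 := by linear_combination -h0
        rcases mul_eq_zero.1 h7 with h | h
        · exact hwQ h
        · rcases mul_eq_zero.1 h with h | h <;> exact hzy h

end ots

lemma two_ne_zero_of_odd_card {F : Type*} [Field F] [Fintype F]
    (hodd : Odd (Fintype.card F)) : (2 : F) ≠ 0 := by
  intro h
  have h1 : ringChar F = 2 :=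
    CharP.ringChar_of_prime_eq_zero Nat.prime_two (by exact_mod_cast h)
  have h2 := FiniteField.even_card_of_char_two h1
  rcases hodd with ⟨k, hk⟩
  omega

end Cfsg.Agent.Helper93
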