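import Cfsg.Agent.Lib.Helper93.Transvec2

set_option autoImplicit false

namespace Cfsg.Agent.Helper93

open Matrix

variable {ι : Type} [Fintype ι] [DecidableEq ι] {F : Type*} [Field F]

/-- a functional vanishing on `P` with value `1` at `x ∉ P` -/
lemma exists_functional_one (P : Submodule F (ι → F)) (x : ι → F) (hx : x ∉ P) :
    ∃ φ : ι → F, (∀ y ∈ P, φ ⬝ᵥ y = 0) ∧ φ ⬝ᵥ x = 1 := by
  obtain ⟨φ, hφP, hφx⟩ := exists_functional P x hx
  refine ⟨(φ ⬝ᵥ x)⁻¹ • φ, ?_, ?_⟩
  · intro y hy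
    rw [smul_dotProduct, hφP y hy, smul_zero]
  · rw [smul_dotProduct, smul_eq_mul, inv_mul_cancel₀ hφx]

/-- any subgroup containing the stabiliser of `W` in `SL` and an element not stabilising `W`
contains `SL` -/
theorem SL_le_of_stab_le (W : Submodule F (ι → F)) (M : Subgroup (GL ι F))
    (hP : Cfsg.Geo.subspaceStabilizer W ⊓ Cfsg.Geo.specialLinear ι F ≤ M)
    (g : GL ι F) (hgM : g ∈ M) (hg : g ∉ Cfsg.Geo.subspaceStabilizer W) :
    Cfsg.Geo.specialLinear ι F ≤ M := by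
  -- an element of `M` moving some `w ∈ W` outside `W`
  obtain ⟨g', hg'M, w, hw, hgw⟩ : ∃ g' ∈ M, ∃ w ∈ W, (g' : Matrix ι ι F) *ᵥ w ∉ W := by
    rw [mem_subspaceStabilizer_iff] at hg
    push Not at hg
    obtain ⟨x, hx⟩ := hg
    rcases hx with ⟨h1, h2⟩ | ⟨h1, h2⟩
    · exact ⟨g, hgM, x, h1, h2⟩
    · refine ⟨g⁻¹, M.inv_mem hgM, (g : Matrix ι ι F) *ᵥ x, h2, ?_⟩
      rw [Matrix.mulVec_mulVec, ← Units.val_mul, inv_mul_cancel, Units.val_one, Matrix.one_mulVec]
      exact h1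
  have hW : ∀ u ∈ W, AllTv M u := by
    intro u hu ψ h
    exact hP ⟨tv_mem_stab_of_dir W ψ u h hu, tv_mem_SL ψ u h⟩
  set u0 := (g' : Matrix ι ι F) *ᵥ w with hu0
  have h0 : AllTv M u0 := (hW w hw).conj g' hg'M
  apply SL_le_of_allTv
  intro u
  by_cases huW : u ∈ W
  · exact hW u huW
  by_cases hu : u ∈ W ⊔ Submodule.span F {u0}
  · obtain ⟨w', hw', y, hy, rfl⟩ := Submodule.mem_sup.mp hu
    obtain ⟨c, rfl⟩ := Submodule.mem_span_singleton.mp hy
    have hc : c ≠ 0 := by
      rintro rfl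
      apply huW
      rw [zero_smul, add_zero]; exact hw'
    have hu1 : c • u0 ∉ W := by
      intro h
      have := W.smul_mem c⁻¹ h
      rw [smul_smul, inv_mul_cancel₀ hc, one_smul] at this
      exact hgw this
    have h1 : AllTv M (c • u0) := h0.smul c
    have hnot : c • u0 ∉ Submodule.span F {w'} := by
      intro h
      exact hu1 ((Submodule.span_singleton_le_iff_mem w' W).mpr hw' h)
    obtain ⟨χ, hχP, hχ1⟩ := exists_functional_one _ _ hnot
    have hχw : χ ⬝ᵥ w' = 0 := hχP w' (Submodule.mem_span_singleton_self w')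
    have hp : tv χ w' hχw ∈ M := hP ⟨tv_mem_stab_of_dir W χ w' hχw hw', tv_mem_SL χ w' hχw⟩
    have := h1.conj _ hp
    rw [tv_coe, tvMat_mulVec, hχ1, one_smul, add_comm] at this
    exact this
  · have hnot : u0 ∉ W ⊔ Submodule.span F {u - u0} := by
      intro h
      obtain ⟨w', hw', y, hy, hsum⟩ := Submodule.mem_sup.mp h
      obtain ⟨c, rfl⟩ := Submodule.mem_span_singleton.mp hy
      by_cases hc : c = 0
      · subst hc
        rw [zero_smul, add_zero] at hsum
        rw [← hsum] at hgw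
        exact hgw hw'
      · apply hu
        have : u = (-c⁻¹) • w' + (1 + c⁻¹) • u0 := by
          have h2 : c • (u - u0) = u0 - w' := by
            rw [eq_sub_iff_add_eq, add_comm]; exact hsum
          have h3 : u - u0 = c⁻¹ • (u0 - w') := by
            rw [← h2, smul_smul, inv_mul_cancel₀ hc, one_smul]
          have h4 : u = u0 + c⁻¹ • (u0 - w') := by rw [← h3]; abel
          rw [h4, smul_sub, add_smul, one_smul, neg_smul]
          abel
        rw [this]
        exact Submodule.add_mem _ (Submodule.mem_sup_left (W.smul_mem _ hw'))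
          (Submodule.mem_sup_right (Submodule.smul_mem _ _ (Submodule.mem_span_singleton_self u0)))
    obtain ⟨χ, hχP, hχ1⟩ := exists_functional_one _ _ hnot
    have hχd : χ ⬝ᵥ (u - u0) = 0 :=
      hχP _ (Submodule.mem_sup_right (Submodule.mem_span_singleton_self _))
    have hχW : ∀ x ∈ W, χ ⬝ᵥ x = 0 := fun x hx => hχP x (Submodule.mem_sup_left hx)
    have hp : tv χ (u - u0) hχd ∈ M :=
      hP ⟨tv_mem_stab_of_vanish W χ (u - u0) hχd hχW, tv_mem_SL χ (u - u0) hχd⟩
    have := h0.conj _ hp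
    rw [tv_coe, tvMat_mulVec, hχ1, one_smul, add_sub_cancel] at this
    exact this

theorem stab_isMaximalIn (W : Submodule F (ι → F)) (hW0 : W ≠ ⊥) (hW1 : W ≠ ⊤) :
    Cfsg.Geo.IsMaximalIn (Cfsg.Geo.specialLinear ι F)
      (Cfsg.Geo.subspaceStabilizer W ⊓ Cfsg.Geo.specialLinear ι F) := by
  constructor
  · rw [SetLike.lt_iff_le_and_exists]
    refine ⟨inf_le_right, ?_⟩
    obtain ⟨g, hg, hgW⟩ := exists_SL_notMem_stab W hW0 hW1
    exact ⟨g, hg, fun h => hgW h.1⟩
  · intro M hHM hMK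
    by_cases hMH : M = Cfsg.Geo.subspaceStabilizer W ⊓ Cfsg.Geo.specialLinear ι F
    · left; exact hMH
    · right
      obtain ⟨g, hgM, hgH⟩ := SetLike.exists_of_lt (lt_of_le_of_ne hHM (Ne.symm hMH))
      have hg : g ∉ Cfsg.Geo.subspaceStabilizer W := fun h => hgH ⟨h, hMK hgM⟩
      exact le_antisymm hMK (SL_le_of_stab_le W M hHM g hgM hg)

end Cfsg.Agent.Helper93
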