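import Mathlib
import Cfsg.Agent.Lib.Helper93.RU0
import Cfsg.Agent.Lib.Helper82.RUA
import Cfsg.Agent.Lib.Helper34.RUB3
import Cfsg.Agent.Lib.Helper25.RUB4
import Cfsg.Agent.Lib.Helper12.RUB5
import Cfsg.Agent.Lib.Helper33.RUC1
import Cfsg.Agent.Lib.Helper33.RUC3
import Cfsg.Agent.Lib.Helper38.RUC45Core
import Cfsg.Agent.Lib.Helper33.RUC7
import Cfsg.Agent.Lib.Helper12.RUD4
import Cfsg.Agent.Lib.Helper21.RUE1
import Cfsg.Agent.Lib.Helper21.RUE2

/-!
# RU project (S2280): assembly.  `SL_{m+3}(F)` is generated by three conjugate regular unipotents.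
-/

set_option autoImplicit false

namespace Cfsg.Agent.Helper93.RU

open Matrix

variable {F : Type*} [Field F] {m : ℕ}

theorem t12_zero : (t12 (0 : F) : SLm m F) = 1 := by
  unfold t12
  rw [zero_smul]
  exact Cfsg.Agent.Helper82.RU.tvS_zero _

theorem main [Fintype F] (m : ℕ) :
    ∃ u g h : SLm m F, (IsNilpotent (u.1 - 1) ∧ (u.1 - 1) ^ (m + 2) ≠ 0) ∧
      Subgroup.closure ({u, g * u * g⁻¹, h * u * h⁻¹} : Set (SLm m F)) = ⊤ := by
  obtain ⟨lam, _, hgen⟩ := Cfsg.Agent.Helper21.RU.exists_generator (F := F)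
  obtain ⟨ε, hε, h, hh⟩ := Cfsg.Agent.Helper12.RU.exists_conj_lower (F := F) (m := m)
  refine ⟨uEl m F, t12 lam, h, Cfsg.Agent.Helper34.RU.uEl_regular, ?_⟩
  set H := Subgroup.closure ({uEl m F, t12 lam * uEl m F * (t12 lam)⁻¹, h * uEl m F * h⁻¹} :
    Set (SLm m F)) with hH
  have hu : uEl m F ∈ H := Subgroup.subset_closure (by simp)
  have hg : t12 lam * uEl m F * (t12 lam)⁻¹ ∈ H := Subgroup.subset_closure (by simp)
  have hl : lEl ε ∈ H := by
    rw [← hh]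
    exact Subgroup.subset_closure (by simp)
  have ht : t13 lam ∈ H := by
    rw [Cfsg.Agent.Helper25.RU.conj_upper] at hg
    have := H.mul_mem (H.inv_mem hu) hg
    rwa [inv_mul_cancel_left] at this
  have hC1 : ∀ φ : Fin (m + 3) → F, φ 0 = 0 → tvS (eV 0) φ ∈ H → tvS (eV 0) (shR φ) ∈ H :=
    fun φ h0 hφ => Cfsg.Agent.Helper33.RU.shift_mem H hu φ h0 hφ
  have hC4 : ∀ a : F, t12 a ∈ H → t13 a ∈ H :=
    fun a ha => Cfsg.Agent.Helper38.RU.t13_of_t12_core H hC1 a ha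
  have hC3 : ∀ μ : F, t13 μ ∈ H → t12 (μ * lam) ∈ H :=
    fun μ hμ => Cfsg.Agent.Helper33.RU.step H hu ε lam μ hε hl ht hμ
  have h12 : ∀ a : F, t12 a ∈ H := by
    intro a
    by_cases ha : a = 0
    · rw [ha, t12_zero]; exact H.one_mem
    · obtain ⟨k, hk, rfl⟩ := hgen a ha
      exact Cfsg.Agent.Helper38.RU.pow_mem_core H lam hC3 hC4 ht k hk
  have h0 : eV 0 ∈ Wset H := Cfsg.Agent.Helper33.RU.e0_mem_W H hu h12
  exact Cfsg.Agent.Helper21.RU.eq_top_of_W H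
    (fun k => Cfsg.Agent.Helper12.RU.all_mem_W H ε hε hl h0 k)

end Cfsg.Agent.Helper93.RU
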