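import Cfsg.Agent.Lib.Helper93.SpND

set_option autoImplicit false

namespace Cfsg.Agent.Helper93

open Matrix Cfsg.Geo

variable {ι : Type} [Fintype ι] [DecidableEq ι] {F : Type*} [Field F]
variable {f : (ι → F) → (ι → F) → F}

lemma form_sum_right (hb : IsBilinearForm f) {α : Type*} (s : Finset α) (y : ι → F)
    (v : α → ι → F) : f y (∑ i ∈ s, v i) = ∑ i ∈ s, f y (v i) := by
  classical
  induction s using Finset.induction_on with
  | empty => simp [form_zero_right hb]
  | insert a s ha ih => rw [Finset.sum_insert ha, Finset.sum_insert ha, hb.add_right, ih]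

lemma form_sum_left (hb : IsBilinearForm f) {α : Type*} (s : Finset α) (y : ι → F)
    (v : α → ι → F) : f (∑ i ∈ s, v i) y = ∑ i ∈ s, f (v i) y := by
  classical
  induction s using Finset.induction_on with
  | empty => simp [form_zero_left hb]
  | insert a s ha ih => rw [Finset.sum_insert ha, Finset.sum_insert ha, hb.add_left, ih]

lemma map_eq_of_maps (S : Submodule F (ι → F)) (g : GL ι F)
    (h1 : ∀ x ∈ S, (g : Matrix ι ι F) *ᵥ x ∈ S)
    (h2 : ∀ x ∈ S, ((g⁻¹ : GL ι F) : Matrix ι ι F) *ᵥ x ∈ S) :
    S.map (Matrix.toLin' (g : Matrix ι ι F)) = S := by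
  apply le_antisymm
  · rintro _ ⟨x, hx, rfl⟩
    rw [Matrix.toLin'_apply]
    exact h1 x hx
  · intro y hy
    refine ⟨((g⁻¹ : GL ι F) : Matrix ι ι F) *ᵥ y, h2 y hy, ?_⟩
    rw [Matrix.toLin'_apply, gl_apply_inv_apply]

section decomp

variable {t k : ℕ} {D : Fin t → Submodule F (ι → F)}

/-- the component of `x` in the block `D i` -/
noncomputable def cmp (hf : IsSymplecticForm f) (hD : IsNondegenerateMDecomposition f k D)
    (i : Fin t) (x : ι → F) : ι → F :=
  Classical.choose (exists_proj hf (D i) (hD.nondegenerate i) x)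

lemma cmp_mem (hf : IsSymplecticForm f) (hD : IsNondegenerateMDecomposition f k D)
    (i : Fin t) (x : ι → F) : cmp hf hD i x ∈ D i :=
  (Classical.choose_spec (exists_proj hf (D i) (hD.nondegenerate i) x)).1

lemma cmp_spec (hf : IsSymplecticForm f) (hD : IsNondegenerateMDecomposition f k D)
    (i : Fin t) (x : ι → F) (y : ι → F) (hy : y ∈ D i) : f y (cmp hf hD i x) = f y x := by
  have h := (Classical.choose_spec (exists_proj hf (D i) (hD.nondegenerate i) x)).2 y hy
  rw [form_sub_right hf.bilinear, sub_eq_zero] at h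
  exact h.symm

lemma cmp_spec' (hf : IsSymplecticForm f) (hD : IsNondegenerateMDecomposition f k D)
    (i : Fin t) (x : ι → F) (y : ι → F) (hy : y ∈ D i) : f (cmp hf hD i x) y = f x y := by
  rw [hf.skew, cmp_spec hf hD i x y hy, ← hf.skew]

lemma cmp_unique (hf : IsSymplecticForm f) (hD : IsNondegenerateMDecomposition f k D)
    (i : Fin t) (x w : ι → F) (hw : w ∈ D i) (h : ∀ y ∈ D i, f y w = f y x) :
    w = cmp hf hD i x := by
  by_contra hne
  have hmem : w - cmp hf hD i x ∈ D i := (D i).sub_mem hw (cmp_mem hf hD i x)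
  have hne' : w - cmp hf hD i x ≠ 0 := sub_ne_zero.2 hne
  obtain ⟨⟨y, hy, hyne⟩, _⟩ := hD.nondegenerate i _ hmem hne'
  apply hyne
  rw [form_sub_right hf.bilinear, h y hy, cmp_spec hf hD i x y hy, sub_self]

lemma cmp_of_mem (hf : IsSymplecticForm f) (hD : IsNondegenerateMDecomposition f k D)
    {i : Fin t} {x : ι → F} (hx : x ∈ D i) : cmp hf hD i x = x :=
  (cmp_unique hf hD i x x hx (fun _ _ => rfl)).symm

lemma cmp_of_mem_ne (hf : IsSymplecticForm f) (hD : IsNondegenerateMDecomposition f k D)
    {i j : Fin t} (hij : i ≠ j) {x : ι → F} (hx : x ∈ D j) : cmp hf hD i x = 0 := by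
  symm
  apply cmp_unique hf hD i x 0 (D i).zero_mem
  intro y hy
  rw [form_zero_right hf.bilinear, hD.orthogonal i j hij y hy x hx]

lemma cmp_add (hf : IsSymplecticForm f) (hD : IsNondegenerateMDecomposition f k D)
    (i : Fin t) (x y : ι → F) : cmp hf hD i (x + y) = cmp hf hD i x + cmp hf hD i y := by
  symm
  apply cmp_unique hf hD i _ _ ((D i).add_mem (cmp_mem hf hD i x) (cmp_mem hf hD i y))
  intro z hz
  rw [hf.bilinear.add_right, hf.bilinear.add_right, cmp_spec hf hD i x z hz,
    cmp_spec hf hD i y z hz]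

lemma cmp_smul (hf : IsSymplecticForm f) (hD : IsNondegenerateMDecomposition f k D)
    (i : Fin t) (c : F) (x : ι → F) : cmp hf hD i (c • x) = c • cmp hf hD i x := by
  symm
  apply cmp_unique hf hD i _ _ ((D i).smul_mem c (cmp_mem hf hD i x))
  intro z hz
  rw [hf.bilinear.smul_right, hf.bilinear.smul_right, cmp_spec hf hD i x z hz]

lemma cmp_zero (hf : IsSymplecticForm f) (hD : IsNondegenerateMDecomposition f k D)
    (i : Fin t) : cmp hf hD i 0 = 0 := cmp_of_mem hf hD (D i).zero_mem

lemma cmp_neg (hf : IsSymplecticForm f) (hD : IsNondegenerateMDecomposition f k D)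
    (i : Fin t) (x : ι → F) : cmp hf hD i (-x) = - cmp hf hD i x := by
  have := cmp_smul hf hD i (-1) x
  simpa using this

lemma cmp_sub (hf : IsSymplecticForm f) (hD : IsNondegenerateMDecomposition f k D)
    (i : Fin t) (x y : ι → F) : cmp hf hD i (x - y) = cmp hf hD i x - cmp hf hD i y := by
  rw [sub_eq_add_neg, cmp_add, cmp_neg, ← sub_eq_add_neg]

lemma sum_cmp (hf : IsSymplecticForm f) (hD : IsNondegenerateMDecomposition f k D)
    (x : ι → F) : ∑ i, cmp hf hD i x = x := by
  have hb := hf.bilinear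
  by_contra hne
  have hne' : x - ∑ i, cmp hf hD i x ≠ 0 := sub_ne_zero.2 (Ne.symm hne)
  obtain ⟨⟨y, hy⟩, _⟩ := hf.nondegenerate _ hne'
  apply hy
  have hy_top : y ∈ iSup D := by rw [hD.decomp.iSup_eq_top]; trivial
  refine Submodule.iSup_induction D (motive := fun y => f y (x - ∑ i, cmp hf hD i x) = 0)
    hy_top ?_ ?_ ?_
  · intro j z hz
    rw [form_sub_right hb, form_sum_right hb, Finset.sum_eq_single j, cmp_spec hf hD j x z hz,
      sub_self]
    · intro i _ hij
      exact hD.orthogonal j i (Ne.symm hij) z hz _ (cmp_mem hf hD i x)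
    · intro h; exact absurd (Finset.mem_univ j) h
  · exact form_zero_left hb _
  · intro a b ha hb'
    rw [hb.add_left, ha, hb', add_zero]

lemma block_ne_bot (hD : IsNondegenerateMDecomposition f k D) (i : Fin t) : D i ≠ ⊥ := by
  intro h
  have h1 := hD.decomp.finrank_eq i
  have h2 := hD.decomp.pos
  rw [h, finrank_bot] at h1
  omega

/-- transvections with centre in a block stabilise the decomposition -/
lemma stv_mem_decompStab (hf : IsSymplecticForm f) (hD : IsNondegenerateMDecomposition f k D)
    {i : Fin t} {u : ι → F} (hu : u ∈ D i) (c : F) :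
    stv hf u c ∈ decompositionStabilizer D := by
  refine ⟨1, fun j => ?_⟩
  have key : ∀ c' : F, ∀ x ∈ D j, ((stv hf u c' : GL ι F) : Matrix ι ι F) *ᵥ x ∈ D j := by
    intro c' x hx
    rw [stv_apply]
    by_cases hji : j = i
    · subst hji
      exact (D j).add_mem hx ((D j).smul_mem _ hu)
    · rw [hD.orthogonal j i hji x hx u hu, mul_zero, zero_smul, add_zero]
      exact hx
  rw [Equiv.Perm.one_apply]
  apply map_eq_of_maps
  · exact key c
  · rw [stv_inv]
    exact key (-c)

/-- an isometry permuting the blocks permutes the components -/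
lemma cmp_map (hf : IsSymplecticForm f) (hD : IsNondegenerateMDecomposition f k D)
    (g : GL ι F) (hg : Isom f g) (σ : Equiv.Perm (Fin t))
    (hσ : ∀ i, (D i).map (Matrix.toLin' (g : Matrix ι ι F)) = D (σ i)) (i : Fin t) (x : ι → F) :
    cmp hf hD (σ i) ((g : Matrix ι ι F) *ᵥ x) = (g : Matrix ι ι F) *ᵥ cmp hf hD i x := by
  symm
  apply cmp_unique
  · rw [← hσ i]
    exact ⟨cmp hf hD i x, cmp_mem hf hD i x, Matrix.toLin'_apply _ _⟩
  · intro y' hy'
    rw [← hσ i] at hy'
    obtain ⟨y, hy, rfl⟩ := hy'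
    rw [Matrix.toLin'_apply, hg, hg]
    exact cmp_spec hf hD i x y hy

end decomp

/-- coordinates in a 2-dimensional subspace -/
lemma exists_coeffs_of_finrank_two (S : Submodule F (ι → F)) (hS : Module.finrank F S = 2)
    {a b : ι → F} (ha : a ∈ S) (hb : b ∈ S)
    (hli : ∀ s t : F, s • a + t • b = 0 → s = 0 ∧ t = 0) (y : ι → F) (hy : y ∈ S) :
    ∃ s t : F, s • a + t • b = y := by
  have hli' : LinearIndependent F ![a, b] := LinearIndependent.pair_iff.2 hli
  have h1 := finrank_span_eq_card hli'
  rw [Fintype.card_fin] at h1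
  have hrange : Set.range ![a, b] = {a, b} := by
    ext z
    simp only [Set.mem_range, Fin.exists_fin_two, Set.mem_insert_iff, Set.mem_singleton_iff]
    constructor
    · rintro (h | h)
      · left; exact h.symm
      · right; exact h.symm
    · rintro (h | h)
      · left; exact h.symm
      · right; exact h.symm
  rw [hrange] at h1
  have hle : Submodule.span F {a, b} ≤ S := by
    rw [Submodule.span_le]
    intro z hz
    simp only [Set.mem_insert_iff, Set.mem_singleton_iff] at hz
    rcases hz with rfl | rfl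
    · exact ha
    · exact hb
  have heq := Submodule.eq_of_le_of_finrank_eq hle (h1.trans hS.symm)
  rw [← heq] at hy
  exact Submodule.mem_span_pair.1 hy

end Cfsg.Agent.Helper93
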