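import Cfsg.Agent.Lib.Helper93.SpDecomp

set_option autoImplicit false

namespace Cfsg.Agent.Helper93

open Matrix Cfsg.Geo

variable {ι : Type} [Fintype ι] [DecidableEq ι] {F : Type*} [Field F]
variable {f : (ι → F) → (ι → F) → F}

lemma eq_zero_or_one_of_card_two [Fintype F] (hq : Fintype.card F = 2) (z : F) : z = 0 ∨ z = 1 := by
  classical
  by_contra h
  rw [not_or] at h
  have h3 : ({0, 1, z} : Finset F).card = 3 := by
    rw [Finset.card_eq_three]
    exact ⟨0, 1, z, zero_ne_one, Ne.symm h.1, Ne.symm h.2, rfl⟩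
  have h4 : ({0, 1, z} : Finset F).card ≤ Fintype.card F := Finset.card_le_univ _
  omega

lemma one_add_one_of_card_two [Fintype F] (hq : Fintype.card F = 2) : (1 : F) + 1 = 0 := by
  rcases eq_zero_or_one_of_card_two hq ((1 : F) + 1) with h | h
  · exact h
  · exfalso
    have : (1 : F) = 0 := by linear_combination h
    exact one_ne_zero this

omit [Fintype ι] [DecidableEq ι] in
lemma add_self_of_card_two [Fintype F] (hq : Fintype.card F = 2) (v : ι → F) : v + v = 0 := by
  have : v + v = ((1 : F) + 1) • v := by rw [add_smul, one_smul]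
  rw [this, one_add_one_of_card_two hq, zero_smul]

open scoped Classical in
/-- indicator of being non-zero -/
noncomputable def indF (z : ι → F) : F := if z = 0 then 0 else 1

lemma ind_zero : indF (0 : ι → F) = 0 := by unfold indF; rw [if_pos rfl]

lemma ind_of_ne {z : ι → F} (h : z ≠ 0) : indF z = 1 := by unfold indF; rw [if_neg h]

section decomp

variable {t : ℕ} {D : Fin t → Submodule F (ι → F)}

/-- inside a 2-dimensional block over the field with two elements -/
lemma block_ind [Fintype F] (hq : Fintype.card F = 2) (hf : IsSymplecticForm f)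
    (hD : IsNondegenerateMDecomposition f 2 D) (i : Fin t) {a b : ι → F} (ha : a ∈ D i)
    (hb : b ∈ D i) : indF (a + b) = indF a + indF b + f a b := by
  have hbil := hf.bilinear
  have h01 := eq_zero_or_one_of_card_two hq
  have h2 := one_add_one_of_card_two hq
  by_cases ha0 : a = 0
  · rw [ha0, zero_add, ind_zero, zero_add, form_zero_left hbil, add_zero]
  by_cases hb0 : b = 0
  · rw [hb0, add_zero, ind_zero, add_zero, form_zero_right hbil, add_zero]
  by_cases hab : a = b
  · rw [hab, add_self_of_card_two hq, ind_zero, ind_of_ne hb0, hf.alternating, h2, add_zero]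
  · have hsum : a + b ≠ 0 := by
      intro h
      apply hab
      have h' : a + b = b + b := by rw [h, add_self_of_card_two hq]
      exact add_right_cancel h'
    have hli : ∀ s t : F, s • a + t • b = 0 → s = 0 ∧ t = 0 := by
      intro s t hst
      rcases h01 s with hs | hs <;> rcases h01 t with ht | ht
      · exact ⟨hs, ht⟩
      · exfalso
        rw [hs, ht, zero_smul, one_smul, zero_add] at hst
        exact hb0 hst
      · exfalso
        rw [hs, ht, zero_smul, one_smul, add_zero] at hst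
        exact ha0 hst
      · exfalso
        rw [hs, ht, one_smul, one_smul] at hst
        exact hsum hst
    obtain ⟨_, ⟨y, hy, hay⟩⟩ := hD.nondegenerate i a ha ha0
    obtain ⟨s, t', rfl⟩ := exists_coeffs_of_finrank_two (D i) (hD.decomp.finrank_eq i) ha hb hli y hy
    have hfab : f a b ≠ 0 := by
      intro h
      apply hay
      rw [hbil.add_right, hbil.smul_right, hbil.smul_right, hf.alternating, h, mul_zero, mul_zero,
        add_zero]
    have hfab1 : f a b = 1 := (h01 _).resolve_left hfab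
    rw [ind_of_ne hsum, ind_of_ne ha0, ind_of_ne hb0, hfab1, h2, zero_add]

/-- the quadratic form `weight mod 2` -/
noncomputable def Qw (hf : IsSymplecticForm f) (hD : IsNondegenerateMDecomposition f 2 D)
    (x : ι → F) : F := ∑ i, indF (cmp hf hD i x)

lemma Qw_add [Fintype F] (hq : Fintype.card F = 2) (hf : IsSymplecticForm f)
    (hD : IsNondegenerateMDecomposition f 2 D) (x y : ι → F) :
    Qw hf hD (x + y) = Qw hf hD x + Qw hf hD y + f x y := by
  have hbil := hf.bilinear
  have h1 : f x y = ∑ i, f (cmp hf hD i x) (cmp hf hD i y) := by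
    have : f x y = f (∑ i, cmp hf hD i x) y := by rw [sum_cmp]
    rw [this, form_sum_left hbil]
    apply Finset.sum_congr rfl
    intro i _
    exact (cmp_spec hf hD i y _ (cmp_mem hf hD i x)).symm
  unfold Qw
  rw [h1, ← Finset.sum_add_distrib, ← Finset.sum_add_distrib]
  apply Finset.sum_congr rfl
  intro i _
  rw [cmp_add]
  exact block_ind hq hf hD i (cmp_mem hf hD i x) (cmp_mem hf hD i y)

lemma Qw_zero (hf : IsSymplecticForm f) (hD : IsNondegenerateMDecomposition f 2 D) :
    Qw hf hD 0 = 0 := by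
  unfold Qw
  apply Finset.sum_eq_zero
  intro i _
  rw [cmp_zero, ind_zero]

lemma Qw_of_mem (hf : IsSymplecticForm f) (hD : IsNondegenerateMDecomposition f 2 D)
    {i : Fin t} {a : ι → F} (ha : a ∈ D i) (ha0 : a ≠ 0) : Qw hf hD a = 1 := by
  unfold Qw
  rw [Finset.sum_eq_single i, cmp_of_mem hf hD ha, ind_of_ne ha0]
  · intro j _ hji
    rw [cmp_of_mem_ne hf hD hji ha, ind_zero]
  · intro h; exact absurd (Finset.mem_univ i) h

/-- the isometries preserving `Qw` -/
noncomputable def KQ (hf : IsSymplecticForm f) (hD : IsNondegenerateMDecomposition f 2 D)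
    (I : Subgroup (GL ι F)) : Subgroup (GL ι F) where
  carrier := {g | g ∈ I ∧ ∀ x, Qw hf hD ((g : Matrix ι ι F) *ᵥ x) = Qw hf hD x}
  mul_mem' := by
    rintro a b ⟨ha, ha'⟩ ⟨hb, hb'⟩
    refine ⟨I.mul_mem ha hb, fun x => ?_⟩
    rw [gl_mul_apply, ha', hb']
  one_mem' := ⟨I.one_mem, fun x => by rw [gl_one_apply]⟩
  inv_mem' := by
    rintro a ⟨ha, ha'⟩
    refine ⟨I.inv_mem ha, fun x => ?_⟩
    have := ha' (((a⁻¹ : GL ι F) : Matrix ι ι F) *ᵥ x)
    rw [gl_apply_inv_apply] at this
    exact this.symm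

theorem f2_decomp_not_max [Fintype F] (hq : Fintype.card F = 2) (hf : IsSymplecticForm f)
    (hcard : 5 ≤ Fintype.card ι) (hD : IsNondegenerateMDecomposition f 2 D)
    (I : Subgroup (GL ι F)) (hI : ∀ g, g ∈ I ↔ Isom f g) :
    ∃ K : Subgroup (GL ι F), decompositionStabilizer D ⊓ I < K ∧ K < I := by
  have hbil := hf.bilinear
  have h01 := eq_zero_or_one_of_card_two hq
  have h2 := one_add_one_of_card_two hq
  have ht3 : 3 ≤ t := by
    by_contra hlt
    have ht2 : t = 2 := by have := hD.decomp.two_le; omega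
    subst ht2
    have h1 : iSup D ≤ D 0 ⊔ D 1 := by
      apply iSup_le
      intro i
      fin_cases i
      · exact le_sup_left
      · exact le_sup_right
    rw [hD.decomp.iSup_eq_top] at h1
    have h2 := Submodule.finrank_mono h1
    rw [finrank_top, Module.finrank_fintype_fun_eq_card] at h2
    have h3 := Submodule.finrank_add_le_finrank_add_finrank (D 0) (D 1)
    rw [hD.decomp.finrank_eq, hD.decomp.finrank_eq] at h3
    omega
  obtain ⟨i0, i1, i2, h01', h02', h12'⟩ : ∃ i0 i1 i2 : Fin t, i0 ≠ i1 ∧ i0 ≠ i2 ∧ i1 ≠ i2 :=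
    ⟨⟨0, by omega⟩, ⟨1, by omega⟩, ⟨2, by omega⟩, by simp [Fin.ext_iff], by simp [Fin.ext_iff],
      by simp [Fin.ext_iff]⟩
  obtain ⟨a0, ha0, ha0ne⟩ := Submodule.exists_mem_ne_zero_of_ne_bot (block_ne_bot hD i0)
  obtain ⟨a1, ha1, ha1ne⟩ := Submodule.exists_mem_ne_zero_of_ne_bot (block_ne_bot hD i1)
  obtain ⟨a2, ha2, ha2ne⟩ := Submodule.exists_mem_ne_zero_of_ne_bot (block_ne_bot hD i2)
  obtain ⟨⟨b0, hb0, hb0a0⟩, _⟩ := hD.nondegenerate i0 a0 ha0 ha0ne
  have hb0a0' : f b0 a0 = 1 := (h01 _).resolve_left hb0a0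
  have hb0a1 : f b0 a1 = 0 := hD.orthogonal i0 i1 h01' b0 hb0 a1 ha1
  have hb0a2 : f b0 a2 = 0 := hD.orthogonal i0 i2 h02' b0 hb0 a2 ha2
  have ha0a1 : f a0 a1 = 0 := hD.orthogonal i0 i1 h01' a0 ha0 a1 ha1
  have ha0a2 : f a0 a2 = 0 := hD.orthogonal i0 i2 h02' a0 ha0 a2 ha2
  have ha1a2 : f a1 a2 = 0 := hD.orthogonal i1 i2 h12' a1 ha1 a2 ha2
  have hQ01 : Qw hf hD (a0 + a1) = 0 := by
    rw [Qw_add hq, Qw_of_mem hf hD ha0 ha0ne, Qw_of_mem hf hD ha1 ha1ne, ha0a1, h2, add_zero]
  have hQ012 : Qw hf hD (a0 + a1 + a2) = 1 := by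
    rw [Qw_add hq, hQ01, Qw_of_mem hf hD ha2 ha2ne, hbil.add_left, ha0a2, ha1a2, zero_add,
      add_zero, add_zero]
  -- transvections with `Qw u = 1` preserve `Qw`
  have hK1 : ∀ u : ι → F, Qw hf hD u = 1 → stv hf u 1 ∈ KQ hf hD I := by
    intro u hu
    refine ⟨(hI _).2 (stv_isom hf u 1), fun x => ?_⟩
    rw [stv_apply, one_mul]
    rcases h01 (f x u) with h | h
    · rw [h, zero_smul, add_zero]
    · rw [h, one_smul, Qw_add hq, hu, h, add_assoc, h2, add_zero]
  refine ⟨KQ hf hD I, ?_, ?_⟩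
  · refine SetLike.lt_iff_le_and_exists.2 ⟨?_, stv hf (a0 + a1 + a2) 1, hK1 _ hQ012, ?_⟩
    · rintro g ⟨⟨σ, hσ⟩, hgI⟩
      have hgI' : Isom f g := (hI g).1 hgI
      refine ⟨hgI, fun x => ?_⟩
      unfold Qw
      rw [← Equiv.sum_comp σ (fun j => indF (cmp hf hD j ((g : Matrix ι ι F) *ᵥ x)))]
      apply Finset.sum_congr rfl
      intro i _
      rw [cmp_map hf hD g hgI' σ hσ i x]
      by_cases hz : cmp hf hD i x = 0
      · rw [hz, Matrix.mulVec_zero]
      · have hz' : (g : Matrix ι ι F) *ᵥ cmp hf hD i x ≠ 0 := by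
          intro h
          apply hz
          have := gl_inv_apply_apply g (cmp hf hD i x)
          rw [h, Matrix.mulVec_zero] at this
          exact this.symm
        rw [ind_of_ne hz, ind_of_ne hz']
    · rintro ⟨⟨σ, hσ⟩, _⟩
      have hmem : ((stv hf (a0 + a1 + a2) 1 : GL ι F) : Matrix ι ι F) *ᵥ b0 ∈ D (σ i0) := by
        rw [← hσ i0]
        exact ⟨b0, hb0, Matrix.toLin'_apply _ _⟩
      rw [stv_apply, one_mul, hbil.add_right, hbil.add_right, hb0a0', hb0a1, hb0a2, add_zero,
        add_zero, one_smul] at hmem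
      have hc1 : cmp hf hD i1 (b0 + (a0 + a1 + a2)) = a1 := by
        rw [cmp_add, cmp_add, cmp_add, cmp_of_mem_ne hf hD (Ne.symm h01') hb0,
          cmp_of_mem_ne hf hD (Ne.symm h01') ha0, cmp_of_mem hf hD ha1,
          cmp_of_mem_ne hf hD h12' ha2, zero_add, zero_add, add_zero]
      have hc2 : cmp hf hD i2 (b0 + (a0 + a1 + a2)) = a2 := by
        rw [cmp_add, cmp_add, cmp_add, cmp_of_mem_ne hf hD (Ne.symm h02') hb0,
          cmp_of_mem_ne hf hD (Ne.symm h02') ha0, cmp_of_mem_ne hf hD (Ne.symm h12') ha1,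
          cmp_of_mem hf hD ha2, zero_add, zero_add, zero_add]
      by_cases hs : i1 = σ i0
      · have hs2 : i2 ≠ σ i0 := by rw [← hs]; exact Ne.symm h12'
        rw [cmp_of_mem_ne hf hD hs2 hmem] at hc2
        exact ha2ne hc2.symm
      · rw [cmp_of_mem_ne hf hD hs hmem] at hc1
        exact ha1ne hc1.symm
  · refine SetLike.lt_iff_le_and_exists.2 ⟨fun g hg => hg.1, stv hf (a0 + a1) 1,
      (hI _).2 (stv_isom hf _ 1), ?_⟩
    rintro ⟨_, hpres⟩
    have h := hpres b0
    rw [stv_apply, one_mul, hbil.add_right, hb0a0', hb0a1, add_zero, one_smul, Qw_add hq, hQ01,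
      hbil.add_right, hb0a0', hb0a1, add_zero, add_zero] at h
    have : (1 : F) = 0 := by linear_combination h
    exact one_ne_zero this

end decomp

end Cfsg.Agent.Helper93
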