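import Cfsg.Agent.Lib.Helper93.SpTI

set_option autoImplicit false

namespace Cfsg.Agent.Helper93

open Matrix Cfsg.Geo

variable {ι : Type} [Fintype ι] [DecidableEq ι] {F : Type*} [Field F]
variable {f : (ι → F) → (ι → F) → F}

/-- right perp of a subspace -/
def perpSub (hb : IsBilinearForm f) (W : Submodule F (ι → F)) : Submodule F (ι → F) where
  carrier := {x | ∀ y ∈ W, f y x = 0}
  add_mem' := by
    intro a b ha hb' y hy
    rw [hb.add_right, ha y hy, hb' y hy, add_zero]
  zero_mem' := by
    intro y _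
    exact form_zero_right hb y
  smul_mem' := by
    intro c a ha y hy
    rw [hb.smul_right, ha y hy, mul_zero]

lemma mem_perpSub (hb : IsBilinearForm f) (W : Submodule F (ι → F)) (x : ι → F) :
    x ∈ perpSub hb W ↔ ∀ y ∈ W, f y x = 0 := Iff.rfl

/-- Riesz on a non-degenerate subspace -/
lemma exists_proj (hf : IsSymplecticForm f) (W : Submodule F (ι → F))
    (hW : IsNondegenerateOn f W) (x : ι → F) :
    ∃ w ∈ W, x - w ∈ perpSub hf.bilinear W := by
  have hb := hf.bilinear
  let Φ : W →ₗ[F] Module.Dual F W :=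
    { toFun := fun w =>
        { toFun := fun y => f (y : ι → F) (w : ι → F)
          map_add' := fun a b => hb.add_left (a : ι → F) (b : ι → F) (w : ι → F)
          map_smul' := fun c a => hb.smul_left c (a : ι → F) (w : ι → F) }
      map_add' := fun a b => LinearMap.ext fun y => hb.add_right (y : ι → F) (a : ι → F) (b : ι → F)
      map_smul' := fun c a => LinearMap.ext fun y => hb.smul_right c (y : ι → F) (a : ι → F) }
  have hinj : Function.Injective Φ := by
    rw [← LinearMap.ker_eq_bot, LinearMap.ker_eq_bot']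
    intro w hw
    by_contra hne
    have hne' : (w : ι → F) ≠ 0 := fun h => hne (Subtype.ext h)
    obtain ⟨⟨x, hxW, hx⟩, _⟩ := hW w w.2 hne'
    apply hx
    exact LinearMap.congr_fun hw ⟨x, hxW⟩
  have hsurj : Function.Surjective Φ :=
    (LinearMap.injective_iff_surjective_of_finrank_eq_finrank
      (Subspace.dual_finrank_eq).symm).1 hinj
  let ψ : Module.Dual F W :=
    { toFun := fun y => f (y : ι → F) x
      map_add' := fun a b => hb.add_left (a : ι → F) (b : ι → F) x
      map_smul' := fun c a => hb.smul_left c (a : ι → F) x }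
  obtain ⟨w, hw⟩ := hsurj ψ
  refine ⟨w, w.2, ?_⟩
  intro y hy
  rw [form_sub_right hb]
  have h1 : f y (w : ι → F) = f y x := LinearMap.congr_fun hw ⟨y, hy⟩
  rw [h1, sub_self]

omit [Fintype ι] [DecidableEq ι] in
lemma le_or_le_of_forall_mem_or (S A B : Submodule F (ι → F)) (h : ∀ x ∈ S, x ∈ A ∨ x ∈ B) :
    S ≤ A ∨ S ≤ B := by
  by_contra hcon
  rw [not_or] at hcon
  obtain ⟨h1, h2⟩ := hcon
  obtain ⟨a, haS, haA⟩ := SetLike.not_le_iff_exists.1 h1
  obtain ⟨b, hbS, hbB⟩ := SetLike.not_le_iff_exists.1 h2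
  have haB : a ∈ B := (h a haS).resolve_left haA
  have hbA : b ∈ A := (h b hbS).resolve_right hbB
  rcases h (a + b) (S.add_mem haS hbS) with h3 | h3
  · apply haA
    have := A.sub_mem h3 hbA
    rwa [add_sub_cancel_right] at this
  · apply hbB
    have := B.sub_mem h3 haB
    rwa [add_sub_cancel_left] at this

/-- connectivity inside a non-degenerate subspace -/
lemma connect (hf : IsSymplecticForm f) (S : Submodule F (ι → F)) (hS : IsNondegenerateOn f S)
    (C : (ι → F) → Prop) (hC : ∀ a b, C a → b ∈ S → f a b ≠ 0 → C (a + b))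
    (r : ι → F) (hr : ∀ y ∈ S, f r y = 0) {s s' : ι → F} (hs : s ∈ S) (hs0 : s ≠ 0)
    (hs' : s' ∈ S) (hs'0 : s' ≠ 0) (h : C (s + r)) : C (s' + r) := by
  have hb := hf.bilinear
  have step : ∀ s1 ∈ S, ∀ s2 ∈ S, f s1 s2 ≠ 0 → C (s1 + r) → C (s2 + r) := by
    intro s1 h1 s2 h2 h12 hc
    have hmem : s2 - s1 ∈ S := S.sub_mem h2 h1
    have hne : f (s1 + r) (s2 - s1) ≠ 0 := by
      rw [hb.add_left, hr _ hmem, add_zero, form_sub_right hb, hf.alternating, sub_zero]
      exact h12
    have := hC _ _ hc hmem hne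
    have e : s1 + r + (s2 - s1) = s2 + r := by abel
    rwa [e] at this
  by_cases h12 : f s s' = 0
  · obtain ⟨_, ⟨p, hpS, hp⟩⟩ := hS s hs hs0
    obtain ⟨⟨q, hqS, hq⟩, _⟩ := hS s' hs' hs'0
    obtain ⟨z, hzS, hz1, hz2⟩ := exists_both_ne S (fun y => f s y) (fun y => f y s')
      (fun y y' => hb.add_right s y y') (fun y y' => hb.add_left y y' s') hpS hqS hp hq
    exact step z hzS s' hs' hz2 (step s hs z hzS hz1 h)
  · exact step s hs s' hs' h12 h

theorem nondeg_stab_max (hf : IsSymplecticForm f) (W : Submodule F (ι → F)) (hW0 : W ≠ ⊥)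
    (hW : IsNondegenerateOn f W) (hdim : 2 * Module.finrank F W < Fintype.card ι)
    (I : Subgroup (GL ι F)) (hI : ∀ g, g ∈ I ↔ Isom f g) :
    IsMaximalIn I (subspaceStabilizer W ⊓ I) := by
  have hb := hf.bilinear
  set Wp := perpSub hb W with hWp
  have hdec : ∀ x : ι → F, ∃ w ∈ W, ∃ w' ∈ Wp, x = w + w' := by
    intro x
    obtain ⟨w, hw, hw'⟩ := exists_proj hf W hW x
    exact ⟨w, hw, x - w, hw', by abel⟩
  have hinf : ∀ x, x ∈ W → x ∈ Wp → x = 0 := by
    intro x hx hx'
    by_contra hne
    obtain ⟨⟨y, hy, hyx⟩, _⟩ := hW x hx hne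
    exact hyx (hx' y hy)
  have hWpnd : IsNondegenerateOn f Wp := by
    intro y hy hy0
    obtain ⟨⟨x, hx⟩, _⟩ := hf.nondegenerate y hy0
    obtain ⟨w, hw, w', hw', rfl⟩ := hdec x
    have h1 : f w' y ≠ 0 := by
      rw [hb.add_left, hy w hw, zero_add] at hx
      exact hx
    refine ⟨⟨w', hw', h1⟩, ⟨w', hw', ?_⟩⟩
    rw [hf.skew]; exact neg_ne_zero.mpr h1
  have hWpW : ∀ y ∈ Wp, ∀ x ∈ W, f y x = 0 := by
    intro y hy x hx
    rw [hf.skew, hy x hx, neg_zero]
  have hPW : ∀ u ∈ W, ∀ c, stv hf u c ∈ subspaceStabilizer W ⊓ I := by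
    intro u hu c
    refine ⟨?_, (hI _).2 (stv_isom hf u c)⟩
    apply stv_mem_stab
    intro x hx c'
    exact W.add_mem hx (W.smul_mem _ hu)
  have hPWp : ∀ u ∈ Wp, ∀ c, stv hf u c ∈ subspaceStabilizer W ⊓ I := by
    intro u hu c
    refine ⟨?_, (hI _).2 (stv_isom hf u c)⟩
    apply stv_mem_stab
    intro x hx c'
    rw [hu x hx, mul_zero, zero_smul, add_zero]
    exact hx
  have hfin : Module.finrank F W < Module.finrank F Wp := by
    have hsup : W ⊔ Wp = ⊤ := by
      rw [eq_top_iff]
      intro x _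
      obtain ⟨w, hw, w', hw', rfl⟩ := hdec x
      exact Submodule.add_mem_sup hw hw'
    have h1 := Submodule.finrank_sup_add_finrank_inf_eq W Wp
    rw [hsup, finrank_top, Module.finrank_fintype_fun_eq_card] at h1
    omega
  have hWp0 : Wp ≠ ⊥ := by
    intro h
    rw [h, finrank_bot] at hfin
    omega
  constructor
  · refine SetLike.lt_iff_le_and_exists.2 ⟨inf_le_right, ?_⟩
    obtain ⟨w, hwW, hw0⟩ := Submodule.exists_mem_ne_zero_of_ne_bot hW0
    obtain ⟨w', hw'W, hw'0⟩ := Submodule.exists_mem_ne_zero_of_ne_bot hWp0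
    obtain ⟨⟨x, hxW, hx⟩, _⟩ := hW w hwW hw0
    refine ⟨stv hf (w + w') 1, (hI _).2 (stv_isom hf _ 1), ?_⟩
    intro hmem
    have h1 := ((mem_subspaceStabilizer_iff W _).1 hmem.1 x).1 hxW
    rw [stv_apply, one_mul, hb.add_right, hw'W x hxW, add_zero] at h1
    have h2 : f x w • (w + w') ∈ W := by
      have := W.sub_mem h1 hxW
      rwa [add_sub_cancel_left] at this
    have h3 : w + w' ∈ W := by
      have := W.smul_mem (f x w)⁻¹ h2
      rwa [smul_smul, inv_mul_cancel₀ hx, one_smul] at this
    have h4 : w' ∈ W := by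
      have := W.sub_mem h3 hwW
      rwa [add_sub_cancel_left] at this
    exact hw'0 (hinf w' h4 hw'W)
  · intro M hPM hMI
    by_cases hMP : M ≤ subspaceStabilizer W ⊓ I
    · left; exact le_antisymm hMP hPM
    · right
      apply le_antisymm hMI
      obtain ⟨g0, hg0M, hg0P⟩ := SetLike.not_le_iff_exists.1 hMP
      have hg0S : g0 ∉ subspaceStabilizer W := fun h => hg0P ⟨h, hMI hg0M⟩
      obtain ⟨g, hgM, v, hvW, hgv⟩ := exists_moving W M g0 hg0M hg0S
      have hgI : Isom f g := (hI g).1 (hMI hgM)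
      have hCW : ∀ u ∈ W, Ctr hf M u := fun u hu c => hPM (hPW u hu c)
      have hCWp : ∀ u ∈ Wp, Ctr hf M u := fun u hu c => hPM (hPWp u hu c)
      have hA : ∃ u0, Ctr hf M u0 ∧ u0 ∉ W ∧ u0 ∉ Wp := by
        by_contra hcon
        have hall : ∀ u, Ctr hf M u → u ∈ W ∨ u ∈ Wp := by
          intro u hu
          by_cases h : u ∈ W
          · left; exact h
          · right
            by_contra h'
            exact hcon ⟨u, hu, h, h'⟩
        let G : (ι → F) →ₗ[F] (ι → F) := Matrix.toLin' (g : Matrix ι ι F)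
        have hG : ∀ x, G x = (g : Matrix ι ι F) *ᵥ x := fun x => Matrix.toLin'_apply _ _
        have h1 : W ≤ W.comap G ∨ W ≤ Wp.comap G := by
          apply le_or_le_of_forall_mem_or
          intro x hx
          rw [Submodule.mem_comap, Submodule.mem_comap, hG]
          exact hall _ ((hCW x hx).conj hf g hgM hgI)
        have h2 : W ≤ Wp.comap G := by
          rcases h1 with h1 | h1
          · exfalso
            apply hgv
            have := h1 hvW
            rwa [Submodule.mem_comap, hG] at this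
          · exact h1
        have h3 : Wp ≤ W.comap G ∨ Wp ≤ Wp.comap G := by
          apply le_or_le_of_forall_mem_or
          intro x hx
          rw [Submodule.mem_comap, Submodule.mem_comap, hG]
          exact hall _ ((hCWp x hx).conj hf g hgM hgI)
        rcases h3 with h3 | h3
        · have hinjG : Function.Injective G := by
            intro x y hxy
            rw [hG, hG] at hxy
            have := congrArg (fun z => ((g⁻¹ : GL ι F) : Matrix ι ι F) *ᵥ z) hxy
            simpa only [gl_inv_apply_apply] using this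
          have h4 : Wp.map G ≤ W := Submodule.map_le_iff_le_comap.2 h3
          have h5 := Submodule.finrank_mono h4
          have h6 : Module.finrank F Wp = Module.finrank F (Wp.map G) :=
            (Submodule.equivMapOfInjective G hinjG Wp).finrank_eq
          omega
        · have h4 : ∀ x, (g : Matrix ι ι F) *ᵥ x ∈ Wp := by
            intro x
            obtain ⟨w, hw, w', hw', rfl⟩ := hdec x
            rw [Matrix.mulVec_add]
            have e1 := h2 hw
            have e2 := h3 hw'
            rw [Submodule.mem_comap, hG] at e1 e2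
            exact Wp.add_mem e1 e2
          obtain ⟨w, hwW, hw0⟩ := Submodule.exists_mem_ne_zero_of_ne_bot hW0
          have h5 := h4 (((g⁻¹ : GL ι F) : Matrix ι ι F) *ᵥ w)
          rw [gl_apply_inv_apply] at h5
          exact hw0 (hinf w hwW h5)
      obtain ⟨u0, hu0, hu0W, hu0Wp⟩ := hA
      obtain ⟨w, hw, w', hw', hu0eq⟩ := hdec u0
      have hw0 : w ≠ 0 := by
        intro h
        apply hu0Wp
        rw [hu0eq, h, zero_add]; exact hw'
      have hw'0 : w' ≠ 0 := by
        intro h
        apply hu0W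
        rw [hu0eq, h, add_zero]; exact hw
      have hclW : ∀ a b, Ctr hf M a → b ∈ W → f a b ≠ 0 → Ctr hf M (a + b) :=
        fun a b ha hbW hab => ha.add hf (hCW b hbW) hab
      have hclWp : ∀ a b, Ctr hf M a → b ∈ Wp → f a b ≠ 0 → Ctr hf M (a + b) :=
        fun a b ha hbW hab => ha.add hf (hCWp b hbW) hab
      have hG : ∀ x, Ctr hf M x := by
        intro x
        obtain ⟨a, ha, b, hb', rfl⟩ := hdec x
        by_cases ha0 : a = 0
        · rw [ha0, zero_add]; exact hCWp b hb'
        · by_cases hb0 : b = 0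
          · rw [hb0, add_zero]; exact hCW a ha
          · have h1 : Ctr hf M (a + w') := by
              apply connect hf W hW (Ctr hf M) hclW w' (fun y hy => hWpW w' hw' y hy) hw hw0 ha ha0
              rw [← hu0eq]; exact hu0
            have h2 : Ctr hf M (b + a) := by
              apply connect hf Wp hWpnd (Ctr hf M) hclWp a (fun y hy => hy a ha) hw' hw'0 hb' hb0
              rw [add_comm]; exact h1
            rw [add_comm]; exact h2
      intro g' hg'
      exact isom_mem_of_all_ctr hf M hG g' ((hI g').1 hg')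

end Cfsg.Agent.Helper93
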