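import Cfsg.Agent.Lib.Helper93.SpND

set_option autoImplicit false

namespace Cfsg.Agent.Helper93

open Matrix Cfsg.Geo

variable {ι : Type} [Fintype ι] [DecidableEq ι] {F : Type*} [Field F]
variable {f : (ι → F) → (ι → F) → F}

section perp

/-- the form as a Mathlib bilinear form -/
noncomputable def toBilin (hb : IsBilinearForm f) : LinearMap.BilinForm F (ι → F) :=
  LinearMap.mk₂ F f hb.add_left (fun c m n => hb.smul_left c m n) hb.add_right
    (fun c m n => hb.smul_right c m n)

lemma toBilin_apply (hb : IsBilinearForm f) (x y : ι → F) : toBilin hb x y = f x y := rfl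

lemma toBilin_nondeg (hf : IsSymplecticForm f) : (toBilin hf.bilinear).Nondegenerate := by
  constructor
  · intro x hx
    by_contra hne
    obtain ⟨_, ⟨y, hy⟩⟩ := hf.nondegenerate x hne
    exact hy (hx y)
  · intro y hy
    by_contra hne
    obtain ⟨⟨x, hx⟩, _⟩ := hf.nondegenerate y hne
    exact hx (hy x)

lemma perpSub_eq_orthogonal (hb : IsBilinearForm f) (W : Submodule F (ι → F)) :
    perpSub hb W = (toBilin hb).orthogonal W := by
  ext x
  rfl

lemma finrank_perpSub (hf : IsSymplecticForm f) (W : Submodule F (ι → F)) :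
    Module.finrank F (perpSub hf.bilinear W) = Fintype.card ι - Module.finrank F W := by
  rw [perpSub_eq_orthogonal, LinearMap.BilinForm.finrank_orthogonal (toBilin_nondeg hf),
    Module.finrank_fintype_fun_eq_card]

/-- a hyperbolic pair perpendicular to three given vectors -/
lemma spoq_perp_pair (hf : IsSymplecticForm f) (hcard : 7 ≤ Fintype.card ι) (a b c : ι → F) :
    ∃ r1 r2, f r1 a = 0 ∧ f r1 b = 0 ∧ f r1 c = 0 ∧ f r2 a = 0 ∧ f r2 b = 0 ∧ f r2 c = 0 ∧
      f r1 r2 ≠ 0 := by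
  classical
  have hb := hf.bilinear
  set S : Submodule F (ι → F) := Submodule.span F (↑({a, b, c} : Finset (ι → F))) with hS
  set P := perpSub hb S with hP
  have haS : a ∈ S := Submodule.subset_span (by simp)
  have hbS : b ∈ S := Submodule.subset_span (by simp)
  have hcS : c ∈ S := Submodule.subset_span (by simp)
  have hPmem : ∀ r ∈ P, f r a = 0 ∧ f r b = 0 ∧ f r c = 0 := by
    intro r hr
    refine ⟨?_, ?_, ?_⟩
    · rw [hf.skew, hr a haS, neg_zero]
    · rw [hf.skew, hr b hbS, neg_zero]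
    · rw [hf.skew, hr c hcS, neg_zero]
  by_contra hcon
  have hti : P ≤ perpSub hb P := by
    intro r2 hr2 r1 hr1
    by_contra hne
    obtain ⟨h1a, h1b, h1c⟩ := hPmem r1 hr1
    obtain ⟨h2a, h2b, h2c⟩ := hPmem r2 hr2
    exact hcon ⟨r1, r2, h1a, h1b, h1c, h2a, h2b, h2c, hne⟩
  have h1 : Module.finrank F P = Fintype.card ι - Module.finrank F S := finrank_perpSub hf S
  have h2 : Module.finrank F S ≤ 3 := by
    have := finrank_span_finset_le_card (R := F) ({a, b, c} : Finset (ι → F))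
    have h3 : ({a, b, c} : Finset (ι → F)).card ≤ 3 := Finset.card_le_three
    exact le_trans this h3
  have h3 : Module.finrank F (perpSub hb P) = Fintype.card ι - Module.finrank F P :=
    finrank_perpSub hf P
  have h4 := Submodule.finrank_mono hti
  omega

end perp

lemma stv_mul_stv (hf : IsSymplecticForm f) (y : ι → F) (c c' : F) :
    stv hf y c * stv hf y c' = stv hf y (c + c') := by
  apply gl_ext
  intro x
  rw [gl_mul_apply, stv_apply, stv_apply, stv_apply, hf.bilinear.add_left, hf.bilinear.smul_left,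
    hf.alternating, mul_zero, add_zero, add_assoc, ← add_smul]
  congr 2
  ring

lemma stv_zero_coeff (hf : IsSymplecticForm f) (y : ι → F) : stv hf y 0 = 1 := by
  apply gl_ext
  intro x
  rw [stv_apply, zero_mul, zero_smul, add_zero, gl_one_apply]

lemma stv_conj_mem (hf : IsSymplecticForm f) {M : Subgroup (GL ι F)} {y : ι → F} {c : F}
    (h : stv hf y c ∈ M) (p : GL ι F) (hpM : p ∈ M) (hp : Isom f p) :
    stv hf ((p : Matrix ι ι F) *ᵥ y) c ∈ M := by
  rw [← conj_stv hf p hp]
  exact M.mul_mem (M.mul_mem hpM h) (M.inv_mem hpM)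

theorem oq_max [Fintype F] (h2 : ringChar F = 2) (hf : IsSymplecticForm f) (Q : (ι → F) → F)
    (hQadd : ∀ x y, Q (x + y) = Q x + Q y + f x y)
    (hQsmul : ∀ (c : F) (x : ι → F), Q (c • x) = c ^ 2 * Q x)
    (hcard : 7 ≤ Fintype.card ι) (I : Subgroup (GL ι F)) (hI : ∀ g, g ∈ I ↔ Isom f g) :
    IsMaximalIn I (quadSimilarityGroup Q ⊓ I) := by
  haveI : CharP F 2 := ringChar.of_eq h2
  have hb := hf.bilinear
  have hsq : ∀ a : F, ∃ r, r * r = a := fun a => by
    obtain ⟨r, hr⟩ := FiniteField.isSquare_of_char_two h2 a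
    exact ⟨r, hr.symm⟩
  have h11 : (1 : F) + 1 = 0 := CharTwo.add_self_eq_zero 1
  have hQ0 : Q 0 = 0 := by
    have := hQsmul 0 0
    simpa using this
  have hQstv : ∀ (u : ι → F) (c : F) (x : ι → F),
      Q (((stv hf u c : GL ι F) : Matrix ι ι F) *ᵥ x) = Q x + c * (f x u) ^ 2 * (c * Q u + 1) := by
    intro u c x
    rw [stv_apply, hQadd, hQsmul, hb.smul_right]
    ring
  have hGP : ∀ a b c : ι → F, ∃ r, f r a = 0 ∧ f r b = 0 ∧ f r c = 0 ∧ Q r ≠ 0 := by
    intro a b c
    obtain ⟨r1, r2, h1a, h1b, h1c, h2a, h2b, h2c, h12⟩ := spoq_perp_pair hf hcard a b c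
    by_cases hq1 : Q r1 = 0
    · by_cases hq2 : Q r2 = 0
      · refine ⟨r1 + r2, ?_, ?_, ?_, ?_⟩
        · rw [hb.add_left, h1a, h2a, add_zero]
        · rw [hb.add_left, h1b, h2b, add_zero]
        · rw [hb.add_left, h1c, h2c, add_zero]
        · rw [hQadd, hq1, hq2, zero_add, zero_add]; exact h12
      · exact ⟨r2, h2a, h2b, h2c, hq2⟩
    · exact ⟨r1, h1a, h1b, h1c, hq1⟩
  have hHmem : ∀ g : GL ι F, Isom f g → (∀ v, Q ((g : Matrix ι ι F) *ᵥ v) = Q v) →
      g ∈ quadSimilarityGroup Q ⊓ I := by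
    intro g hg hq
    refine ⟨⟨1, fun v => ?_⟩, (hI g).2 hg⟩
    rw [hq v, Units.val_one, one_mul]
  have hHpres : ∀ g : GL ι F, g ∈ quadSimilarityGroup Q ⊓ I →
      ∀ v, Q ((g : Matrix ι ι F) *ᵥ v) = Q v := by
    rintro g ⟨⟨c, hc⟩, hgI⟩ v
    have hg : Isom f g := (hI g).1 hgI
    obtain ⟨r, _, _, _, hr⟩ := hGP 0 0 0
    have hr0 : r ≠ 0 := fun h => hr (by rw [h]; exact hQ0)
    obtain ⟨_, ⟨z, hz⟩⟩ := hf.nondegenerate r hr0
    have e1 : ∀ a b, f a b = Q (a + b) - Q a - Q b := fun a b => by rw [hQadd]; ring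
    have h1 : f ((g : Matrix ι ι F) *ᵥ r) ((g : Matrix ι ι F) *ᵥ z) = c * f r z := by
      rw [e1 ((g : Matrix ι ι F) *ᵥ r) ((g : Matrix ι ι F) *ᵥ z), ← Matrix.mulVec_add, hc, hc, hc,
        e1 r z]
      ring
    rw [hg] at h1
    have hc1 : (c : F) = 1 := by
      have : ((c : F) - 1) * f r z = 0 := by rw [sub_mul, one_mul, ← h1, sub_self]
      rcases mul_eq_zero.1 this with h | h
      · exact sub_eq_zero.1 h
      · exact absurd h hz
    rw [hc, hc1, one_mul]
  have hrefl : ∀ y : ι → F, Q y ≠ 0 → ∀ x,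
      Q (((stv hf y (Q y)⁻¹ : GL ι F) : Matrix ι ι F) *ᵥ x) = Q x := by
    intro y hy x
    rw [hQstv, inv_mul_cancel₀ hy, h11, mul_zero, add_zero]
  constructor
  · refine SetLike.lt_iff_le_and_exists.2 ⟨inf_le_right, ?_⟩
    obtain ⟨u1, _, _, _, hu1⟩ := hGP 0 0 0
    have hu10 : u1 ≠ 0 := fun h => hu1 (by rw [h]; exact hQ0)
    obtain ⟨_, ⟨z, hz⟩⟩ := hf.nondegenerate u1 hu10
    obtain ⟨r0, hr0u, hr0z, _, hr0⟩ := hGP u1 z z
    obtain ⟨β, hβ⟩ := hsq (Q u1 / Q r0)
    have hu1r0 : f u1 r0 = 0 := by rw [hf.skew, hr0u, neg_zero]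
    have hQu : Q (u1 + β • r0) = 0 := by
      rw [hQadd, hQsmul, hb.smul_right, hu1r0, mul_zero, add_zero, pow_two, hβ,
        div_mul_cancel₀ _ hr0]
      exact CharTwo.add_self_eq_zero _
    have hfuz : f (u1 + β • r0) z ≠ 0 := by
      rw [hb.add_left, hb.smul_left, hr0z, mul_zero, add_zero]; exact hz
    refine ⟨stv hf (u1 + β • r0) 1, (hI _).2 (stv_isom hf _ 1), ?_⟩
    intro hmem
    have h1 := hHpres _ hmem z
    rw [hQstv, hQu] at h1
    have h2' : (f z (u1 + β • r0)) ^ 2 = 0 := by linear_combination h1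
    have h3 : f z (u1 + β • r0) = 0 := (pow_eq_zero_iff (two_ne_zero)).1 h2'
    apply hfuz
    rw [hf.skew, h3, neg_zero]
  · intro M hHM hMI
    by_cases hMH : M ≤ quadSimilarityGroup Q ⊓ I
    · left; exact le_antisymm hMH hHM
    · right
      apply le_antisymm hMI
      obtain ⟨g, hgM, hgH⟩ := SetLike.not_le_iff_exists.1 hMH
      have hgI : Isom f g := (hI g).1 (hMI hgM)
      have hex : ∃ x0, Q ((g : Matrix ι ι F) *ᵥ x0) ≠ Q x0 := by
        by_contra hcon
        apply hgH
        apply hHmem g hgI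
        intro v
        by_contra hv
        exact hcon ⟨v, hv⟩
      obtain ⟨x0, hx0⟩ := hex
      have hT1 : ∀ y : ι → F, Q y ≠ 0 → stv hf y (Q y)⁻¹ ∈ M :=
        fun y hy => hHM (hHmem _ (stv_isom hf _ _) (hrefl y hy))
      have hstep1 : ∃ (u : ι → F) (ε : F), u ≠ 0 ∧ ε ≠ 0 ∧ ε * Q u + 1 ≠ 0 ∧ stv hf u ε ∈ M := by
        by_cases hq0 : Q x0 = 0
        · have hqy : Q ((g : Matrix ι ι F) *ᵥ x0) ≠ 0 := by rw [hq0] at hx0; exact hx0
          refine ⟨x0, (Q ((g : Matrix ι ι F) *ᵥ x0))⁻¹, ?_, inv_ne_zero hqy, ?_, ?_⟩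
          · intro h; apply hqy; rw [h, Matrix.mulVec_zero]; exact hQ0
          · rw [hq0, mul_zero, zero_add]; exact one_ne_zero
          · have := stv_conj_mem hf (hT1 _ hqy) g⁻¹ (M.inv_mem hgM) hgI.inv
            rwa [gl_inv_apply_apply] at this
        · refine ⟨(g : Matrix ι ι F) *ᵥ x0, (Q x0)⁻¹, ?_, inv_ne_zero hq0, ?_, ?_⟩
          · intro h
            apply hq0
            have := gl_inv_apply_apply g x0
            rw [h, Matrix.mulVec_zero] at this
            rw [← this]; exact hQ0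
          · intro h
            apply hx0
            have e : Q ((g : Matrix ι ι F) *ᵥ x0) + Q x0
                = Q x0 * ((Q x0)⁻¹ * Q ((g : Matrix ι ι F) *ᵥ x0) + 1) := by
              rw [mul_add, ← mul_assoc, mul_inv_cancel₀ hq0, one_mul, mul_one]
            rw [h, mul_zero] at e
            have := eq_neg_of_add_eq_zero_left e
            rw [CharTwo.neg_eq] at this
            exact this
          · exact stv_conj_mem hf (hT1 _ hq0) g hgM hgI
      obtain ⟨u, ε, hu0, hε0, hεu, hstvM⟩ := hstep1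
      set δ := ε * (ε * Q u + 1) with hδ
      have hδ0 : δ ≠ 0 := mul_ne_zero hε0 hεu
      have hQh : ∀ x, Q (((stv hf u ε : GL ι F) : Matrix ι ι F) *ᵥ x) = Q x + δ * (f x u) ^ 2 := by
        intro x; rw [hQstv, hδ]; ring
      have hstar : ∀ x, Q x + δ * (f x u) ^ 2 ≠ 0 →
          stv hf x (Q x + δ * (f x u) ^ 2)⁻¹ ∈ M := by
        intro x hx
        rw [← hQh x] at hx ⊢
        have := stv_conj_mem hf (hT1 _ hx) (stv hf u ε)⁻¹ (M.inv_mem hstvM) (stv_isom hf u ε).inv
        rwa [gl_inv_apply_apply] at this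
      have hstep3 : ∀ v : ι → F, v ≠ 0 → ∀ μ : F, μ ≠ 0 → stv hf v μ⁻¹ ∈ M := by
        intro v hv0 μ hμ
        obtain ⟨lam, hlam⟩ := hsq ((μ - Q v) / δ)
        have hval : ∀ x, Q x = Q v → f x u = lam → Q x + δ * (f x u) ^ 2 = μ := by
          intro x hx1 hx2
          rw [hx1, hx2, pow_two, hlam, mul_div_cancel₀ _ hδ0]; ring
        by_cases hl : lam - f v u = 0
        · have h1 : f v u = lam := (sub_eq_zero.1 hl).symm
          have h2 := hval v rfl h1
          have h3 := hstar v (by rw [h2]; exact hμ)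
          rwa [h2] at h3
        · obtain ⟨y0, hp, hq'⟩ := exists_middle hf hv0 hu0
          obtain ⟨r0, hr0v, hr0u, hr0y, hr0⟩ := hGP v u y0
          obtain ⟨s, hs⟩ := hsq ((f v y0 * f y0 u / (lam - f v u) - Q y0) / Q r0)
          have hy0r0 : f y0 r0 = 0 := by rw [hf.skew, hr0y, neg_zero]
          have hvr0 : f v r0 = 0 := by rw [hf.skew, hr0v, neg_zero]
          have hQy : Q (y0 + s • r0) = f v y0 * f y0 u / (lam - f v u) := by
            rw [hQadd, hQsmul, hb.smul_right, hy0r0, mul_zero, add_zero, pow_two, hs,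
              div_mul_cancel₀ _ hr0]
            ring
          have hQy0 : Q (y0 + s • r0) ≠ 0 := by
            rw [hQy]; exact div_ne_zero (mul_ne_zero hp hq') hl
          have hfvy : f v (y0 + s • r0) = f v y0 := by
            rw [hb.add_right, hb.smul_right, hvr0, mul_zero, add_zero]
          have hfyu : f (y0 + s • r0) u = f y0 u := by
            rw [hb.add_left, hb.smul_left, hr0u, mul_zero, add_zero]
          have hQx : Q (((stv hf (y0 + s • r0) (Q (y0 + s • r0))⁻¹ : GL ι F) : Matrix ι ι F) *ᵥ v)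
              = Q v := hrefl _ hQy0 v
          have hfxu : f (((stv hf (y0 + s • r0) (Q (y0 + s • r0))⁻¹ : GL ι F) : Matrix ι ι F) *ᵥ v) u
              = lam := by
            rw [stv_apply, hb.add_left, hb.smul_left, hfvy, hfyu, hQy]
            have e : (f v y0 * f y0 u / (lam - f v u))⁻¹ * f v y0 * f y0 u = lam - f v u := by
              field_simp
            rw [e]; ring
          have h2 := hval _ hQx hfxu
          have h3 := hstar _ (by rw [h2]; exact hμ)
          rw [h2] at h3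
          have h4 := stv_conj_mem hf h3 (stv hf (y0 + s • r0) (Q (y0 + s • r0))⁻¹)⁻¹
            (M.inv_mem (hT1 _ hQy0)) (stv_isom hf _ _).inv
          rwa [gl_inv_apply_apply] at h4
      have hall : ∀ v, Ctr hf M v := by
        intro v c
        by_cases hv0 : v = 0
        · rw [hv0, stv_zero_vec]; exact M.one_mem
        · by_cases hc : c = 0
          · rw [hc, stv_zero_coeff]; exact M.one_mem
          · have := hstep3 v hv0 c⁻¹ (inv_ne_zero hc)
            rwa [inv_inv] at this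
      intro g' hg'
      exact isom_mem_of_all_ctr hf M hall g' ((hI g').1 hg')

end Cfsg.Agent.Helper93
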