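import Cfsg.Agent.Lib.Helper93.SpWr

set_option autoImplicit false

namespace Cfsg.Agent.Helper93

open Matrix Cfsg.Geo

variable {ι : Type} [Fintype ι] [DecidableEq ι] {F : Type*} [Field F]
variable {f : (ι → F) → (ι → F) → F}

/-- a pair of complementary totally isotropic subspaces -/
structure TIPair (f : (ι → F) → (ι → F) → F) (A B : Submodule F (ι → F)) : Prop where
  tiA : IsTotallySingularFor f A
  tiB : IsTotallySingularFor f B
  split : ∀ x, ∃ u ∈ A, ∃ v ∈ B, x = u + v
  disj : ∀ x, x ∈ A → x ∈ B → x = 0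

lemma TIPair.symm {A B : Submodule F (ι → F)} (h : TIPair f A B) : TIPair f B A :=
  ⟨h.tiB, h.tiA, fun x => by
    obtain ⟨u, hu, v, hv, rfl⟩ := h.split x
    exact ⟨v, hv, u, hu, add_comm u v⟩, fun x hB hA => h.disj x hA hB⟩

lemma TIPair.exists_pair (hf : IsSymplecticForm f) {A B : Submodule F (ι → F)}
    (h : TIPair f A B) {a : ι → F} (ha : a ∈ A) (ha0 : a ≠ 0) : ∃ b ∈ B, f a b ≠ 0 := by
  obtain ⟨_, ⟨z, hz⟩⟩ := hf.nondegenerate a ha0
  obtain ⟨u, hu, v, hv, rfl⟩ := h.split z
  refine ⟨v, hv, ?_⟩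
  rwa [hf.bilinear.add_right, h.tiA a ha u hu, zero_add] at hz

lemma TIPair.dual (hf : IsSymplecticForm f) {A B : Submodule F (ι → F)} (h : TIPair f A B)
    {a x : ι → F} (ha : a ∈ A) (hx : x ∈ A) (hker : ∀ b ∈ B, f a b = 0 → f x b = 0) :
    ∃ c : F, x = c • a := by
  have hb := hf.bilinear
  have hzero : ∀ z ∈ A, (∀ b ∈ B, f z b = 0) → z = 0 := by
    intro z hz hzb
    by_contra hne
    obtain ⟨b, hbB, hb'⟩ := h.exists_pair hf hz hne
    exact hb' (hzb b hbB)
  by_cases ha0 : a = 0
  · refine ⟨0, ?_⟩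
    rw [zero_smul]
    apply hzero x hx
    intro b hbB
    apply hker b hbB
    rw [ha0, form_zero_left hb]
  · obtain ⟨b1, hb1, hab1⟩ := h.exists_pair hf ha ha0
    refine ⟨f x b1 / f a b1, ?_⟩
    have hz : x - (f x b1 / f a b1) • a = 0 := by
      apply hzero _ (A.sub_mem hx (A.smul_mem _ ha))
      intro b hbB
      have h1 : f a (b - (f a b / f a b1) • b1) = 0 := by
        rw [form_sub_right hb, hb.smul_right, div_mul_cancel₀ _ hab1, sub_self]
      have h2 := hker _ (B.sub_mem hbB (B.smul_mem _ hb1)) h1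
      rw [form_sub_right hb, hb.smul_right] at h2
      rw [form_sub_left hb, hb.smul_left]
      have e : f x b1 / f a b1 * f a b = f a b / f a b1 * f x b1 := by ring
      rw [e]
      exact h2
    exact sub_eq_zero.mp hz

theorem conj_rho (hf : IsSymplecticForm f) (p : GL ι F) (hp : Isom f p) (a b : ι → F) :
    p * rho hf a b * p⁻¹ = rho hf ((p : Matrix ι ι F) *ᵥ a) ((p : Matrix ι ι F) *ᵥ b) := by
  unfold rho
  rw [← conj_stv hf p hp a (-1), ← conj_stv hf p hp b (-1), ← Matrix.mulVec_add,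
    ← conj_stv hf p hp (a + b) 1]
  group

lemma rho_maps_left (hf : IsSymplecticForm f) {A B : Submodule F (ι → F)} (h : TIPair f A B)
    {a b : ι → F} (ha : a ∈ A) (hab : f a b = 0) :
    ∀ x ∈ A, ((rho hf a b : GL ι F) : Matrix ι ι F) *ᵥ x ∈ A := by
  intro x hx
  rw [rho_apply hf a b hab, h.tiA x hx a ha, zero_smul, add_zero]
  exact A.add_mem hx (A.smul_mem _ ha)

lemma rho_maps_right (hf : IsSymplecticForm f) {A B : Submodule F (ι → F)} (h : TIPair f A B)
    {a b : ι → F} (hb' : b ∈ B) (hab : f a b = 0) :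
    ∀ x ∈ B, ((rho hf a b : GL ι F) : Matrix ι ι F) *ᵥ x ∈ B := by
  intro x hx
  rw [rho_apply hf a b hab, h.tiB x hx b hb', zero_smul, add_zero]
  exact B.add_mem hx (B.smul_mem _ hb')

lemma rho_comm (hf : IsSymplecticForm f) {a b y : ι → F} (hab : f a b = 0) (hay : f a y = 0) :
    rho hf a b * rho hf a y = stv hf a (2 * f y b) * (rho hf a y * rho hf a b) := by
  have hb := hf.bilinear
  have hba : f b a = 0 := by rw [hf.skew, hab, neg_zero]
  have hya : f y a = 0 := by rw [hf.skew, hay, neg_zero]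
  have hby : f b y = - f y b := hf.skew b y
  apply gl_ext
  intro x
  simp only [gl_mul_apply, stv_apply, rho_apply hf a b hab, rho_apply hf a y hay]
  simp only [hb.add_left, hb.smul_left, hf.alternating, hab, hba, hay, hya, hby, mul_zero,
    add_zero, zero_add]
  ext i
  simp only [Pi.add_apply, Pi.smul_apply, smul_eq_mul, Pi.neg_apply]
  ring

lemma ctr_of_comm (hf : IsSymplecticForm f) (h2 : (2 : F) ≠ 0) (M : Subgroup (GL ι F))
    {a b y : ι → F} (hab : f a b = 0) (hay : f a y = 0) (hyb : f y b ≠ 0)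
    (hMb : ∀ t : F, rho hf a (t • b) ∈ M) (hMy : rho hf a y ∈ M) : Ctr hf M a := by
  intro c
  have hne : 2 * f y b ≠ 0 := mul_ne_zero h2 hyb
  have habt : f a ((c / (2 * f y b)) • b) = 0 := by rw [hf.bilinear.smul_right, hab, mul_zero]
  have h1 := rho_comm hf habt hay
  have h3 : 2 * f y ((c / (2 * f y b)) • b) = c := by
    rw [hf.bilinear.smul_right, ← mul_assoc, mul_comm 2 (c / (2 * f y b)), mul_assoc,
      div_mul_cancel₀ c hne]
  rw [h3] at h1
  have h4 : stv hf a c = rho hf a ((c / (2 * f y b)) • b) * rho hf a y *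
      (rho hf a y * rho hf a ((c / (2 * f y b)) • b))⁻¹ := by
    rw [h1, mul_inv_cancel_right]
  rw [h4]
  exact M.mul_mem (M.mul_mem (hMb _) hMy) (M.inv_mem (M.mul_mem hMy (hMb _)))

lemma stv_fix (hf : IsSymplecticForm f) (u : ι → F) (c : F) (x : ι → F) (h : f x u = 0) :
    ((stv hf u c : GL ι F) : Matrix ι ι F) *ᵥ x = x := by
  rw [stv_apply, h, mul_zero, zero_smul, add_zero]

/-- an isometry interchanging two totally isotropic subspaces in duality -/
theorem exists_pair_swap (hf : IsSymplecticForm f) :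
    ∀ n : ℕ, ∀ A B : Submodule F (ι → F), Module.finrank F A = n →
      IsTotallySingularFor f A → IsTotallySingularFor f B →
      (∀ a ∈ A, a ≠ 0 → ∃ b ∈ B, f a b ≠ 0) → (∀ b ∈ B, b ≠ 0 → ∃ a ∈ A, f a b ≠ 0) →
      ∃ s : GL ι F, Isom f s ∧ (∀ x ∈ A, (s : Matrix ι ι F) *ᵥ x ∈ B) ∧
        (∀ x ∈ B, (s : Matrix ι ι F) *ᵥ x ∈ A) ∧
        (∀ x, (∀ a ∈ A, f x a = 0) → (∀ b ∈ B, f x b = 0) → (s : Matrix ι ι F) *ᵥ x = x) := by
  have hb := hf.bilinear
  intro n
  induction n using Nat.strong_induction_on with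
  | _ n ih =>
    intro A B hn htA htB hAB hBA
    by_cases hA : ∀ a ∈ A, a = 0
    · refine ⟨1, Isom.one, ?_, ?_, ?_⟩
      · intro x hx
        rw [gl_one_apply, hA x hx]
        exact B.zero_mem
      · intro x hx
        have hx0 : x = 0 := by
          by_contra hne
          obtain ⟨a, ha, hab⟩ := hBA x hx hne
          rw [hA a ha, form_zero_left hb] at hab
          exact hab rfl
        rw [gl_one_apply, hx0]
        exact A.zero_mem
      · intro x _ _
        exact gl_one_apply x
    · push_neg at hA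
      obtain ⟨a, haA, ha0⟩ := hA
      obtain ⟨b0, hb0B, hab0⟩ := hAB a haA ha0
      obtain ⟨b, hbB, hab⟩ : ∃ b ∈ B, f a b = 1 :=
        ⟨(f a b0)⁻¹ • b0, B.smul_mem _ hb0B, by rw [hb.smul_right, inv_mul_cancel₀ hab0]⟩
      have hba : f b a = -1 := by rw [hf.skew, hab]
      have hlt : cutSub hb A b b < A := by
        refine SetLike.lt_iff_le_and_exists.2 ⟨fun x hx => hx.1, a, haA, fun h => ?_⟩
        have h1 : f a b = 0 := h.2.1
        rw [hab] at h1
        exact one_ne_zero h1
      have hfin : Module.finrank F (cutSub hb A b b) < n := by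
        rw [← hn]
        exact Submodule.finrank_lt_finrank_of_lt hlt
      obtain ⟨s', hs'I, hs'A, hs'B, hs'fix⟩ := ih _ hfin (cutSub hb A b b) (cutSub hb B a a) rfl
        (fun u hu v hv => htA u hu.1 v hv.1) (fun u hu v hv => htB u hu.1 v hv.1)
        (by
          intro a' ha' hne
          obtain ⟨b1, hb1B, h1⟩ := hAB a' ha'.1 hne
          have hmem : b1 - f a b1 • b ∈ B := B.sub_mem hb1B (B.smul_mem _ hbB)
          have hperp : f (b1 - f a b1 • b) a = 0 := by
            rw [form_sub_left hb, hb.smul_left, hba, hf.skew b1 a]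
            ring
          refine ⟨b1 - f a b1 • b, ⟨hmem, hperp, hperp⟩, ?_⟩
          rw [form_sub_right hb, hb.smul_right, ha'.2.1, mul_zero, sub_zero]
          exact h1)
        (by
          intro b' hb' hne
          obtain ⟨a1, ha1A, h1⟩ := hBA b' hb'.1 hne
          have hmem : a1 - f a1 b • a ∈ A := A.sub_mem ha1A (A.smul_mem _ haA)
          have hperp : f (a1 - f a1 b • a) b = 0 := by
            rw [form_sub_left hb, hb.smul_left, hab, mul_one, sub_self]
          refine ⟨a1 - f a1 b • a, ⟨hmem, hperp, hperp⟩, ?_⟩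
          have hab' : f a b' = 0 := by rw [hf.skew, hb'.2.1, neg_zero]
          rw [form_sub_left hb, hb.smul_left, hab', mul_zero, sub_zero]
          exact h1)
      have hs'a : (s' : Matrix ι ι F) *ᵥ a = a := by
        apply hs'fix
        · intro a' ha'; exact htA a haA a' ha'.1
        · intro b' hb'; rw [hf.skew, hb'.2.1, neg_zero]
      have hs'b : (s' : Matrix ι ι F) *ᵥ b = b := by
        apply hs'fix
        · intro a' ha'; rw [hf.skew, ha'.2.1, neg_zero]
        · intro b' hb'; exact htB b hbB b' hb'.1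
      obtain ⟨w, hw⟩ : ∃ w : GL ι F, w = stv hf a 1 * stv hf b 1 * stv hf a 1 := ⟨_, rfl⟩
      have hwI : Isom f w := by
        rw [hw]
        exact ((stv_isom hf _ _).mul (stv_isom hf _ _)).mul (stv_isom hf _ _)
      have hwfix : ∀ x, f x a = 0 → f x b = 0 → (w : Matrix ι ι F) *ᵥ x = x := by
        intro x hxa hxb
        rw [hw, gl_mul_apply, gl_mul_apply, stv_fix hf a 1 x hxa, stv_fix hf b 1 x hxb,
          stv_fix hf a 1 x hxa]
      have hwa : (w : Matrix ι ι F) *ᵥ a = b := by
        rw [hw, gl_mul_apply, gl_mul_apply]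
        simp only [stv_apply, hb.add_left, hb.smul_left, hf.alternating, hab, hba]
        ext i
        simp only [Pi.add_apply, Pi.smul_apply, Pi.neg_apply, smul_eq_mul]
        ring
      have hwb : (w : Matrix ι ι F) *ᵥ b = -a := by
        rw [hw, gl_mul_apply, gl_mul_apply]
        simp only [stv_apply, hb.add_left, hb.smul_left, hf.alternating, hab, hba]
        ext i
        simp only [Pi.add_apply, Pi.smul_apply, Pi.neg_apply, smul_eq_mul]
        ring
      refine ⟨s' * w, hs'I.mul hwI, ?_, ?_, ?_⟩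
      · intro x hx
        have h1 : f (x - f x b • a) a = 0 := htA _ (A.sub_mem hx (A.smul_mem _ haA)) a haA
        have h2 : f (x - f x b • a) b = 0 := by
          rw [form_sub_left hb, hb.smul_left, hab, mul_one, sub_self]
        have hmem : x - f x b • a ∈ cutSub hb A b b :=
          ⟨A.sub_mem hx (A.smul_mem _ haA), h2, h2⟩
        have e : ((s' * w : GL ι F) : Matrix ι ι F) *ᵥ x
            = (s' : Matrix ι ι F) *ᵥ (x - f x b • a) + f x b • b := by
          have hx' : x = (x - f x b • a) + f x b • a := (sub_add_cancel x _).symm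
          conv_lhs => rw [hx']
          rw [gl_mul_apply, Matrix.mulVec_add, Matrix.mulVec_smul, hwfix _ h1 h2, hwa,
            Matrix.mulVec_add, Matrix.mulVec_smul, hs'b]
        rw [e]
        exact B.add_mem (hs'A _ hmem).1 (B.smul_mem _ hbB)
      · intro x hx
        have h1 : f (x - f a x • b) b = 0 := htB _ (B.sub_mem hx (B.smul_mem _ hbB)) b hbB
        have h2 : f (x - f a x • b) a = 0 := by
          rw [form_sub_left hb, hb.smul_left, hba, hf.skew x a]
          ring
        have hmem : x - f a x • b ∈ cutSub hb B a a :=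
          ⟨B.sub_mem hx (B.smul_mem _ hbB), h2, h2⟩
        have e : ((s' * w : GL ι F) : Matrix ι ι F) *ᵥ x
            = (s' : Matrix ι ι F) *ᵥ (x - f a x • b) + f a x • (-a) := by
          have hx' : x = (x - f a x • b) + f a x • b := (sub_add_cancel x _).symm
          conv_lhs => rw [hx']
          rw [gl_mul_apply, Matrix.mulVec_add, Matrix.mulVec_smul, hwfix _ h2 h1, hwb,
            Matrix.mulVec_add, Matrix.mulVec_smul, Matrix.mulVec_neg, hs'a]
        rw [e]
        exact A.add_mem (hs'B _ hmem).1 (A.smul_mem _ (A.neg_mem haA))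
      · intro x hxA hxB
        rw [gl_mul_apply, hwfix x (hxA a haA) (hxB b hbB)]
        exact hs'fix x (fun a' ha' => hxA a' ha'.1) (fun b' hb' => hxB b' hb'.1)

omit [Fintype ι] [DecidableEq ι] in
lemma exists_not_smul (S : Submodule F (ι → F)) (hS : 2 ≤ Module.finrank F S) (v : ι → F) :
    ∃ a ∈ S, ∀ c : F, a ≠ c • v := by
  classical
  by_contra hcon
  push Not at hcon
  have hle : S ≤ Submodule.span F ({v} : Set (ι → F)) := by
    intro a ha
    obtain ⟨c, hc⟩ := hcon a ha
    rw [hc]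
    exact Submodule.smul_mem _ _ (Submodule.subset_span (Set.mem_singleton v))
  have h1 := Submodule.finrank_mono hle
  have h2 : Module.finrank F (Submodule.span F ({v} : Set (ι → F))) ≤ 1 := by
    have := finrank_span_finset_le_card (R := F) ({v} : Finset (ι → F))
    rwa [Finset.coe_singleton, Finset.card_singleton] at this
  omega

lemma finrank_le_inf_ker_succ (A : Submodule F (ι → F)) (φ : (ι → F) →ₗ[F] F) :
    Module.finrank F A ≤ Module.finrank F (A ⊓ LinearMap.ker φ : Submodule F (ι → F)) + 1 := by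
  have h1 := LinearMap.finrank_range_add_finrank_ker φ
  have h2 : Module.finrank F (LinearMap.range φ) ≤ 1 := by
    have := Submodule.finrank_le (LinearMap.range φ)
    rwa [Module.finrank_self] at this
  have h3 := Submodule.finrank_sup_add_finrank_inf_eq A (LinearMap.ker φ)
  have h4 := Submodule.finrank_le (A ⊔ LinearMap.ker φ)
  omega

lemma exists_ne_zero_perp3 (hb : IsBilinearForm f) (S : Submodule F (ι → F))
    (hS : 4 ≤ Module.finrank F S) (u1 u2 u3 : ι → F) :
    ∃ x ∈ S, x ≠ 0 ∧ f x u1 = 0 ∧ f x u2 = 0 ∧ f x u3 = 0 := by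
  have e1 := finrank_le_inf_ker_succ S ((toBilin hb).flip u1)
  have e2 := finrank_le_inf_ker_succ (S ⊓ LinearMap.ker ((toBilin hb).flip u1))
    ((toBilin hb).flip u2)
  have e3 := finrank_le_inf_ker_succ ((S ⊓ LinearMap.ker ((toBilin hb).flip u1)) ⊓
    LinearMap.ker ((toBilin hb).flip u2)) ((toBilin hb).flip u3)
  have hne : ((S ⊓ LinearMap.ker ((toBilin hb).flip u1)) ⊓
      LinearMap.ker ((toBilin hb).flip u2)) ⊓ LinearMap.ker ((toBilin hb).flip u3) ≠ ⊥ := by
    intro h
    rw [h, finrank_bot] at e3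
    omega
  obtain ⟨x, hx, hx0⟩ := Submodule.exists_mem_ne_zero_of_ne_bot hne
  obtain ⟨hx', h3⟩ := Submodule.mem_inf.1 hx
  obtain ⟨hx'', h2⟩ := Submodule.mem_inf.1 hx'
  obtain ⟨hxS, h1⟩ := Submodule.mem_inf.1 hx''
  have h1' : f x u1 = 0 := by
    have := LinearMap.mem_ker.1 h1
    rwa [LinearMap.BilinForm.flip_apply, toBilin_apply] at this
  have h2' : f x u2 = 0 := by
    have := LinearMap.mem_ker.1 h2
    rwa [LinearMap.BilinForm.flip_apply, toBilin_apply] at this
  have h3' : f x u3 = 0 := by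
    have := LinearMap.mem_ker.1 h3
    rwa [LinearMap.BilinForm.flip_apply, toBilin_apply] at this
  exact ⟨x, hxS, hx0, h1', h2', h3'⟩

lemma toLin_gl_injective (g : GL ι F) :
    Function.Injective (Matrix.toLin' (g : Matrix ι ι F)) := by
  intro x y hxy
  rw [Matrix.toLin'_apply, Matrix.toLin'_apply] at hxy
  have := congrArg (fun z => ((g⁻¹ : GL ι F) : Matrix ι ι F) *ᵥ z) hxy
  simpa only [gl_inv_apply_apply] using this

lemma fin2_eq_of_ne {i j k : Fin 2} (h1 : k ≠ i) (h2 : i ≠ j) : k = j := by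
  apply Fin.ext
  have e1 : (k : ℕ) ≠ i := fun h => h1 (Fin.ext h)
  have e2 : (i : ℕ) ≠ j := fun h => h2 (Fin.ext h)
  have := k.isLt
  have := i.isLt
  have := j.isLt
  omega

lemma tipair_of_decomp {m : ℕ} {D : Fin 2 → Submodule F (ι → F)} (hD : IsMDecomposition m D)
    (hts : ∀ i, IsTotallySingularFor f (D i)) (i j : Fin 2) (hij : i ≠ j) :
    TIPair f (D i) (D j) := by
  refine ⟨hts i, hts j, ?_, ?_⟩
  · intro x
    have hx : x ∈ iSup D := by rw [hD.iSup_eq_top]; trivial
    refine Submodule.iSup_induction D (motive := fun x => ∃ u ∈ D i, ∃ v ∈ D j, x = u + v)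
      hx ?_ ?_ ?_
    · intro k z hz
      by_cases hk : k = i
      · rw [hk] at hz
        exact ⟨z, hz, 0, (D j).zero_mem, (add_zero z).symm⟩
      · have hkj : k = j := fin2_eq_of_ne hk hij
        rw [hkj] at hz
        exact ⟨0, (D i).zero_mem, z, hz, (zero_add z).symm⟩
    · exact ⟨0, (D i).zero_mem, 0, (D j).zero_mem, (add_zero 0).symm⟩
    · rintro x y ⟨u, hu, v, hv, rfl⟩ ⟨u', hu', v', hv', rfl⟩
      exact ⟨u + u', (D i).add_mem hu hu', v + v', (D j).add_mem hv hv', by abel⟩
  · intro x hxi hxj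
    have hdis : Disjoint (D i) (D j) := hD.indep.pairwiseDisjoint hij
    exact Submodule.disjoint_def.1 hdis x hxi hxj

end Cfsg.Agent.Helper93
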