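import Cfsg.Agent.Lib.Helper93.SpPair

set_option autoImplicit false

namespace Cfsg.Agent.Helper93

open Matrix Cfsg.Geo

variable {ι : Type} [Fintype ι] [DecidableEq ι] {F : Type*} [Field F]
variable {f : (ι → F) → (ι → F) → F}

theorem pair_stab_max (hf : IsSymplecticForm f) (h2 : (2 : F) ≠ 0) {m : ℕ} (hm : 4 ≤ m)
    (D : Fin 2 → Submodule F (ι → F)) (hD : IsMDecomposition m D)
    (hts : ∀ i, IsTotallySingularFor f (D i)) (I : Subgroup (GL ι F))
    (hI : ∀ g, g ∈ I ↔ Isom f g) :
    IsMaximalIn I (decompositionStabilizer D ⊓ I) := by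
  have hb := hf.bilinear
  have hP : ∀ i j : Fin 2, i ≠ j → TIPair f (D i) (D j) :=
    fun i j hij => tipair_of_decomp hD hts i j hij
  have h01 : (0 : Fin 2) ≠ 1 := by decide
  have hnz : ∀ i : Fin 2, ∃ a ∈ D i, a ≠ 0 := by
    intro i
    apply Submodule.exists_mem_ne_zero_of_ne_bot
    intro h
    have h1 := hD.finrank_eq i
    have h3 := hD.pos
    rw [h, finrank_bot] at h1
    omega
  have hfr : ∀ i j : Fin 2, Module.finrank F (D i) = Module.finrank F (D j) := by
    intro i j
    rw [hD.finrank_eq, hD.finrank_eq]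
  -- elements preserving both blocks
  have hpres : ∀ g : GL ι F, Isom f g →
      (∀ i, ∀ x ∈ D i, (g : Matrix ι ι F) *ᵥ x ∈ D i) → g ∈ decompositionStabilizer D ⊓ I := by
    intro g hg hmap
    refine ⟨⟨1, fun i => ?_⟩, (hI g).2 hg⟩
    rw [Equiv.Perm.one_apply]
    exact map_eq_of_le_of_finrank g (D i) (D i) (hmap i) rfl
  have hswapmem : ∀ g : GL ι F, Isom f g → (∀ x ∈ D 0, (g : Matrix ι ι F) *ᵥ x ∈ D 1) →
      (∀ x ∈ D 1, (g : Matrix ι ι F) *ᵥ x ∈ D 0) → g ∈ decompositionStabilizer D ⊓ I := by
    intro g hg h0 h1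
    refine ⟨⟨Equiv.swap 0 1, fun i => ?_⟩, (hI g).2 hg⟩
    by_cases hi : i = 0
    · rw [hi, Equiv.swap_apply_left]
      exact map_eq_of_le_of_finrank g (D 0) (D 1) h0 (hfr 0 1)
    · have hi1 : i = 1 := fin2_eq_of_ne hi h01
      rw [hi1, Equiv.swap_apply_right]
      exact map_eq_of_le_of_finrank g (D 1) (D 0) h1 (hfr 1 0)
  have hrhoH : ∀ i j : Fin 2, i ≠ j → ∀ a ∈ D i, ∀ b ∈ D j, f a b = 0 →
      rho hf a b ∈ decompositionStabilizer D ⊓ I := by
    intro i j hij a ha b hb' hab
    apply hpres _ (rho_isom hf a b)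
    intro k x hx
    by_cases hk : k = i
    · rw [hk] at hx ⊢
      exact rho_maps_left hf (hP i j hij) ha hab x hx
    · have hkj : k = j := fin2_eq_of_ne hk hij
      rw [hkj] at hx ⊢
      exact rho_maps_right hf (hP i j hij) hb' hab x hx
  constructor
  · refine SetLike.lt_iff_le_and_exists.2 ⟨inf_le_right, ?_⟩
    obtain ⟨a, haA, ha0⟩ := hnz 0
    obtain ⟨b0, hb0, hab0⟩ := (hP 0 1 h01).exists_pair hf haA ha0
    obtain ⟨b, hbB, hab⟩ : ∃ b ∈ D 1, f a b = 1 :=
      ⟨(f a b0)⁻¹ • b0, (D 1).smul_mem _ hb0, by rw [hb.smul_right, inv_mul_cancel₀ hab0]⟩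
    refine ⟨stv hf (a + b) 1, (hI _).2 (stv_isom hf _ _), ?_⟩
    rintro ⟨⟨σ, hσ⟩, _⟩
    have himg : ((stv hf (a + b) 1 : GL ι F) : Matrix ι ι F) *ᵥ a = (2 : F) • a + b := by
      rw [stv_apply, hb.add_right, hf.alternating, zero_add, hab, mul_one, one_smul, two_smul]
      abel
    have hmem : (2 : F) • a + b ∈ D (σ 0) := by
      rw [← himg, ← hσ 0]
      exact ⟨a, haA, Matrix.toLin'_apply _ _⟩
    have hb0' : b ≠ 0 := by
      intro h
      rw [h, form_zero_right hb] at hab
      exact zero_ne_one hab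
    by_cases hs : σ 0 = 0
    · rw [hs] at hmem
      have hbA : b ∈ D 0 := by
        have := (D 0).sub_mem hmem ((D 0).smul_mem 2 haA)
        rwa [add_sub_cancel_left] at this
      exact hb0' ((hP 0 1 h01).disj b hbA hbB)
    · have hs1 : σ 0 = 1 := fin2_eq_of_ne hs h01
      rw [hs1] at hmem
      have h2a : (2 : F) • a ∈ D 1 := by
        have := (D 1).sub_mem hmem hbB
        rwa [add_sub_cancel_right] at this
      have ha1 : a ∈ D 1 := by
        have := (D 1).smul_mem (2 : F)⁻¹ h2a
        rwa [smul_smul, inv_mul_cancel₀ h2, one_smul] at this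
      exact ha0 ((hP 0 1 h01).disj a haA ha1)
  · intro M hHM hMI
    by_cases hMH : M ≤ decompositionStabilizer D ⊓ I
    · left; exact le_antisymm hMH hHM
    · right
      apply le_antisymm hMI
      obtain ⟨g, hgM, hgH⟩ := SetLike.not_le_iff_exists.1 hMH
      have hgI : Isom f g := (hI g).1 (hMI hgM)
      have hgS : g ∉ decompositionStabilizer D := fun h => hgH ⟨h, hMI hgM⟩
      have hrhoM : ∀ i j : Fin 2, i ≠ j → ∀ a ∈ D i, ∀ b ∈ D j, f a b = 0 → rho hf a b ∈ M :=
        fun i j hij a ha b hb' hab => hHM (hrhoH i j hij a ha b hb' hab)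
      -- transitivity on the centres inside a block
      have htrans : ∀ i j : Fin 2, i ≠ j → ∀ a ∈ D i, a ≠ 0 → Ctr hf M a →
          ∀ a' ∈ D i, Ctr hf M a' := by
        intro i j hij a ha ha0 hCa a' ha'
        by_cases hsp : ∃ c : F, a' = c • a
        · obtain ⟨c, rfl⟩ := hsp
          exact hCa.smul hf c
        · have hne : ¬ ∀ b ∈ D j, f (a' - a) b = 0 → f a b = 0 := by
            intro hker
            obtain ⟨c, hc⟩ := (hP i j hij).dual hf ((D i).sub_mem ha' ha) ha hker
            apply hsp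
            have hc0 : c ≠ 0 := by
              intro h0
              rw [h0, zero_smul] at hc
              exact ha0 hc
            refine ⟨1 + c⁻¹, ?_⟩
            have h3 : c⁻¹ • a = c⁻¹ • (c • (a' - a)) := congrArg (fun z => c⁻¹ • z) hc
            rw [smul_smul, inv_mul_cancel₀ hc0, one_smul] at h3
            rw [add_smul, one_smul, h3]
            abel
          push Not at hne
          obtain ⟨b', hb'B, hb'1, hb'2⟩ := hne
          have hab'' : f (a' - a) ((f a b')⁻¹ • b') = 0 := by
            rw [hb.smul_right, hb'1, mul_zero]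
          have hmem := hrhoM i j hij (a' - a) ((D i).sub_mem ha' ha) ((f a b')⁻¹ • b')
            ((D j).smul_mem _ hb'B) hab''
          have h1 := hCa.conj hf _ hmem (rho_isom hf _ _)
          rw [rho_apply hf _ _ hab'', (hts i) a ha (a' - a) ((D i).sub_mem ha' ha), zero_smul,
            add_zero, hb.smul_right, inv_mul_cancel₀ hb'2, one_smul, add_sub_cancel] at h1
          exact h1
      -- first centre
      have hS1 : ∀ i i' : Fin 2, i ≠ i' →
          (∀ j, (D i).map (Matrix.toLin' (g : Matrix ι ι F)) ≠ D j) →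
          ∃ x0 ∈ D i', x0 ≠ 0 ∧ Ctr hf M x0 := by
        intro i i' hii' hL
        have hmixed : ∃ y0 ∈ D i, (g : Matrix ι ι F) *ᵥ y0 ∉ D 0 ∧
            (g : Matrix ι ι F) *ᵥ y0 ∉ D 1 := by
          by_contra hcon
          push Not at hcon
          have hor : ∀ y ∈ (D i).map (Matrix.toLin' (g : Matrix ι ι F)), y ∈ D 0 ∨ y ∈ D 1 := by
            rintro _ ⟨y0, hy0, rfl⟩
            rw [Matrix.toLin'_apply]
            by_cases h : (g : Matrix ι ι F) *ᵥ y0 ∈ D 0
            · left; exact h
            · right; exact hcon y0 hy0 h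
          rcases le_or_le_of_forall_mem_or _ _ _ hor with hle | hle
          · apply hL 0
            exact map_eq_of_le_of_finrank g (D i) (D 0)
              (fun x hx => hle ⟨x, hx, Matrix.toLin'_apply _ _⟩) (hfr i 0)
          · apply hL 1
            exact map_eq_of_le_of_finrank g (D i) (D 1)
              (fun x hx => hle ⟨x, hx, Matrix.toLin'_apply _ _⟩) (hfr i 1)
        obtain ⟨y0, hy0, hy0', hy1'⟩ := hmixed
        obtain ⟨y, hy⟩ : ∃ y, y = (g : Matrix ι ι F) *ᵥ y0 := ⟨_, rfl⟩
        rw [← hy] at hy0' hy1'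
        obtain ⟨y1, hy1, y2, hy2, hysum⟩ := (hP 0 1 h01).split y
        have hy1ne : y1 ≠ 0 := by
          intro h
          apply hy1'
          rw [hysum, h, zero_add]
          exact hy2
        have hy2ne : y2 ≠ 0 := by
          intro h
          apply hy0'
          rw [hysum, h, add_zero]
          exact hy1
        have ha0 : ∃ a0 ∈ D 0, f y2 a0 ≠ 0 ∧ ∀ c : F, a0 ≠ c • y1 := by
          obtain ⟨a1, ha1, h1⟩ := (hP 1 0 h01.symm).exists_pair hf hy2 hy2ne
          by_cases hsp : ∀ c : F, a1 ≠ c • y1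
          · exact ⟨a1, ha1, h1, hsp⟩
          · push Not at hsp
            obtain ⟨c, hc⟩ := hsp
            obtain ⟨a', ha', hsp'⟩ := exists_not_smul (D 0) (by rw [hD.finrank_eq]; omega) y1
            by_cases h2' : f y2 a' = 0
            · refine ⟨a1 + a', (D 0).add_mem ha1 ha', ?_, ?_⟩
              · rw [hb.add_right, h2', add_zero]
                exact h1
              · intro c' hc'
                apply hsp' (c' - c)
                rw [sub_smul, ← hc', ← hc, add_sub_cancel_left]
            · exact ⟨a', ha', h2', hsp'⟩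
        obtain ⟨a0, ha0A, hy2a0, ha0sp⟩ := ha0
        have hb0 : ∃ b0 ∈ D 1, f a0 b0 = 0 ∧ f y1 b0 ≠ 0 := by
          by_contra hcon
          push Not at hcon
          obtain ⟨c, hc⟩ := (hP 0 1 h01).dual hf ha0A hy1 hcon
          have hc0 : c ≠ 0 := by
            intro h
            rw [h, zero_smul] at hc
            exact hy1ne hc
          apply ha0sp c⁻¹
          rw [hc, smul_smul, inv_mul_cancel₀ hc0, one_smul]
        obtain ⟨b0, hb0B, ha0b0, hy1b0⟩ := hb0
        have hya0 : f y a0 ≠ 0 := by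
          rw [hysum, hb.add_left, (hts 0) y1 hy1 a0 ha0A, zero_add]
          exact hy2a0
        have hyb0 : f y b0 ≠ 0 := by
          rw [hysum, hb.add_left, (hts 1) y2 hy2 b0 hb0B, add_zero]
          exact hy1b0
        obtain ⟨x0, hx0, hx0ne, hx1, hx2, hx3⟩ := exists_ne_zero_perp3 hb (D i')
          (by rw [hD.finrank_eq]; exact hm)
          (((g⁻¹ : GL ι F) : Matrix ι ι F) *ᵥ y) (((g⁻¹ : GL ι F) : Matrix ι ι F) *ᵥ a0)
          (((g⁻¹ : GL ι F) : Matrix ι ι F) *ᵥ b0)
        rw [hgI.inv_right] at hx1 hx2 hx3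
        obtain ⟨x, hx⟩ : ∃ x, x = (g : Matrix ι ι F) *ᵥ x0 := ⟨_, rfl⟩
        rw [← hx] at hx1 hx2 hx3
        have hrx : ∀ t : F, rho hf x (t • y) ∈ M := by
          intro t
          have h0 : f x0 (t • y0) = 0 := by
            rw [hb.smul_right, ← hgI x0 y0, ← hx, ← hy, hx1, mul_zero]
          have h1 := hrhoM i' i (Ne.symm hii') x0 hx0 (t • y0) ((D i).smul_mem _ hy0) h0
          have h3 := M.mul_mem (M.mul_mem hgM h1) (M.inv_mem hgM)
          rw [conj_rho hf g hgI, Matrix.mulVec_smul, ← hx, ← hy] at h3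
          exact h3
        have hr1 : rho hf x y ∈ M := by
          have := hrx 1
          rwa [one_smul] at this
        have hh : rho hf a0 b0 ∈ M := hrhoM 0 1 h01 a0 ha0A b0 hb0B ha0b0
        have hhx : ((rho hf a0 b0 : GL ι F) : Matrix ι ι F) *ᵥ x = x := by
          rw [rho_apply hf a0 b0 ha0b0, hx2, hx3, zero_smul, zero_smul, add_zero, add_zero]
        have hhy : ((rho hf a0 b0 : GL ι F) : Matrix ι ι F) *ᵥ y
            = y + f y a0 • b0 + f y b0 • a0 := rho_apply hf a0 b0 ha0b0 y
        have hrxhy : rho hf x (((rho hf a0 b0 : GL ι F) : Matrix ι ι F) *ᵥ y) ∈ M := by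
          have h3 := M.mul_mem (M.mul_mem hh hr1) (M.inv_mem hh)
          rw [conj_rho hf _ (rho_isom hf a0 b0), hhx] at h3
          exact h3
        have hCx : Ctr hf M x := by
          apply ctr_of_comm hf h2 M (a := x) (b := y)
            (y := ((rho hf a0 b0 : GL ι F) : Matrix ι ι F) *ᵥ y) hx1 ?_ ?_ hrx hrxhy
          · rw [hhy]
            simp only [hb.add_right, hb.smul_right, hx1, hx2, hx3, mul_zero, add_zero]
          · rw [hhy]
            simp only [hb.add_left, hb.smul_left, hf.alternating, zero_add]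
            rw [hf.skew b0 y, hf.skew a0 y]
            have e : f y a0 * -f y b0 + f y b0 * -f y a0 = -(2 * (f y a0 * f y b0)) := by ring
            rw [e]
            exact neg_ne_zero.2 (mul_ne_zero h2 (mul_ne_zero hya0 hyb0))
        refine ⟨x0, hx0, hx0ne, ?_⟩
        have := hCx.conj hf g⁻¹ (M.inv_mem hgM) hgI.inv
        rwa [hx, gl_inv_apply_apply] at this
      -- some block is moved off the decomposition
      have hex : ∃ i : Fin 2, ∀ j, (D i).map (Matrix.toLin' (g : Matrix ι ι F)) ≠ D j := by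
        by_contra hcon
        push Not at hcon
        obtain ⟨j0, hj0⟩ := hcon 0
        obtain ⟨j1, hj1⟩ := hcon 1
        have hne : j0 ≠ j1 := by
          intro h
          rw [h, ← hj1] at hj0
          have h3 : D 0 = D 1 := Submodule.map_injective_of_injective (toLin_gl_injective g) hj0
          obtain ⟨a, ha, ha0⟩ := hnz 0
          have ha1 : a ∈ D 1 := by rw [← h3]; exact ha
          exact ha0 ((hP 0 1 h01).disj a ha ha1)
        apply hgS
        by_cases h0 : j0 = 0
        · have h1 : j1 = 1 := fin2_eq_of_ne (fun h => hne (h0.trans h.symm)) h01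
          refine ⟨1, fun i => ?_⟩
          by_cases hi : i = 0
          · rw [hi, Equiv.Perm.one_apply, hj0, h0]
          · have hi1 : i = 1 := fin2_eq_of_ne hi h01
            rw [hi1, Equiv.Perm.one_apply, hj1, h1]
        · have h0' : j0 = 1 := fin2_eq_of_ne h0 h01
          have h1 : j1 = 0 := fin2_eq_of_ne (fun h => hne (h0'.trans h.symm)) h01.symm
          refine ⟨Equiv.swap 0 1, fun i => ?_⟩
          by_cases hi : i = 0
          · rw [hi, Equiv.swap_apply_left, hj0, h0']
          · have hi1 : i = 1 := fin2_eq_of_ne hi h01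
            rw [hi1, Equiv.swap_apply_right, hj1, h1]
      obtain ⟨i, hi⟩ := hex
      obtain ⟨i', hii'⟩ : ∃ i' : Fin 2, i ≠ i' := by
        by_cases h : i = 0
        · exact ⟨1, by rw [h]; exact h01⟩
        · exact ⟨0, h⟩
      obtain ⟨x0, hx0, hx0ne, hCx0⟩ := hS1 i i' hii' hi
      have hall' : ∀ a ∈ D i', Ctr hf M a := htrans i' i (Ne.symm hii') x0 hx0 hx0ne hCx0
      -- swap
      obtain ⟨s, hsI, hsA, hsB, _⟩ := exists_pair_swap hf _ (D 0) (D 1) rfl (hts 0) (hts 1)
        (fun a ha ha0 => (hP 0 1 h01).exists_pair hf ha ha0)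
        (fun b hb' hb0 => by
          obtain ⟨a, ha, hab⟩ := (hP 1 0 h01.symm).exists_pair hf hb' hb0
          exact ⟨a, ha, by rw [hf.skew]; exact neg_ne_zero.2 hab⟩)
      have hsM : s ∈ M := hHM (hswapmem s hsI hsA hsB)
      have hsmap : ∀ x ∈ D i', (s : Matrix ι ι F) *ᵥ x ∈ D i := by
        intro x hx
        by_cases h : i' = 0
        · have hi1 : i = 1 := fin2_eq_of_ne (k := i) (i := 0) (j := 1)
            (by rw [← h]; exact hii') h01
          rw [hi1]
          rw [h] at hx
          exact hsA x hx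
        · have h' : i' = 1 := fin2_eq_of_ne h h01
          have hi0 : i = 0 := fin2_eq_of_ne (k := i) (i := 1) (j := 0)
            (by rw [← h']; exact hii') h01.symm
          rw [hi0]
          rw [h'] at hx
          exact hsB x hx
      have hsx0 : Ctr hf M ((s : Matrix ι ι F) *ᵥ x0) := hCx0.conj hf s hsM hsI
      have hsx0ne : (s : Matrix ι ι F) *ᵥ x0 ≠ 0 := by
        intro h
        apply hx0ne
        have := congrArg (fun z => ((s⁻¹ : GL ι F) : Matrix ι ι F) *ᵥ z) h
        simpa only [gl_inv_apply_apply, Matrix.mulVec_zero] using this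
      have hall : ∀ a ∈ D i, Ctr hf M a := htrans i i' hii' _ (hsmap x0 hx0) hsx0ne hsx0
      have hallD : ∀ k : Fin 2, ∀ a ∈ D k, Ctr hf M a := by
        intro k a ha
        by_cases hk : k = i
        · rw [hk] at ha
          exact hall a ha
        · have hk' : k = i' := fin2_eq_of_ne hk hii'
          rw [hk'] at ha
          exact hall' a ha
      have hG : ∀ x : ι → F, Ctr hf M x := by
        intro x
        obtain ⟨x1, hx1, x2, hx2, rfl⟩ := (hP 0 1 h01).split x
        by_cases h12 : f x1 x2 = 0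
        · by_cases hx10 : x1 = 0
          · rw [hx10, zero_add]
            exact hallD 1 x2 hx2
          · obtain ⟨z, hz, hxz⟩ := (hP 0 1 h01).exists_pair hf hx1 hx10
            have hgood : Ctr hf M (x1 + (x2 - z)) := by
              apply (hallD 0 x1 hx1).add hf (hallD 1 _ ((D 1).sub_mem hx2 hz))
              rw [form_sub_right hb, h12, zero_sub]
              exact neg_ne_zero.2 hxz
            have h3 : f (x1 + (x2 - z)) z ≠ 0 := by
              rw [hb.add_left, form_sub_left hb, (hts 1) x2 hx2 z hz, hf.alternating, sub_zero,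
                add_zero]
              exact hxz
            have h4 := hgood.add hf (hallD 1 z hz) h3
            have e : x1 + (x2 - z) + z = x1 + x2 := by abel
            rwa [e] at h4
        · exact (hallD 0 x1 hx1).add hf (hallD 1 x2 hx2) h12
      intro g' hg'
      exact isom_mem_of_all_ctr hf M hG g' ((hI g').1 hg')

end Cfsg.Agent.Helper93
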