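import Cfsg.Agent.Lib.Helper93.SpCtr
import Cfsg.Agent.Lib.Helper93.SubfA

set_option autoImplicit false
set_option linter.unusedSectionVars false
set_option linter.unusedVariables false

/-!
# Subfield subgroups of `Sp_n`: rational symplectic forms, identities for root elements
-/

namespace Cfsg.Agent.Helper93.SubfL.SpSf

open Matrix Cfsg.Geo Cfsg.Agent.Helper93

variable {ι : Type} [Fintype ι] [DecidableEq ι] {F : Type*} [Field F]
variable {F₀ : Subfield F} {f : (ι → F) → (ι → F) → F}

/-- the form takes values in the subfield on rational vectors -/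
def RatForm (F₀ : Subfield F) (f : (ι → F) → (ι → F) → F) : Prop :=
  ∀ u v : ι → F, Rat F₀ u → Rat F₀ v → f u v ∈ F₀

/-- the isometry group of `f` -/
def isomGroup (f : (ι → F) → (ι → F) → F) : Subgroup (GL ι F) where
  carrier := {g | Isom f g}
  mul_mem' := fun hg hh => Isom.mul hg hh
  one_mem' := Isom.one
  inv_mem' := fun hg => Isom.inv hg

lemma mem_isomGroup (g : GL ι F) : g ∈ isomGroup f ↔ Isom f g := Iff.rfl

section basic

variable (hf : IsSymplecticForm f)

include hf

lemma stv_mul_stv (u : ι → F) (c c' : F) : stv hf u c * stv hf u c' = stv hf u (c + c') := by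
  have hb := hf.bilinear
  apply gl_ext
  intro x
  simp only [gl_mul_apply, stv_apply]
  simp only [hb.add_left, hb.smul_left, hf.alternating, mul_zero, add_zero]
  ext i
  simp only [Pi.add_apply, Pi.smul_apply, smul_eq_mul]
  ring

/-- decomposition of a transvection whose centre is a sum of two orthogonal vectors -/
lemma stv_add_smul {y z : ι → F} (hyz : f y z = 0) (x γ : F) :
    stv hf (y + x • z) γ = stv hf y γ * stv hf z (γ * x * x) * rho hf ((γ * x) • y) z := by
  have hb := hf.bilinear
  have hzy : f z y = 0 := by rw [hf.skew, hyz, neg_zero]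
  have h1 : f ((γ * x) • y) z = 0 := by rw [hb.smul_left, hyz, mul_zero]
  apply gl_ext
  intro v
  simp only [gl_mul_apply, stv_apply, rho_apply hf _ _ h1]
  simp only [hb.add_left, hb.smul_left, hb.add_right, hb.smul_right, hf.alternating, hyz, hzy,
    mul_zero, add_zero, zero_add]
  ext i
  simp only [Pi.add_apply, Pi.smul_apply, smul_eq_mul]
  ring

lemma rho_add_left {a a' b : ι → F} (h1 : f a b = 0) (h2 : f a' b = 0) (h3 : f a a' = 0) :
    rho hf (a + a') b = rho hf a b * rho hf a' b := by
  have hb := hf.bilinear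
  have h1' : f b a = 0 := by rw [hf.skew, h1, neg_zero]
  have h2' : f b a' = 0 := by rw [hf.skew, h2, neg_zero]
  have h3' : f a' a = 0 := by rw [hf.skew, h3, neg_zero]
  have h4 : f (a + a') b = 0 := by rw [hb.add_left, h1, h2, add_zero]
  apply gl_ext
  intro v
  simp only [gl_mul_apply, rho_apply hf _ _ h4, rho_apply hf _ _ h1, rho_apply hf _ _ h2]
  simp only [hb.add_left, hb.smul_left, hb.add_right, hb.smul_right, hf.alternating, h1, h2, h3,
    h1', h2', h3', mul_zero, add_zero, zero_add]
  ext i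
  simp only [Pi.add_apply, Pi.smul_apply, smul_eq_mul]
  ring

lemma rho_cancel {b z : ι → F} (h : f b z = 0) (x : F) :
    rho hf ((-x) • b) z * rho hf (x • z) b = 1 := by
  have hb := hf.bilinear
  have h' : f z b = 0 := by rw [hf.skew, h, neg_zero]
  have h1 : f ((-x) • b) z = 0 := by rw [hb.smul_left, h, mul_zero]
  have h2 : f (x • z) b = 0 := by rw [hb.smul_left, h', mul_zero]
  apply gl_ext
  intro v
  simp only [gl_mul_apply, gl_one_apply, rho_apply hf _ _ h1, rho_apply hf _ _ h2]
  simp only [hb.add_left, hb.smul_left, hb.add_right, hb.smul_right, hf.alternating, h, h',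
    mul_zero, add_zero, zero_add]
  ext i
  simp only [Pi.add_apply, Pi.smul_apply, smul_eq_mul]
  ring

/-- a vector orthogonal to the standard basis vanishes -/
lemma eq_zero_of_basis_perp {v : ι → F} (h : ∀ j, f v (Pi.single j 1) = 0) : v = 0 := by
  by_contra hv0
  obtain ⟨x, hx⟩ := (hf.nondegenerate v hv0).2
  apply hx
  rw [← gvec_dot hf.bilinear v x]
  have : gvec f v = 0 := by
    funext j
    exact h j
  rw [this, zero_dotProduct]

/-- two elements agreeing on a hyperbolic pair and on its perp are equal -/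
lemma gl_ext_plane {e u : ι → F} (heu : f e u ≠ 0) {d d' : GL ι F}
    (h1 : (d : Matrix ι ι F) *ᵥ e = (d' : Matrix ι ι F) *ᵥ e)
    (h2 : (d : Matrix ι ι F) *ᵥ u = (d' : Matrix ι ι F) *ᵥ u)
    (h3 : ∀ x, f x e = 0 → f x u = 0 →
      (d : Matrix ι ι F) *ᵥ x = (d' : Matrix ι ι F) *ᵥ x) : d = d' := by
  have hb := hf.bilinear
  have hue : f u e ≠ 0 := by rw [hf.skew]; exact neg_ne_zero.mpr heu
  apply gl_ext
  intro x
  have hx1 : f (x - (f x u / f e u) • e - (f x e / f u e) • u) e = 0 := by
    rw [form_sub_left hb, form_sub_left hb, hb.smul_left, hb.smul_left, hf.alternating, mul_zero,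
      sub_zero, div_mul_cancel₀ _ hue, sub_self]
  have hx2 : f (x - (f x u / f e u) • e - (f x e / f u e) • u) u = 0 := by
    rw [form_sub_left hb, form_sub_left hb, hb.smul_left, hb.smul_left, hf.alternating, mul_zero,
      sub_zero, div_mul_cancel₀ _ heu, sub_self]
  have hx : x = (f x u / f e u) • e + (f x e / f u e) • u
      + (x - (f x u / f e u) • e - (f x e / f u e) • u) := by
    abel
  rw [hx, Matrix.mulVec_add, Matrix.mulVec_add, Matrix.mulVec_smul, Matrix.mulVec_smul,
    Matrix.mulVec_add, Matrix.mulVec_add, Matrix.mulVec_smul, Matrix.mulVec_smul, h1, h2,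
    h3 _ hx1 hx2]

end basic

section rational

variable (hf : IsSymplecticForm f) (hrat : RatForm F₀ f)

include hf hrat

lemma stv_rat_mem {w : ι → F} (hw : Rat F₀ w) {c : F} (hc : c ∈ F₀) :
    stv hf w c ∈ subfieldSubgroup F₀ (1 : GL ι F) ⊓ isomGroup f := by
  refine Subgroup.mem_inf.2 ⟨?_, (mem_isomGroup _).2 (stv_isom hf w c)⟩
  apply mem_H1_of (lam := 1) one_ne_zero
  intro x hx
  rw [inv_one, one_smul, stv_apply]
  exact hx.add (Rat.smul (F₀.mul_mem hc (hrat x w hx hw)) hw)

lemma rho_rat_mem {a b : ι → F} (ha : Rat F₀ a) (hb : Rat F₀ b) :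
    rho hf a b ∈ subfieldSubgroup F₀ (1 : GL ι F) ⊓ isomGroup f := by
  unfold rho
  exact Subgroup.mul_mem _ (Subgroup.mul_mem _ (stv_rat_mem hf hrat (ha.add hb) F₀.one_mem)
    (stv_rat_mem hf hrat ha (F₀.neg_mem F₀.one_mem)))
    (stv_rat_mem hf hrat hb (F₀.neg_mem F₀.one_mem))

lemma gvec_rat {x : ι → F} (hx : Rat F₀ x) : Rat F₀ (gvec f x) :=
  fun j => hrat x _ hx (Rat.single j)

/-- a rational vector paired to `1` with a given non-zero rational vector -/
lemma exists_partner {v : ι → F} (hv : Rat F₀ v) (hv0 : v ≠ 0) :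
    ∃ p : ι → F, Rat F₀ p ∧ f v p = 1 := by
  have : ∃ j, f v (Pi.single j 1) ≠ 0 := by
    by_contra hcon
    push Not at hcon
    exact hv0 (eq_zero_of_basis_perp hf hcon)
  obtain ⟨j, hj⟩ := this
  have ht : f v (Pi.single j 1) ∈ F₀ := hrat v _ hv (Rat.single j)
  refine ⟨(f v (Pi.single j 1))⁻¹ • Pi.single j 1, Rat.smul (F₀.inv_mem ht) (Rat.single j), ?_⟩
  rw [hf.bilinear.smul_right, inv_mul_cancel₀ hj]

lemma exists_perp2 (h3 : 3 ≤ Fintype.card ι) {a b : ι → F} (ha : Rat F₀ a) (hb : Rat F₀ b) :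
    ∃ x : ι → F, Rat F₀ x ∧ x ≠ 0 ∧ f a x = 0 ∧ f b x = 0 := by
  obtain ⟨x, hx, hx0, h1, h2⟩ := ex2 (F₀ := F₀) h3 (gvec_rat hf hrat ha) (gvec_rat hf hrat hb)
  rw [gvec_dot hf.bilinear] at h1 h2
  exact ⟨x, hx, hx0, h1, h2⟩

lemma exists_perp4 (h5 : 5 ≤ Fintype.card ι) {a b c d : ι → F} (ha : Rat F₀ a) (hb : Rat F₀ b)
    (hc : Rat F₀ c) (hd : Rat F₀ d) :
    ∃ x : ι → F, Rat F₀ x ∧ x ≠ 0 ∧ f a x = 0 ∧ f b x = 0 ∧ f c x = 0 ∧ f d x = 0 := by
  obtain ⟨x, hx, hx0, h1, h2, h3, h4⟩ := ex4 (F₀ := F₀) h5 (gvec_rat hf hrat ha) (gvec_rat hf hrat hb)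
    (gvec_rat hf hrat hc) (gvec_rat hf hrat hd)
  rw [gvec_dot hf.bilinear] at h1 h2 h3 h4
  exact ⟨x, hx, hx0, h1, h2, h3, h4⟩

/-- a vector whose pairings with the standard basis are rational is rational -/
lemma rat_of_dual {w : ι → F} (h : ∀ j, f w (Pi.single j 1) ∈ F₀) : Rat F₀ w := by
  classical
  have hb := hf.bilinear
  let emb : (ι → F₀) → (ι → F) := fun v i => (v i : F)
  have hemb : ∀ v, Rat F₀ (emb v) := fun v i => (v i).2
  have hadd : ∀ v v', emb (v + v') = emb v + emb v' := fun v v' => by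
    funext i; rfl
  have hsmul : ∀ (c : F₀) v, emb (c • v) = (c : F) • emb v := fun c v => by
    funext i; rfl
  let T : (ι → F₀) →ₗ[F₀] (ι → F₀) :=
    { toFun := fun v j => ⟨f (emb v) (Pi.single j 1), hrat _ _ (hemb v) (Rat.single j)⟩
      map_add' := by
        intro v v'
        funext j
        apply Subtype.ext
        show f (emb (v + v')) (Pi.single j 1)
          = f (emb v) (Pi.single j 1) + f (emb v') (Pi.single j 1)
        rw [hadd, hb.add_left]
      map_smul' := by
        intro c v
        funext j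
        apply Subtype.ext
        show f (emb (c • v)) (Pi.single j 1) = (c : F) * f (emb v) (Pi.single j 1)
        rw [hsmul, hb.smul_left] }
  have hinj : Function.Injective T := by
    rw [← LinearMap.ker_eq_bot, LinearMap.ker_eq_bot']
    intro v hv
    have h0 : emb v = 0 := by
      apply eq_zero_of_basis_perp hf
      intro j
      have h1 := congrFun hv j
      exact congrArg Subtype.val h1
    funext i
    exact Subtype.ext (congrFun h0 i)
  have hsurj : Function.Surjective T := LinearMap.surjective_of_injective hinj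
  obtain ⟨v0, hv0⟩ := hsurj (fun j => ⟨f w (Pi.single j 1), h j⟩)
  have hw : w - emb v0 = 0 := by
    apply eq_zero_of_basis_perp hf
    intro j
    rw [form_sub_left hb]
    have h1 := congrArg Subtype.val (congrFun hv0 j)
    change f (emb v0) (Pi.single j 1) = f w (Pi.single j 1) at h1
    rw [h1, sub_self]
  rw [sub_eq_zero.mp hw]
  exact hemb v0

/-- a vector pairing rationally with all rational vectors is rational -/
lemma rat_of_dual' {w : ι → F} (h : ∀ x, Rat F₀ x → f w x ∈ F₀) : Rat F₀ w :=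
  rat_of_dual hf hrat (fun j => h _ (Rat.single j))

end rational

/-- squares in the subfield: an element whose square and whose translate's square are rational
is rational -/
lemma sq_lemma [Finite F] {x : F} (h1 : x * x ∈ F₀) (h2 : (1 + x) * (1 + x) ∈ F₀) : x ∈ F₀ := by
  have h3 : 2 * x ∈ F₀ := by
    have : 2 * x = (1 + x) * (1 + x) - 1 - x * x := by ring
    rw [this]
    exact F₀.sub_mem (F₀.sub_mem h2 F₀.one_mem) h1
  by_cases h : (2 : F) = 0
  · have hinj : Function.Injective (fun s : F₀ => s * s) := by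
      intro s t hst
      have e : (s : F) * s = t * t := congrArg Subtype.val hst
      have hF : ((s : F) - t) * ((s : F) - t) = 0 := by
        linear_combination e + ((t : F) * t - s * t) * h
      have := mul_self_eq_zero.mp hF
      exact Subtype.ext (sub_eq_zero.mp this)
    have hsurj : Function.Surjective (fun s : F₀ => s * s) := Finite.surjective_of_injective hinj
    obtain ⟨s, hs⟩ := hsurj ⟨x * x, h1⟩
    have e : (s : F) * s = x * x := congrArg Subtype.val hs
    have hF : ((s : F) - x) * ((s : F) - x) = 0 := by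
      linear_combination e + (x * x - s * x) * h
    have := sub_eq_zero.mp (mul_self_eq_zero.mp hF)
    rw [← this]
    exact s.2
  · have h2' : (2 : F) ∈ F₀ := by
      have := F₀.add_mem F₀.one_mem F₀.one_mem
      rwa [one_add_one_eq_two] at this
    have : x = 2⁻¹ * (2 * x) := by
      rw [← mul_assoc, inv_mul_cancel₀ h, one_mul]
    rw [this]
    exact F₀.mul_mem (F₀.inv_mem h2') h3

end Cfsg.Agent.Helper93.SubfL.SpSf
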