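import Cfsg.Agent.Lib.Helper93.SpSfA

set_option autoImplicit false
set_option linter.unusedSectionVars false
set_option linter.unusedVariables false
set_option linter.unusedSimpArgs false

/-!
# Subfield subgroups of `Sp_n`: centres of transvections of an overgroup
-/

namespace Cfsg.Agent.Helper93.SubfL.SpSf

open Matrix Cfsg.Geo Cfsg.Agent.Helper93

variable {ι : Type} [Fintype ι] [DecidableEq ι] {F : Type*} [Field F]
variable {F₀ : Subfield F} {f : (ι → F) → (ι → F) → F} {M : Subgroup (GL ι F)}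

/-- every symplectic transvection of `M` with rational centre has a rational parameter -/
def NoBadS (hf : IsSymplecticForm f) (F₀ : Subfield F) (M : Subgroup (GL ι F)) : Prop :=
  ∀ (w : ι → F) (c : F), Rat F₀ w → w ≠ 0 → stv hf w c ∈ M → c ∈ F₀

/-- `c` is a centre of `M`, with all the parameters of the subfield -/
def MC (hf : IsSymplecticForm f) (F₀ : Subfield F) (M : Subgroup (GL ι F)) (c : ι → F) : Prop :=
  ∀ γ ∈ F₀, stv hf c γ ∈ M

/-- the standing hypotheses on the overgroup `M` -/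
structure Ctx (hf : IsSymplecticForm f) (F₀ : Subfield F) (M : Subgroup (GL ι F)) : Prop where
  rat : RatForm F₀ f
  le : subfieldSubgroup F₀ (1 : GL ι F) ⊓ isomGroup f ≤ M
  isom : M ≤ isomGroup f

variable {hf : IsSymplecticForm f}

lemma MC.of_rat (C : Ctx hf F₀ M) {w : ι → F} (hw : Rat F₀ w) : MC hf F₀ M w :=
  fun γ hγ => C.le (stv_rat_mem hf C.rat hw hγ)

lemma MC.map {c : ι → F} (hc : MC hf F₀ M c) (C : Ctx hf F₀ M) {m : GL ι F} (hm : m ∈ M) :
    MC hf F₀ M ((m : Matrix ι ι F) *ᵥ c) := by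
  intro γ hγ
  rw [← conj_stv hf m ((mem_isomGroup m).1 (C.isom hm))]
  exact M.mul_mem (M.mul_mem hm (hc γ hγ)) (M.inv_mem hm)

lemma MC.smul {c : ι → F} (hc : MC hf F₀ M c) {lam : F} (hl : lam * lam ∈ F₀) :
    MC hf F₀ M (lam • c) := by
  intro γ hγ
  rw [stv_smul]
  exact hc _ (F₀.mul_mem hl hγ)

/-- a pure short root element with rational directions has a parameter with rational square -/
lemma R1 (C : Ctx hf F₀ M) (hN : NoBadS hf F₀ M) {z b y : ι → F} (hz : Rat F₀ z) (hz0 : z ≠ 0)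
    (hb : Rat F₀ b) (hy : Rat F₀ y) (hzb : f z b = 0) (hyb : f y b = 1) (hyz : f y z = 0) (x : F)
    (hY : rho hf (x • z) b ∈ M) : x * x ∈ F₀ := by
  have hbl := hf.bilinear
  have hbz : f b z = 0 := by rw [hf.skew, hzb, neg_zero]
  have hby : f b y = -1 := by rw [hf.skew, hyb]
  have h1 : f (x • z) b = 0 := by rw [hbl.smul_left, hzb, mul_zero]
  have e1 : ((rho hf (x • z) b : GL ι F) : Matrix ι ι F) *ᵥ y = y + x • z := by
    rw [rho_apply hf _ _ h1, hbl.smul_right, hyz, mul_zero, zero_smul, add_zero, hyb, one_smul]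
  have m1 : MC hf F₀ M (y + x • z) := by
    rw [← e1]; exact (MC.of_rat C hy).map C hY
  have h2 := m1 1 F₀.one_mem
  rw [stv_add_smul hf hyz x 1, one_mul] at h2
  have h3 : stv hf z (x * x) * rho hf (x • y) z ∈ M := by
    have := M.mul_mem (M.inv_mem (MC.of_rat C hy 1 F₀.one_mem)) h2
    rwa [mul_assoc, inv_mul_cancel_left] at this
  have h4 : f (x • y) z = 0 := by rw [hbl.smul_left, hyz, mul_zero]
  have e2 : ((stv hf z (x * x) * rho hf (x • y) z : GL ι F) : Matrix ι ι F) *ᵥ b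
      = b + (-x) • z := by
    simp only [gl_mul_apply, stv_apply, rho_apply hf _ _ h4]
    simp only [hbl.add_left, hbl.smul_left, hbl.smul_right, hf.alternating, hby, hbz, mul_zero,
      add_zero, zero_smul]
    ext i
    simp only [Pi.add_apply, Pi.smul_apply, smul_eq_mul]
    ring
  have m2 : MC hf F₀ M (b + (-x) • z) := by
    rw [← e2]; exact (MC.of_rat C hb).map C h3
  have h5 := m2 1 F₀.one_mem
  rw [stv_add_smul hf hbz (-x) 1, one_mul, neg_mul_neg] at h5
  have h6 : stv hf z (x * x) * rho hf ((-x) • b) z ∈ M := by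
    have := M.mul_mem (M.inv_mem (MC.of_rat C hb 1 F₀.one_mem)) h5
    rwa [mul_assoc, inv_mul_cancel_left] at this
  have h7 := M.mul_mem h6 hY
  rw [mul_assoc, rho_cancel hf hbz x, mul_one] at h7
  exact hN z _ hz hz0 h7

lemma rho_mem_of (C : Ctx hf F₀ M) {c z : ι → F} (hcz : f c z = 0) (hc : MC hf F₀ M c)
    (hz : MC hf F₀ M z) (hcz' : MC hf F₀ M (c + (1 : F) • z)) {γ : F} (hγ : γ ∈ F₀) :
    rho hf (γ • c) z ∈ M := by
  have h := hcz' γ hγ
  rw [stv_add_smul hf hcz 1 γ, mul_one, mul_one] at h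
  have h1 := M.mul_mem (M.inv_mem (M.mul_mem (hc γ hγ) (hz γ hγ))) h
  rwa [inv_mul_cancel_left] at h1

/-- a centre `w + κ b` with `w ⊥ b` rational and independent has `κ` rational -/
lemma two_term [Finite F] (C : Ctx hf F₀ M) (hN : NoBadS hf F₀ M) (h5 : 5 ≤ Fintype.card ι)
    {w b : ι → F} (hw : Rat F₀ w) (hw0 : w ≠ 0) (hb : Rat F₀ b) (hwb : f w b = 0)
    (hind : ∀ α : F, b ≠ α • w) {κ : F} (hc : MC hf F₀ M (w + κ • b)) : κ ∈ F₀ := by
  have hbl := hf.bilinear
  have hrat := C.rat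
  have hbw : f b w = 0 := by rw [hf.skew, hwb, neg_zero]
  have hb0 : b ≠ 0 := fun h => hind 0 (by rw [h, zero_smul])
  obtain ⟨x1, hx1, hwx1⟩ := exists_partner hf hrat hw hw0
  have hβ : f b x1 ∈ F₀ := hrat _ _ hb hx1
  have hb1 : Rat F₀ (b - f b x1 • w) := hb.sub (Rat.smul hβ hw)
  have hb10 : b - f b x1 • w ≠ 0 := fun h => hind _ (sub_eq_zero.mp h)
  obtain ⟨x2, hx2, hb1x2⟩ := exists_partner hf hrat hb1 hb10
  obtain ⟨pb, hpb_def⟩ : ∃ pb : ι → F, pb = x2 - f w x2 • x1 := ⟨_, rfl⟩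
  have hpb : Rat F₀ pb := by rw [hpb_def]; exact hx2.sub (Rat.smul (hrat _ _ hw hx2) hx1)
  have hwpb : f w pb = 0 := by
    rw [hpb_def, form_sub_right hbl, hbl.smul_right, hwx1, mul_one, sub_self]
  have hbpb : f b pb = 1 := by
    have e : f (b - f b x1 • w) pb = f b pb := by
      rw [form_sub_left hbl, hbl.smul_left, hwpb, mul_zero, sub_zero]
    rw [← e, hpb_def, form_sub_right hbl, hbl.smul_right, hb1x2, form_sub_left hbl,
      hbl.smul_left, hwx1, mul_one, sub_self, mul_zero, sub_zero]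
  obtain ⟨pw, hpw_def⟩ : ∃ pw : ι → F, pw = x1 - f b x1 • pb := ⟨_, rfl⟩
  have hpw : Rat F₀ pw := by rw [hpw_def]; exact hx1.sub (Rat.smul hβ hpb)
  have hwpw : f w pw = 1 := by
    rw [hpw_def, form_sub_right hbl, hbl.smul_right, hwx1, hwpb, mul_zero, sub_zero]
  have hbpw : f b pw = 0 := by
    rw [hpw_def, form_sub_right hbl, hbl.smul_right, hbpb, mul_one, sub_self]
  obtain ⟨b3, hb3, hb30, hwb3, hbb3, hpwb3, hpbb3⟩ := exists_perp4 hf hrat h5 hw hb hpw hpb
  obtain ⟨x3, hx3, hb3x3⟩ := exists_partner hf hrat hb3 hb30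
  obtain ⟨y3, hy3_def⟩ : ∃ y3 : ι → F, y3 = -x3 + f (-x3) b • pb := ⟨_, rfl⟩
  have hy3 : Rat F₀ y3 := by
    rw [hy3_def]; exact hx3.neg.add (Rat.smul (hrat _ _ hx3.neg hb) hpb)
  have hpbb : f pb b = -1 := by rw [hf.skew, hbpb]
  have hy3b : f y3 b = 0 := by
    rw [hy3_def, hbl.add_left, hbl.smul_left, hpbb]; ring
  have hx3b3 : f x3 b3 = -1 := by rw [hf.skew, hb3x3]
  have hy3b3 : f y3 b3 = 1 := by
    rw [hy3_def, hbl.add_left, hbl.smul_left, hpbb3, mul_zero, add_zero, form_neg_left hbl, hx3b3,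
      neg_neg]
  have hb3pw : f b3 pw = 0 := by rw [hf.skew, hpwb3, neg_zero]
  have hm : rho hf b3 pw ∈ M := C.le (rho_rat_mem hf hrat hb3 hpw)
  have hcb3 : f (w + κ • b) b3 = 0 := by
    rw [hbl.add_left, hbl.smul_left, hwb3, hbb3, mul_zero, add_zero]
  have e3 : ((rho hf b3 pw : GL ι F) : Matrix ι ι F) *ᵥ (w + κ • b)
      = (w + κ • b) + (1 : F) • b3 := by
    rw [rho_apply hf _ _ hb3pw, hcb3, zero_smul, add_zero, hbl.add_left, hbl.smul_left, hwpw, hbpw,
      mul_zero, add_zero]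
  have m3 : MC hf F₀ M ((w + κ • b) + (1 : F) • b3) := by
    rw [← e3]; exact hc.map C hm
  have hrho : ∀ γ ∈ F₀, rho hf ((γ * κ) • b) b3 ∈ M := by
    intro γ hγ
    have h1 := rho_mem_of C hcb3 hc (MC.of_rat C hb3) m3 hγ
    have e : γ • (w + κ • b) = γ • w + (γ * κ) • b := by rw [smul_add, smul_smul]
    rw [e, rho_add_left hf (a := γ • w) (a' := (γ * κ) • b) (b := b3)
      (by rw [hbl.smul_left, hwb3, mul_zero])
      (by rw [hbl.smul_left, hbb3, mul_zero])
      (by rw [hbl.smul_left, hbl.smul_right, hwb, mul_zero, mul_zero])] at h1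
    have h2 := M.mul_mem (M.inv_mem (C.le (rho_rat_mem hf hrat (Rat.smul hγ hw) hb3))) h1
    rwa [inv_mul_cancel_left] at h2
  have hsq : ∀ x : F, rho hf (x • b) b3 ∈ M → x * x ∈ F₀ := fun x hx =>
    R1 C hN hb hb0 hb3 hy3 hbb3 hy3b3 hy3b x hx
  have h1 := hrho 1 F₀.one_mem
  rw [one_mul] at h1
  have hk2 : κ * κ ∈ F₀ := hsq κ h1
  have h2 : rho hf ((1 + κ) • b) b3 ∈ M := by
    rw [add_smul, rho_add_left hf (a := (1 : F) • b) (a' := κ • b) (b := b3)
      (by rw [hbl.smul_left, hbb3, mul_zero]) (by rw [hbl.smul_left, hbb3, mul_zero])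
      (by rw [hbl.smul_left, hbl.smul_right, hf.alternating, mul_zero, mul_zero])]
    exact M.mul_mem (C.le (rho_rat_mem hf hrat (Rat.smul F₀.one_mem hb) hb3)) h1
  exact sq_lemma hk2 (hsq _ h2)

/-- a centre of `M` orthogonal to a non-zero rational vector is a rational point -/
lemma NG [Finite F] (C : Ctx hf F₀ M) (hN : NoBadS hf F₀ M) (h5 : 5 ≤ Fintype.card ι)
    {u : ι → F} (hu : MC hf F₀ M u) {b0 : ι → F} (hb0 : Rat F₀ b0) (hb00 : b0 ≠ 0)
    (hub : f u b0 = 0) : ∃ (lam : F) (v : ι → F), Rat F₀ v ∧ u = lam • v := by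
  have hbl := hf.bilinear
  have hrat := C.rat
  have step1 : ∀ a x : ι → F, Rat F₀ a → Rat F₀ x → f a b0 = 0 → f x b0 = 0 →
      f u a * f u x ∈ F₀ := by
    intro a x ha hx hab hxb
    by_cases hdep : ∃ α : F, x = α • b0
    · obtain ⟨α, hα⟩ := hdep
      rw [hα, hbl.smul_right, hub, mul_zero, mul_zero]
      exact F₀.zero_mem
    · push Not at hdep
      have hx0 : x ≠ 0 := fun h => hdep 0 (by rw [h, zero_smul])
      have hind : ∀ α : F, b0 ≠ α • x := by
        intro α h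
        have hα : α ≠ 0 := by
          intro h0; rw [h0, zero_smul] at h; exact hb00 h
        apply hdep α⁻¹
        rw [h, smul_smul, inv_mul_cancel₀ hα, one_smul]
      have hm : rho hf a b0 ∈ M := C.le (rho_rat_mem hf hrat ha hb0)
      have e1 : ((rho hf a b0 : GL ι F) : Matrix ι ι F) *ᵥ u = u + f u a • b0 := by
        rw [rho_apply hf _ _ hab, hub, zero_smul, add_zero]
      have m1 : MC hf F₀ M (u + f u a • b0) := by rw [← e1]; exact hu.map C hm
      have h1 := m1 1 F₀.one_mem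
      rw [stv_add_smul hf hub (f u a) 1, one_mul] at h1
      have h2 : stv hf b0 (f u a * f u a) * rho hf (f u a • u) b0 ∈ M := by
        have := M.mul_mem (M.inv_mem (hu 1 F₀.one_mem)) h1
        rwa [mul_assoc, inv_mul_cancel_left] at this
      have h3 : f (f u a • u) b0 = 0 := by rw [hbl.smul_left, hub, mul_zero]
      have e2 : ((stv hf b0 (f u a * f u a) * rho hf (f u a • u) b0 : GL ι F) :
          Matrix ι ι F) *ᵥ x = x + (f u a * f x u) • b0 := by
        simp only [gl_mul_apply, stv_apply, rho_apply hf _ _ h3]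
        simp only [hbl.add_left, hbl.smul_left, hbl.smul_right, hf.alternating, hxb, mul_zero,
          add_zero, zero_smul]
      have m2 : MC hf F₀ M (x + (f u a * f x u) • b0) := by
        rw [← e2]; exact (MC.of_rat C hx).map C h2
      have h4 := two_term C hN h5 hx hx0 hb0 hxb hind m2
      have : f u a * f u x = -(f u a * f x u) := by rw [hf.skew x u]; ring
      rw [this]
      exact F₀.neg_mem h4
  obtain ⟨p0, hp0, hb0p0⟩ := exists_partner hf hrat hb0 hb00
  have hp0b0 : f p0 b0 = -1 := by rw [hf.skew, hb0p0]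
  have hproj : ∀ x : ι → F, Rat F₀ x →
      Rat F₀ (x - f b0 x • p0) ∧ f (x - f b0 x • p0) b0 = 0 := by
    intro x hx
    refine ⟨hx.sub (Rat.smul (hrat _ _ hb0 hx) hp0), ?_⟩
    rw [form_sub_left hbl, hbl.smul_left, hp0b0, hf.skew x b0]; ring
  by_cases hall : ∀ a : ι → F, Rat F₀ a → f a b0 = 0 → f u a = 0
  · refine ⟨f u p0, b0, hb0, ?_⟩
    apply sub_eq_zero.mp
    apply eq_zero_of_basis_perp hf
    intro j
    obtain ⟨hr1, hr2⟩ := hproj _ (Rat.single (F₀ := F₀) j)
    have h1 := hall _ hr1 hr2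
    rw [form_sub_right hbl, hbl.smul_right] at h1
    rw [form_sub_left hbl, hbl.smul_left]
    linear_combination h1
  · push Not at hall
    obtain ⟨a0, ha0, ha0b, hla⟩ := hall
    have hl2 : f u a0 * f u a0 ∈ F₀ := step1 a0 a0 ha0 ha0 ha0b ha0b
    have hu' : MC hf F₀ M (f u a0 • u) := hu.smul hl2
    obtain ⟨θ, hθ⟩ : ∃ θ : F, θ = f (f u a0 • u) p0 := ⟨_, rfl⟩
    obtain ⟨w0, hw0_def⟩ : ∃ w0 : ι → F, w0 = f u a0 • u - θ • b0 := ⟨_, rfl⟩
    have hw0 : Rat F₀ w0 := by
      apply rat_of_dual hf hrat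
      intro j
      obtain ⟨hr1, hr2⟩ := hproj _ (Rat.single (F₀ := F₀) j)
      have h1 := step1 a0 _ ha0 hr1 ha0b hr2
      have e : f w0 (Pi.single j 1)
          = f u a0 * f u (Pi.single j 1 - f b0 (Pi.single j 1) • p0) := by
        rw [hw0_def, form_sub_left hbl, hbl.smul_left, hbl.smul_left, form_sub_right hbl,
          hbl.smul_right, hθ, hbl.smul_left]
        ring
      rw [e]; exact h1
    have hw0b : f w0 b0 = 0 := by
      rw [hw0_def, form_sub_left hbl, hbl.smul_left, hbl.smul_left, hub, hf.alternating, mul_zero,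
        mul_zero, sub_zero]
    have hsum : f u a0 • u = w0 + θ • b0 := by rw [hw0_def, sub_add_cancel]
    by_cases hdep : ∃ α : F, w0 = α • b0
    · obtain ⟨α, hα⟩ := hdep
      refine ⟨(f u a0)⁻¹ * (α + θ), b0, hb0, ?_⟩
      rw [hα, ← add_smul] at hsum
      rw [mul_smul, ← hsum, inv_smul_smul₀ hla]
    · push Not at hdep
      have hw00 : w0 ≠ 0 := fun h => hdep 0 (by rw [h, zero_smul])
      have hind : ∀ α : F, b0 ≠ α • w0 := by
        intro α h
        have hα : α ≠ 0 := by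
          intro h0; rw [h0, zero_smul] at h; exact hb00 h
        apply hdep α⁻¹
        rw [h, smul_smul, inv_mul_cancel₀ hα, one_smul]
      have hc : MC hf F₀ M (w0 + θ • b0) := by rw [← hsum]; exact hu'
      have hθ' := two_term C hN h5 hw0 hw00 hb0 hw0b hind hc
      refine ⟨(f u a0)⁻¹, f u a0 • u, ?_, ?_⟩
      · rw [hsum]; exact hw0.add (Rat.smul hθ' hb0)
      · rw [inv_smul_smul₀ hla]

end Cfsg.Agent.Helper93.SubfL.SpSf
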