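import Cfsg.Agent.Lib.Helper93.SpSfC

set_option autoImplicit false
set_option linter.unusedSectionVars false
set_option linter.unusedVariables false
set_option linter.unusedSimpArgs false
set_option linter.style.haveILetI false

/-!
# Subfield subgroups of `Sp_n`: an irrational parameter forces everything
-/

namespace Cfsg.Agent.Helper93.SubfL.SpSf

open Matrix Cfsg.Geo Cfsg.Agent.Helper93
open Cfsg.Agent.Helper98.Ident Cfsg.Agent.Helper98.Dickson

variable {ι : Type} [Fintype ι] [DecidableEq ι] {F : Type*} [Field F]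
variable {F₀ : Subfield F} {f : (ι → F) → (ι → F) → F} {M : Subgroup (GL ι F)}
variable {hf : IsSymplecticForm f}

lemma neg_one_mem_H (hf : IsSymplecticForm f) :
    (-1 : GL ι F) ∈ subfieldSubgroup F₀ (1 : GL ι F) ⊓ isomGroup f := by
  refine Subgroup.mem_inf.2 ⟨?_, ?_⟩
  · apply mem_H1_of (lam := 1) one_ne_zero
    intro x hx
    rw [inv_one, one_smul, Units.val_neg, Units.val_one, Matrix.neg_mulVec, Matrix.one_mulVec]
    exact hx.neg
  · rw [mem_isomGroup]
    intro x y
    rw [Units.val_neg, Units.val_one, Matrix.neg_mulVec, Matrix.neg_mulVec, Matrix.one_mulVec,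
      Matrix.one_mulVec, form_neg_left hf.bilinear, form_neg_right hf.bilinear, neg_neg]

/-- transfer of a transvection between non-orthogonal rational centres -/
lemma stv_transfer (C : Ctx hf F₀ M) {w w' : ι → F} (hw : Rat F₀ w) (hw' : Rat F₀ w')
    (hww : f w w' ≠ 0) {c : F} (hc : stv hf w c ∈ M) : stv hf w' c ∈ M := by
  have hbl := hf.bilinear
  have ht : f w w' ∈ F₀ := C.rat _ _ hw hw'
  have hti : (f w w')⁻¹ ∈ F₀ := F₀.inv_mem ht
  have hn : stv hf w (f w w')⁻¹ * stv hf w' (f w w')⁻¹ * stv hf w (f w w')⁻¹ ∈ M :=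
    M.mul_mem (M.mul_mem (C.le (stv_rat_mem hf C.rat hw hti))
      (C.le (stv_rat_mem hf C.rat hw' hti))) (C.le (stv_rat_mem hf C.rat hw hti))
  have ht1 : (f w w')⁻¹ * f w w' = 1 := inv_mul_cancel₀ hww
  have e : ((stv hf w (f w w')⁻¹ * stv hf w' (f w w')⁻¹ * stv hf w (f w w')⁻¹ : GL ι F) :
      Matrix ι ι F) *ᵥ w = w' := by
    have hw'w : f w' w = - f w w' := hf.skew w' w
    simp only [gl_mul_apply, stv_apply]
    simp only [hbl.add_left, hbl.smul_left, hf.alternating, hw'w, mul_zero, zero_smul, add_zero]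
    ext i
    simp only [Pi.add_apply, Pi.smul_apply, smul_eq_mul]
    linear_combination (w' i - ((f w w')⁻¹ * f w w' + 1) * w i) * ht1
  have h := M.mul_mem (M.mul_mem hn hc) (M.inv_mem hn)
  rw [conj_stv hf _ ((mem_isomGroup _).1 (C.isom hn)), e] at h
  exact h

lemma exists_common (C : Ctx hf F₀ M) {w w'' : ι → F} (hw : Rat F₀ w) (hw0 : w ≠ 0)
    (hw'' : Rat F₀ w'') (hw''0 : w'' ≠ 0) :
    ∃ w' : ι → F, Rat F₀ w' ∧ f w w' ≠ 0 ∧ f w'' w' ≠ 0 := by
  obtain ⟨p, hp, hwp⟩ := exists_partner hf C.rat hw hw0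
  obtain ⟨q, hq, hwq⟩ := exists_partner hf C.rat hw'' hw''0
  by_cases h1 : f w'' p = 0
  · by_cases h2 : f w q = 0
    · refine ⟨p + q, hp.add hq, ?_, ?_⟩
      · rw [hf.bilinear.add_right, hwp, h2, add_zero]; exact one_ne_zero
      · rw [hf.bilinear.add_right, h1, hwq, zero_add]; exact one_ne_zero
    · exact ⟨q, hq, h2, by rw [hwq]; exact one_ne_zero⟩
  · exact ⟨p, hp, by rw [hwp]; exact one_ne_zero, h1⟩

/-- an irrational parameter at a rational centre makes the centre full -/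
theorem ctr_of_bad [Fintype F] (C : Ctx hf F₀ M) {r : ℕ} (hr : r.Prime)
    (hcard : Fintype.card F = Nat.card F₀ ^ r) {w0 : ι → F} (hw0 : Rat F₀ w0) (hw00 : w0 ≠ 0)
    {a0 : F} (ha0 : a0 ∉ F₀) (hbad : stv hf w0 a0 ∈ M) : Ctr hf M w0 := by
  classical
  obtain ⟨p, hp⟩ := CharP.exists F
  haveI := hp
  haveI : Fact p.Prime := ⟨CharP.char_is_prime F p⟩
  have hbl := hf.bilinear
  obtain ⟨p0, hp0, hwp⟩ := exists_partner hf C.rat hw0 hw00
  have hpw : f p0 w0 = -1 := by rw [hf.skew, hwp]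
  have heu : f w0 p0 ≠ 0 := by rw [hwp]; exact one_ne_zero
  have tr1 : ∀ c, stv hf w0 c ∈ M → stv hf p0 c ∈ M := fun c hc =>
    stv_transfer C hw0 hp0 heu hc
  have hneg : ∀ c, stv hf w0 c ∈ M → stv hf w0 (-c) ∈ M := by
    intro c hc
    rw [← stv_inv]
    exact M.inv_mem hc
  have hratc : ∀ c ∈ F₀, stv hf w0 c ∈ M := fun c hc => C.le (stv_rat_mem hf C.rat hw0 hc)
  have hnegone : (-1 : GL ι F) ∈ M := C.le (neg_one_mem_H hf)
  obtain ⟨gens, hgens⟩ : ∃ gens : Set (S2 F), gens = {h | (∃ c, stv hf w0 c ∈ M ∧ h = uu c) ∨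
      (∃ c, stv hf w0 c ∈ M ∧ h = ll c) ∨ h ∈ Subgroup.center (S2 F)} := ⟨_, rfl⟩
  obtain ⟨K, hK⟩ : ∃ K : Subgroup (S2 F), K = Subgroup.closure gens := ⟨_, rfl⟩
  have hlift : ∀ h ∈ K, Lift2 f M w0 p0 h := by
    rw [hK]
    apply lift2_closure
    intro h hh
    rw [hgens] at hh
    rcases hh with ⟨c, hc, rfl⟩ | ⟨c, hc, rfl⟩ | hz
    · refine ⟨stv hf w0 (-c), hneg c hc, 1, one_mul 1, ?_, ?_, ?_⟩
      · rw [stv_apply, hf.alternating, mul_zero, zero_smul, add_zero, uu_00, uu_10, one_smul,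
          zero_smul, add_zero]
      · rw [stv_apply, hpw, neg_mul_neg, mul_one, uu_01, uu_11, one_smul, add_comm]
      · intro x hx1 hx2
        rw [stv_apply, hx1, mul_zero, zero_smul, add_zero, one_smul]
    · refine ⟨stv hf p0 c, tr1 c hc, 1, one_mul 1, ?_, ?_, ?_⟩
      · rw [stv_apply, hwp, mul_one, ll_00, ll_10, one_smul]
      · rw [stv_apply, hf.alternating, mul_zero, zero_smul, add_zero, ll_01, ll_11, one_smul,
          zero_smul, zero_add]
      · intro x hx1 hx2
        rw [stv_apply, hx2, mul_zero, zero_smul, add_zero, one_smul]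
    · exact lift2_center hnegone hz
  have hcen : Subgroup.center (S2 F) ≤ K := by
    intro z hz
    rw [hK]
    apply Subgroup.subset_closure
    rw [hgens]
    exact Or.inr (Or.inr hz)
  have huK : ∀ c, stv hf w0 c ∈ M → uu c ∈ K := by
    intro c hc
    rw [hK]
    apply Subgroup.subset_closure
    rw [hgens]
    exact Or.inl ⟨c, hc, rfl⟩
  have hlK : ∀ c, stv hf w0 c ∈ M → ll c ∈ K := by
    intro c hc
    rw [hK]
    apply Subgroup.subset_closure
    rw [hgens]
    exact Or.inr (Or.inl ⟨c, hc, rfl⟩)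
  have ha00 : a0 ≠ 0 := fun h => ha0 (h ▸ F₀.zero_mem)
  have ha01 : a0 ≠ 1 := fun h => ha0 (h ▸ F₀.one_mem)
  have ha0m : a0 + 1 ≠ 0 := fun h =>
    ha0 (by rw [eq_neg_of_add_eq_zero_left h]; exact F₀.neg_mem F₀.one_mem)
  have hS : ({0, 1, a0, a0 + 1} : Finset F).card = 4 := by
    have e1 : a0 ∉ ({a0 + 1} : Finset F) := by
      rw [Finset.mem_singleton]
      intro h
      exact one_ne_zero (α := F) (by linear_combination -h)
    have e2 : (1 : F) ∉ ({a0, a0 + 1} : Finset F) := by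
      rw [Finset.mem_insert, Finset.mem_singleton]
      rintro (h | h)
      · exact ha01 h.symm
      · exact ha00 (by linear_combination -h)
    have e3 : (0 : F) ∉ ({1, a0, a0 + 1} : Finset F) := by
      rw [Finset.mem_insert, Finset.mem_insert, Finset.mem_singleton]
      rintro (h | h | h)
      · exact zero_ne_one h
      · exact ha00 h.symm
      · exact ha0m h.symm
    rw [Finset.card_insert_of_notMem e3, Finset.card_insert_of_notMem e2,
      Finset.card_insert_of_notMem e1, Finset.card_singleton]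
  have h4 : 4 ≤ Nat.card {a : F // uu a ∈ K} := by
    have hsub : (↑({0, 1, a0, a0 + 1} : Finset F) : Set F) ⊆ {a : F | uu a ∈ K} := by
      intro a ha
      rw [Finset.mem_coe, Finset.mem_insert, Finset.mem_insert, Finset.mem_insert,
        Finset.mem_singleton] at ha
      rcases ha with h | h | h | h
      · rw [h]; exact huK 0 (hratc 0 F₀.zero_mem)
      · rw [h]; exact huK 1 (hratc 1 F₀.one_mem)
      · rw [h]; exact huK a0 hbad
      · rw [h]
        apply huK
        rw [← stv_mul_stv]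
        exact M.mul_mem hbad (hratc 1 F₀.one_mem)
    have h := Set.ncard_le_ncard hsub (Set.toFinite _)
    rw [Set.ncard_coe_finset, hS] at h
    rw [← Nat.card_coe_set_eq] at h
    exact h
  have hu1 : uu (1 : F) ∈ K := huK 1 (hratc 1 F₀.one_mem)
  have hl1 : ll (1 : F) ∈ K := hlK 1 (hratc 1 F₀.one_mem)
  obtain ⟨k, s, hs0, hks⟩ := dk p K hcen (one_ne_zero (α := F)) hu1 (one_ne_zero (α := F)) hl1 h4
  have hs_k : s ∈ k := by
    have := (hks 1).1 hu1
    rwa [mul_one] at this
  have hk_iff : ∀ a, uu a ∈ K ↔ a ∈ k := by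
    intro a
    rw [hks a]
    constructor
    · intro h
      have := k.mul_mem (k.inv_mem hs_k) h
      rwa [inv_mul_cancel_left₀ hs0] at this
    · intro h
      exact k.mul_mem hs_k h
  have hle : ∀ c ∈ F₀, c ∈ k := fun c hc => (hk_iff c).1 (huK c (hratc c hc))
  have ha0k : a0 ∈ k := (hk_iff a0).1 (huK a0 hbad)
  have htop := subfield_top_of hr hcard k hle ha0k ha0
  have key : ∀ a : F, stv hf w0 (-a) ∈ M ∨ ((2 : F) ≠ 0 ∧ stv hf w0 (-(2 * a)) ∈ M) := by
    intro a
    have := lift_uu hf heu (hlift _ ((hk_iff a).2 (htop a)))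
    rw [hpw, div_neg, div_one, div_neg, div_one] at this
    exact this
  intro c
  by_cases h2 : (2 : F) = 0
  · rcases key (-c) with h | ⟨h2', -⟩
    · rwa [neg_neg] at h
    · exact absurd h2 h2'
  · rcases key (-(c / 2)) with h | ⟨-, h⟩
    · rw [neg_neg] at h
      have h' := M.mul_mem h h
      rw [stv_mul_stv] at h'
      have e : c / 2 + c / 2 = c := by field_simp; ring
      rwa [e] at h'
    · have e : -(2 * -(c / 2)) = c := by field_simp
      rwa [e] at h

section closure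

variable [Fintype F]

lemma ex_t (h4 : 4 ≤ Fintype.card F) (t1 t2 t3 : F) : ∃ t : F, t ≠ t1 ∧ t ≠ t2 ∧ t ≠ t3 := by
  classical
  by_contra hcon
  push Not at hcon
  have hsub : (Finset.univ : Finset F) ⊆ {t1, t2, t3} := by
    intro t _
    by_cases h1 : t = t1
    · rw [h1]; exact Finset.mem_insert_self _ _
    · by_cases h2 : t = t2
      · rw [h2]; exact Finset.mem_insert_of_mem (Finset.mem_insert_self _ _)
      · rw [hcon t h1 h2]
        exact Finset.mem_insert_of_mem (Finset.mem_insert_of_mem (Finset.mem_singleton_self _))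
  have h := Finset.card_le_card hsub
  rw [Finset.card_univ] at h
  have h3 : ({t1, t2, t3} : Finset F).card ≤ 3 := Finset.card_le_three
  omega

variable (h4 : 4 ≤ Fintype.card F) (hrat : RatForm F₀ f)
  (hall : ∀ w : ι → F, Rat F₀ w → Ctr hf M w)

include h4 hrat hall

lemma exists_ctr_ne {z : ι → F} (hz : z ≠ 0) : ∃ c : ι → F, Ctr hf M c ∧ f z c ≠ 0 := by
  by_contra hcon
  push Not at hcon
  apply hz
  apply eq_zero_of_basis_perp hf
  intro j
  exact hcon _ (hall _ (Rat.single j))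

lemma avoid_step {c z1 z2 z' : ι → F} (hc : Ctr hf M c) (h1 : f z1 c ≠ 0) (h2 : f z2 c ≠ 0)
    (hz' : z' ≠ 0) :
    ∃ c' : ι → F, Ctr hf M c' ∧ f z1 c' ≠ 0 ∧ f z2 c' ≠ 0 ∧ f z' c' ≠ 0 := by
  have hbl := hf.bilinear
  by_cases h3 : f z' c = 0
  swap
  · exact ⟨c, hc, h1, h2, h3⟩
  have hc0 : c ≠ 0 := by
    intro h
    rw [h, form_zero_right hbl] at h1
    exact h1 rfl
  obtain ⟨x, hx, hzx, hcx⟩ : ∃ x : ι → F, Rat F₀ x ∧ f z' x ≠ 0 ∧ f c x ≠ 0 := by
    have hi : ∃ i, f z' (Pi.single i 1) ≠ 0 := by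
      by_contra hcon
      push Not at hcon
      exact hz' (eq_zero_of_basis_perp hf hcon)
    have hj : ∃ j, f c (Pi.single j 1) ≠ 0 := by
      by_contra hcon
      push Not at hcon
      exact hc0 (eq_zero_of_basis_perp hf hcon)
    obtain ⟨i, hi⟩ := hi
    obtain ⟨j, hj⟩ := hj
    by_cases h5 : f c (Pi.single i 1) = 0
    · by_cases h6 : f z' (Pi.single j 1) = 0
      · refine ⟨Pi.single i 1 + Pi.single j 1, (Rat.single i).add (Rat.single j), ?_, ?_⟩
        · rw [hbl.add_right, h6, add_zero]; exact hi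
        · rw [hbl.add_right, h5, zero_add]; exact hj
      · exact ⟨_, Rat.single j, h6, hj⟩
    · exact ⟨_, Rat.single i, hi, h5⟩
  obtain ⟨t, ht1, ht2, ht3⟩ := ex_t h4 0 (-(f z1 c) / f z1 x) (-(f z2 c) / f z2 x)
  refine ⟨c + t • x, hc.add_smul hf (hall x hx) hcx t, ?_, ?_, ?_⟩
  · rw [hbl.add_right, hbl.smul_right]
    intro h
    by_cases hz : f z1 x = 0
    · rw [hz, mul_zero, add_zero] at h; exact h1 h
    · apply ht2
      rw [eq_div_iff hz]
      linear_combination h
  · rw [hbl.add_right, hbl.smul_right]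
    intro h
    by_cases hz : f z2 x = 0
    · rw [hz, mul_zero, add_zero] at h; exact h2 h
    · apply ht3
      rw [eq_div_iff hz]
      linear_combination h
  · rw [hbl.add_right, hbl.smul_right, h3, zero_add]
    exact mul_ne_zero ht1 hzx

lemma ctr_add {a b : ι → F} (ha : Ctr hf M a) (hb : Ctr hf M b) : Ctr hf M (a + b) := by
  have hbl := hf.bilinear
  by_cases ha0 : a = 0
  · rw [ha0, zero_add]; exact hb
  by_cases hb0 : b = 0
  · rw [hb0, add_zero]; exact ha
  by_cases hab0 : a + b = 0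
  · rw [hab0]; exact Ctr.zero hf M
  by_cases hab : f a b = 0
  swap
  · exact ha.add hf hb hab
  obtain ⟨c1, hc1, h11⟩ := exists_ctr_ne h4 hrat hall ha0
  obtain ⟨c2, hc2, h21, h22, h23⟩ := avoid_step h4 hrat hall hc1 h11 h11 hb0
  obtain ⟨c3, hc3, h31, h32, h33⟩ := avoid_step h4 hrat hall hc2 h21 h23 hab0
  have e1 : Ctr hf M (a + c3) := ha.add hf hc3 h31
  have e2 : Ctr hf M (b + (-1 : F) • c3) := hb.add_smul hf hc3 h32 (-1)
  have e3 : f (a + c3) (b + (-1 : F) • c3) ≠ 0 := by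
    have : f (a + c3) (b + (-1 : F) • c3) = - f (a + b) c3 := by
      simp only [hbl.add_left, hbl.add_right, hbl.smul_right, hf.alternating, hab, hf.skew c3 b]
      ring
    rw [this]
    exact neg_ne_zero.mpr h33
  have e4 := e1.add hf e2 e3
  have : a + c3 + (b + (-1 : F) • c3) = a + b := by
    rw [neg_one_smul]; abel
  rw [this] at e4
  exact e4

lemma ctr_all (v : ι → F) : Ctr hf M v := by
  classical
  have hv : v = ∑ i, v i • (Pi.single i 1 : ι → F) := by
    funext j
    simp [Finset.sum_apply, Pi.single_apply]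
  rw [hv]
  apply Finset.sum_induction _ (fun x => Ctr hf M x)
  · intro a b ha hb
    exact ctr_add h4 hrat hall ha hb
  · exact Ctr.zero hf M
  · intro i _
    exact (hall _ (Rat.single i)).smul hf (v i)

end closure

/-- an irrational parameter at a rational centre forces `M` to contain all isometries -/
theorem le_of_bad [Fintype F] (C : Ctx hf F₀ M) {r : ℕ} (hr : r.Prime)
    (hcard : Fintype.card F = Nat.card F₀ ^ r) (hbad : ¬ NoBadS hf F₀ M) : isomGroup f ≤ M := by
  unfold NoBadS at hbad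
  push Not at hbad
  obtain ⟨w1, a1, hw1, hw10, hm1, ha1⟩ := hbad
  have hall : ∀ w : ι → F, Rat F₀ w → Ctr hf M w := by
    intro w hw
    by_cases hw0 : w = 0
    · rw [hw0]; exact Ctr.zero hf M
    · obtain ⟨w', hw', h1, h2⟩ := exists_common C hw1 hw10 hw hw0
      have hm' : stv hf w' a1 ∈ M := stv_transfer C hw1 hw' h1 hm1
      have hm'' : stv hf w a1 ∈ M :=
        stv_transfer C hw' hw (by rw [hf.skew]; exact neg_ne_zero.mpr h2) hm'
      exact ctr_of_bad C hr hcard hw hw0 ha1 hm''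
  have hq0 : 2 ≤ Nat.card F₀ := by
    have : 1 < Nat.card F₀ := Finite.one_lt_card
    omega
  have h4 : 4 ≤ Fintype.card F := by
    rw [hcard]
    calc 4 = 2 ^ 2 := by norm_num
      _ ≤ Nat.card F₀ ^ 2 := Nat.pow_le_pow_left hq0 2
      _ ≤ Nat.card F₀ ^ r := Nat.pow_le_pow_right (by omega) hr.two_le
  intro g hg
  exact isom_mem_of_all_ctr hf M (ctr_all h4 C.rat hall) g ((mem_isomGroup g).1 hg)

end Cfsg.Agent.Helper93.SubfL.SpSf
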