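import Cfsg.Agent.Lib.Helper93.SpSfD

set_option autoImplicit false
set_option linter.unusedSectionVars false
set_option linter.unusedVariables false
set_option linter.unusedSimpArgs false
set_option linter.style.haveILetI false

/-!
# Subfield subgroups of `Sp_n`: an overgroup without irrational parameters is the subfield group
-/

namespace Cfsg.Agent.Helper93.SubfL.SpSf

open Matrix Cfsg.Geo Cfsg.Agent.Helper93
open Cfsg.Agent.Helper98.Ident Cfsg.Agent.Helper98.Dickson
open Cfsg.Agent.Helper5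

variable {ι : Type} [Fintype ι] [DecidableEq ι] {F : Type*} [Field F]
variable {F₀ : Subfield F} {f : (ι → F) → (ι → F) → F} {M : Subgroup (GL ι F)}
variable {hf : IsSymplecticForm f}

lemma exists_rat_ne_zero (h : 0 < Fintype.card ι) : ∃ y : ι → F, Rat F₀ y ∧ y ≠ 0 := by
  obtain ⟨i0⟩ := Fintype.card_pos_iff.mp h
  refine ⟨Pi.single i0 1, Rat.single i0, ?_⟩
  intro h0
  have h' := congrFun h0 i0
  rw [Pi.single_eq_same] at h'
  exact one_ne_zero h'

/-- three rational hyperbolic pairs, orthogonal to each other as far as needed -/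
lemma exists_hyp3 (hf : IsSymplecticForm f) (hrat : RatForm F₀ f) (h5 : 5 ≤ Fintype.card ι)
    {y : ι → F} (hy : Rat F₀ y) (hy0 : y ≠ 0) :
    ∃ py a pa b pb : ι → F, Rat F₀ py ∧ Rat F₀ a ∧ Rat F₀ pa ∧ Rat F₀ b ∧ Rat F₀ pb ∧
      a ≠ 0 ∧ b ≠ 0 ∧ f y py = 1 ∧ f a pa = 1 ∧ f b pb = 1 ∧
      f y a = 0 ∧ f y b = 0 ∧ f a b = 0 ∧ f a py = 0 ∧ f b py = 0 ∧ f y pb = 0 ∧ f a pb = 0 ∧
      f y pa = 0 ∧ f b pa = 0 := by
  have hbl := hf.bilinear
  obtain ⟨py, hpy, hypy⟩ := exists_partner hf hrat hy hy0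
  obtain ⟨a, ha, ha0, hya, hpya⟩ := exists_perp2 hf hrat (by omega) hy hpy
  obtain ⟨pa', hpa', hapa'⟩ := exists_partner hf hrat ha ha0
  obtain ⟨pa, hpa_def⟩ : ∃ pa : ι → F, pa = pa' - f y pa' • py := ⟨_, rfl⟩
  have hpa : Rat F₀ pa := by
    rw [hpa_def]; exact hpa'.sub (Rat.smul (hrat _ _ hy hpa') hpy)
  have hapy : f a py = 0 := by rw [hf.skew, hpya, neg_zero]
  have hapa : f a pa = 1 := by
    rw [hpa_def, form_sub_right hbl, hbl.smul_right, hapy, mul_zero, sub_zero, hapa']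
  have hypa : f y pa = 0 := by
    rw [hpa_def, form_sub_right hbl, hbl.smul_right, hypy, mul_one, sub_self]
  obtain ⟨b, hb, hb0, hyb, hpyb, hab, hpab⟩ := exists_perp4 hf hrat h5 hy hpy ha hpa
  obtain ⟨pb', hpb', hbpb'⟩ := exists_partner hf hrat hb hb0
  obtain ⟨pb, hpb_def⟩ : ∃ pb : ι → F, pb = pb' - f y pb' • py - f a pb' • pa := ⟨_, rfl⟩
  have hpb : Rat F₀ pb := by
    rw [hpb_def]
    exact (hpb'.sub (Rat.smul (hrat _ _ hy hpb') hpy)).sub (Rat.smul (hrat _ _ ha hpb') hpa)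
  have hbpy : f b py = 0 := by rw [hf.skew, hpyb, neg_zero]
  have hbpa : f b pa = 0 := by rw [hf.skew, hpab, neg_zero]
  have hbpb : f b pb = 1 := by
    rw [hpb_def]
    simp only [form_sub_right hbl, hbl.smul_right, hbpy, hbpa, hbpb']
    ring
  have hypb : f y pb = 0 := by
    rw [hpb_def]
    simp only [form_sub_right hbl, hbl.smul_right, hypy, hypa]
    ring
  have hapb : f a pb = 0 := by
    rw [hpb_def]
    simp only [form_sub_right hbl, hbl.smul_right, hapy, hapa]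
    ring
  exact ⟨py, a, pa, b, pb, hpy, ha, hpa, hb, hpb, ha0, hb0, hypy, hapa, hbpb, hya, hyb, hab, hapy,
    hbpy, hypb, hapb, hypa, hbpa⟩

/-- characteristic two: a centre of `M` cannot be in general position -/
lemma no_generic_two [Finite F] (C : Ctx hf F₀ M) (hN : NoBadS hf F₀ M)
    (h5 : 5 ≤ Fintype.card ι) (h2 : (2 : F) = 0) {u : ι → F} (hu : MC hf F₀ M u)
    (hgen : ∀ b : ι → F, Rat F₀ b → b ≠ 0 → f u b ≠ 0) : False := by
  have hbl := hf.bilinear
  have hrat := C.rat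
  obtain ⟨y, hy, hy0⟩ := exists_rat_ne_zero (F₀ := F₀) (ι := ι) (by omega)
  obtain ⟨py, a, pa, b, pb, hpy, ha, hpa, hb, hpb, ha0, hb0, hypy, hapa, hbpb, hya, hyb, hab, hapy,
    hbpy, hypb, hapb, hypa, hbpa⟩ := exists_hyp3 hf hrat h5 hy hy0
  have hm : rho hf a b ∈ M := C.le (rho_rat_mem hf hrat ha hb)
  have e1 : ((rho hf a b : GL ι F) : Matrix ι ι F) *ᵥ u = u + f u a • b + f u b • a :=
    rho_apply hf a b hab u
  have m1 : MC hf F₀ M (u + f u a • b + f u b • a) := by rw [← e1]; exact hu.map C hm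
  have hY : stv hf (u + f u a • b + f u b • a) 1 * stv hf u 1 ∈ M :=
    M.mul_mem (m1 1 F₀.one_mem) (hu 1 F₀.one_mem)
  have hay : f a y = 0 := by rw [hf.skew, hya, neg_zero]
  have hby : f b y = 0 := by rw [hf.skew, hyb, neg_zero]
  have hba : f b a = 0 := by rw [hf.skew, hab, neg_zero]
  have e2 : ((stv hf (u + f u a • b + f u b • a) 1 * stv hf u 1 : GL ι F) : Matrix ι ι F) *ᵥ y
      = y + (f y u * f u a) • b + (f y u * f u b) • a := by
    simp only [gl_mul_apply, stv_apply]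
    simp only [hbl.add_left, hbl.smul_left, hbl.add_right, hbl.smul_right, hf.alternating, hya,
      hyb, hab, hba, mul_zero, add_zero, zero_add, one_mul]
    ext i
    simp only [Pi.add_apply, Pi.smul_apply, smul_eq_mul]
    linear_combination ((f y u + f y u * f u a * f u b) * u i
      + f y u * f u a * f u b * (f u a * b i + f u b * a i)) * h2
  obtain ⟨c3, hc3_def⟩ :
      ∃ c3 : ι → F, c3 = y + (f y u * f u a) • b + (f y u * f u b) • a := ⟨_, rfl⟩
  have m2 : MC hf F₀ M c3 := by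
    rw [hc3_def, ← e2]; exact (MC.of_rat C hy).map C hY
  have hc3a : f c3 a = 0 := by
    rw [hc3_def]
    simp only [hbl.add_left, hbl.smul_left, hya, hba, hf.alternating, mul_zero, add_zero]
  obtain ⟨lam, v, hv, hc3v⟩ := NG C hN h5 m2 ha ha0 hc3a
  have hc3py : f c3 py = 1 := by
    rw [hc3_def]
    simp only [hbl.add_left, hbl.smul_left, hypy, hbpy, hapy, mul_zero, add_zero]
  have hlam : lam * f v py = 1 := by rw [← hbl.smul_left, ← hc3v]; exact hc3py
  have hvpy : f v py ∈ F₀ := hrat _ _ hv hpy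
  have hlamF : lam ∈ F₀ := by
    have : lam = (f v py)⁻¹ := eq_inv_of_mul_eq_one_left hlam
    rw [this]; exact F₀.inv_mem hvpy
  have hc3 : Rat F₀ c3 := by rw [hc3v]; exact Rat.smul hlamF hv
  have hα : f y u * f u a ∈ F₀ := by
    have h := hrat _ _ hc3 hpb
    have e : f c3 pb = f y u * f u a := by
      rw [hc3_def]
      simp only [hbl.add_left, hbl.smul_left, hypb, hbpb, hapb, mul_zero, add_zero, zero_add,
        mul_one]
    rwa [e] at h
  have hβ : f y u * f u b ∈ F₀ := by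
    have h := hrat _ _ hc3 hpa
    have e : f c3 pa = f y u * f u b := by
      rw [hc3_def]
      simp only [hbl.add_left, hbl.smul_left, hypa, hbpa, hapa, mul_zero, add_zero, zero_add,
        mul_one]
    rwa [e] at h
  have hw : Rat F₀ ((f y u * f u b) • a - (f y u * f u a) • b) :=
    (Rat.smul hβ ha).sub (Rat.smul hα hb)
  have hyu : f y u ≠ 0 := by
    rw [hf.skew]; exact neg_ne_zero.mpr (hgen y hy hy0)
  have hub : f u b ≠ 0 := hgen b hb hb0
  have hw0 : (f y u * f u b) • a - (f y u * f u a) • b ≠ 0 := by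
    intro h
    have h1 : f ((f y u * f u b) • a - (f y u * f u a) • b) pa = f y u * f u b := by
      simp only [form_sub_left hbl, hbl.smul_left, hapa, hbpa, mul_zero, mul_one, sub_zero]
    rw [h, form_zero_left hbl] at h1
    exact mul_ne_zero hyu hub h1.symm
  apply hgen _ hw hw0
  simp only [form_sub_right hbl, hbl.smul_right]
  ring

lemma not_five_dvd (r : ℕ) (hodd : r % 2 = 1) : ¬ 5 ∣ 3 ^ r * ((3 ^ r) ^ 2 - 1) := by
  obtain ⟨k, rfl⟩ : ∃ k, r = 2 * k + 1 := ⟨r / 2, by omega⟩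
  have h9 : ∀ k : ℕ, (3 ^ (2 * k + 1)) ^ 2 % 5 = 4 := by
    intro k
    induction k with
    | zero => norm_num
    | succ n ih =>
      have e : (3 ^ (2 * (n + 1) + 1)) ^ 2 = (3 ^ (2 * n + 1)) ^ 2 * 81 := by ring
      rw [e]
      obtain ⟨A, hA⟩ : ∃ A, A = (3 ^ (2 * n + 1)) ^ 2 := ⟨_, rfl⟩
      rw [← hA] at ih ⊢
      omega
  intro hd
  rcases (Nat.Prime.dvd_mul (by norm_num : Nat.Prime 5)).1 hd with h | h
  · have := Nat.Prime.dvd_of_dvd_pow (by norm_num : Nat.Prime 5) h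
    omega
  · have h4 := h9 k
    obtain ⟨X, hX⟩ : ∃ X, X = (3 ^ (2 * k + 1)) ^ 2 := ⟨_, rfl⟩
    rw [← hX] at h h4
    omega

/-- odd characteristic: a centre of `M` cannot be in general position -/
lemma no_generic_odd [Fintype F] (C : Ctx hf F₀ M) (hN : NoBadS hf F₀ M)
    (h5 : 5 ≤ Fintype.card ι) {r : ℕ} (hr : r.Prime)
    (hcard : Fintype.card F = Nat.card F₀ ^ r) (h2 : (2 : F) ≠ 0) {u : ι → F}
    (hu : MC hf F₀ M u) (hgen : ∀ b : ι → F, Rat F₀ b → b ≠ 0 → f u b ≠ 0) : False := by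
  classical
  obtain ⟨p, hp⟩ := CharP.exists F
  haveI := hp
  haveI : Fact p.Prime := ⟨CharP.char_is_prime F p⟩
  have hbl := hf.bilinear
  have hrat := C.rat
  have h2F : (2 : F) ∈ F₀ := by
    have := F₀.add_mem F₀.one_mem F₀.one_mem
    rwa [one_add_one_eq_two] at this
  have step1 : ∃ w : ι → F, Rat F₀ w ∧ f u w * f u w ∉ F₀ := by
    by_contra hcon
    push Not at hcon
    obtain ⟨w1, hw1, hw10⟩ := exists_rat_ne_zero (F₀ := F₀) (ι := ι) (by omega)
    have hl1 : f u w1 ≠ 0 := hgen w1 hw1 hw10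
    have hu0 : u ≠ 0 := by
      intro h
      rw [h, form_zero_left hbl] at hl1
      exact hl1 rfl
    have hr1 : Rat F₀ (f u w1 • u) := by
      apply rat_of_dual' hf hrat
      intro x hx
      have h1 := hcon x hx
      have h3 := hcon (x + w1) (hx.add hw1)
      rw [hbl.add_right] at h3
      have h4 := hcon w1 hw1
      have e : f (f u w1 • u) x = 2⁻¹ * ((f u x + f u w1) * (f u x + f u w1) - f u x * f u x
          - f u w1 * f u w1) := by
        rw [hbl.smul_left]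
        have : (f u x + f u w1) * (f u x + f u w1) - f u x * f u x - f u w1 * f u w1
            = 2 * (f u w1 * f u x) := by ring
        rw [this, ← mul_assoc, inv_mul_cancel₀ h2, one_mul]
      rw [e]
      exact F₀.mul_mem (F₀.inv_mem h2F) (F₀.sub_mem (F₀.sub_mem h3 h1) h4)
    apply hgen _ hr1 (smul_ne_zero hl1 hu0)
    rw [hbl.smul_right, hf.alternating, mul_zero]
  obtain ⟨w, hw, ht2⟩ := step1
  obtain ⟨t, ht_def⟩ : ∃ t : F, t = f u w := ⟨_, rfl⟩
  rw [← ht_def] at ht2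
  have ht0 : t ≠ 0 := by
    intro h
    rw [h, mul_zero] at ht2
    exact ht2 F₀.zero_mem
  have hw0 : w ≠ 0 := by
    intro h
    rw [h, form_zero_right hbl] at ht_def
    exact ht0 ht_def
  have hwu : f w u = -t := by rw [hf.skew, ← ht_def]
  have heu : f w u ≠ 0 := by rw [hwu]; exact neg_ne_zero.mpr ht0
  obtain ⟨K, hK⟩ : ∃ K : Subgroup (S2 F), K = Subgroup.closure
      ({h | ∃ c ∈ F₀, h = uu (c * t)} ∪ ({h | ∃ c ∈ F₀, h = ll (c * t)} ∪
        (Subgroup.center (S2 F) : Set (S2 F)))) := ⟨_, rfl⟩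
  have hneg : (-1 : GL ι F) ∈ M := C.le (neg_one_mem_H hf)
  have hlift : ∀ h ∈ K, Lift2 f M w u h := by
    rw [hK]
    apply lift2_closure
    rintro h (⟨c, hc, rfl⟩ | ⟨c, hc, rfl⟩ | hz)
    · refine ⟨stv hf w c, C.le (stv_rat_mem hf hrat hw hc), 1, one_mul 1, ?_, ?_, ?_⟩
      · rw [stv_apply, hf.alternating, mul_zero, zero_smul, add_zero, uu_00, uu_10, one_smul,
          zero_smul, add_zero]
      · rw [stv_apply, ← ht_def, uu_01, uu_11, one_smul, add_comm]
      · intro x hx1 _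
        rw [stv_apply, hx1, mul_zero, zero_smul, add_zero, one_smul]
    · refine ⟨stv hf u (-c), hu _ (F₀.neg_mem hc), 1, one_mul 1, ?_, ?_, ?_⟩
      · rw [stv_apply, hwu, ll_00, ll_10, one_smul, neg_mul_neg]
      · rw [stv_apply, hf.alternating, mul_zero, zero_smul, add_zero, ll_01, ll_11, zero_smul,
          one_smul, zero_add]
      · intro x _ hx2
        rw [stv_apply, hx2, mul_zero, zero_smul, add_zero, one_smul]
    · exact lift2_center hneg hz
  have hcen : Subgroup.center (S2 F) ≤ K := by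
    intro z hz
    rw [hK]
    exact Subgroup.subset_closure (Or.inr (Or.inr hz))
  have huK : ∀ c ∈ F₀, uu (c * t) ∈ K := by
    intro c hc
    rw [hK]
    exact Subgroup.subset_closure (Or.inl ⟨c, hc, rfl⟩)
  have hlK : ∀ c ∈ F₀, ll (c * t) ∈ K := by
    intro c hc
    rw [hK]
    exact Subgroup.subset_closure (Or.inr (Or.inl ⟨c, hc, rfl⟩))
  have hq1 : 1 < Nat.card F₀ := Finite.one_lt_card
  have h3 : 3 ≤ Nat.card F₀ := by
    by_contra hlt
    have h2' : Nat.card F₀ = 2 := by omega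
    have h0 : Nat.card F₀ • (1 : F₀) = 0 := card_nsmul_eq_zero'
    rw [h2', two_smul] at h0
    have h' := congrArg Subtype.val h0
    apply h2
    rw [← one_add_one_eq_two]
    exact h'
  have h5' : 4 ≤ Nat.card F₀ ∨ ¬ 5 ∣ Nat.card (S2 F) := by
    by_cases h4 : 4 ≤ Nat.card F₀
    · exact Or.inl h4
    · right
      have hq3 : Nat.card F₀ = 3 := by omega
      have hnr : Fintype.card ι ≤ r := by
        have hinj : Function.Injective
            (fun v : ι → F₀ => f u (fun j => ((v j : F₀) : F))) := by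
          intro v v' hvv
          have hvv' : f u (fun j => ((v j : F₀) : F)) = f u (fun j => ((v' j : F₀) : F)) := hvv
          have h0 : f u ((fun j => ((v j : F₀) : F)) - (fun j => ((v' j : F₀) : F))) = 0 := by
            rw [form_sub_right hbl]; exact sub_eq_zero.mpr hvv'
          have h1 : ((fun j => ((v j : F₀) : F)) - (fun j => ((v' j : F₀) : F))) = 0 := by
            by_contra hne
            exact hgen _ (Rat.sub (fun j => (v j).2) (fun j => (v' j).2)) hne h0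
          funext j
          have h2'' := congrFun h1 j
          simp only [Pi.sub_apply, Pi.zero_apply] at h2''
          exact Subtype.ext (sub_eq_zero.mp h2'')
        have h1 := Nat.card_le_card_of_injective _ hinj
        rw [Nat.card_fun, Nat.card_eq_fintype_card (α := F), hcard,
          Nat.card_eq_fintype_card (α := ι)] at h1
        exact (Nat.pow_le_pow_iff_right hq1).mp h1
      have hodd : r % 2 = 1 := by
        rcases hr.eq_two_or_odd with h | h
        · omega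
        · exact h
      rw [card_SL2 (F := F) hcard, hq3]
      exact not_five_dvd r hodd
  obtain ⟨a, haK, hane⟩ := dk2 p F₀ h2 K hcen ht0 ht2 huK hlK h3 h5'
  have hL := hlift _ haK
  have hutw : f u w = t := ht_def.symm
  rcases lift_uu hf heu hL with h | ⟨-, h⟩
  · rw [hutw] at h
    have h' := hN w _ hw hw0 h
    exact hane (a / t) h' (by rw [div_mul_cancel₀ a ht0])
  · rw [hutw] at h
    have h' := hN w _ hw hw0 h
    have e : a / t = 2⁻¹ * (2 * a / t) := by
      rw [mul_div_assoc, ← mul_assoc, inv_mul_cancel₀ h2, one_mul]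
    have h'' : a / t ∈ F₀ := by
      rw [e]; exact F₀.mul_mem (F₀.inv_mem h2F) h'
    exact hane (a / t) h'' (by rw [div_mul_cancel₀ a ht0])

/-- an overgroup all of whose transvections at rational centres have rational parameters is
contained in the subfield group -/
theorem le_of_noBad [Fintype F] (C : Ctx hf F₀ M) (hN : NoBadS hf F₀ M)
    (h5 : 5 ≤ Fintype.card ι) {r : ℕ} (hr : r.Prime)
    (hcard : Fintype.card F = Nat.card F₀ ^ r) :
    M ≤ subfieldSubgroup F₀ (1 : GL ι F) ⊓ isomGroup f := by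
  have hbl := hf.bilinear
  have hrat := C.rat
  have claimA : ∀ g ∈ M, ∀ e : ι → F, Rat F₀ e →
      ∃ (lam : F) (v : ι → F), Rat F₀ v ∧ (g : Matrix ι ι F) *ᵥ e = lam • v := by
    intro g hg e he
    have hu : MC hf F₀ M ((g : Matrix ι ι F) *ᵥ e) := (MC.of_rat C he).map C hg
    by_cases hex : ∃ b0 : ι → F, Rat F₀ b0 ∧ b0 ≠ 0 ∧ f ((g : Matrix ι ι F) *ᵥ e) b0 = 0
    · obtain ⟨b0, hb0, hb00, hub⟩ := hex
      exact NG C hN h5 hu hb0 hb00 hub
    · exfalso
      push Not at hex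
      have hgen : ∀ b : ι → F, Rat F₀ b → b ≠ 0 → f ((g : Matrix ι ι F) *ᵥ e) b ≠ 0 := hex
      by_cases h2 : (2 : F) = 0
      · exact no_generic_two C hN h5 h2 hu hgen
      · exact no_generic_odd C hN h5 hr hcard h2 hu hgen
  have claimA' : ∀ g ∈ M, ∀ w : ι → F, Rat F₀ w → w ≠ 0 →
      ∃ (mu : F) (v : ι → F), Rat F₀ v ∧ mu ≠ 0 ∧ mu * mu ∈ F₀ ∧
        (g : Matrix ι ι F) *ᵥ w = mu • v := by
    intro g hg w hw hw0
    obtain ⟨mu, v, hv, hgw⟩ := claimA g hg w hw
    have hgw0 : (g : Matrix ι ι F) *ᵥ w ≠ 0 := by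
      intro h0
      apply hw0
      have := gl_inv_apply_apply g w
      rw [← this, h0, Matrix.mulVec_zero]
    have hmu : mu ≠ 0 := by
      intro h; apply hgw0; rw [hgw, h, zero_smul]
    have hv0 : v ≠ 0 := by
      intro h; apply hgw0; rw [hgw, h, smul_zero]
    refine ⟨mu, v, hv, hmu, ?_, hgw⟩
    have hmc : MC hf F₀ M (mu • v) := by rw [← hgw]; exact (MC.of_rat C hw).map C hg
    have h1 := hmc 1 F₀.one_mem
    rw [stv_smul, mul_one] at h1
    exact hN v _ hv hv0 h1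
  intro g hg
  refine Subgroup.mem_inf.2 ⟨?_, C.isom hg⟩
  obtain ⟨e0, he0, he00⟩ := exists_rat_ne_zero (F₀ := F₀) (ι := ι) (by omega)
  obtain ⟨lam, v0, hv0, hlam, hlam2, hge0⟩ := claimA' g hg e0 he0 he00
  have hIsom : Isom f g := (mem_isomGroup g).1 (C.isom hg)
  have ratio : ∀ (w w' : ι → F), Rat F₀ w → Rat F₀ w' → f w w' ≠ 0 →
      ∀ (mu : F) (v : ι → F) (mu' : F) (v' : ι → F), Rat F₀ v → Rat F₀ v' → mu * mu ∈ F₀ →
      mu ≠ 0 → (g : Matrix ι ι F) *ᵥ w = mu • v → (g : Matrix ι ι F) *ᵥ w' = mu' • v' →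
      mu' * mu⁻¹ ∈ F₀ := by
    intro w w' hw hw' hww mu v mu' v' hv hv' hmu2 hmu hgw hgw'
    have h1 := hIsom w w'
    rw [hgw, hgw', hbl.smul_left, hbl.smul_right] at h1
    have hvv : f v v' ∈ F₀ := hrat _ _ hv hv'
    have hwwF : f w w' ∈ F₀ := hrat _ _ hw hw'
    have hvv0 : f v v' ≠ 0 := by
      intro h
      rw [h, mul_zero, mul_zero] at h1
      exact hww h1.symm
    have e : mu' * mu⁻¹ = f w w' * (f v v')⁻¹ * (mu * mu)⁻¹ := by
      rw [← h1]
      field_simp
    rw [e]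
    exact F₀.mul_mem (F₀.mul_mem hwwF (F₀.inv_mem hvv)) (F₀.inv_mem hmu2)
  apply mem_H1_of hlam
  intro x hx
  by_cases hx0 : x = 0
  · rw [hx0, Matrix.mulVec_zero, smul_zero]; exact Rat.zero
  · obtain ⟨mu, v, hv, hmu, hmu2, hgx⟩ := claimA' g hg x hx hx0
    obtain ⟨w', hw', h1, h2⟩ := exists_common C he0 he00 hx hx0
    have hw'0 : w' ≠ 0 := by
      intro h
      rw [h, form_zero_right hbl] at h1
      exact h1 rfl
    obtain ⟨mu', v', hv', hmu', hmu'2, hgw'⟩ := claimA' g hg w' hw' hw'0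
    have r1 : mu' * lam⁻¹ ∈ F₀ :=
      ratio e0 w' he0 hw' h1 lam v0 mu' v' hv0 hv' hlam2 hlam hge0 hgw'
    have r2 : mu' * mu⁻¹ ∈ F₀ :=
      ratio x w' hx hw' h2 mu v mu' v' hv hv' hmu2 hmu hgx hgw'
    have r3 : mu * lam⁻¹ ∈ F₀ := by
      have : mu * lam⁻¹ = (mu' * lam⁻¹) * (mu' * mu⁻¹)⁻¹ := by
        field_simp
      rw [this]
      exact F₀.mul_mem r1 (F₀.inv_mem r2)
    rw [hgx, smul_smul, mul_comm lam⁻¹ mu]
    exact Rat.smul r3 hv

end Cfsg.Agent.Helper93.SubfL.SpSf
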