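import Cfsg.Agent.Lib.Helper93.SpSfE
import Cfsg.Agent.Lib.Helper93.SubfE

set_option autoImplicit false
set_option linter.unusedSectionVars false
set_option linter.unusedVariables false
set_option linter.unusedSimpArgs false

/-!
# Subfield subgroups of `Sp_n`: the maximality theorem
-/

namespace Cfsg.Agent.Helper93.SubfL.SpSf

open Matrix Cfsg.Geo Cfsg.Agent.Helper93

variable {ι : Type} [Fintype ι] [DecidableEq ι] {F : Type*} [Field F]
variable {F₀ : Subfield F} {f : (ι → F) → (ι → F) → F}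

/-- the subfield group in standard position is maximal in the isometry group of a rational
symplectic form -/
theorem sp_subfield_max_one [Fintype F] (hf : IsSymplecticForm f) (hrat : RatForm F₀ f)
    (h5 : 5 ≤ Fintype.card ι) {r : ℕ} (hr : r.Prime)
    (hcard : Fintype.card F = Nat.card F₀ ^ r) :
    IsMaximalIn (isomGroup f) (subfieldSubgroup F₀ (1 : GL ι F) ⊓ isomGroup f) := by
  refine ⟨?_, ?_⟩
  · refine lt_of_le_of_ne inf_le_right ?_
    intro heq
    obtain ⟨a, ha⟩ := exists_not_mem_subfield hr hcard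
    obtain ⟨w, hw, hw0⟩ := exists_rat_ne_zero (F₀ := F₀) (ι := ι) (by omega)
    have hmem : stv hf w a ∈ isomGroup f := (mem_isomGroup _).2 (stv_isom hf w a)
    rw [← heq] at hmem
    have hH := (Subgroup.mem_inf.1 hmem).1
    obtain ⟨lam, hlam, hl⟩ := mem_subfield_imp hH
    obtain ⟨p, hp, hwp⟩ := exists_partner hf hrat hw hw0
    obtain ⟨y, hy, hy'⟩ := hl w ((ratVec_one_iff _).2 hw)
    obtain ⟨z, hz, hz'⟩ := hl p ((ratVec_one_iff _).2 hp)
    rw [ratVec_one_iff] at hy hz
    rw [stv_apply, hf.alternating, mul_zero, zero_smul, add_zero] at hy'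
    have hpw : f p w = -1 := by rw [hf.skew, hwp]
    rw [stv_apply, hpw] at hz'
    obtain ⟨i, hi⟩ := Function.ne_iff.mp hw0
    have hi' : w i ≠ 0 := hi
    have h1 := congrFun hy' i
    rw [Pi.smul_apply, smul_eq_mul] at h1
    have hyi : y i ≠ 0 := by
      intro h
      rw [h, mul_zero] at h1
      exact hi' h1
    have hlamF : lam ∈ F₀ := by
      have : lam = w i * (y i)⁻¹ := by
        rw [h1, mul_assoc, mul_inv_cancel₀ hyi, mul_one]
      rw [this]
      exact F₀.mul_mem (hw i) (F₀.inv_mem (hy i))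
    have h3 := congrFun hz' i
    rw [Pi.add_apply, Pi.smul_apply, Pi.smul_apply, smul_eq_mul, smul_eq_mul] at h3
    apply ha
    have h4 : a * w i = p i - lam * z i := by linear_combination -h3
    have e : a = (p i - lam * z i) * (w i)⁻¹ := by
      rw [← h4, mul_assoc, mul_inv_cancel₀ hi', mul_one]
    rw [e]
    exact F₀.mul_mem (F₀.sub_mem (hp i) (F₀.mul_mem hlamF (hz i))) (F₀.inv_mem (hw i))
  · intro M' hHM hMG
    have C : Ctx hf F₀ M' := ⟨hrat, hHM, hMG⟩
    by_cases hN : NoBadS hf F₀ M'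
    · left
      exact le_antisymm (le_of_noBad C hN h5 hr hcard) hHM
    · right
      exact le_antisymm hMG (le_of_bad C hr hcard hN)

/-- twisting a symplectic form by a change of basis and a scalar -/
lemma twist_symplectic (hf : IsSymplecticForm f) {ζ : F} (hζ : ζ ≠ 0) (P : GL ι F) :
    IsSymplecticForm (fun u v : ι → F =>
      ζ * f ((P : Matrix ι ι F) *ᵥ u) ((P : Matrix ι ι F) *ᵥ v)) := by
  have hbl := hf.bilinear
  refine ⟨⟨?_, ?_, ?_, ?_⟩, ?_, ?_, ?_⟩
  · intro x y v
    beta_reduce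
    rw [Matrix.mulVec_add, hbl.add_left, mul_add]
  · intro c x v
    beta_reduce
    rw [Matrix.mulVec_smul, hbl.smul_left]
    ring
  · intro v x y
    beta_reduce
    rw [Matrix.mulVec_add, hbl.add_right, mul_add]
  · intro c v x
    beta_reduce
    rw [Matrix.mulVec_smul, hbl.smul_right]
    ring
  · intro v w
    beta_reduce
    rw [hf.skew, mul_neg]
  · intro v
    beta_reduce
    rw [hf.alternating, mul_zero]
  · intro v hv
    have hPv : (P : Matrix ι ι F) *ᵥ v ≠ 0 := by
      intro h0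
      apply hv
      have := gl_inv_apply_apply P v
      rw [← this, h0, Matrix.mulVec_zero]
    obtain ⟨⟨x, hx⟩, ⟨x', hx'⟩⟩ := hf.nondegenerate _ hPv
    refine ⟨⟨((P⁻¹ : GL ι F) : Matrix ι ι F) *ᵥ x, ?_⟩,
      ⟨((P⁻¹ : GL ι F) : Matrix ι ι F) *ᵥ x', ?_⟩⟩
    · beta_reduce
      rw [gl_apply_inv_apply]
      exact mul_ne_zero hζ hx
    · beta_reduce
      rw [gl_apply_inv_apply]
      exact mul_ne_zero hζ hx'

lemma isom_map_conj (ζ : F) (hζ : ζ ≠ 0) (P : GL ι F) :
    (isomGroup (fun u v : ι → F =>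
      ζ * f ((P : Matrix ι ι F) *ᵥ u) ((P : Matrix ι ι F) *ᵥ v))).map
      (MulAut.conj P).toMonoidHom = isomGroup f := by
  ext x
  rw [Subgroup.mem_map]
  constructor
  · rintro ⟨y, hy, rfl⟩
    rw [mem_isomGroup] at hy ⊢
    intro a b
    show f (((P * y * P⁻¹ : GL ι F) : Matrix ι ι F) *ᵥ a)
      (((P * y * P⁻¹ : GL ι F) : Matrix ι ι F) *ᵥ b) = f a b
    have h := hy (((P⁻¹ : GL ι F) : Matrix ι ι F) *ᵥ a) (((P⁻¹ : GL ι F) : Matrix ι ι F) *ᵥ b)
    beta_reduce at h
    rw [gl_apply_inv_apply, gl_apply_inv_apply] at h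
    rw [gl_mul_apply, gl_mul_apply, gl_mul_apply, gl_mul_apply]
    exact mul_left_cancel₀ hζ h
  · intro hx
    rw [mem_isomGroup] at hx
    refine ⟨P⁻¹ * x * P, ?_, ?_⟩
    · rw [mem_isomGroup]
      intro a b
      beta_reduce
      rw [gl_mul_apply, gl_mul_apply, gl_mul_apply, gl_mul_apply, gl_apply_inv_apply,
        gl_apply_inv_apply, hx ((P : Matrix ι ι F) *ᵥ a) ((P : Matrix ι ι F) *ᵥ b)]
    · show P * (P⁻¹ * x * P) * P⁻¹ = x
      group

/-- the subfield groups of a symplectic form are maximal in its isometry group -/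
theorem sp_subfield_max [Fintype F] (hf : IsSymplecticForm f) (h5 : 5 ≤ Fintype.card ι)
    {r : ℕ} (hr : r.Prime) (hcard : Fintype.card F = Nat.card F₀ ^ r) (P : GL ι F) {ζ : F}
    (hζ : ζ ≠ 0) (hP : IsFormRationalStructure f F₀ ζ P) :
    IsMaximalIn (isomGroup f) (subfieldSubgroup F₀ P ⊓ isomGroup f) := by
  have hf' := twist_symplectic hf hζ P
  have hrat' : RatForm F₀ (fun u v : ι → F =>
      ζ * f ((P : Matrix ι ι F) *ᵥ u) ((P : Matrix ι ι F) *ᵥ v)) :=
    fun u v hu hv => hP u v hu hv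
  have h := isMaximalIn_map (MulAut.conj P) (sp_subfield_max_one hf' hrat' h5 hr hcard)
  rw [Subgroup.map_inf _ _ _ (MulAut.conj P).injective, isom_map_conj ζ hζ P,
    ← subfield_conj] at h
  exact h

end Cfsg.Agent.Helper93.SubfL.SpSf
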