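import Cfsg.Agent.Lib.Helper93.SpDecomp

set_option autoImplicit false

namespace Cfsg.Agent.Helper93

open Matrix Cfsg.Geo

variable {ι : Type} [Fintype ι] [DecidableEq ι] {F : Type*} [Field F]
variable {f : (ι → F) → (ι → F) → F}

lemma vecMulVec_mulVec' (v φ x : ι → F) : vecMulVec v φ *ᵥ x = (φ ⬝ᵥ x) • v := by
  have := tvMat_mulVec φ v x
  unfold tvMat at this
  rw [Matrix.add_mulVec, Matrix.one_mulVec] at this
  exact add_left_cancel this

/-- matrix of `x ↦ x - f(x,q) p + f(x,p) q` -/
def involMat (f : (ι → F) → (ι → F) → F) (p q : ι → F) : Matrix ι ι F :=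
  1 - vecMulVec p (fvec f q) + vecMulVec q (fvec f p)

lemma involMat_mulVec (hb : IsBilinearForm f) (p q x : ι → F) :
    involMat f p q *ᵥ x = x - f x q • p + f x p • q := by
  unfold involMat
  rw [Matrix.add_mulVec, Matrix.sub_mulVec, Matrix.one_mulVec, vecMulVec_mulVec', vecMulVec_mulVec',
    fvec_dot hb, fvec_dot hb]

lemma involMat_sq (hf : IsSymplecticForm f) (p q : ι → F) (h2 : f p q = 2) :
    involMat f p q * involMat f p q = 1 := by
  have hb := hf.bilinear
  apply Matrix.mulVec_injective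
  funext x
  have e3 : f q p = -2 := by rw [hf.skew, h2]
  rw [← Matrix.mulVec_mulVec, involMat_mulVec hb, involMat_mulVec hb, Matrix.one_mulVec]
  simp only [form_sub_left hb, hb.add_left, hb.smul_left, hf.alternating, e3, h2]
  ext i
  simp only [Pi.add_apply, Pi.sub_apply, Pi.smul_apply, smul_eq_mul]
  ring

/-- the involution `x ↦ x - f(x,q) p + f(x,p) q` when `f(p,q)=2` -/
noncomputable def invol (hf : IsSymplecticForm f) (p q : ι → F) (h2 : f p q = 2) : GL ι F :=
  ⟨involMat f p q, involMat f p q, involMat_sq hf p q h2, involMat_sq hf p q h2⟩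

lemma invol_apply (hf : IsSymplecticForm f) (p q : ι → F) (h2 : f p q = 2) (x : ι → F) :
    ((invol hf p q h2 : GL ι F) : Matrix ι ι F) *ᵥ x = x - f x q • p + f x p • q :=
  involMat_mulVec hf.bilinear p q x

lemma invol_isom (hf : IsSymplecticForm f) (p q : ι → F) (h2 : f p q = 2) :
    Isom f (invol hf p q h2) := by
  have hb := hf.bilinear
  intro x y
  have e1 : f p y = - f y p := hf.skew p y
  have e2 : f q y = - f y q := hf.skew q y
  have e3 : f q p = -2 := by rw [hf.skew, h2]
  rw [invol_apply, invol_apply]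
  simp only [form_sub_left hb, hb.add_left, hb.smul_left, form_sub_right hb, hb.add_right,
    hb.smul_right, hf.alternating, e1, e2, e3, h2]
  ring

omit [Fintype ι] [DecidableEq ι] in
lemma range_pair (a b : ι → F) : Set.range ![a, b] = {a, b} := by
  ext z
  simp only [Set.mem_range, Fin.exists_fin_two, Set.mem_insert_iff, Set.mem_singleton_iff]
  constructor
  · rintro (h | h)
    · left; exact h.symm
    · right; exact h.symm
  · rintro (h | h)
    · left; exact h.symm
    · right; exact h.symm

/-- the part of `A` perpendicular to `e` and `e'` -/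
def cutSub (hb : IsBilinearForm f) (A : Submodule F (ι → F)) (e e' : ι → F) :
    Submodule F (ι → F) where
  carrier := {x | x ∈ A ∧ f x e = 0 ∧ f x e' = 0}
  add_mem' := by
    rintro a b ⟨ha, ha1, ha2⟩ ⟨hb', hb1, hb2⟩
    exact ⟨A.add_mem ha hb', by rw [hb.add_left, ha1, hb1, add_zero],
      by rw [hb.add_left, ha2, hb2, add_zero]⟩
  zero_mem' := ⟨A.zero_mem, form_zero_left hb _, form_zero_left hb _⟩
  smul_mem' := by
    rintro c a ⟨ha, ha1, ha2⟩
    exact ⟨A.smul_mem c ha, by rw [hb.smul_left, ha1, mul_zero],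
      by rw [hb.smul_left, ha2, mul_zero]⟩

lemma mem_cutSub (hb : IsBilinearForm f) (A : Submodule F (ι → F)) (e e' x : ι → F) :
    x ∈ cutSub hb A e e' ↔ x ∈ A ∧ f x e = 0 ∧ f x e' = 0 := Iff.rfl

lemma proj_mem_cutSub (hf : IsSymplecticForm f) (A : Submodule F (ι → F)) {e e' : ι → F}
    (he : e ∈ A) (he' : e' ∈ A) (hee' : f e e' = 1) {x : ι → F} (hx : x ∈ A) :
    x - f x e' • e + f x e • e' ∈ cutSub hf.bilinear A e e' := by
  have hb := hf.bilinear
  have he'e : f e' e = -1 := by rw [hf.skew, hee']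
  refine ⟨A.add_mem (A.sub_mem hx (A.smul_mem _ he)) (A.smul_mem _ he'), ?_, ?_⟩
  · rw [hb.add_left, form_sub_left hb, hb.smul_left, hb.smul_left, hf.alternating, he'e]
    ring
  · rw [hb.add_left, form_sub_left hb, hb.smul_left, hb.smul_left, hf.alternating, hee']
    ring

lemma cutSub_nondeg (hf : IsSymplecticForm f) (A : Submodule F (ι → F)) (hA : IsNondegenerateOn f A)
    {e e' : ι → F} (he : e ∈ A) (he' : e' ∈ A) (hee' : f e e' = 1) :
    IsNondegenerateOn f (cutSub hf.bilinear A e e') := by
  have hb := hf.bilinear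
  intro x hx hx0
  obtain ⟨hxA, hxe, hxe'⟩ := hx
  obtain ⟨⟨y, hyA, hyx⟩, _⟩ := hA x hxA hx0
  have hex : f e x = 0 := by rw [hf.skew, hxe, neg_zero]
  have he'x : f e' x = 0 := by rw [hf.skew, hxe', neg_zero]
  have hy' := proj_mem_cutSub hf A he he' hee' hyA
  have hval : f (y - f y e' • e + f y e • e') x = f y x := by
    rw [hb.add_left, form_sub_left hb, hb.smul_left, hb.smul_left, hex, he'x]
    ring
  refine ⟨⟨_, hy', ?_⟩, ⟨_, hy', ?_⟩⟩
  · rw [hval]; exact hyx
  · rw [hf.skew, hval]; exact neg_ne_zero.mpr hyx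

lemma finrank_cutSub (hf : IsSymplecticForm f) (A : Submodule F (ι → F))
    {e e' : ι → F} (he : e ∈ A) (he' : e' ∈ A) (hee' : f e e' = 1) :
    Module.finrank F (cutSub hf.bilinear A e e') + 2 = Module.finrank F A := by
  have hb := hf.bilinear
  have he'e : f e' e = -1 := by rw [hf.skew, hee']
  have hli : LinearIndependent F ![e, e'] := by
    rw [LinearIndependent.pair_iff]
    intro s t hst
    have h1 : f (s • e + t • e') e' = 0 := by rw [hst, form_zero_left hb]
    have h2 : f (s • e + t • e') e = 0 := by rw [hst, form_zero_left hb]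
    rw [hb.add_left, hb.smul_left, hb.smul_left, hf.alternating, hee', mul_one, mul_zero,
      add_zero] at h1
    rw [hb.add_left, hb.smul_left, hb.smul_left, hf.alternating, he'e, mul_zero, zero_add,
      mul_neg, mul_one, neg_eq_zero] at h2
    exact ⟨h1, h2⟩
  have hE2 := finrank_span_eq_card hli
  rw [Fintype.card_fin, range_pair] at hE2
  set E := Submodule.span F ({e, e'} : Set (ι → F)) with hE
  set A' := cutSub hb A e e' with hA'
  have hsup : E ⊔ A' = A := by
    apply le_antisymm
    · apply sup_le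
      · rw [hE, Submodule.span_le]
        intro z hz
        simp only [Set.mem_insert_iff, Set.mem_singleton_iff] at hz
        rcases hz with rfl | rfl
        · exact he
        · exact he'
      · intro x hx; exact hx.1
    · intro x hx
      have h1 := proj_mem_cutSub hf A he he' hee' hx
      have h2 : f x e' • e - f x e • e' ∈ E := by
        apply Submodule.sub_mem
        · exact Submodule.smul_mem _ _ (Submodule.subset_span (by simp))
        · exact Submodule.smul_mem _ _ (Submodule.subset_span (by simp))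
      have h3 : x = (f x e' • e - f x e • e') + (x - f x e' • e + f x e • e') := by abel
      rw [h3]
      exact Submodule.add_mem_sup h2 h1
  have hinf : E ⊓ A' = ⊥ := by
    rw [eq_bot_iff]
    rintro x ⟨hxE, _, hxe, hxe'⟩
    rw [hE] at hxE
    obtain ⟨s, t, rfl⟩ := Submodule.mem_span_pair.1 hxE
    rw [hb.add_left, hb.smul_left, hb.smul_left, hf.alternating, he'e, mul_zero, zero_add,
      mul_neg, mul_one, neg_eq_zero] at hxe
    rw [hb.add_left, hb.smul_left, hb.smul_left, hf.alternating, hee', mul_one, mul_zero,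
      add_zero] at hxe'
    rw [hxe, hxe', zero_smul, zero_smul, add_zero]
    exact Submodule.zero_mem _
  have h := Submodule.finrank_sup_add_finrank_inf_eq E A'
  rw [hsup, hinf, finrank_bot, hE2] at h
  omega

lemma exists_hyp_pair (hf : IsSymplecticForm f) (A : Submodule F (ι → F))
    (hA : IsNondegenerateOn f A) (hA0 : A ≠ ⊥) : ∃ e ∈ A, ∃ e' ∈ A, f e e' = 1 := by
  obtain ⟨e, heA, he0⟩ := Submodule.exists_mem_ne_zero_of_ne_bot hA0
  obtain ⟨_, ⟨e0, he0A, he0'⟩⟩ := hA e heA he0
  refine ⟨e, heA, (f e e0)⁻¹ • e0, A.smul_mem _ he0A, ?_⟩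
  rw [hf.bilinear.smul_right, inv_mul_cancel₀ he0']

/-- an isometry swapping two perpendicular non-degenerate subspaces of the same dimension -/
theorem sp_exists_swap (hf : IsSymplecticForm f) :
    ∀ n : ℕ, ∀ A B : Submodule F (ι → F), IsNondegenerateOn f A → IsNondegenerateOn f B →
      (∀ a ∈ A, ∀ b ∈ B, f a b = 0) → Module.finrank F A = n → Module.finrank F B = n →
      ∃ h : GL ι F, Isom f h ∧ (∀ x ∈ A, (h : Matrix ι ι F) *ᵥ x ∈ B) ∧
        (∀ x ∈ B, (h : Matrix ι ι F) *ᵥ x ∈ A) ∧
        (∀ x, (∀ a ∈ A, f a x = 0) → (∀ b ∈ B, f b x = 0) → (h : Matrix ι ι F) *ᵥ x = x) := by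
  have hb := hf.bilinear
  intro n
  induction n using Nat.strong_induction_on with
  | _ n ih =>
    intro A B hA hB hAB hnA hnB
    by_cases hA0 : A = ⊥
    · have hn0 : n = 0 := by rw [← hnA, hA0, finrank_bot]
      have hB0 : B = ⊥ := by rw [← Submodule.finrank_eq_zero, hnB, hn0]
      refine ⟨1, Isom.one, ?_, ?_, ?_⟩
      · intro x hx
        rw [gl_one_apply]
        rw [hA0] at hx
        rw [(Submodule.mem_bot F).1 hx]
        exact B.zero_mem
      · intro x hx
        rw [gl_one_apply]
        rw [hB0] at hx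
        rw [(Submodule.mem_bot F).1 hx]
        exact A.zero_mem
      · intro x _ _
        exact gl_one_apply x
    · have hB0 : B ≠ ⊥ := by
        intro h
        apply hA0
        rw [← Submodule.finrank_eq_zero, hnA, ← hnB, h, finrank_bot]
      obtain ⟨e, heA, e', he'A, hee'⟩ := exists_hyp_pair hf A hA hA0
      obtain ⟨d, hdB, d', hd'B, hdd'⟩ := exists_hyp_pair hf B hB hB0
      have hBA : ∀ b ∈ B, ∀ a ∈ A, f b a = 0 := by
        intro b hb' a ha
        rw [hf.skew, hAB a ha b hb', neg_zero]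
      have hpq : f (e - d) (e' - d') = 2 := by
        rw [form_sub_left hb, form_sub_right hb, form_sub_right hb, hee', hdd', hAB e heA d' hd'B,
          hBA d hdB e' he'A]
        ring
      set s := invol hf (e - d) (e' - d') hpq with hs
      have hfA := finrank_cutSub hf A heA he'A hee'
      have hfB := finrank_cutSub hf B hdB hd'B hdd'
      have hA'B' : ∀ a ∈ cutSub hb A e e', ∀ b ∈ cutSub hb B d d', f a b = 0 :=
        fun a ha b hb' => hAB a ha.1 b hb'.1
      obtain ⟨h', hh'I, hh'A, hh'B, hh'fix⟩ := ih (n - 2) (by omega) (cutSub hb A e e')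
        (cutSub hb B d d') (cutSub_nondeg hf A hA heA he'A hee')
        (cutSub_nondeg hf B hB hdB hd'B hdd') hA'B' (by omega) (by omega)
      -- fixed vectors of h'
      have hfix_d : (h' : Matrix ι ι F) *ᵥ d = d :=
        hh'fix d (fun a ha => hAB a ha.1 d hdB) (fun b hb' => hb'.2.1)
      have hfix_d' : (h' : Matrix ι ι F) *ᵥ d' = d' :=
        hh'fix d' (fun a ha => hAB a ha.1 d' hd'B) (fun b hb' => hb'.2.2)
      have hfix_e : (h' : Matrix ι ι F) *ᵥ e = e :=
        hh'fix e (fun a ha => ha.2.1) (fun b hb' => hBA b hb'.1 e heA)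
      have hfix_e' : (h' : Matrix ι ι F) *ᵥ e' = e' :=
        hh'fix e' (fun a ha => ha.2.2) (fun b hb' => hBA b hb'.1 e' he'A)
      refine ⟨h' * s, hh'I.mul (invol_isom hf _ _ hpq), ?_, ?_, ?_⟩
      · intro x hx
        have h1 : ((s : GL ι F) : Matrix ι ι F) *ᵥ x
            = (x - f x e' • e + f x e • e') + f x e' • d - f x e • d' := by
          rw [hs, invol_apply, form_sub_right hb, form_sub_right hb, hAB x hx d' hd'B,
            hAB x hx d hdB, sub_zero, sub_zero, smul_sub, smul_sub]
          abel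
        rw [gl_mul_apply, h1, Matrix.mulVec_sub, Matrix.mulVec_add, Matrix.mulVec_smul,
          Matrix.mulVec_smul, hfix_d, hfix_d']
        exact B.sub_mem (B.add_mem (hh'A _ (proj_mem_cutSub hf A heA he'A hee' hx)).1
          (B.smul_mem _ hdB)) (B.smul_mem _ hd'B)
      · intro x hx
        have h1 : ((s : GL ι F) : Matrix ι ι F) *ᵥ x
            = (x - f x d' • d + f x d • d') + f x d' • e - f x d • e' := by
          rw [hs, invol_apply, form_sub_right hb, form_sub_right hb, hBA x hx e' he'A,
            hBA x hx e heA, zero_sub, zero_sub, smul_sub, smul_sub]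
          simp only [neg_smul]
          abel
        rw [gl_mul_apply, h1, Matrix.mulVec_sub, Matrix.mulVec_add, Matrix.mulVec_smul,
          Matrix.mulVec_smul, hfix_e, hfix_e']
        exact A.sub_mem (A.add_mem (hh'B _ (proj_mem_cutSub hf B hdB hd'B hdd' hx)).1
          (A.smul_mem _ heA)) (A.smul_mem _ he'A)
      · intro x hxA hxB
        have hxe : f x e = 0 := by rw [hf.skew, hxA e heA, neg_zero]
        have hxe' : f x e' = 0 := by rw [hf.skew, hxA e' he'A, neg_zero]
        have hxd : f x d = 0 := by rw [hf.skew, hxB d hdB, neg_zero]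
        have hxd' : f x d' = 0 := by rw [hf.skew, hxB d' hd'B, neg_zero]
        have h1 : ((s : GL ι F) : Matrix ι ι F) *ᵥ x = x := by
          rw [hs, invol_apply, form_sub_right hb, form_sub_right hb, hxe, hxe', hxd, hxd', sub_zero,
            zero_smul, zero_smul, sub_zero, add_zero]
        rw [gl_mul_apply, h1]
        exact hh'fix x (fun a ha => hxA a ha.1) (fun b hb' => hxB b hb'.1)

lemma map_eq_of_le_of_finrank (g : GL ι F) (S T : Submodule F (ι → F))
    (h : ∀ x ∈ S, (g : Matrix ι ι F) *ᵥ x ∈ T) (hfin : Module.finrank F S = Module.finrank F T) :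
    S.map (Matrix.toLin' (g : Matrix ι ι F)) = T := by
  have hinj : Function.Injective (Matrix.toLin' (g : Matrix ι ι F)) := by
    intro x y hxy
    rw [Matrix.toLin'_apply, Matrix.toLin'_apply] at hxy
    have := congrArg (fun z => ((g⁻¹ : GL ι F) : Matrix ι ι F) *ᵥ z) hxy
    simpa only [gl_inv_apply_apply] using this
  have hle : S.map (Matrix.toLin' (g : Matrix ι ι F)) ≤ T := by
    rintro _ ⟨x, hx, rfl⟩
    rw [Matrix.toLin'_apply]
    exact h x hx
  have h6 : Module.finrank F S = Module.finrank F (S.map (Matrix.toLin' (g : Matrix ι ι F))) :=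
    (Submodule.equivMapOfInjective _ hinj S).finrank_eq
  exact Submodule.eq_of_le_of_finrank_eq hle (by rw [← h6, hfin])

section decomp

variable {t k : ℕ} {D : Fin t → Submodule F (ι → F)}

/-- block swaps lie in the decomposition stabiliser -/
theorem exists_block_swap (hf : IsSymplecticForm f) (hD : IsNondegenerateMDecomposition f k D)
    (i j : Fin t) (hij : i ≠ j) :
    ∃ h : GL ι F, Isom f h ∧ h ∈ decompositionStabilizer D ∧
      (∀ x ∈ D i, (h : Matrix ι ι F) *ᵥ x ∈ D j) ∧ (∀ x ∈ D j, (h : Matrix ι ι F) *ᵥ x ∈ D i) ∧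
      (∀ l, l ≠ i → l ≠ j → ∀ x ∈ D l, (h : Matrix ι ι F) *ᵥ x = x) := by
  obtain ⟨h, hI, hA, hB, hfix⟩ := sp_exists_swap hf k (D i) (D j) (hD.nondegenerate i)
    (hD.nondegenerate j) (hD.orthogonal i j hij) (hD.decomp.finrank_eq i) (hD.decomp.finrank_eq j)
  have hfix' : ∀ l, l ≠ i → l ≠ j → ∀ x ∈ D l, (h : Matrix ι ι F) *ᵥ x = x := by
    intro l hli hlj x hx
    exact hfix x (fun a ha => hD.orthogonal i l (Ne.symm hli) a ha x hx)
      (fun b hb' => hD.orthogonal j l (Ne.symm hlj) b hb' x hx)
  refine ⟨h, hI, ⟨Equiv.swap i j, fun l => ?_⟩, hA, hB, hfix'⟩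
  by_cases hli : l = i
  · subst hli
    rw [Equiv.swap_apply_left]
    exact map_eq_of_le_of_finrank h _ _ hA
      ((hD.decomp.finrank_eq l).trans (hD.decomp.finrank_eq j).symm)
  · by_cases hlj : l = j
    · subst hlj
      rw [Equiv.swap_apply_right]
      exact map_eq_of_le_of_finrank h _ _ hB
        ((hD.decomp.finrank_eq l).trans (hD.decomp.finrank_eq i).symm)
    · rw [Equiv.swap_apply_of_ne_of_ne hli hlj]
      apply map_eq_of_le_of_finrank h _ _ _ rfl
      intro x hx
      rw [hfix' l hli hlj x hx]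
      exact hx

end decomp

end Cfsg.Agent.Helper93
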