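import Cfsg.Agent.Lib.Helper93.SpSwap
import Cfsg.Agent.Lib.Helper93.SpOQ

set_option autoImplicit false

namespace Cfsg.Agent.Helper93

open Matrix Cfsg.Geo

variable {ι : Type} [Fintype ι] [DecidableEq ι] {F : Type*} [Field F]
variable {f : (ι → F) → (ι → F) → F}
variable {t k : ℕ} {D : Fin t → Submodule F (ι → F)}

/-- inside a block, a second vector perpendicular to a given one -/
lemma exists_perp_other [Fintype F] (hf : IsSymplecticForm f)
    (hD : IsNondegenerateMDecomposition f k D) (hex : ¬ (k = 2 ∧ Fintype.card F = 2))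
    (j : Fin t) {b : ι → F} (hbj : b ∈ D j) (hb0 : b ≠ 0) :
    ∃ b' ∈ D j, b' ≠ 0 ∧ b' ≠ b ∧ f b b' = 0 := by
  have hb := hf.bilinear
  by_cases hq : ∃ s : F, s ≠ 0 ∧ s ≠ 1
  · obtain ⟨s, hs0, hs1⟩ := hq
    refine ⟨s • b, (D j).smul_mem s hbj, smul_ne_zero hs0 hb0, ?_, ?_⟩
    · intro h
      have : (s - 1) • b = 0 := by rw [sub_smul, one_smul, h, sub_self]
      rcases smul_eq_zero.1 this with h1 | h1
      · exact hs1 (sub_eq_zero.1 h1)
      · exact hb0 h1
    · rw [hb.smul_right, hf.alternating, mul_zero]
  · have hq' : ∀ s : F, s ≠ 0 → s = 1 := by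
      intro s hs
      by_contra h1
      exact hq ⟨s, hs, h1⟩
    have hcard : Fintype.card F = 2 := by
      classical
      have h1 : (Finset.univ : Finset F) ⊆ {0, 1} := by
        intro s _
        by_cases hs : s = 0
        · simp [hs]
        · simp [hq' s hs]
      have h2 := Finset.card_le_card h1
      have h3 : ({0, 1} : Finset F).card ≤ 2 := Finset.card_le_two
      have h4 : 1 < Fintype.card F := Fintype.one_lt_card
      rw [Finset.card_univ] at h2
      omega
    have hk2 : k ≠ 2 := fun h => hex ⟨h, hcard⟩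
    obtain ⟨_, ⟨y, hyj, hby⟩⟩ := hD.nondegenerate j b hbj hb0
    have hli : LinearIndependent F ![b, y] := by
      rw [LinearIndependent.pair_iff]
      intro s t' hst
      have h1 : f b (s • b + t' • y) = 0 := by rw [hst, form_zero_right hb]
      rw [hb.add_right, hb.smul_right, hb.smul_right, hf.alternating, mul_zero, zero_add] at h1
      have ht : t' = 0 := by
        rcases mul_eq_zero.1 h1 with h | h
        · exact h
        · exact absurd h hby
      rw [ht, zero_smul, add_zero] at hst
      rcases smul_eq_zero.1 hst with h | h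
      · exact ⟨h, ht⟩
      · exact absurd h hb0
    have hk2' : 2 ≤ k := by
      have h1 := finrank_span_eq_card hli
      rw [Fintype.card_fin, range_pair] at h1
      have h2 : Submodule.span F {b, y} ≤ D j := by
        rw [Submodule.span_le]
        intro z hz
        simp only [Set.mem_insert_iff, Set.mem_singleton_iff] at hz
        rcases hz with rfl | rfl
        · exact hbj
        · exact hyj
      have h3 := Submodule.finrank_mono h2
      rw [h1, hD.decomp.finrank_eq] at h3
      exact h3
    have hk3 : 3 ≤ k := by omega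
    have hfinSb : Module.finrank F (Submodule.span F ({b} : Set (ι → F))) = 1 :=
      finrank_span_singleton hb0
    have hfinP : Module.finrank F (perpSub hb (Submodule.span F ({b} : Set (ι → F))))
        = Fintype.card ι - 1 := by
      rw [finrank_perpSub hf, hfinSb]
    have h1 := Submodule.finrank_sup_add_finrank_inf_eq (D j)
      (perpSub hb (Submodule.span F ({b} : Set (ι → F))))
    have h2 : Module.finrank F ↥(D j ⊔ perpSub hb (Submodule.span F ({b} : Set (ι → F))))
        ≤ Fintype.card ι := by
      have := Submodule.finrank_le (D j ⊔ perpSub hb (Submodule.span F ({b} : Set (ι → F))))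
      rwa [Module.finrank_fintype_fun_eq_card] at this
    have hKfin : 2 ≤ Module.finrank F
        ↥(D j ⊓ perpSub hb (Submodule.span F ({b} : Set (ι → F)))) := by
      rw [hD.decomp.finrank_eq, hfinP] at h1
      omega
    have hnle : ¬ (D j ⊓ perpSub hb (Submodule.span F ({b} : Set (ι → F)))
        ≤ Submodule.span F ({b} : Set (ι → F))) := by
      intro hle
      have := Submodule.finrank_mono hle
      omega
    obtain ⟨b', hb'K, hb'S⟩ := SetLike.not_le_iff_exists.1 hnle
    refine ⟨b', hb'K.1, ?_, ?_, ?_⟩
    · intro h; apply hb'S; rw [h]; exact Submodule.zero_mem _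
    · intro h; apply hb'S; rw [h]; exact Submodule.subset_span (Set.mem_singleton b)
    · exact hb'K.2 b (Submodule.subset_span (Set.mem_singleton b))

theorem wr_max [Fintype F] (hf : IsSymplecticForm f) (hD : IsNondegenerateMDecomposition f k D)
    (hex : ¬ (k = 2 ∧ Fintype.card F = 2)) (I : Subgroup (GL ι F)) (hI : ∀ g, g ∈ I ↔ Isom f g) :
    IsMaximalIn I (decompositionStabilizer D ⊓ I) := by
  have hb := hf.bilinear
  have ht2 := hD.decomp.two_le
  obtain ⟨i0, i1, h01⟩ : ∃ i0 i1 : Fin t, i0 ≠ i1 :=
    ⟨⟨0, by omega⟩, ⟨1, by omega⟩, by simp [Fin.ext_iff]⟩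
  have hnot_block : ∀ (x : ι → F) (l1 l2 : Fin t), l1 ≠ l2 → cmp hf hD l1 x ≠ 0 →
      cmp hf hD l2 x ≠ 0 → ∀ j, x ∉ D j := by
    intro x l1 l2 h12 h1 h2 j hxj
    by_cases hj : l1 = j
    · have : l2 ≠ j := by rw [← hj]; exact Ne.symm h12
      exact h2 (cmp_of_mem_ne hf hD this hxj)
    · exact h1 (cmp_of_mem_ne hf hD hj hxj)
  constructor
  · refine SetLike.lt_iff_le_and_exists.2 ⟨inf_le_right, ?_⟩
    obtain ⟨a0, ha0, ha0ne⟩ := Submodule.exists_mem_ne_zero_of_ne_bot (block_ne_bot hD i0)
    obtain ⟨a1, ha1, ha1ne⟩ := Submodule.exists_mem_ne_zero_of_ne_bot (block_ne_bot hD i1)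
    obtain ⟨⟨b0, hb0, hb0a0⟩, _⟩ := hD.nondegenerate i0 a0 ha0 ha0ne
    have hb0a1 : f b0 a1 = 0 := hD.orthogonal i0 i1 h01 b0 hb0 a1 ha1
    refine ⟨stv hf (a0 + a1) 1, (hI _).2 (stv_isom hf _ 1), ?_⟩
    rintro ⟨⟨σ, hσ⟩, _⟩
    have hmem : ((stv hf (a0 + a1) 1 : GL ι F) : Matrix ι ι F) *ᵥ b0 ∈ D (σ i0) := by
      rw [← hσ i0]; exact ⟨b0, hb0, Matrix.toLin'_apply _ _⟩
    rw [stv_apply, one_mul, hb.add_right, hb0a1, add_zero] at hmem
    refine hnot_block _ i0 i1 h01 ?_ ?_ _ hmem
    · rw [cmp_add, cmp_smul, cmp_add, cmp_of_mem hf hD hb0, cmp_of_mem hf hD ha0,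
        cmp_of_mem_ne hf hD h01 ha1, add_zero]
      intro h
      apply hb0a0
      have h' : b0 = -(f b0 a0 • a0) := eq_neg_of_add_eq_zero_left h
      have h'' : f b0 a0 = f (-(f b0 a0 • a0)) a0 := congrArg (fun z => f z a0) h'
      rw [form_neg_left hb, hb.smul_left, hf.alternating, mul_zero, neg_zero] at h''
      exact h''
    · rw [cmp_add, cmp_smul, cmp_add, cmp_of_mem_ne hf hD (Ne.symm h01) hb0,
        cmp_of_mem_ne hf hD (Ne.symm h01) ha0, cmp_of_mem hf hD ha1, zero_add, zero_add]
      exact smul_ne_zero hb0a0 ha1ne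
  · intro M hNM hMI
    by_cases hMN : M ≤ decompositionStabilizer D ⊓ I
    · left; exact le_antisymm hMN hNM
    · right
      apply le_antisymm hMI
      obtain ⟨g, hgM, hgN⟩ := SetLike.not_le_iff_exists.1 hMN
      have hgI : Isom f g := (hI g).1 (hMI hgM)
      have hgS : g ∉ decompositionStabilizer D := fun h => hgN ⟨h, hMI hgM⟩
      have hCD : ∀ i, ∀ u ∈ D i, Ctr hf M u := fun i u hu c =>
        hNM ⟨stv_mem_decompStab hf hD hu c, (hI _).2 (stv_isom hf u c)⟩
      have hmove : ∀ (a : ι → F) (i : Fin t) (b : ι → F), Ctr hf M a → cmp hf hD i a ≠ 0 →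
          b ∈ D i → cmp hf hD i a + b ≠ 0 → Ctr hf M (a + b) := by
        intro a i b ha hai hbi hne
        have hcl : ∀ a' b', Ctr hf M a' → b' ∈ D i → f a' b' ≠ 0 → Ctr hf M (a' + b') :=
          fun a' b' ha' hb' hab => ha'.add hf (hCD i b' hb') hab
        have hr : ∀ y ∈ D i, f (a - cmp hf hD i a) y = 0 := by
          intro y hy
          rw [form_sub_left hb, cmp_spec' hf hD i a y hy, sub_self]
        have h1 := connect hf (D i) (hD.nondegenerate i) (Ctr hf M) hcl (a - cmp hf hD i a) hr
          (cmp_mem hf hD i a) hai ((D i).add_mem (cmp_mem hf hD i a) hbi) hne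
          (by rw [add_sub_cancel]; exact ha)
        have e : cmp hf hD i a + b + (a - cmp hf hD i a) = a + b := by abel
        rwa [e] at h1
      have hgne : ∀ x : ι → F, x ≠ 0 → (g : Matrix ι ι F) *ᵥ x ≠ 0 := by
        intro x hx h
        apply hx
        have := gl_inv_apply_apply g x
        rw [h, Matrix.mulVec_zero] at this
        exact this.symm
      have hB2 : ∃ u0, Ctr hf M u0 ∧ ∀ j, u0 ∉ D j := by
        by_contra hcon
        have hall : ∀ u, Ctr hf M u → ∃ j, u ∈ D j := by
          intro u hu
          by_contra h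
          exact hcon ⟨u, hu, fun j hj => h ⟨j, hj⟩⟩
        have hsig : ∀ i, ∃ j, ∀ x ∈ D i, (g : Matrix ι ι F) *ᵥ x ∈ D j := by
          intro i
          obtain ⟨xi, hxi, hxi0⟩ := Submodule.exists_mem_ne_zero_of_ne_bot (block_ne_bot hD i)
          obtain ⟨ji, hji⟩ := hall _ ((hCD i xi hxi).conj hf g hgM hgI)
          have hgxi0 := hgne xi hxi0
          refine ⟨ji, fun x hx => ?_⟩
          obtain ⟨j, hj⟩ := hall _ ((hCD i x hx).conj hf g hgM hgI)
          by_cases hjj : j = ji
          · rw [← hjj]; exact hj
          · by_cases hgx0 : (g : Matrix ι ι F) *ᵥ x = 0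
            · rw [hgx0]; exact (D ji).zero_mem
            · exfalso
              obtain ⟨j', hj'⟩ :=
                hall _ ((hCD i (x + xi) ((D i).add_mem hx hxi)).conj hf g hgM hgI)
              rw [Matrix.mulVec_add] at hj'
              refine hnot_block _ j ji hjj ?_ ?_ j' hj'
              · rw [cmp_add, cmp_of_mem hf hD hj, cmp_of_mem_ne hf hD hjj hji, add_zero]
                exact hgx0
              · rw [cmp_add, cmp_of_mem_ne hf hD (Ne.symm hjj) hj, cmp_of_mem hf hD hji, zero_add]
                exact hgxi0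
        choose σ hσ using hsig
        have hσinj : Function.Injective σ := by
          intro i i' hii
          by_contra hne
          obtain ⟨xi, hxi, hxi0⟩ := Submodule.exists_mem_ne_zero_of_ne_bot (block_ne_bot hD i)
          have hmap' : (D i').map (Matrix.toLin' (g : Matrix ι ι F)) = D (σ i') :=
            map_eq_of_le_of_finrank g _ _ (hσ i')
              ((hD.decomp.finrank_eq i').trans (hD.decomp.finrank_eq _).symm)
          have h1 : (g : Matrix ι ι F) *ᵥ xi ∈ D (σ i') := by rw [← hii]; exact hσ i xi hxi
          rw [← hmap'] at h1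
          obtain ⟨x', hx', hx'eq⟩ := h1
          rw [Matrix.toLin'_apply] at hx'eq
          have hxx : x' = xi := by
            have := congrArg (fun z => ((g⁻¹ : GL ι F) : Matrix ι ι F) *ᵥ z) hx'eq
            simpa only [gl_inv_apply_apply] using this
          rw [hxx] at hx'
          have : cmp hf hD i xi = 0 := cmp_of_mem_ne hf hD hne hx'
          rw [cmp_of_mem hf hD hxi] at this
          exact hxi0 this
        apply hgS
        refine ⟨Equiv.ofBijective σ (Finite.injective_iff_bijective.1 hσinj), fun i => ?_⟩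
        rw [Equiv.ofBijective_apply]
        exact map_eq_of_le_of_finrank g _ _ (hσ i)
          ((hD.decomp.finrank_eq i).trans (hD.decomp.finrank_eq _).symm)
      obtain ⟨u0, hu0, hu0nb⟩ := hB2
      have hex2 : ∃ i j, i ≠ j ∧ cmp hf hD i u0 ≠ 0 ∧ cmp hf hD j u0 ≠ 0 := by
        by_contra hcon
        have hu0ne : u0 ≠ 0 := fun h => hu0nb i0 (by rw [h]; exact (D i0).zero_mem)
        have hex1 : ∃ i, cmp hf hD i u0 ≠ 0 := by
          by_contra hall0
          apply hu0ne
          calc u0 = ∑ i, cmp hf hD i u0 := (sum_cmp hf hD u0).symm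
            _ = 0 := by
              apply Finset.sum_eq_zero
              intro i _
              by_contra h
              exact hall0 ⟨i, h⟩
        obtain ⟨i, hi⟩ := hex1
        apply hu0nb i
        have hsum := sum_cmp hf hD u0
        rw [Finset.sum_eq_single i] at hsum
        · rw [← hsum]; exact cmp_mem hf hD i u0
        · intro j _ hji
          by_contra h
          exact hcon ⟨i, j, Ne.symm hji, hi, h⟩
        · intro h; exact absurd (Finset.mem_univ i) h
      obtain ⟨i, j, hij, hiu, hju⟩ := hex2
      -- from one centre with two non-zero components (and nothing else) to the whole of D i + D j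
      have hW2_of : ∀ i j : Fin t, i ≠ j → ∀ α0 ∈ D i, ∀ β0 ∈ D j, α0 ≠ 0 → β0 ≠ 0 →
          Ctr hf M (α0 + β0) → ∀ α ∈ D i, ∀ β ∈ D j, Ctr hf M (α + β) := by
        intro i j hij α0 hα0 β0 hβ0 hα0ne hβ0ne hc α hα β hβ
        by_cases hα' : α = 0
        · rw [hα', zero_add]; exact hCD j β hβ
        by_cases hβ' : β = 0
        · rw [hβ', add_zero]; exact hCD i α hα
        have hci : cmp hf hD i (α0 + β0) = α0 := by
          rw [cmp_add, cmp_of_mem hf hD hα0, cmp_of_mem_ne hf hD hij hβ0, add_zero]
        have h1 : Ctr hf M (α0 + β0 + (α - α0)) :=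
          hmove _ i (α - α0) hc (by rw [hci]; exact hα0ne) ((D i).sub_mem hα hα0)
            (by rw [hci, add_sub_cancel]; exact hα')
        have e1 : α0 + β0 + (α - α0) = α + β0 := by abel
        rw [e1] at h1
        have hcj : cmp hf hD j (α + β0) = β0 := by
          rw [cmp_add, cmp_of_mem_ne hf hD (Ne.symm hij) hα, cmp_of_mem hf hD hβ0, zero_add]
        have h2 : Ctr hf M (α + β0 + (β - β0)) :=
          hmove _ j (β - β0) h1 (by rw [hcj]; exact hβ0ne) ((D j).sub_mem hβ hβ0)
            (by rw [hcj, add_sub_cancel]; exact hβ')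
        have e2 : α + β0 + (β - β0) = α + β := by abel
        rwa [e2] at h2
      have hW2ij : ∀ α ∈ D i, ∀ β ∈ D j, Ctr hf M (α + β) := by
        obtain ⟨a, haeq⟩ : ∃ a, cmp hf hD i u0 = a := ⟨_, rfl⟩
        obtain ⟨b, hbeq⟩ : ∃ b, cmp hf hD j u0 = b := ⟨_, rfl⟩
        have haD : a ∈ D i := by rw [← haeq]; exact cmp_mem hf hD i u0
        have hbD : b ∈ D j := by rw [← hbeq]; exact cmp_mem hf hD j u0
        rw [haeq] at hiu
        rw [hbeq] at hju
        obtain ⟨_, ⟨a', ha'i, haa'⟩⟩ := hD.nondegenerate i a haD hiu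
        obtain ⟨b', hb'j, hb'0, hb'b, hbb'⟩ := exists_perp_other hf hD hex j hbD hju
        have ha'0 : a' ≠ 0 := by rintro rfl; exact haa' (form_zero_right hb _)
        have h1 : Ctr hf M (u0 + (a' - a)) :=
          hmove u0 i (a' - a) hu0 (by rw [haeq]; exact hiu) ((D i).sub_mem ha'i haD)
            (by rw [haeq, add_sub_cancel]; exact ha'0)
        have hcj : cmp hf hD j (u0 + (a' - a)) = b := by
          rw [cmp_add, cmp_of_mem_ne hf hD (Ne.symm hij) ((D i).sub_mem ha'i haD), add_zero, hbeq]
        have h2 : Ctr hf M (u0 + (a' - a) + (b' - b)) :=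
          hmove _ j (b' - b) h1 (by rw [hcj]; exact hju) ((D j).sub_mem hb'j hbD)
            (by rw [hcj, add_sub_cancel]; exact hb'0)
        have hpair : f u0 (u0 + (a' - a) + (b' - b)) ≠ 0 := by
          rw [hb.add_right, hb.add_right, hf.alternating, zero_add,
            ← cmp_spec' hf hD i u0 _ ((D i).sub_mem ha'i haD),
            ← cmp_spec' hf hD j u0 _ ((D j).sub_mem hb'j hbD), haeq, hbeq,
            form_sub_right hb, form_sub_right hb, hf.alternating, hf.alternating, sub_zero,
            sub_zero, hbb', add_zero]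
          exact haa'
        have h3 := hu0.add_smul hf h2 hpair (-1)
        have e : u0 + (-1 : F) • (u0 + (a' - a) + (b' - b)) = (a - a') + (b - b') := by
          rw [neg_one_smul]; abel
        rw [e] at h3
        have hne1 : a - a' ≠ 0 := by
          intro h
          apply haa'
          rw [← sub_eq_zero.1 h, hf.alternating]
        have hne2 : b - b' ≠ 0 := fun h => hb'b (sub_eq_zero.1 h).symm
        exact hW2_of i j hij (a - a') ((D i).sub_mem haD ha'i) (b - b') ((D j).sub_mem hbD hb'j)
          hne1 hne2 h3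
      -- block transitivity
      have hW2_trans : ∀ x y z : Fin t, x ≠ y → z ≠ x → z ≠ y →
          (∀ α ∈ D x, ∀ β ∈ D y, Ctr hf M (α + β)) → ∀ α ∈ D x, ∀ β ∈ D z, Ctr hf M (α + β) := by
        intro x y z hxy hzx hzy hW α hα β' hβ'
        obtain ⟨h, hhI, hhS, hhA, hhB, hhfix⟩ := exists_block_swap hf hD y z (Ne.symm hzy)
        have hhM : h ∈ M := hNM ⟨hhS, (hI h).2 hhI⟩
        have h1 := hW α hα _ (hhB β' hβ')
        have h2 := h1.conj hf h⁻¹ (M.inv_mem hhM) hhI.inv
        have hα' : ((h⁻¹ : GL ι F) : Matrix ι ι F) *ᵥ α = α := by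
          have := gl_inv_apply_apply h α
          rw [hhfix x hxy (Ne.symm hzx) α hα] at this
          exact this
        rw [Matrix.mulVec_add, hα', gl_inv_apply_apply] at h2
        exact h2
      have hW2_sym : ∀ x y : Fin t, (∀ α ∈ D x, ∀ β ∈ D y, Ctr hf M (α + β)) →
          ∀ α ∈ D y, ∀ β ∈ D x, Ctr hf M (α + β) := by
        intro x y hW α hα β hβ
        rw [add_comm]; exact hW β hβ α hα
      have hstep1 : ∀ x y z : Fin t, x ≠ y → (∀ α ∈ D x, ∀ β ∈ D y, Ctr hf M (α + β)) → z ≠ x →
          ∀ α ∈ D x, ∀ β ∈ D z, Ctr hf M (α + β) := by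
        intro x y z hxy hW hzx
        by_cases hzy : z = y
        · rw [hzy]; exact hW
        · exact hW2_trans x y z hxy hzx hzy hW
      have hW2all : ∀ i' j' : Fin t, i' ≠ j' → ∀ α ∈ D i', ∀ β ∈ D j', Ctr hf M (α + β) := by
        intro i' j' hij'
        by_cases hj'i : j' = i
        · have h1 := hstep1 i j i' hij hW2ij (by rw [← hj'i]; exact hij')
          have h2 := hW2_sym i i' h1
          rw [hj'i]; exact h2
        · have h1 := hstep1 i j j' hij hW2ij hj'i
          have h2 := hW2_sym i j' h1
          have h3 := hstep1 j' i i' hj'i h2 hij'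
          exact hW2_sym j' i' h3
      have hfin : ∀ S : Finset (Fin t), ∀ x : ι → F, (∀ l, l ∉ S → cmp hf hD l x = 0) →
          Ctr hf M x := by
        intro S
        induction S using Finset.induction_on with
        | empty =>
          intro x hx
          have : x = 0 := by
            calc x = ∑ i, cmp hf hD i x := (sum_cmp hf hD x).symm
              _ = 0 := Finset.sum_eq_zero (fun i _ => hx i (Finset.notMem_empty i))
          rw [this]; exact Ctr.zero hf M
        | insert j S' hjS ih =>
          intro x hx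
          by_cases hxj : cmp hf hD j x = 0
          · apply ih
            intro l hl
            by_cases hlj : l = j
            · rw [hlj]; exact hxj
            · apply hx
              simp [hlj, hl]
          · by_cases hex' : ∃ i ∈ S', cmp hf hD i x ≠ 0
            · obtain ⟨i, hiS, hxi⟩ := hex'
              have hij' : i ≠ j := fun h => hjS (h ▸ hiS)
              obtain ⟨_, ⟨z, hzi, hz⟩⟩ := hD.nondegenerate i _ (cmp_mem hf hD i x) hxi
              have ha : Ctr hf M (x - cmp hf hD j x - z) := by
                apply ih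
                intro l hl
                rw [cmp_sub, cmp_sub]
                by_cases hlj : l = j
                · rw [hlj, cmp_of_mem hf hD (cmp_mem hf hD j x),
                    cmp_of_mem_ne hf hD (Ne.symm hij') hzi, sub_self, sub_zero]
                · have hli : l ≠ i := fun h => hl (h ▸ hiS)
                  rw [hx l (by simp [hlj, hl]), cmp_of_mem_ne hf hD hlj (cmp_mem hf hD j x),
                    cmp_of_mem_ne hf hD hli hzi, sub_zero, sub_zero]
              have hbC : Ctr hf M (z + cmp hf hD j x) :=
                hW2all i j hij' z hzi _ (cmp_mem hf hD j x)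
              have e1 : f x z = f (cmp hf hD i x) z := (cmp_spec' hf hD i x z hzi).symm
              have e2 : f x (cmp hf hD j x) = 0 := by
                rw [← cmp_spec' hf hD j x _ (cmp_mem hf hD j x), hf.alternating]
              have e3 : f (cmp hf hD j x) z = 0 :=
                hD.orthogonal j i (Ne.symm hij') _ (cmp_mem hf hD j x) z hzi
              have e4 : f z (cmp hf hD j x) = 0 :=
                hD.orthogonal i j hij' z hzi _ (cmp_mem hf hD j x)
              have hab : f (x - cmp hf hD j x - z) (z + cmp hf hD j x) ≠ 0 := by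
                have : f (x - cmp hf hD j x - z) (z + cmp hf hD j x) = f (cmp hf hD i x) z := by
                  simp only [hb.add_right, form_sub_left hb, e1, e2, e3, e4, hf.alternating]
                  ring
                rw [this]; exact hz
              have := ha.add hf hbC hab
              have e : x - cmp hf hD j x - z + (z + cmp hf hD j x) = x := by abel
              rwa [e] at this
            · have hex'' : ∀ i ∈ S', cmp hf hD i x = 0 := by
                intro i hi
                by_contra h
                exact hex' ⟨i, hi, h⟩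
              have : x = cmp hf hD j x := by
                have hsum := sum_cmp hf hD x
                rw [Finset.sum_eq_single j] at hsum
                · exact hsum.symm
                · intro l _ hlj
                  by_cases hlS : l ∈ S'
                  · exact hex'' l hlS
                  · exact hx l (by simp [hlj, hlS])
                · intro h; exact absurd (Finset.mem_univ j) h
              rw [this]; exact hCD j _ (cmp_mem hf hD j x)
      have hall : ∀ x, Ctr hf M x :=
        fun x => hfin Finset.univ x (fun l hl => absurd (Finset.mem_univ l) hl)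
      intro g' hg'
      exact isom_mem_of_all_ctr hf M hall g' ((hI g').1 hg')

end Cfsg.Agent.Helper93
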