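import Cfsg.Agent.Lib.Helper93.SubfB
import Cfsg.Agent.Lib.Helper93.SubfC

set_option autoImplicit false
set_option linter.unusedSectionVars false
set_option linter.unusedVariables false
set_option linter.style.haveILetI false

/-!
# Subfield subgroups of `SL_n`: maximality
-/

namespace Cfsg.Agent.Helper93.SubfL

open Matrix Cfsg.Geo Cfsg.Agent.Helper93
open Cfsg.Agent.Helper98.Ident Cfsg.Agent.Helper98.Dickson

variable {ι : Type} [Fintype ι] [DecidableEq ι] {F : Type*} [Field F]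
variable {F₀ : Subfield F} {M : Subgroup (GL ι F)}

/-- the values at `u` of the rational functionals vanishing at `e` -/
def C1 (F₀ : Subfield F) (e u : ι → F) : Set F :=
  {c | ∃ ψ : ι → F, Rat F₀ ψ ∧ ψ ⬝ᵥ e = 0 ∧ c = ψ ⬝ᵥ u}

/-- generators of the subgroup of `SL₂` induced on the plane `⟨e, u⟩` -/
def gens (F₀ : Subfield F) (e u x : ι → F) : Set (S2 F) :=
  {h | (∃ c ∈ C1 F₀ e u, h = uu c) ∨ (∃ c ∈ C1 F₀ e x, h = ll c) ∨
    h ∈ Subgroup.center (S2 F)}

lemma lift_gens (hHM : subfieldSubgroup F₀ (1 : GL ι F) ⊓ specialLinear ι F ≤ M)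
    {g : GL ι F} (hg : g ∈ M) {e : ι → F} (he : Rat F₀ e) :
    ∀ h ∈ gens F₀ e ((g : Matrix ι ι F) *ᵥ e) (((g⁻¹ : GL ι F) : Matrix ι ι F) *ᵥ e),
      Lift M e ((g : Matrix ι ι F) *ᵥ e) h := by
  intro h hh
  rcases hh with ⟨c, ⟨ψ, hψ, hψe, rfl⟩, rfl⟩ | ⟨c, ⟨ε, hε, hεe, rfl⟩, rfl⟩ | hz
  · refine ⟨tv ψ e hψe, hHM (rat_tv_mem hψ he hψe), 1, one_mul 1, ?_, ?_⟩
    · rw [tv_coe, tvMat_mulVec, hψe, zero_smul, add_zero, uu_00, uu_10, one_smul, one_smul,
        zero_smul, add_zero]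
    · rw [tv_coe, tvMat_mulVec, uu_01, uu_11, one_smul, one_smul, add_comm]
  · have ht : TvIn M ε e := tvIn_rat hHM hε he hεe
    obtain ⟨h0, hm⟩ := ht.conj hg
    refine ⟨_, hm, 1, one_mul 1, ?_, ?_⟩
    · rw [tv_coe, tvMat_mulVec, ll_00, ll_10, one_smul, one_smul, ← Matrix.dotProduct_mulVec]
    · rw [tv_coe, tvMat_mulVec, h0, zero_smul, add_zero, ll_01, ll_11, one_smul, zero_smul,
        one_smul, zero_add]
  · obtain ⟨h10, h01, hd, h00⟩ := center_entries hz
    have hsq : h.1 0 0 * h.1 0 0 = 1 := by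
      rcases h00 with h' | h' <;> rw [h'] <;> ring
    refine ⟨1, M.one_mem, h.1 0 0, hsq, ?_, ?_⟩
    · rw [Units.val_one, Matrix.one_mulVec, h10, zero_smul, add_zero, smul_smul, hsq, one_smul]
    · rw [Units.val_one, Matrix.one_mulVec, h01, zero_smul, zero_add, ← hd, smul_smul, hsq,
        one_smul]

/-- under the standing hypothesis every element of `M` lies in the subfield group -/
theorem dickson_step [Fintype F] (h3 : 3 ≤ Fintype.card ι) {r : ℕ} (hr : r.Prime)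
    (hcard : Fintype.card F = Nat.card F₀ ^ r)
    (hHM : subfieldSubgroup F₀ (1 : GL ι F) ⊓ specialLinear ι F ≤ M) (hN : NoBad F₀ M)
    {g : GL ι F} (hg : g ∈ M) (hgH : g ∉ subfieldSubgroup F₀ (1 : GL ι F)) : False := by
  classical
  obtain ⟨p, hp⟩ := CharP.exists F
  haveI := hp
  haveI : Fact p.Prime := ⟨CharP.char_is_prime F p⟩
  have hq0' : 1 < Nat.card F₀ := Finite.one_lt_card
  have hq0 : 2 ≤ Nat.card F₀ := hq0'
  have hne : Nonempty ι := by
    rw [← Fintype.card_pos_iff]; omega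
  obtain ⟨i0⟩ := hne
  obtain ⟨e, he_def⟩ : ∃ e : ι → F, e = Pi.single i0 1 := ⟨_, rfl⟩
  have he : Rat F₀ e := by rw [he_def]; exact Rat.single i0
  have he0 : e ≠ 0 := by
    intro h
    have h' := congrFun h i0
    rw [he_def, Pi.single_eq_same] at h'
    exact one_ne_zero h'
  obtain ⟨u, hu_def⟩ : ∃ u : ι → F, u = (g : Matrix ι ι F) *ᵥ e := ⟨_, rfl⟩
  obtain ⟨x, hx_def⟩ : ∃ x : ι → F, x = ((g⁻¹ : GL ι F) : Matrix ι ι F) *ᵥ e := ⟨_, rfl⟩
  have hgen : ∀ ψ : ι → F, Rat F₀ ψ → ψ ≠ 0 → ψ ⬝ᵥ u ≠ 0 := by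
    intro ψ hψ hψ0
    rw [hu_def]
    exact generic_of_not_mem h3 hHM hN hg hgH he he0 hψ hψ0
  have hginvH : g⁻¹ ∉ subfieldSubgroup F₀ (1 : GL ι F) := by
    intro h
    apply hgH
    have := Subgroup.inv_mem _ h
    rwa [inv_inv] at this
  have hgen' : ∀ ψ : ι → F, Rat F₀ ψ → ψ ≠ 0 → ψ ⬝ᵥ x ≠ 0 := by
    intro ψ hψ hψ0
    rw [hx_def]
    exact generic_of_not_mem h3 hHM hN (M.inv_mem hg) hginvH he he0 hψ hψ0
  obtain ⟨K, hK⟩ : ∃ K : Subgroup (S2 F), K = Subgroup.closure (gens F₀ e u x) := ⟨_, rfl⟩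
  have hlift : ∀ h ∈ K, Lift M e u h := by
    rw [hK]
    apply lift_closure
    rw [hu_def, hx_def]
    exact lift_gens hHM hg he
  have hcen : Subgroup.center (S2 F) ≤ K := by
    intro z hz
    rw [hK]
    exact Subgroup.subset_closure (Or.inr (Or.inr hz))
  have huK : ∀ c ∈ C1 F₀ e u, uu c ∈ K := by
    intro c hc
    rw [hK]
    exact Subgroup.subset_closure (Or.inl ⟨c, hc, rfl⟩)
  have hlK : ∀ c ∈ C1 F₀ e x, ll c ∈ K := by
    intro c hc
    rw [hK]
    exact Subgroup.subset_closure (Or.inr (Or.inl ⟨c, hc, rfl⟩))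
  obtain ⟨j1, hj1, -⟩ := exists_third h3 i0 i0
  have hs1 : Rat F₀ (Pi.single j1 1 : ι → F) := Rat.single j1
  have hs1e : (Pi.single j1 1 : ι → F) ⬝ᵥ e = 0 := by
    rw [he_def]; exact single_dot_single_ne hj1
  have hs10 : (Pi.single j1 1 : ι → F) ≠ 0 := by
    intro h
    have h' := congrFun h j1
    rw [Pi.single_eq_same] at h'
    exact one_ne_zero h'
  have hc1 : (Pi.single j1 1 : ι → F) ⬝ᵥ u ∈ C1 F₀ e u := ⟨_, hs1, hs1e, rfl⟩
  have hc2 : (Pi.single j1 1 : ι → F) ⬝ᵥ x ∈ C1 F₀ e x := ⟨_, hs1, hs1e, rfl⟩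
  -- every upper unipotent of `K` comes from a rational transvection
  have key : ∀ a : F, uu a ∈ K → a ∈ C1 F₀ e u := by
    intro a ha
    obtain ⟨d, hd, s', hs', hde, hdu⟩ := hlift _ ha
    rw [uu_00, uu_10, one_smul, zero_smul, add_zero] at hde
    rw [uu_01, uu_11, one_smul] at hdu
    have hs'0 : s' ≠ 0 := by
      rintro rfl
      rw [mul_zero] at hs'
      exact zero_ne_one hs'
    have hL2 := L2 h3 hHM hN hd he he0 he he0 hs'0 hde
    have hdi : (d : Matrix ι ι F) i0 i0 = s' := by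
      have h' := congrFun hde i0
      rw [he_def, Matrix.mulVec_single_one, Matrix.col_apply, Pi.smul_apply, Pi.single_eq_same,
        smul_eq_mul, mul_one] at h'
      exact h'
    refine ⟨fun j => s'⁻¹ * (d : Matrix ι ι F) i0 j - (Pi.single i0 1 : ι → F) j, ?_, ?_, ?_⟩
    · intro j
      have h' := hL2 _ (Rat.single (F₀ := F₀) j) i0
      rw [Matrix.mulVec_single_one, Pi.smul_apply, Matrix.col_apply, smul_eq_mul] at h'
      exact F₀.sub_mem h' (Rat.single i0 j)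
    · rw [he_def, dotProduct_single_one]
      change s'⁻¹ * (d : Matrix ι ι F) i0 i0 - (Pi.single i0 1 : ι → F) i0 = 0
      rw [hdi, inv_mul_cancel₀ hs'0, Pi.single_eq_same, sub_self]
    · have h1 : (fun j => s'⁻¹ * (d : Matrix ι ι F) i0 j - (Pi.single i0 1 : ι → F) j) ⬝ᵥ u
          = s'⁻¹ * ((d : Matrix ι ι F) *ᵥ u) i0 - u i0 := by
        have e1 : (fun j => s'⁻¹ * (d : Matrix ι ι F) i0 j - (Pi.single i0 1 : ι → F) j)
            = s'⁻¹ • (fun j => (d : Matrix ι ι F) i0 j) - Pi.single i0 1 := by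
          funext j; rfl
        rw [e1, sub_dotProduct, smul_dotProduct, single_one_dotProduct, smul_eq_mul]
        rfl
      rw [h1, hdu, Pi.smul_apply, Pi.add_apply, Pi.smul_apply, he_def, Pi.single_eq_same,
        smul_eq_mul, smul_eq_mul, mul_one, ← mul_assoc, inv_mul_cancel₀ hs'0, one_mul,
        add_sub_cancel_right]
  -- parametrisation of the rational functionals vanishing at `e`
  obtain ⟨ψf, hψf⟩ : ∃ ψf : ({j : ι // j ≠ i0} → F₀) → ι → F,
      ψf = fun f j => if h : j = i0 then 0 else ((f ⟨j, h⟩ : F₀) : F) := ⟨_, rfl⟩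
  have hψf_rat : ∀ f, Rat F₀ (ψf f) := by
    intro f j
    rw [hψf]
    by_cases h : j = i0
    · simp only [dif_pos h]; exact F₀.zero_mem
    · simp only [dif_neg h]; exact (f ⟨j, h⟩).2
  have hψf_e : ∀ f, ψf f ⬝ᵥ e = 0 := by
    intro f
    rw [he_def, dotProduct_single_one, hψf]
    simp
  have hψf_inj : ∀ f f', ψf f ⬝ᵥ u = ψf f' ⬝ᵥ u → f = f' := by
    intro f f' hff
    have h0 : (ψf f - ψf f') ⬝ᵥ u = 0 := by rw [sub_dotProduct, hff, sub_self]
    have h1 : ψf f - ψf f' = 0 := by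
      by_contra hne
      exact hgen _ ((hψf_rat f).sub (hψf_rat f')) hne h0
    funext j
    have h2 := congrFun h1 j.1
    rw [hψf] at h2
    simp only [Pi.sub_apply, Pi.zero_apply, dif_neg j.2] at h2
    exact Subtype.ext (sub_eq_zero.mp h2)
  have hbij : Function.Bijective (fun f : ({j : ι // j ≠ i0} → F₀) =>
      (⟨ψf f ⬝ᵥ u, huK _ ⟨ψf f, hψf_rat f, hψf_e f, rfl⟩⟩ : {a : F // uu a ∈ K})) := by
    constructor
    · intro f f' hff
      exact hψf_inj f f' (congrArg Subtype.val hff)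
    · rintro ⟨a, ha⟩
      obtain ⟨ψ, hψ, hψe, rfl⟩ := key a ha
      refine ⟨fun j => ⟨ψ j.1, hψ j.1⟩, Subtype.ext ?_⟩
      show ψf _ ⬝ᵥ u = ψ ⬝ᵥ u
      congr 1
      funext j
      rw [hψf]
      by_cases h : j = i0
      · simp only [dif_pos h]
        rw [he_def, dotProduct_single_one] at hψe
        rw [h, hψe]
      · simp only [dif_neg h]
  have hcard1 : Nat.card {a : F // uu a ∈ K} = Nat.card F₀ ^ Nat.card {j : ι // j ≠ i0} := by
    rw [← Nat.card_congr (Equiv.ofBijective _ hbij), Nat.card_fun]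
  have hcard_ι' : Nat.card {j : ι // j ≠ i0} + 1 = Fintype.card ι := by
    rw [← Finite.card_option, Nat.card_congr (Equiv.optionSubtypeNe i0),
      Nat.card_eq_fintype_card]
  have h4 : 4 ≤ Nat.card {a : F // uu a ∈ K} := by
    rw [hcard1]
    calc 4 = 2 ^ 2 := by norm_num
      _ ≤ Nat.card F₀ ^ 2 := Nat.pow_le_pow_left hq0 2
      _ ≤ Nat.card F₀ ^ Nat.card {j : ι // j ≠ i0} :=
          Nat.pow_le_pow_right (by omega) (by omega)
  obtain ⟨k, s, hs0, hks⟩ :=
    dk p K hcen (hgen _ hs1 hs10) (huK _ hc1) (hgen' _ hs1 hs10) (hlK _ hc2) h4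
  have eK : {a : F // uu a ∈ K} ≃ k :=
    { toFun := fun a => ⟨s * a.1, (hks a.1).mp a.2⟩
      invFun := fun b => ⟨s⁻¹ * b.1, (hks _).mpr (by rw [mul_inv_cancel_left₀ hs0]; exact b.2)⟩
      left_inv := fun a => Subtype.ext (inv_mul_cancel_left₀ hs0 a.1)
      right_inv := fun b => Subtype.ext (mul_inv_cancel_left₀ hs0 b.1) }
  have hcardk : Nat.card k = Nat.card F₀ ^ Nat.card {j : ι // j ≠ i0} := by
    rw [← Nat.card_congr eK, hcard1]
  -- the dimension is at most the degree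
  have hnr : Fintype.card ι ≤ r := by
    have hinj : Function.Injective
        (fun f : ι → F₀ => (fun j => ((f j : F₀) : F)) ⬝ᵥ u) := by
      intro f f' hff
      have hff' : (fun j => ((f j : F₀) : F)) ⬝ᵥ u = (fun j => ((f' j : F₀) : F)) ⬝ᵥ u := hff
      have h0 : ((fun j => ((f j : F₀) : F)) - (fun j => ((f' j : F₀) : F))) ⬝ᵥ u = 0 := by
        rw [sub_dotProduct]; exact sub_eq_zero.mpr hff'
      have h1 : ((fun j => ((f j : F₀) : F)) - (fun j => ((f' j : F₀) : F))) = 0 := by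
        by_contra hne
        exact hgen _ (Rat.sub (fun j => (f j).2) (fun j => (f' j).2)) hne h0
      funext j
      have h2 := congrFun h1 j
      simp only [Pi.sub_apply, Pi.zero_apply] at h2
      exact Subtype.ext (sub_eq_zero.mp h2)
    have h1 := Nat.card_le_card_of_injective _ hinj
    rw [Nat.card_fun, Nat.card_eq_fintype_card (α := F), hcard,
      Nat.card_eq_fintype_card (α := ι)] at h1
    exact (Nat.pow_le_pow_iff_right hq0').mp h1
  have hFk := Module.natCard_eq_pow_finrank (K := k) (V := F)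
  rw [Nat.card_eq_fintype_card, hcard, hcardk, ← pow_mul] at hFk
  have hrt : r = Nat.card {j : ι // j ≠ i0} * Module.finrank k F :=
    Nat.pow_right_injective hq0 hFk
  have hdvd : Nat.card {j : ι // j ≠ i0} ∣ r := ⟨_, hrt⟩
  rcases (Nat.dvd_prime hr).mp hdvd with h | h
  · omega
  · omega

end Cfsg.Agent.Helper93.SubfL
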