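import Cfsg.Agent.Lib.Helper93.Transvec2

set_option autoImplicit false
set_option linter.unusedSectionVars false

namespace Cfsg.Agent.Helper93

open Matrix Cfsg.Geo

variable {ι : Type} [Fintype ι] [DecidableEq ι] {F : Type*} [Field F]

/-- the vector representing the functional `x ↦ f x w` -/
def fvec (f : (ι → F) → (ι → F) → F) (w : ι → F) : ι → F := fun j => f (Pi.single j 1) w

/-- the vector representing the functional `x ↦ f w x` -/
def gvec (f : (ι → F) → (ι → F) → F) (w : ι → F) : ι → F := fun j => f w (Pi.single j 1)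

section bilinear

variable {f : (ι → F) → (ι → F) → F}

lemma fvec_dot (hf : IsBilinearForm f) (w x : ι → F) : fvec f w ⬝ᵥ x = f x w := by
  let L : (ι → F) →ₗ[F] F :=
    { toFun := fun x => f x w
      map_add' := fun a b => hf.add_left a b w
      map_smul' := fun c a => by simpa using hf.smul_left c a w }
  have h1 : (dotProductEquiv F ι) ((dotProductEquiv F ι).symm L) x = L x := by
    rw [LinearEquiv.apply_symm_apply]
  have h2 : (dotProductEquiv F ι).symm L = fvec f w := by
    funext j; rfl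
  rw [h2] at h1
  exact h1

lemma gvec_dot (hf : IsBilinearForm f) (w x : ι → F) : gvec f w ⬝ᵥ x = f w x := by
  let L : (ι → F) →ₗ[F] F :=
    { toFun := fun x => f w x
      map_add' := fun a b => hf.add_right w a b
      map_smul' := fun c a => by simpa using hf.smul_right c w a }
  have h1 : (dotProductEquiv F ι) ((dotProductEquiv F ι).symm L) x = L x := by
    rw [LinearEquiv.apply_symm_apply]
  have h2 : (dotProductEquiv F ι).symm L = gvec f w := by
    funext j; rfl
  rw [h2] at h1
  exact h1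

lemma form_zero_right (hf : IsBilinearForm f) (x : ι → F) : f x 0 = 0 := by
  have := hf.smul_right 0 x 0
  simpa using this

lemma form_zero_left (hf : IsBilinearForm f) (x : ι → F) : f 0 x = 0 := by
  have := hf.smul_left 0 0 x
  simpa using this

lemma form_neg_right (hf : IsBilinearForm f) (x y : ι → F) : f x (-y) = - f x y := by
  have := hf.smul_right (-1) x y
  simpa using this

lemma form_neg_left (hf : IsBilinearForm f) (x y : ι → F) : f (-x) y = - f x y := by
  have := hf.smul_left (-1) x y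
  simpa using this

lemma form_sub_right (hf : IsBilinearForm f) (x y z : ι → F) : f x (y - z) = f x y - f x z := by
  rw [sub_eq_add_neg, hf.add_right, form_neg_right hf, sub_eq_add_neg]

lemma form_sub_left (hf : IsBilinearForm f) (x y z : ι → F) : f (x - y) z = f x z - f y z := by
  rw [sub_eq_add_neg, hf.add_left, form_neg_left hf, sub_eq_add_neg]

lemma fvec_add (hf : IsBilinearForm f) (w w' : ι → F) : fvec f (w + w') = fvec f w + fvec f w' := by
  funext j
  exact hf.add_right _ w w'

lemma fvec_smul (hf : IsBilinearForm f) (c : F) (w : ι → F) : fvec f (c • w) = c • fvec f w := by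
  funext j
  exact hf.smul_right c _ w

lemma fvec_neg (hf : IsBilinearForm f) (w : ι → F) : fvec f (-w) = - fvec f w := by
  funext j
  exact form_neg_right hf _ w

/-- two vectors with the same dot products are equal -/
lemma vec_ext_dot {φ ψ : ι → F} (h : ∀ x, φ ⬝ᵥ x = ψ ⬝ᵥ x) : φ = ψ := by
  exact dotProduct_eq φ ψ h

/-- a functional vanishing on the kernel of another is a multiple of it -/
lemma exists_smul_of_ker_le (φ ψ : ι → F) (h : ∀ x, φ ⬝ᵥ x = 0 → ψ ⬝ᵥ x = 0) :
    ∃ c : F, ψ = c • φ := by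
  by_cases hφ : ∀ x, φ ⬝ᵥ x = 0
  · refine ⟨0, ?_⟩
    rw [zero_smul]
    exact dotProduct_eq_zero ψ (fun x => h x (hφ x))
  · push Not at hφ
    obtain ⟨x0, hx0⟩ := hφ
    refine ⟨(ψ ⬝ᵥ x0) / (φ ⬝ᵥ x0), ?_⟩
    apply vec_ext_dot
    intro x
    have h1 : φ ⬝ᵥ (x - ((φ ⬝ᵥ x) / (φ ⬝ᵥ x0)) • x0) = 0 := by
      rw [dotProduct_sub, dotProduct_smul, smul_eq_mul, div_mul_cancel₀ _ hx0, sub_self]
    have h2 := h _ h1
    rw [dotProduct_sub, dotProduct_smul, smul_eq_mul, sub_eq_zero] at h2
    rw [h2, smul_dotProduct, smul_eq_mul]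
    field_simp

end bilinear


section symplectic

variable {f : (ι → F) → (ι → F) → F}

lemma symp_swap (hf : IsSymplecticForm f) (x y : ι → F) : f x y = - f y x := hf.skew x y

/-- Riesz representation: every functional is `x ↦ f x w` -/
lemma exists_fvec_eq (hf : IsSymplecticForm f) (ψ : ι → F) : ∃ w, fvec f w = ψ := by
  let Φ : (ι → F) →ₗ[F] (ι → F) :=
    { toFun := fun w => fvec f w
      map_add' := fun a b => fvec_add hf.bilinear a b
      map_smul' := fun c a => by simpa using fvec_smul hf.bilinear c a }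
  have hinj : Function.Injective Φ := by
    rw [← LinearMap.ker_eq_bot, LinearMap.ker_eq_bot']
    intro w hw
    by_contra hne
    obtain ⟨⟨x, hx⟩, _⟩ := hf.nondegenerate w hne
    apply hx
    rw [← fvec_dot hf.bilinear]
    have : fvec f w = 0 := hw
    rw [this, zero_dotProduct]
  exact (LinearMap.injective_iff_surjective.mp hinj) ψ

/-- the same on the other side -/
lemma exists_gvec_eq (hf : IsSymplecticForm f) (ψ : ι → F) : ∃ w, gvec f w = ψ := by
  obtain ⟨w, hw⟩ := exists_fvec_eq hf (-ψ)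
  refine ⟨w, ?_⟩
  apply vec_ext_dot
  intro x
  rw [gvec_dot hf.bilinear, hf.skew, ← fvec_dot hf.bilinear, hw, neg_dotProduct, neg_neg]

/-- a vector pairing non-trivially with both `a` (on the left) and `b` (on the right) -/
lemma exists_middle (hf : IsSymplecticForm f) {a b : ι → F} (ha : a ≠ 0) (hb : b ≠ 0) :
    ∃ z, f a z ≠ 0 ∧ f z b ≠ 0 := by
  obtain ⟨_, ⟨p, hp⟩⟩ := hf.nondegenerate a ha
  obtain ⟨⟨q, hq⟩, _⟩ := hf.nondegenerate b hb
  by_cases h1 : f p b ≠ 0
  · exact ⟨p, hp, h1⟩
  by_cases h2 : f a q ≠ 0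
  · exact ⟨q, h2, hq⟩
  push Not at h1 h2
  refine ⟨p + q, ?_, ?_⟩
  · rw [hf.bilinear.add_right, h2, add_zero]; exact hp
  · rw [hf.bilinear.add_left, h1, zero_add]; exact hq

/-- criterion for membership in the similarity group: preserving orthogonality suffices -/
theorem mem_similarityGroup_of_perp (hf : IsSymplecticForm f) (g : GL ι F)
    (h : ∀ x v, f x v = 0 → f ((g : Matrix ι ι F) *ᵥ x) ((g : Matrix ι ι F) *ᵥ v) = 0) :
    g ∈ similarityGroup f := by
  have hb := hf.bilinear
  -- the transported form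
  have hf'lin : ∀ v, ∃ c : F, ∀ x, f ((g : Matrix ι ι F) *ᵥ x) ((g : Matrix ι ι F) *ᵥ v) = c * f x v := by
    intro v
    let ψ : ι → F := fvec f ((g : Matrix ι ι F) *ᵥ v) ᵥ* (g : Matrix ι ι F)
    have hψ : ∀ x, ψ ⬝ᵥ x = f ((g : Matrix ι ι F) *ᵥ x) ((g : Matrix ι ι F) *ᵥ v) := by
      intro x
      show (fvec f ((g : Matrix ι ι F) *ᵥ v) ᵥ* (g : Matrix ι ι F)) ⬝ᵥ x = _
      rw [← Matrix.dotProduct_mulVec, fvec_dot hb]
    obtain ⟨c, hc⟩ := exists_smul_of_ker_le (fvec f v) ψ (by
      intro x hx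
      rw [fvec_dot hb] at hx
      rw [hψ]
      exact h x v hx)
    refine ⟨c, fun x => ?_⟩
    rw [← hψ, hc, smul_dotProduct, fvec_dot hb, smul_eq_mul]
  choose lam hlam using hf'lin
  -- the multiplier is constant on nonzero vectors
  have hconst1 : ∀ v w : ι → F, f v w ≠ 0 → lam v = lam w := by
    intro v w hvw
    have h1 := hlam w v
    have h2 := hlam v w
    rw [hf.skew, h2, hf.skew w v] at h1
    have : lam v * f v w = lam w * f v w := by
      rw [← h1]; ring
    exact mul_right_cancel₀ hvw this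
  have hconst : ∀ v w : ι → F, v ≠ 0 → w ≠ 0 → lam v = lam w := by
    intro v w hv hw
    obtain ⟨z, hz1, hz2⟩ := exists_middle hf hv hw
    rw [hconst1 v z hz1, hconst1 z w hz2]
  by_cases hex : ∃ v0 : ι → F, v0 ≠ 0
  · obtain ⟨v0, hv0⟩ := hex
    have hc0 : lam v0 ≠ 0 := by
      intro h0
      have hgv : (g : Matrix ι ι F) *ᵥ v0 ≠ 0 := by
        intro hz
        apply hv0
        have := congrArg (fun y => ((g⁻¹ : GL ι F) : Matrix ι ι F) *ᵥ y) hz
        simpa [Matrix.mulVec_mulVec, ← Units.val_mul] using this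
      obtain ⟨⟨y, hy⟩, _⟩ := hf.nondegenerate _ hgv
      apply hy
      have := hlam v0 (((g⁻¹ : GL ι F) : Matrix ι ι F) *ᵥ y)
      rw [Matrix.mulVec_mulVec, ← Units.val_mul, mul_inv_cancel, Units.val_one, Matrix.one_mulVec,
        h0, zero_mul] at this
      exact this
    refine ⟨Units.mk0 (lam v0) hc0, fun x v => ?_⟩
    rw [Units.val_mk0]
    by_cases hv : v = 0
    · subst hv
      rw [Matrix.mulVec_zero, form_zero_right hb, form_zero_right hb, mul_zero]
    · rw [hlam v x, hconst v v0 hv hv0]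
  · push Not at hex
    refine ⟨1, fun x v => ?_⟩
    rw [hex x, hex v, Matrix.mulVec_zero, Units.val_one, one_mul]

end symplectic

end Cfsg.Agent.Helper93
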