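import Cfsg.Agent.Lib.Helper93.Symp
import Cfsg.Agent.Lib.Helper93.Parabolic

set_option autoImplicit false
set_option linter.unusedSectionVars false

namespace Cfsg.Agent.Helper93

open Matrix Cfsg.Geo

variable {ι : Type} [Fintype ι] [DecidableEq ι] {F : Type*} [Field F]
variable {f : (ι → F) → (ι → F) → F}

lemma stv_side (hf : IsSymplecticForm f) (v : ι → F) (c : F) : (c • fvec f v) ⬝ᵥ v = 0 := by
  rw [smul_dotProduct, fvec_dot hf.bilinear, hf.alternating, smul_zero]

/-- the symplectic transvection `x ↦ x + c f(x,v) v` -/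
noncomputable def stv (hf : IsSymplecticForm f) (v : ι → F) (c : F) : GL ι F :=
  tv (c • fvec f v) v (stv_side hf v c)

lemma stv_apply (hf : IsSymplecticForm f) (v : ι → F) (c : F) (x : ι → F) :
    ((stv hf v c : GL ι F) : Matrix ι ι F) *ᵥ x = x + (c * f x v) • v := by
  unfold stv
  rw [tv_coe, tvMat_mulVec, smul_dotProduct, fvec_dot hf.bilinear, smul_eq_mul]

lemma stv_isometry (hf : IsSymplecticForm f) (v : ι → F) (c : F) (x y : ι → F) :
    f (((stv hf v c : GL ι F) : Matrix ι ι F) *ᵥ x) (((stv hf v c : GL ι F) : Matrix ι ι F) *ᵥ y)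
      = f x y := by
  have hb := hf.bilinear
  rw [stv_apply, stv_apply, hb.add_left, hb.add_right, hb.add_right, hb.smul_left, hb.smul_left,
    hb.smul_right, hb.smul_right, hf.alternating, hf.skew v y]
  ring

lemma stv_mem (hf : IsSymplecticForm f) (v : ι → F) (c : F) :
    stv hf v c ∈ similarityGroup f ⊓ specialLinear ι F := by
  refine ⟨⟨1, fun x y => ?_⟩, tv_mem_SL _ _ _⟩
  rw [stv_isometry hf, Units.val_one, one_mul]

/-- conjugating `x ↦ x + f(x,w) u` by an isometry `p` gives `x ↦ x + f(x, p w) p u` -/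
lemma fvec_vecMul_inv (hf : IsSymplecticForm f) (p : GL ι F)
    (hp : ∀ x y, f ((p : Matrix ι ι F) *ᵥ x) ((p : Matrix ι ι F) *ᵥ y) = f x y) (w : ι → F) :
    fvec f w ᵥ* ((p⁻¹ : GL ι F) : Matrix ι ι F) = fvec f ((p : Matrix ι ι F) *ᵥ w) := by
  apply vec_ext_dot
  intro x
  rw [← Matrix.dotProduct_mulVec, fvec_dot hf.bilinear, fvec_dot hf.bilinear]
  have := hp (((p⁻¹ : GL ι F) : Matrix ι ι F) *ᵥ x) w
  rw [Matrix.mulVec_mulVec, ← Units.val_mul, mul_inv_cancel, Units.val_one, Matrix.one_mulVec] at this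
  exact this.symm

/-- `M` contains the transvection `x ↦ x + f(x,w) u` -/
def InA (f : (ι → F) → (ι → F) → F) (M : Subgroup (GL ι F)) (u w : ι → F) : Prop :=
  ∃ h : fvec f w ⬝ᵥ u = 0, tv (fvec f w) u h ∈ M

lemma InA.add (hf : IsSymplecticForm f) {M : Subgroup (GL ι F)} {u w w' : ι → F}
    (h1 : InA f M u w) (h2 : InA f M u w') : InA f M u (w + w') := by
  obtain ⟨s1, m1⟩ := h1
  obtain ⟨s2, m2⟩ := h2
  have h3 := M.mul_mem m1 m2
  rw [tv_mul_tv] at h3
  have e : fvec f w + fvec f w' = fvec f (w + w') := (fvec_add hf.bilinear w w').symm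
  refine ⟨by rw [← e, add_dotProduct, s1, s2, add_zero], ?_⟩
  rw [tv_congr _ e rfl] at h3
  exact h3

lemma InA.neg (hf : IsSymplecticForm f) {M : Subgroup (GL ι F)} {u w : ι → F}
    (h1 : InA f M u w) : InA f M u (-w) := by
  obtain ⟨s1, m1⟩ := h1
  have h3 := M.inv_mem m1
  rw [← tv_neg_eq_inv] at h3
  have e : - fvec f w = fvec f (-w) := (fvec_neg hf.bilinear w).symm
  refine ⟨by rw [← e, neg_dotProduct, s1, neg_zero], ?_⟩
  rw [tv_congr _ e rfl] at h3
  exact h3

lemma InA.conj (hf : IsSymplecticForm f) {M : Subgroup (GL ι F)} {u w : ι → F}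
    (h1 : InA f M u w) (p : GL ι F) (hpM : p ∈ M)
    (hp : ∀ x y, f ((p : Matrix ι ι F) *ᵥ x) ((p : Matrix ι ι F) *ᵥ y) = f x y) :
    InA f M ((p : Matrix ι ι F) *ᵥ u) ((p : Matrix ι ι F) *ᵥ w) := by
  obtain ⟨s1, m1⟩ := h1
  have h3 := M.mul_mem (M.mul_mem hpM m1) (M.inv_mem hpM)
  rw [conj_tv] at h3
  have e := fvec_vecMul_inv hf p hp w
  refine ⟨?_, ?_⟩
  · rw [fvec_dot hf.bilinear, hp, ← fvec_dot hf.bilinear]; exact s1
  · rw [tv_congr _ e rfl] at h3
    exact h3

/-- the key step: a single non-symplectic transvection with centre `u` in `M` forces all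
transvections with centre `u` into `M` -/
theorem allTv_of_InA (hf : IsSymplecticForm f) (M : Subgroup (GL ι F))
    (hH : similarityGroup f ⊓ specialLinear ι F ≤ M) (u w0 y : ι → F)
    (hA : InA f M u w0) (hw0 : w0 ≠ 0) (hy0 : f y w0 = 0) (hyu : f y u ≠ 0) : AllTv M u := by
  have hb := hf.bilinear
  -- step
  have step : ∀ (z : ι → F) (c : F), f u z = 0 → InA f M u ((c * f w0 z) • z) := by
    intro z c hz
    have h1 := hA.conj hf (stv hf z c) (hH (stv_mem hf z c)) (stv_isometry hf z c)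
    rw [stv_apply, stv_apply, hz, mul_zero, zero_smul, add_zero] at h1
    have h2 := h1.add hf (hA.neg hf)
    have : w0 + (c * f w0 z) • z + -w0 = (c * f w0 z) • z := by abel
    rw [this] at h2
    exact h2
  have good : ∀ z : ι → F, f u z = 0 → f w0 z ≠ 0 → InA f M u z := by
    intro z hz hwz
    have := step z (f w0 z)⁻¹ hz
    rw [inv_mul_cancel₀ hwz, one_smul] at this
    exact this
  -- existence of a good vector
  obtain ⟨z1, hz1, hwz1⟩ : ∃ z1, f u z1 = 0 ∧ f w0 z1 ≠ 0 := by
    by_contra hcon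
    push Not at hcon
    obtain ⟨c, hc⟩ := exists_smul_of_ker_le (gvec f u) (gvec f w0) (by
      intro x hx
      rw [gvec_dot hb] at hx ⊢
      exact hcon x hx)
    have h1 : ∀ z, f w0 z = c * f u z := by
      intro z
      rw [← gvec_dot hb, hc, smul_dotProduct, gvec_dot hb, smul_eq_mul]
    have h2 := h1 y
    rw [hf.skew w0 y, hy0, neg_zero, hf.skew u y] at h2
    have hc0 : c = 0 := by
      by_contra hc0
      have : f y u = 0 := by
        have h3 : c * (-f y u) = 0 := h2.symm
        rcases mul_eq_zero.mp h3 with h4 | h4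
        · exact absurd h4 hc0
        · exact neg_eq_zero.mp h4
      exact hyu this
    obtain ⟨_, ⟨x, hx⟩⟩ := hf.nondegenerate w0 hw0
    apply hx
    rw [h1 x, hc0, zero_mul]
  have all : ∀ z : ι → F, f u z = 0 → InA f M u z := by
    intro z hz
    by_cases hwz : f w0 z ≠ 0
    · exact good z hz hwz
    · push Not at hwz
      have h1 : InA f M u (z + z1) := by
        apply good
        · rw [hb.add_right, hz, hz1, add_zero]
        · rw [hb.add_right, hwz, zero_add]; exact hwz1
      have h2 := h1.add hf ((good z1 hz1 hwz1).neg hf)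
      have : z + z1 + -z1 = z := by abel
      rw [this] at h2
      exact h2
  intro ψ hψ
  obtain ⟨w', hw'⟩ := exists_fvec_eq hf ψ
  have hz : f u w' = 0 := by rw [← fvec_dot hb, hw']; exact hψ
  obtain ⟨s, m⟩ := all w' hz
  rw [tv_congr _ hw' rfl] at m
  exact m

/-- transitivity: all centres -/
theorem allTv_all (hf : IsSymplecticForm f) (M : Subgroup (GL ι F))
    (hH : similarityGroup f ⊓ specialLinear ι F ≤ M) (u : ι → F) (hu : u ≠ 0) (hM : AllTv M u) :
    ∀ u', AllTv M u' := by
  have hb := hf.bilinear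
  have trans1 : ∀ a b : ι → F, f a b ≠ 0 → AllTv M a → AllTv M b := by
    intro a b hab ha
    have h1 := ha.conj (stv hf (b - a) (f a b)⁻¹) (hH (stv_mem hf _ _))
    rw [stv_apply, form_sub_right hb, hf.alternating, sub_zero, inv_mul_cancel₀ hab, one_smul,
      add_sub_cancel] at h1
    exact h1
  intro u'
  by_cases hu' : u' = 0
  · subst hu'
    intro ψ h
    have : tv ψ (0 : ι → F) h = 1 := by
      apply Units.ext
      rw [tv_coe]; unfold tvMat; simp
    rw [this]; exact M.one_mem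
  · obtain ⟨z, hz1, hz2⟩ := exists_middle hf hu hu'
    exact trans1 z u' hz2 (trans1 u z hz1 hM)


/-- a vector outside the span of two given vectors, in dimension at least three -/
lemma exists_notMem_span_pair (h3 : 3 ≤ Fintype.card ι) (a b : ι → F) :
    ∃ y : ι → F, y ∉ Submodule.span F ({a, b} : Set (ι → F)) := by
  classical
  by_contra hcon
  push Not at hcon
  have htop : Submodule.span F ({a, b} : Set (ι → F)) = ⊤ := eq_top_iff.mpr fun x _ => hcon x
  have h1 : Module.finrank F (Submodule.span F ((({a, b} : Finset (ι → F)) : Set (ι → F)))) ≤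
      ({a, b} : Finset (ι → F)).card := finrank_span_finset_le_card _
  have h2 : ({a, b} : Finset (ι → F)).card ≤ 2 := Finset.card_le_two
  have h3' : ((({a, b} : Finset (ι → F)) : Set (ι → F))) = ({a, b} : Set (ι → F)) := by
    ext z; simp
  rw [h3', htop, finrank_top, Module.finrank_pi, ] at h1
  omega

theorem symp_isMaximalIn (hf : IsSymplecticForm f) (h3 : 3 ≤ Fintype.card ι) :
    IsMaximalIn (specialLinear ι F) (similarityGroup f ⊓ specialLinear ι F) := by
  have hb := hf.bilinear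
  constructor
  · rw [SetLike.lt_iff_le_and_exists]
    refine ⟨inf_le_right, ?_⟩
    have hne : Nonempty ι := by
      rw [← Fintype.card_pos_iff]; omega
    obtain ⟨i0⟩ := hne
    have hv : (Pi.single i0 1 : ι → F) ≠ 0 := by
      intro h
      have := congrFun h i0
      simp at this
    set v : ι → F := Pi.single i0 1 with hvdef
    obtain ⟨⟨u0, hu0⟩, _⟩ := hf.nondegenerate v hv
    obtain ⟨y, hy⟩ := exists_notMem_span_pair h3 u0 v
    set x0 : ι → F := y - (f y v / f u0 v) • u0 with hx0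
    have hx0v : f x0 v = 0 := by
      rw [hx0, form_sub_left hb, hb.smul_left, div_mul_cancel₀ _ hu0, sub_self]
    have hx0span : x0 ∉ Submodule.span F ({u0, v} : Set (ι → F)) := by
      intro h
      apply hy
      have : y = x0 + (f y v / f u0 v) • u0 := by rw [hx0]; abel
      rw [this]
      exact Submodule.add_mem _ h (Submodule.smul_mem _ _ (Submodule.subset_span (by simp)))
    obtain ⟨ψ, hψP, hψ1⟩ := exists_functional_one _ _ hx0span
    have hψu : ψ ⬝ᵥ u0 = 0 := hψP u0 (Submodule.subset_span (by simp))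
    have hψv : ψ ⬝ᵥ v = 0 := hψP v (Submodule.subset_span (by simp))
    refine ⟨tv ψ u0 hψu, tv_mem_SL ψ u0 hψu, ?_⟩
    rintro ⟨⟨c, hc⟩, _⟩
    have := hc x0 v
    rw [tv_coe, tvMat_mulVec, tvMat_mulVec, hψ1, hψv, one_smul, zero_smul, add_zero, hb.add_left,
      hx0v, zero_add, mul_zero] at this
    exact hu0 this
  · intro M hHM hMK
    by_cases hMH : M = similarityGroup f ⊓ specialLinear ι F
    · left; exact hMH
    right
    obtain ⟨g, hgM, hgH⟩ := SetLike.exists_of_lt (lt_of_le_of_ne hHM (Ne.symm hMH))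
    have hg : g ∉ similarityGroup f := fun h => hgH ⟨h, hMK hgM⟩
    have hex : ∃ x v, f x v = 0 ∧ f ((g : Matrix ι ι F) *ᵥ x) ((g : Matrix ι ι F) *ᵥ v) ≠ 0 := by
      by_contra hcon
      push Not at hcon
      exact hg (mem_similarityGroup_of_perp hf g hcon)
    obtain ⟨x, v, hxv, hgxv⟩ := hex
    have ht : g * stv hf v 1 * g⁻¹ ∈ M :=
      M.mul_mem (M.mul_mem hgM (hHM (stv_mem hf v 1))) (M.inv_mem hgM)
    unfold stv at ht
    rw [conj_tv] at ht
    obtain ⟨w0, hw0⟩ := exists_fvec_eq hf (((1 : F) • fvec f v) ᵥ* ((g⁻¹ : GL ι F) : Matrix ι ι F))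
    rw [tv_congr _ hw0.symm rfl] at ht
    have hkey : ∀ a, f a w0 = f (((g⁻¹ : GL ι F) : Matrix ι ι F) *ᵥ a) v := by
      intro a
      rw [← fvec_dot hb, hw0, one_smul, ← Matrix.dotProduct_mulVec, fvec_dot hb]
    have hginv : ∀ a, ((g⁻¹ : GL ι F) : Matrix ι ι F) *ᵥ ((g : Matrix ι ι F) *ᵥ a) = a := by
      intro a
      rw [Matrix.mulVec_mulVec, ← Units.val_mul, inv_mul_cancel, Units.val_one, Matrix.one_mulVec]
    have hv0 : v ≠ 0 := by
      rintro rfl
      rw [Matrix.mulVec_zero, form_zero_right hb] at hgxv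
      exact hgxv rfl
    have hw0ne : w0 ≠ 0 := by
      rintro rfl
      obtain ⟨⟨x', hx'⟩, _⟩ := hf.nondegenerate v hv0
      apply hx'
      have := hkey ((g : Matrix ι ι F) *ᵥ x')
      rw [hginv, form_zero_right hb] at this
      exact this.symm
    have hA : InA f M ((g : Matrix ι ι F) *ᵥ v) w0 := ⟨_, ht⟩
    have hy0 : f ((g : Matrix ι ι F) *ᵥ x) w0 = 0 := by rw [hkey, hginv]; exact hxv
    have hall := allTv_of_InA hf M hHM _ w0 _ hA hw0ne hy0 hgxv
    have hune : (g : Matrix ι ι F) *ᵥ v ≠ 0 := by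
      intro h
      rw [h, form_zero_right hb] at hgxv
      exact hgxv rfl
    exact le_antisymm hMK (SL_le_of_allTv M (allTv_all hf M hHM _ hune hall))

end Cfsg.Agent.Helper93
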