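import Mathlib
import Cfsg.Prelude.Def_GeometricClasses

set_option autoImplicit false

namespace Cfsg.Agent.Helper93

open Matrix

variable {ι : Type} [Fintype ι] [DecidableEq ι] {F : Type*} [Field F]

/-- matrix of `x ↦ x + (φ ⬝ᵥ x) • v` -/
def tvMat (φ v : ι → F) : Matrix ι ι F := 1 + vecMulVec v φ

lemma tvMat_mulVec (φ v x : ι → F) : tvMat φ v *ᵥ x = x + (φ ⬝ᵥ x) • v := by
  unfold tvMat
  rw [Matrix.add_mulVec, Matrix.one_mulVec, Matrix.vecMulVec_mulVec]
  congr 1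
  ext i
  simp [mul_comm]

lemma tvMat_det (φ v : ι → F) : (tvMat φ v).det = 1 + φ ⬝ᵥ v := by
  unfold tvMat
  rw [Matrix.vecMulVec_eq Unit, Matrix.det_one_add_replicateCol_mul_replicateRow]

/-- the transvection as an element of the general linear group -/
noncomputable def tv (φ v : ι → F) (h : φ ⬝ᵥ v = 0) : GL ι F :=
  Matrix.GeneralLinearGroup.mkOfDetNeZero (tvMat φ v)
    (by rw [tvMat_det, h, add_zero]; exact one_ne_zero)

lemma tv_coe (φ v : ι → F) (h : φ ⬝ᵥ v = 0) : ((tv φ v h : GL ι F) : Matrix ι ι F) = tvMat φ v := rfl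

lemma tv_mem_SL (φ v : ι → F) (h : φ ⬝ᵥ v = 0) : tv φ v h ∈ Cfsg.Geo.specialLinear ι F := by
  unfold Cfsg.Geo.specialLinear
  rw [MonoidHom.mem_ker]
  apply Units.ext
  rw [Matrix.GeneralLinearGroup.val_det_apply, tv_coe, tvMat_det, h, add_zero]
  rfl

lemma tv_inv (φ v : ι → F) (h : φ ⬝ᵥ v = 0) :
    (tv φ v h)⁻¹ = tv φ (-v) (by rw [dotProduct_neg, h, neg_zero]) := by
  rw [inv_eq_iff_mul_eq_one]
  apply Units.ext
  rw [Units.val_mul, tv_coe, tv_coe, Units.val_one]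
  unfold tvMat
  rw [Matrix.neg_vecMulVec, Matrix.add_mul, Matrix.mul_add, Matrix.mul_add, Matrix.one_mul,
    Matrix.mul_one, Matrix.one_mul, Matrix.mul_neg, Matrix.vecMulVec_mul_vecMulVec, h, zero_smul,
    Matrix.vecMulVec_zero]
  simp


lemma mem_subspaceStabilizer_iff (W : Submodule F (ι → F)) (g : GL ι F) :
    g ∈ Cfsg.Geo.subspaceStabilizer W ↔ ∀ x, x ∈ W ↔ (g : Matrix ι ι F) *ᵥ x ∈ W := Iff.rfl

lemma mem_subspaceStabilizer_of_maps (W : Submodule F (ι → F)) (g : GL ι F)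
    (h1 : ∀ x ∈ W, (g : Matrix ι ι F) *ᵥ x ∈ W)
    (h2 : ∀ x ∈ W, ((g⁻¹ : GL ι F) : Matrix ι ι F) *ᵥ x ∈ W) :
    g ∈ Cfsg.Geo.subspaceStabilizer W := by
  rw [mem_subspaceStabilizer_iff]
  intro x
  refine ⟨h1 x, fun hx => ?_⟩
  have := h2 _ hx
  rwa [Matrix.mulVec_mulVec, ← Units.val_mul, inv_mul_cancel, Units.val_one, Matrix.one_mulVec] at this

/-- a transvection whose functional vanishes on `W` stabilises `W` -/
lemma tv_mem_stab_of_vanish (W : Submodule F (ι → F)) (φ v : ι → F) (h : φ ⬝ᵥ v = 0)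
    (hφ : ∀ x ∈ W, φ ⬝ᵥ x = 0) : tv φ v h ∈ Cfsg.Geo.subspaceStabilizer W := by
  apply mem_subspaceStabilizer_of_maps
  · intro x hx
    rw [tv_coe, tvMat_mulVec, hφ x hx, zero_smul, add_zero]; exact hx
  · intro x hx
    rw [tv_inv, tv_coe, tvMat_mulVec, hφ x hx, zero_smul, add_zero]; exact hx

/-- a transvection whose direction lies in `W` stabilises `W` -/
lemma tv_mem_stab_of_dir (W : Submodule F (ι → F)) (φ v : ι → F) (h : φ ⬝ᵥ v = 0)
    (hv : v ∈ W) : tv φ v h ∈ Cfsg.Geo.subspaceStabilizer W := by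
  apply mem_subspaceStabilizer_of_maps
  · intro x hx
    rw [tv_coe, tvMat_mulVec]
    exact W.add_mem hx (W.smul_mem _ hv)
  · intro x hx
    rw [tv_inv, tv_coe, tvMat_mulVec]
    exact W.add_mem hx (W.smul_mem _ (W.neg_mem hv))

/-- a transvection moving some `x ∈ W` in a direction outside `W` does not stabilise `W` -/
lemma tv_notMem_stab (W : Submodule F (ι → F)) (φ v : ι → F) (h : φ ⬝ᵥ v = 0)
    (x : ι → F) (hx : x ∈ W) (hφx : φ ⬝ᵥ x ≠ 0) (hv : v ∉ W) :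
    tv φ v h ∉ Cfsg.Geo.subspaceStabilizer W := by
  intro hmem
  rw [mem_subspaceStabilizer_iff] at hmem
  have h1 := (hmem x).mp hx
  rw [tv_coe, tvMat_mulVec] at h1
  have h2 : (φ ⬝ᵥ x) • v ∈ W := by
    have := W.sub_mem h1 hx
    simpa using this
  have h3 := W.smul_mem (φ ⬝ᵥ x)⁻¹ h2
  rw [smul_smul, inv_mul_cancel₀ hφx, one_smul] at h3
  exact hv h3

/-- a functional (as a vector) vanishing on `P` and nonzero at `x ∉ P` -/
lemma exists_functional (P : Submodule F (ι → F)) (x : ι → F) (hx : x ∉ P) :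
    ∃ φ : ι → F, (∀ y ∈ P, φ ⬝ᵥ y = 0) ∧ φ ⬝ᵥ x ≠ 0 := by
  obtain ⟨f, hfx, hf⟩ := Submodule.exists_dual_map_eq_bot_of_notMem hx inferInstance
  refine ⟨(dotProductEquiv F ι).symm f, ?_, ?_⟩
  · intro y hy
    have h1 : f y ∈ P.map f := Submodule.mem_map_of_mem hy
    rw [hf, Submodule.mem_bot] at h1
    have h2 : (dotProductEquiv F ι) ((dotProductEquiv F ι).symm f) y = f y := by
      rw [LinearEquiv.apply_symm_apply]
    rw [← h1, ← h2]
    rfl
  · have h2 : (dotProductEquiv F ι) ((dotProductEquiv F ι).symm f) x = f x := by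
      rw [LinearEquiv.apply_symm_apply]
    intro h0
    apply hfx
    rw [← h2]
    exact h0


/-- the special linear group does not stabilise a proper non-zero subspace -/
lemma exists_SL_notMem_stab (W : Submodule F (ι → F)) (hW0 : W ≠ ⊥) (hW1 : W ≠ ⊤) :
    ∃ g ∈ Cfsg.Geo.specialLinear ι F, g ∉ Cfsg.Geo.subspaceStabilizer W := by
  obtain ⟨w, hw, hw0⟩ := (Submodule.ne_bot_iff W).mp hW0
  obtain ⟨v, hv⟩ : ∃ v, v ∉ W := by
    by_contra hcon
    push Not at hcon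
    exact hW1 (eq_top_iff.mpr fun x _ => hcon x)
  have hwP : w ∉ Submodule.span F {v} := by
    intro hmem
    obtain ⟨c, rfl⟩ := Submodule.mem_span_singleton.mp hmem
    have hc : c ≠ 0 := by
      rintro rfl
      exact hw0 (zero_smul _ _)
    have := W.smul_mem c⁻¹ hw
    rw [smul_smul, inv_mul_cancel₀ hc, one_smul] at this
    exact hv this
  obtain ⟨φ, hφP, hφw⟩ := exists_functional _ w hwP
  have hφv : φ ⬝ᵥ v = 0 := hφP v (Submodule.mem_span_singleton_self v)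
  exact ⟨tv φ v hφv, tv_mem_SL φ v hφv, tv_notMem_stab W φ v hφv w hw hφw hv⟩

end Cfsg.Agent.Helper93
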