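import Cfsg.Agent.Lib.Helper93.UPair

set_option autoImplicit false
set_option linter.unusedSectionVars false

namespace Cfsg.Agent.Helper93

open Matrix Cfsg.Geo

variable {ι : Type} [Fintype ι] [DecidableEq ι] {F : Type*} [Field F]
variable {σ : F ≃+* F} {f : (ι → F) → (ι → F) → F}

/-- an orthonormal basis of a non-degenerate unitary plane over the field with four elements;
the non-isotropic vectors are the multiples of the basis vectors -/
lemma u_block_basis (hf : IsUnitaryForm σ f) (h2 : (2 : F) = 0)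
    (hfix : ∀ x : F, σ x = x → x = 0 ∨ x = 1) (B : Submodule F (ι → F))
    (hB2 : Module.finrank F B = 2) (hBn : IsNondegenerateOn f B) :
    ∃ d ∈ B, ∃ d' ∈ B, f d d = 1 ∧ f d' d' = 1 ∧ f d d' = 0 ∧ f d' d = 0 ∧
      ∀ x ∈ B, ∃ α β : F, x = α • d + β • d' ∧
        (f x x ≠ 0 → (α = 0 ∧ β ≠ 0) ∨ (α ≠ 0 ∧ β = 0)) := by
  have hnorm1 : ∀ x : ι → F, f x x ≠ 0 → f x x = 1 :=
    fun x hx => (hfix _ (uf_self hf x)).resolve_left hx
  have hB0 : B ≠ ⊥ := by
    intro h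
    rw [h, finrank_bot] at hB2
    omega
  obtain ⟨x0, hx0B, hx0⟩ := Submodule.exists_mem_ne_zero_of_ne_bot hB0
  obtain ⟨_, ⟨r2, hr2B, hr2⟩⟩ := hBn x0 hx0B hx0
  obtain ⟨α0, β0, hd0⟩ := uf_exists_nonisotropic_pair hf hr2
  obtain ⟨d, hd⟩ : ∃ d, d = α0 • x0 + β0 • r2 := ⟨_, rfl⟩
  rw [← hd] at hd0
  have hdB : d ∈ B := by
    rw [hd]
    exact B.add_mem (B.smul_mem _ hx0B) (B.smul_mem _ hr2B)
  have hdd : f d d = 1 := hnorm1 d hd0
  have e1 := finrank_le_inf_ker_add_one B (uflin hf d)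
  have hne : B ⊓ LinearMap.ker (uflin hf d) ≠ ⊥ := by
    intro h
    rw [h, finrank_bot] at e1
    omega
  obtain ⟨d', hd'mem, hd'0⟩ := Submodule.exists_mem_ne_zero_of_ne_bot hne
  obtain ⟨hd'B, hd'k⟩ := Submodule.mem_inf.1 hd'mem
  have hd'd : f d' d = 0 := by
    have := LinearMap.mem_ker.1 hd'k
    rwa [uflin_apply] at this
  have hdd' : f d d' = 0 := uf_eq_zero_symm hf hd'd
  have hli : ∀ s t : F, s • d + t • d' = 0 → s = 0 ∧ t = 0 := by
    intro s t hst
    have h1 : f (s • d + t • d') d = 0 := by rw [hst, uf_zero_left hf]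
    rw [hf.add_left, hf.smul_left, hf.smul_left, hdd, hd'd, mul_one, mul_zero, add_zero] at h1
    refine ⟨h1, ?_⟩
    rw [h1, zero_smul, zero_add] at hst
    rcases smul_eq_zero.1 hst with h | h
    · exact h
    · exact absurd h hd'0
  have hcoef : ∀ y ∈ B, ∃ s t : F, s • d + t • d' = y :=
    fun y hy => exists_coeffs_of_finrank_two B hB2 hdB hd'B hli y hy
  have hd'd' : f d' d' = 1 := by
    apply hnorm1
    intro h0
    obtain ⟨⟨y, hyB, hy⟩, _⟩ := hBn d' hd'B hd'0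
    obtain ⟨s, t, rfl⟩ := hcoef y hyB
    apply hy
    rw [hf.add_left, hf.smul_left, hf.smul_left, hdd', h0, mul_zero, mul_zero, add_zero]
  refine ⟨d, hdB, d', hd'B, hdd, hd'd', hdd', hd'd, ?_⟩
  intro x hx
  obtain ⟨α, β, rfl⟩ := hcoef x hx
  refine ⟨α, β, rfl, ?_⟩
  intro hxx
  have hN : f (α • d + β • d') (α • d + β • d') = α * σ α + β * σ β := by
    simp only [hf.add_left, uf_add_right hf, hf.smul_left, uf_smul_right hf, hdd, hdd', hd'd,
      hd'd']
    ring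
  rw [hN] at hxx
  have hnv : ∀ γ : F, γ ≠ 0 → γ * σ γ = 1 := by
    intro γ hγ
    have hfixed : σ (γ * σ γ) = γ * σ γ := by rw [map_mul, hf.involutive, mul_comm]
    rcases hfix _ hfixed with h | h
    · exfalso
      rcases mul_eq_zero.1 h with h' | h'
      · exact hγ h'
      · apply hγ
        have := congrArg σ h'
        rwa [hf.involutive, map_zero] at this
    · exact h
  by_cases hα : α = 0
  · left
    refine ⟨hα, ?_⟩
    intro hβ
    apply hxx
    rw [hα, hβ, zero_mul, add_zero]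
  · right
    refine ⟨hα, ?_⟩
    by_contra hβ
    apply hxx
    rw [hnv α hα, hnv β hβ, one_add_one_eq_two, h2]

/-- the stabiliser in `G` of the set of non-isotropic vectors lying in the blocks -/
def frameStab (f : (ι → F) → (ι → F) → F) {t : ℕ} (D : Fin t → Submodule F (ι → F))
    (G : Subgroup (GL ι F)) : Subgroup (GL ι F) where
  carrier := {g | g ∈ G ∧
    (∀ x, (∃ i, x ∈ D i ∧ f x x ≠ 0) → ∃ i, (g : Matrix ι ι F) *ᵥ x ∈ D i ∧
      f ((g : Matrix ι ι F) *ᵥ x) ((g : Matrix ι ι F) *ᵥ x) ≠ 0) ∧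
    (∀ x, (∃ i, x ∈ D i ∧ f x x ≠ 0) → ∃ i, ((g⁻¹ : GL ι F) : Matrix ι ι F) *ᵥ x ∈ D i ∧
      f (((g⁻¹ : GL ι F) : Matrix ι ι F) *ᵥ x) (((g⁻¹ : GL ι F) : Matrix ι ι F) *ᵥ x) ≠ 0)}
  mul_mem' := by
    rintro a b ⟨haG, ha1, ha2⟩ ⟨hbG, hb1, hb2⟩
    refine ⟨G.mul_mem haG hbG, fun x hx => ?_, fun x hx => ?_⟩
    · rw [gl_mul_apply]
      exact ha1 _ (hb1 x hx)
    · rw [_root_.mul_inv_rev, gl_mul_apply]
      exact hb2 _ (ha2 x hx)
  one_mem' := by
    refine ⟨G.one_mem, fun x hx => ?_, fun x hx => ?_⟩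
    · rw [gl_one_apply]
      exact hx
    · rw [inv_one, gl_one_apply]
      exact hx
  inv_mem' := by
    rintro a ⟨haG, ha1, ha2⟩
    refine ⟨G.inv_mem haG, ha2, fun x hx => ?_⟩
    rw [inv_inv]
    exact ha1 x hx

theorem u22_not_max (hf : IsUnitaryForm σ f) (h2 : (2 : F) = 0)
    (hfix : ∀ x : F, σ x = x → x = 0 ∨ x = 1) {t : ℕ} (D : Fin t → Submodule F (ι → F))
    (hD : IsNondegenerateMDecomposition f 2 D) (G : Subgroup (GL ι F))
    (hG : ∀ g, g ∈ G ↔ Isom f g ∧ g ∈ specialLinear ι F) :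
    ∃ K : Subgroup (GL ι F), decompositionStabilizer D ⊓ G < K ∧ K < G := by
  have ht := hD.decomp.two_le
  obtain ⟨i1, i2, hi12⟩ : ∃ i1 i2 : Fin t, i1 ≠ i2 :=
    ⟨⟨0, by omega⟩, ⟨1, by omega⟩, by
      intro h
      have := congrArg Fin.val h
      simp at this⟩
  obtain ⟨d1, hd1, d1', hd1', h11, h1'1', h11', h1'1, hstr1⟩ :=
    u_block_basis hf h2 hfix (D i1) (hD.decomp.finrank_eq i1) (hD.nondegenerate i1)
  obtain ⟨d3, hd3, d3', hd3', h33, h3'3', h33', h3'3, hstr3⟩ :=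
    u_block_basis hf h2 hfix (D i2) (hD.decomp.finrank_eq i2) (hD.nondegenerate i2)
  have horth : ∀ i j : Fin t, i ≠ j → ∀ x ∈ D i, ∀ y ∈ D j, f x y = 0 :=
    fun i j hij x hx y hy => hD.orthogonal i j hij x hx y hy
  have hdisj : ∀ i j : Fin t, i ≠ j → ∀ x, x ∈ D i → x ∈ D j → x = 0 := by
    intro i j hij x hxi hxj
    have hdis : Disjoint (D i) (D j) := hD.decomp.indep.pairwiseDisjoint hij
    exact Submodule.disjoint_def.1 hdis x hxi hxj
  have h1one : (1 : F) + σ 1 = 0 := by rw [map_one, one_add_one_eq_two, h2]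
  have hTG : ∀ t ∈ TU hf, t ∈ G := fun t ht => (hG t).2 ⟨TU_isom hf t ht, TU_le_SL hf ht⟩
  -- the stabiliser maps the frame set to itself
  have hHmaps : ∀ g ∈ decompositionStabilizer D ⊓ G, ∀ x, (∃ i, x ∈ D i ∧ f x x ≠ 0) →
      ∃ i, (g : Matrix ι ι F) *ᵥ x ∈ D i ∧
        f ((g : Matrix ι ι F) *ᵥ x) ((g : Matrix ι ι F) *ᵥ x) ≠ 0 := by
    rintro g ⟨⟨τ, hτ⟩, hgG⟩ x ⟨i, hxi, hxx⟩
    refine ⟨τ i, ?_, ?_⟩
    · rw [← hτ i]
      exact ⟨x, hxi, Matrix.toLin'_apply _ _⟩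
    · rw [((hG g).1 hgG).1]
      exact hxx
  have hHK : decompositionStabilizer D ⊓ G ≤ frameStab f D G := by
    intro g hg
    exact ⟨hg.2, hHmaps g hg, hHmaps g⁻¹ ((decompositionStabilizer D ⊓ G).inv_mem hg)⟩
  -- first element: the transvection with centre d1 + d3
  have ha1 : f (d1 + d3) (d1 + d3) = 0 := by
    rw [hf.add_left, uf_add_right hf, uf_add_right hf, h11, h33,
      horth i1 i2 hi12 d1 hd1 d3 hd3, horth i2 i1 hi12.symm d3 hd3 d1 hd1]
    linear_combination h2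
  have hw1T : uref hf (d1 + d3) 1 ∈ TU hf := uref_mem_TU hf ha1 h1one
  have e1 : ∀ x, ((uref hf (d1 + d3) 1 : GL ι F) : Matrix ι ι F) *ᵥ x
      = x + f x (d1 + d3) • (d1 + d3) := by
    intro x
    rw [uref_apply_iso hf _ 1 ha1, one_mul]
  have hw1inv : (uref hf (d1 + d3) 1)⁻¹ = uref hf (d1 + d3) 1 := by
    apply inv_eq_of_mul_eq_one_right
    apply gl_ext
    intro x
    rw [gl_mul_apply, e1, e1, gl_one_apply, hf.add_left, hf.smul_left, ha1, mul_zero, add_zero,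
      add_assoc, ← add_smul, ← two_mul, h2, zero_mul, zero_smul, add_zero]
  have hw1I : Isom f (uref hf (d1 + d3) 1) := TU_isom hf _ hw1T
  have hw1maps : ∀ x, (∃ i, x ∈ D i ∧ f x x ≠ 0) →
      ∃ i, ((uref hf (d1 + d3) 1 : GL ι F) : Matrix ι ι F) *ᵥ x ∈ D i ∧
        f (((uref hf (d1 + d3) 1 : GL ι F) : Matrix ι ι F) *ᵥ x)
          (((uref hf (d1 + d3) 1 : GL ι F) : Matrix ι ι F) *ᵥ x) ≠ 0 := by
    rintro x ⟨j, hxj, hxx⟩
    suffices h : ∃ i, ((uref hf (d1 + d3) 1 : GL ι F) : Matrix ι ι F) *ᵥ x ∈ D i by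
      obtain ⟨i, hi⟩ := h
      exact ⟨i, hi, by rw [hw1I]; exact hxx⟩
    by_cases hj1 : j = i1
    · rw [hj1] at hxj
      obtain ⟨α, β, hxe, hcase⟩ := hstr1 x hxj
      rcases hcase hxx with ⟨hα, hβ⟩ | ⟨hα, hβ⟩
      · refine ⟨i1, ?_⟩
        have hfa : f x (d1 + d3) = 0 := by
          rw [uf_add_right hf, horth i1 i2 hi12 x hxj d3 hd3, add_zero, hxe, hα, zero_smul,
            zero_add, hf.smul_left, h1'1, mul_zero]
        rw [e1 x, hfa, zero_smul, add_zero]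
        exact hxj
      · refine ⟨i2, ?_⟩
        have hfa : f x (d1 + d3) = α := by
          rw [uf_add_right hf, horth i1 i2 hi12 x hxj d3 hd3, add_zero, hxe, hβ, zero_smul,
            add_zero, hf.smul_left, h11, mul_one]
        have hval : x + α • (d1 + d3) = α • d3 := by
          rw [hxe, hβ, zero_smul, add_zero, smul_add, ← add_assoc, ← add_smul, ← two_mul, h2,
            zero_mul, zero_smul, zero_add]
        rw [e1 x, hfa, hval]
        exact (D i2).smul_mem _ hd3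
    · by_cases hj2 : j = i2
      · rw [hj2] at hxj
        obtain ⟨α, β, hxe, hcase⟩ := hstr3 x hxj
        rcases hcase hxx with ⟨hα, hβ⟩ | ⟨hα, hβ⟩
        · refine ⟨i2, ?_⟩
          have hfa : f x (d1 + d3) = 0 := by
            rw [uf_add_right hf, horth i2 i1 hi12.symm x hxj d1 hd1, zero_add, hxe, hα, zero_smul,
              zero_add, hf.smul_left, h3'3, mul_zero]
          rw [e1 x, hfa, zero_smul, add_zero]
          exact hxj
        · refine ⟨i1, ?_⟩
          have hfa : f x (d1 + d3) = α := by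
            rw [uf_add_right hf, horth i2 i1 hi12.symm x hxj d1 hd1, zero_add, hxe, hβ, zero_smul,
              add_zero, hf.smul_left, h33, mul_one]
          have hval : x + α • (d1 + d3) = α • d1 := by
            rw [hxe, hβ, zero_smul, add_zero, smul_add, add_comm (α • d1) (α • d3), ← add_assoc,
              ← add_smul, ← two_mul, h2, zero_mul, zero_smul, zero_add]
          rw [e1 x, hfa, hval]
          exact (D i1).smul_mem _ hd1
      · refine ⟨j, ?_⟩
        have hfa : f x (d1 + d3) = 0 := by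
          rw [uf_add_right hf, horth j i1 hj1 x hxj d1 hd1, horth j i2 hj2 x hxj d3 hd3, add_zero]
        rw [e1 x, hfa, zero_smul, add_zero]
        exact hxj
  have hw1K : uref hf (d1 + d3) 1 ∈ frameStab f D G :=
    ⟨hTG _ hw1T, hw1maps, by rw [hw1inv]; exact hw1maps⟩
  have hw1H : uref hf (d1 + d3) 1 ∉ decompositionStabilizer D ⊓ G := by
    rintro ⟨⟨τ, hτ⟩, _⟩
    have hfix1 : ((uref hf (d1 + d3) 1 : GL ι F) : Matrix ι ι F) *ᵥ d1' = d1' := by
      rw [e1, uf_add_right hf, h1'1, horth i1 i2 hi12 d1' hd1' d3 hd3, add_zero, zero_smul,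
        add_zero]
    have hmv : ((uref hf (d1 + d3) 1 : GL ι F) : Matrix ι ι F) *ᵥ d1 = d3 := by
      rw [e1, uf_add_right hf, h11, horth i1 i2 hi12 d1 hd1 d3 hd3, add_zero, one_smul,
        ← add_assoc, ← two_smul F d1, h2, zero_smul, zero_add]
    have hm1 : d1' ∈ D (τ i1) := by
      rw [← hτ i1]
      exact ⟨d1', hd1', by rw [Matrix.toLin'_apply, hfix1]⟩
    have hτ1 : τ i1 = i1 := by
      by_contra hne
      have h0 := hdisj i1 (τ i1) (Ne.symm hne) d1' hd1' hm1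
      rw [h0, uf_zero_left hf] at h1'1'
      exact zero_ne_one h1'1'
    have hm3 : d3 ∈ D (τ i1) := by
      rw [← hτ i1]
      exact ⟨d1, hd1, by rw [Matrix.toLin'_apply, hmv]⟩
    rw [hτ1] at hm3
    have h0 := hdisj i1 i2 hi12 d3 hm3 hd3
    rw [h0, uf_zero_left hf] at h33
    exact zero_ne_one h33
  -- second element: the transvection with centre d1 + d1' + (d3 + d3')
  have hpB : d1 + d1' ∈ D i1 := (D i1).add_mem hd1 hd1'
  have hrB : d3 + d3' ∈ D i2 := (D i2).add_mem hd3 hd3'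
  have hpp : f (d1 + d1') (d1 + d1') = 0 := by
    rw [hf.add_left, uf_add_right hf, uf_add_right hf, h11, h1'1', h11', h1'1]
    linear_combination h2
  have hrr : f (d3 + d3') (d3 + d3') = 0 := by
    rw [hf.add_left, uf_add_right hf, uf_add_right hf, h33, h3'3', h33', h3'3]
    linear_combination h2
  have ha2 : f (d1 + d1' + (d3 + d3')) (d1 + d1' + (d3 + d3')) = 0 := by
    rw [hf.add_left, uf_add_right hf (d1 + d1') (d1 + d1') (d3 + d3'),
      uf_add_right hf (d3 + d3') (d1 + d1') (d3 + d3'), hpp, hrr,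
      horth i1 i2 hi12 _ hpB _ hrB, horth i2 i1 hi12.symm _ hrB _ hpB]
    ring
  have hw2T : uref hf (d1 + d1' + (d3 + d3')) 1 ∈ TU hf := uref_mem_TU hf ha2 h1one
  have hw2K : uref hf (d1 + d1' + (d3 + d3')) 1 ∉ frameStab f D G := by
    rintro ⟨_, hmaps, _⟩
    obtain ⟨j, hj, _⟩ := hmaps d1 ⟨i1, hd1, by rw [h11]; exact one_ne_zero⟩
    rw [uref_apply_iso hf _ 1 ha2, one_mul] at hj
    have hfa : f d1 (d1 + d1' + (d3 + d3')) = 1 := by
      rw [uf_add_right hf, uf_add_right hf, h11, h11', horth i1 i2 hi12 d1 hd1 _ hrB, add_zero,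
        add_zero]
    rw [hfa, one_smul] at hj
    have hy1 : f (d1 + (d1 + d1' + (d3 + d3'))) d1' = 1 := by
      rw [hf.add_left, hf.add_left, hf.add_left, h11', h1'1', horth i2 i1 hi12.symm _ hrB d1' hd1']
      ring
    have hy3 : f (d1 + (d1 + d1' + (d3 + d3'))) d3 = 1 := by
      rw [hf.add_left, hf.add_left, hf.add_left (d3) (d3') d3, h33, h3'3,
        horth i1 i2 hi12 d1 hd1 d3 hd3, horth i1 i2 hi12 _ hpB d3 hd3]
      ring
    by_cases hj1 : j = i1
    · rw [hj1] at hj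
      rw [horth i1 i2 hi12 _ hj d3 hd3] at hy3
      exact zero_ne_one hy3
    · rw [horth j i1 hj1 _ hj d1' hd1'] at hy1
      exact zero_ne_one hy1
  refine ⟨frameStab f D G, ?_, ?_⟩
  · exact SetLike.lt_iff_le_and_exists.2 ⟨hHK, _, hw1K, hw1H⟩
  · exact SetLike.lt_iff_le_and_exists.2 ⟨fun g hg => hg.1, _, hTG _ hw2T, hw2K⟩

end Cfsg.Agent.Helper93
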