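import Mathlib
import Cfsg.Agent.S0283

/-! U2 project (S2335): a normal subgroup of `SU_n(q)`, `n ≥ 4`, is central or everything. -/

set_option autoImplicit false

namespace Cfsg.Agent.Helper93.U2

open Cfsg.Agent.Helper13

theorem normal_le_center_or_top {F : Type*} [Field F] [Fintype F] {q n : ℕ}
    (hF : Fintype.card F = q ^ 2) (hn : 3 ≤ n) (h32 : ¬(n = 3 ∧ q = 2))
    (N : Subgroup ↥(Cfsg.SU n F q)) [N.Normal] :
    N ≤ Subgroup.center ↥(Cfsg.SU n F q) ∨ N = ⊤ := by
  have hperf := Cfsg.Agent.S0283.su_perfect hF hn h32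
  have hprim := su_preprimitive hF hn
  by_cases hfix : MulAction.fixedPoints N ↥(isoPts hF (n := n)) = Set.univ
  · exact Or.inl (Cfsg.Agent.S0283.le_center_of_fixes hF hn h32 N hfix)
  · right
    have := (Cfsg.Agent.S0283.iwasawa hF hn h32).commutator_le N hfix
    rw [hperf] at this
    exact eq_top_iff.mpr this

end Cfsg.Agent.Helper93.U2
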