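import Mathlib
import Cfsg.Agent.Lib.Helper93.U20
import Cfsg.Agent.Lib.Helper93.U2N
import Cfsg.Agent.Lib.Helper5.U2E1
import Cfsg.Agent.Lib.Helper5.U2D1
import Cfsg.Agent.Lib.Helper75.U2D2
import Cfsg.Agent.Lib.Helper63.U2G6
import Cfsg.Agent.Lib.Helper78.U2R1
import Cfsg.Agent.Lib.Helper78.U2K1
import Cfsg.Agent.Lib.Helper10.U2G7
import Cfsg.Agent.Lib.Helper20.U2R3
import Cfsg.Agent.Lib.Helper56.U2C8

/-! U2 project (S2335): assembly. -/

set_option autoImplicit false

namespace Cfsg.Agent.Helper93.U2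

open Matrix Cfsg.Agent.Helper13
open Cfsg.Agent.Helper5.U2 (exists_frame trace_pairing_nondeg)
open Cfsg.Agent.Helper75.U2 (exists_addChar)
open Cfsg.Agent.Helper63.U2 (aEl_add aEl_injective lEl_conj)
open Cfsg.Agent.Helper78.U2 (trivial_of_wsp_bot card_wsp_le exists_ne_one_of_irreducible)
open Cfsg.Agent.Helper10.U2 (exists_cong_ne)
open Cfsg.Agent.Helper20.U2 (wsp_conj)
open Cfsg.Agent.Helper56.U2 (orbit_bound)

section Ker

variable {G : Type*} [Group G] {V : Type*} [AddCommGroup V] [Module ℂ V]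

/-- the kernel of a representation -/
def kerSub (ρ : Representation ℂ G V) : Subgroup G where
  carrier := {x | ρ x = 1}
  one_mem' := map_one ρ
  mul_mem' := by
    intro a b ha hb
    change ρ (a * b) = 1
    rw [map_mul, ha, hb, mul_one]
  inv_mem' := by
    intro a ha
    change ρ a⁻¹ = 1
    have h1 : ρ a⁻¹ * ρ a = 1 := by rw [← map_mul, inv_mul_cancel, map_one]
    rw [ha, mul_one] at h1
    exact h1

theorem mem_kerSub (ρ : Representation ℂ G V) (x : G) : x ∈ kerSub ρ ↔ ρ x = 1 := Iff.rfl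

instance kerSub_normal (ρ : Representation ℂ G V) : (kerSub ρ).Normal := by
  constructor
  intro n hn x
  rw [mem_kerSub] at hn ⊢
  rw [map_mul, map_mul, hn, mul_one, ← map_mul, mul_inv_cancel, map_one]

end Ker

section Main

variable {F : Type*} [Field F] [Fintype F] {q : ℕ} (hF : Fintype.card F = q ^ 2)

/-- the trace pairing on Hermitian matrices -/
noncomputable def trPair (ψ : AddChar F ℂ) (hψ : ψ 1 ≠ 1) (m : ℕ) : Pairing ↥(hermSub hF m) where
  β a b := ψ (Matrix.trace (a.1 * b.1))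
  zero_right a := by
    rw [AddSubgroup.coe_zero, Matrix.mul_zero, Matrix.trace_zero, AddChar.map_zero_eq_one]
  add_right a b c := by
    rw [AddSubgroup.coe_add, Matrix.mul_add, Matrix.trace_add, AddChar.map_add_eq_mul]
  symm a b := by rw [Matrix.trace_mul_comm]
  nondeg a h := by
    apply Subtype.ext
    rw [AddSubgroup.coe_zero]
    apply trace_pairing_nondeg hF ψ hψ a.1 a.2
    intro K hK
    exact h ⟨K, hK⟩

theorem trPair_β (ψ : AddChar F ℂ) (hψ : ψ 1 ≠ 1) (m : ℕ) (a b : ↥(hermSub hF m)) :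
    (trPair hF ψ hψ m).β a b = ψ (Matrix.trace (a.1 * b.1)) := rfl

omit [Fintype F] in
theorem one_add_neg_mul {m : ℕ} (E : Matrix (Fin m) (Fin m) F) (hE : E * E = 0) :
    (1 + -E) * (1 + E) = 1 := by
  rw [Matrix.add_mul, Matrix.mul_add, Matrix.mul_add, Matrix.one_mul, Matrix.one_mul,
    Matrix.mul_one, Matrix.neg_mul, hE]
  abel

omit [Fintype F] in
theorem one_add_mul_neg {m : ℕ} (E : Matrix (Fin m) (Fin m) F) (hE : E * E = 0) :
    (1 + E) * (1 + -E) = 1 := by
  rw [Matrix.add_mul, Matrix.mul_add, Matrix.mul_add, Matrix.one_mul, Matrix.one_mul,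
    Matrix.mul_one, Matrix.mul_neg, hE]
  abel

/-- closure of the set of occurring weights under congruence -/
theorem wsp_cong_closed {G : Type*} [Group G] {V : Type*} [AddCommGroup V] [Module ℂ V]
    (ψ : AddChar F ℂ) (hψ : ψ 1 ≠ 1) {m : ℕ} (el : ↥(hermSub hF m) → G)
    (ρ : Representation ℂ G V) (l : G) (T T' : Matrix (Fin m) (Fin m) F)
    (h1 : T' * T = 1) (h2 : T * T' = 1)
    (hl : ∀ c, l * el c * l⁻¹ = el (congH hF T' c)) (b : ↥(hermSub hF m))
    (hb : wsp (trPair hF ψ hψ m) el ρ b ≠ ⊥) :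
    wsp (trPair hF ψ hψ m) el ρ (congH hF (cT hF T) b) ≠ ⊥ := by
  apply wsp_conj (trPair hF ψ hψ m) el ρ l (congH hF T') (congH hF (cT hF T'))
  · intro c
    refine ⟨congH hF T c, ?_⟩
    apply Subtype.ext
    rw [congH_val, congH_val, ← Matrix.mul_assoc, ← Matrix.mul_assoc,
      h1, Matrix.one_mul, Matrix.mul_assoc, ← cT_mul, h1, cT_one, Matrix.mul_one]
  · exact hl
  · intro a c
    rw [trPair_β, trPair_β, congH_val, congH_val, cT_cT]
    congr 1
    rw [← Matrix.mul_assoc, ← Matrix.mul_assoc, Matrix.trace_mul_comm]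
    simp only [Matrix.mul_assoc]
  · have hback : congH hF (cT hF T') (congH hF (cT hF T) b) = b := by
      apply Subtype.ext
      rw [congH_val, congH_val, cT_cT, cT_cT, ← Matrix.mul_assoc, ← Matrix.mul_assoc,
        ← cT_mul, h2, cT_one, Matrix.one_mul, Matrix.mul_assoc, h2, Matrix.mul_one]
    rw [hback]
    exact hb

include hF in
theorem main_bound {n m : ℕ} (hnm : n = m + m) (hm : 2 ≤ m) (k : ℕ)
    (ρ : Representation ℂ (Cfsg.SU n F q) (Fin k → ℂ)) (hρ : ρ.IsIrreducible) (hk : 2 ≤ k) :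
    q ^ n - 1 ≤ (q + 1) * k := by
  classical
  obtain ⟨fr⟩ := exists_frame hF n m hnm
  obtain ⟨ε, hε0, hε'⟩ := exists_trace_zero hF
  have hε : ε ^ q = -ε := by linear_combination hε'
  obtain ⟨ψ, hψ⟩ := exists_addChar F
  letI : Fintype ↥(hermSub hF m) := Fintype.ofFinite _
  have hel : ∀ a b : ↥(hermSub hF m), aEl hF fr ε (a + b) =
      (aEl hF fr ε a * aEl hF fr ε b : ↥(Cfsg.SU n F q)) := aEl_add hF fr ε hε
  by_cases hall : ∀ a : ↥(hermSub hF m), a ≠ 0 →
      wsp (trPair hF ψ hψ m) (aEl hF fr ε) ρ a = ⊥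
  · exfalso
    have htriv := trivial_of_wsp_bot (trPair hF ψ hψ m) (aEl hF fr ε) ρ hel hall
    have hn3 : 3 ≤ n := by omega
    have h32 : ¬ (n = 3 ∧ q = 2) := by omega
    rcases normal_le_center_or_top hF hn3 h32 (kerSub ρ) with hc | ht
    · obtain ⟨E, a, hE, hne⟩ := exists_cong_ne hF m hm
      have h1 : aEl hF fr ε a ∈ Subgroup.center ↥(Cfsg.SU n F q) := hc (htriv a)
      have h2 : (lEl hF fr E * aEl hF fr ε a * (lEl hF fr E)⁻¹ : ↥(Cfsg.SU n F q)) =
          aEl hF fr ε a := by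
        rw [Subgroup.mem_center_iff] at h1
        rw [h1 (lEl hF fr E), mul_assoc, mul_inv_cancel, mul_one]
      rw [lEl_conj hF fr ε hε E hE a] at h2
      exact hne (aEl_injective hF fr ε hε hε0 h2)
    · obtain ⟨g, hg⟩ := exists_ne_one_of_irreducible ρ hρ hk
      have : g ∈ kerSub ρ := by rw [ht]; trivial
      exact hg this
  · push Not at hall
    obtain ⟨a₀, ha₀, hw₀⟩ := hall
    set S : Set ↥(hermSub hF m) :=
      {a | wsp (trPair hF ψ hψ m) (aEl hF fr ε) ρ a ≠ ⊥} with hS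
    set O : Set (Matrix (Fin m) (Fin m) F) := Subtype.val '' S with hOdef
    have hO : ∀ H ∈ O, cT hF H = H := by
      rintro H ⟨a, -, rfl⟩
      exact a.2
    have hcl : ∀ E : Matrix (Fin m) (Fin m) F, E * E = 0 → ∀ H ∈ O,
        cT hF (1 + E) * H * (1 + E) ∈ O := by
      rintro E hE H ⟨b, hb, rfl⟩
      have hE' : (-E) * (-E) = 0 := by rw [neg_mul_neg, hE]
      refine ⟨congH hF (cT hF (1 + E)) b, ?_, by rw [congH_val, cT_cT]⟩
      exact wsp_cong_closed hF ψ hψ (aEl hF fr ε) ρ (lEl hF fr (-E)) (1 + E) (1 + -E)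
        (one_add_neg_mul E hE) (one_add_mul_neg E hE)
        (fun c => lEl_conj hF fr ε hε (-E) hE' c) b hb
    have hne : (a₀ : Matrix (Fin m) (Fin m) F) ≠ 0 := by
      intro h
      apply ha₀
      apply Subtype.ext
      rw [h, AddSubgroup.coe_zero]
    have hbound := orbit_bound hF hm O hO hcl a₀.1 ⟨a₀, hw₀, rfl⟩ hne
    have h1 : O.ncard = S.ncard := Set.ncard_image_of_injective S Subtype.val_injective
    have h2 : S.ncard ≤ k := by
      have := card_wsp_le (trPair hF ψ hψ m) (aEl hF fr ε) ρ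
      rw [Module.finrank_fin_fun] at this
      rw [← Nat.card_coe_set_eq]
      exact this
    have h3 : q ^ (2 * m) = q ^ n := by rw [hnm, two_mul]
    rw [h3, h1] at hbound
    exact hbound.trans (Nat.mul_le_mul_left _ h2)

end Main

end Cfsg.Agent.Helper93.U2
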