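import Mathlib
import Cfsg.Agent.Lib.Helper93.U2Main
import Cfsg.Agent.Lib.Helper93.U30
import Cfsg.Agent.Lib.Helper5.U3E1O
import Cfsg.Agent.Lib.Helper68.U3T4
import Cfsg.Agent.Lib.Helper68.U3T5
import Cfsg.Agent.Lib.Helper16.U3O6e
import Cfsg.Agent.Lib.Helper16.U3O6g
import Cfsg.Agent.Lib.Helper16.U3O6j
import Cfsg.Agent.Lib.Helper19.U3CN1
import Cfsg.Agent.Lib.Helper20.U3R2w
import Cfsg.Agent.Lib.Helper10.U3O6hi
import Cfsg.Agent.Lib.Helper46.U3HCCore

/-! U3 project (S2334): assembly. -/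

set_option autoImplicit false

namespace Cfsg.Agent.Helper93.U3

open Matrix Cfsg.Agent.Helper13 Cfsg.Agent.Helper93.U2
open Cfsg.Agent.Helper75.U2 (exists_addChar)
open Cfsg.Agent.Helper78.U2 (trivial_of_wsp_bot exists_ne_one_of_irreducible)
open Cfsg.Agent.Helper10.U2 (exists_cong_ne)
open Cfsg.Agent.Helper56.U2 (orbit_bound)
open Cfsg.Agent.Helper5.U3 (exists_frameO)
open Cfsg.Agent.Helper68.U3 (exists_norm_ne_one exists_c₀)
open Cfsg.Agent.Helper16.U3 (aElO_add aElO_injective lElO_conj hEl_conj)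
open Cfsg.Agent.Helper19.U3 (orbit_bound_one)
open Cfsg.Agent.Helper20.U3 (card_wsp_mul_le)

section Main

variable {F : Type*} [Field F] [Fintype F] {q : ℕ} (hF : Fintype.card F = q ^ 2)

theorem congH_ne_zero {m : ℕ} (T T' : Matrix (Fin m) (Fin m) F) (h : T' * T = 1)
    (b : ↥(hermSub hF m)) (hb : b ≠ 0) : congH hF T b ≠ 0 := by
  intro h0
  apply hb
  apply Subtype.ext
  have h1 : (congH hF T b).1 = 0 := by rw [h0]; rfl
  have h2 : b.1 = T' * (T * b.1 * cT hF T) * cT hF T' := by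
    rw [← Matrix.mul_assoc, ← Matrix.mul_assoc, h, Matrix.one_mul, Matrix.mul_assoc, ← cT_mul, h,
      cT_one, Matrix.mul_one]
  rw [congH_val] at h1
  rw [h2, h1, Matrix.mul_zero, Matrix.zero_mul]
  rfl

include hF in
theorem main_bound_odd {n m : ℕ} (hnm : n = m + m + 1) (hm : 1 ≤ m) (h32 : ¬ (n = 3 ∧ q = 2))
    (k : ℕ) (ρ : Representation ℂ (Cfsg.SU n F q) (Fin k → ℂ)) (hρ : ρ.IsIrreducible)
    (hk : 2 ≤ k) : q ^ n - q ≤ (q + 1) * k := by
  classical
  obtain ⟨fr⟩ := exists_frameO hF n m hnm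
  obtain ⟨ε, hε0, hε'⟩ := exists_trace_zero hF
  have hε : ε ^ q = -ε := by linear_combination hε'
  obtain ⟨ψ, hψ⟩ := exists_addChar F
  obtain ⟨c₀, hc₀⟩ := exists_c₀ hF
  letI : Fintype ↥(hermSub hF m) := Fintype.ofFinite _
  have hel : ∀ a b : ↥(hermSub hF m), aElO hF fr ε (a + b) =
      (aElO hF fr ε a * aElO hF fr ε b : ↥(Cfsg.SU n F q)) := aElO_add hF fr ε hε
  have hq2 : 2 ≤ q := Cfsg.Agent.Helper19.herm_two_le hF
  by_cases hall : ∀ a : ↥(hermSub hF m), a ≠ 0 →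
      wsp (trPair hF ψ hψ m) (aElO hF fr ε) ρ a = ⊥
  · exfalso
    have htriv := trivial_of_wsp_bot (trPair hF ψ hψ m) (aElO hF fr ε) ρ hel hall
    have hn3 : 3 ≤ n := by omega
    rcases normal_le_center_or_top hF hn3 h32 (kerSub ρ) with hc | ht
    · have hwit : ∃ (l : ↥(Cfsg.SU n F q)) (a b : ↥(hermSub hF m)), b ≠ a ∧
          l * aElO hF fr ε a * l⁻¹ = aElO hF fr ε b := by
        rcases Nat.lt_or_ge m 2 with h1 | h2
        · have hm1 : m = 1 := by omega
          subst hm1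
          have hq3 : 2 < q := by
            have hn3' : n = 3 := by omega
            by_contra hh
            exact h32 ⟨hn3', by omega⟩
          obtain ⟨t, ht0, ht1⟩ := exists_norm_ne_one hF hq3
          refine ⟨hEl hF fr t (t ^ q * t⁻¹), ⟨1, cT_one hF⟩,
            congH hF (t • (1 : Matrix (Fin 1) (Fin 1) F)) ⟨1, cT_one hF⟩, ?_,
            hEl_conj hF fr ε hε t ht0 _⟩
          intro heq
          have h4 : (congH hF (t • (1 : Matrix (Fin 1) (Fin 1) F)) ⟨1, cT_one hF⟩).1 =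
              (t * t ^ q) • (1 : Matrix (Fin 1) (Fin 1) F) := by
            rw [congH_val, cT_smul, cT_one, Matrix.mul_one, Matrix.smul_mul, Matrix.one_mul,
              smul_smul]
          rw [heq] at h4
          have h3 := congrFun (congrFun h4 0) 0
          rw [Matrix.smul_apply, Matrix.one_apply_eq, smul_eq_mul, mul_one] at h3
          exact ht1 h3.symm
        · obtain ⟨E, a, hE, hne⟩ := exists_cong_ne hF m h2
          exact ⟨lElO hF fr E, a, congH hF (1 + E) a, hne, lElO_conj hF fr ε hε E hE a⟩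
      obtain ⟨l, a, b, hne, hconj⟩ := hwit
      have h1 : aElO hF fr ε a ∈ Subgroup.center ↥(Cfsg.SU n F q) := hc (htriv a)
      have h2 : l * aElO hF fr ε a * l⁻¹ = aElO hF fr ε a := by
        rw [Subgroup.mem_center_iff] at h1
        rw [h1 l, mul_assoc, mul_inv_cancel, mul_one]
      rw [hconj] at h2
      exact hne (aElO_injective hF fr ε hε hε0 h2)
    · obtain ⟨g, hg⟩ := exists_ne_one_of_irreducible ρ hρ hk
      have : g ∈ kerSub ρ := by rw [ht]; trivial
      exact hg this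
  · push Not at hall
    obtain ⟨a₀, ha₀, hw₀⟩ := hall
    set S : Set ↥(hermSub hF m) :=
      {a | a ≠ 0 ∧ wsp (trPair hF ψ hψ m) (aElO hF fr ε) ρ a ≠ ⊥} with hS
    set O : Set (Matrix (Fin m) (Fin m) F) := Subtype.val '' S with hOdef
    have hO : ∀ H ∈ O, cT hF H = H := by
      rintro H ⟨a, -, rfl⟩
      exact a.2
    have hne : (a₀ : Matrix (Fin m) (Fin m) F) ≠ 0 := by
      intro h
      apply ha₀
      apply Subtype.ext
      rw [h, AddSubgroup.coe_zero]
    have hbound : q ^ (2 * m) - 1 ≤ (q + 1) * O.ncard := by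
      rcases Nat.lt_or_ge m 2 with h1 | h2
      · have hm1 : m = 1 := by omega
        subst hm1
        have hcl1 : ∀ t : F, t ≠ 0 → ∀ H ∈ O, (t * t ^ q) • H ∈ O := by
          rintro t ht H ⟨b, ⟨hb0, hb⟩, rfl⟩
          have hT1 : (t⁻¹ • (1 : Matrix (Fin 1) (Fin 1) F)) * (t • 1) = 1 := by
            rw [Matrix.smul_mul, Matrix.one_mul, smul_smul, inv_mul_cancel₀ ht, one_smul]
          have hT2 : (t • (1 : Matrix (Fin 1) (Fin 1) F)) * (t⁻¹ • 1) = 1 := by
            rw [Matrix.smul_mul, Matrix.one_mul, smul_smul, mul_inv_cancel₀ ht, one_smul]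
          have hcT1 : cT hF (t⁻¹ • (1 : Matrix (Fin 1) (Fin 1) F)) * cT hF (t • 1) = 1 := by
            rw [← cT_mul, hT2, cT_one]
          refine ⟨congH hF (cT hF (t • (1 : Matrix (Fin 1) (Fin 1) F))) b, ⟨?_, ?_⟩, ?_⟩
          · exact congH_ne_zero hF _ _ hcT1 b hb0
          · exact wsp_cong_closed hF ψ hψ (aElO hF fr ε) ρ
              (hEl hF fr t⁻¹ (t⁻¹ ^ q * t⁻¹⁻¹)) (t • 1) (t⁻¹ • 1) hT1 hT2
              (fun c => hEl_conj hF fr ε hε t⁻¹ (inv_ne_zero ht) c) b hb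
          · rw [congH_val, cT_cT, cT_smul, cT_one, Matrix.smul_mul, Matrix.one_mul,
              Matrix.mul_smul, Matrix.mul_one, smul_smul, mul_comm]
        have := orbit_bound_one hF O hO hcl1 a₀.1 ⟨a₀, ⟨ha₀, hw₀⟩, rfl⟩ hne
        simpa using this
      · have hcl : ∀ E : Matrix (Fin m) (Fin m) F, E * E = 0 → ∀ H ∈ O,
            cT hF (1 + E) * H * (1 + E) ∈ O := by
          rintro E hE H ⟨b, ⟨hb0, hb⟩, rfl⟩
          have hE' : (-E) * (-E) = 0 := by rw [neg_mul_neg, hE]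
          have hcT1 : cT hF (1 + -E) * cT hF (1 + E) = 1 := by
            rw [← cT_mul, one_add_mul_neg E hE, cT_one]
          refine ⟨congH hF (cT hF (1 + E)) b, ⟨?_, ?_⟩, by rw [congH_val, cT_cT]⟩
          · exact congH_ne_zero hF _ _ hcT1 b hb0
          · exact wsp_cong_closed hF ψ hψ (aElO hF fr ε) ρ (lElO hF fr (-E)) (1 + E) (1 + -E)
              (one_add_neg_mul E hE) (one_add_mul_neg E hE)
              (fun c => lElO_conj hF fr ε hε (-E) hE' c) b hb
        exact orbit_bound hF h2 O hO hcl a₀.1 ⟨a₀, ⟨ha₀, hw₀⟩, rfl⟩ hne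
    have h1 : O.ncard = S.ncard := Set.ncard_image_of_injective S Subtype.val_injective
    have h2 : q * S.ncard ≤ k := by
      have := card_wsp_mul_le (trPair hF ψ hψ m) (aElO hF fr ε) ρ q
        (fun a ha hw => Cfsg.Agent.Helper46.U3.h46_heis_wsp_of hF fr ε hε hε0 c₀
          (fun y b => Cfsg.Agent.Helper10.U3.uEl_mul_aElO hF fr c₀ ε hc₀ hε y b)
          (fun y y' => Cfsg.Agent.Helper10.U3.uEl_mul_uEl hF fr c₀ ε hc₀ hε hε0 y y')
          ψ hψ (trPair hF ψ hψ m) (fun a b => rfl) ρ a ha hw)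
      rw [Module.finrank_fin_fun] at this
      rw [← Nat.card_coe_set_eq]
      exact this
    have h3 : q ^ n - q = q * (q ^ (2 * m) - 1) := by
      rw [hnm, Nat.mul_sub, mul_one, two_mul, pow_succ, mul_comm]
    rw [h3]
    calc q * (q ^ (2 * m) - 1) ≤ q * ((q + 1) * O.ncard) := Nat.mul_le_mul_left _ hbound
      _ = (q + 1) * (q * S.ncard) := by rw [h1]; ring
      _ ≤ (q + 1) * k := Nat.mul_le_mul_left _ h2

end Main

end Cfsg.Agent.Helper93.U3
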