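import Cfsg.Agent.Lib.Helper93.SpCtr
import Cfsg.Agent.Lib.Helper13.NormSurj

set_option autoImplicit false
set_option linter.unusedSectionVars false

namespace Cfsg.Agent.Helper93

open Matrix Cfsg.Geo

variable {ι : Type} [Fintype ι] [DecidableEq ι] {F : Type*} [Field F]
variable {σ : F ≃+* F} {f : (ι → F) → (ι → F) → F}

/-! ### basic identities for a unitary form -/

lemma uf_add_right (hf : IsUnitaryForm σ f) (v x y : ι → F) : f v (x + y) = f v x + f v y := by
  rw [hf.herm v (x + y), hf.add_left, map_add, ← hf.herm, ← hf.herm]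

lemma uf_smul_right (hf : IsUnitaryForm σ f) (c : F) (v x : ι → F) :
    f v (c • x) = σ c * f v x := by
  rw [hf.herm v (c • x), hf.smul_left, map_mul, ← hf.herm]

lemma uf_zero_left (hf : IsUnitaryForm σ f) (x : ι → F) : f 0 x = 0 := by
  have := hf.smul_left 0 0 x
  simpa using this

lemma uf_zero_right (hf : IsUnitaryForm σ f) (x : ι → F) : f x 0 = 0 := by
  rw [hf.herm x 0, uf_zero_left hf, map_zero]

lemma uf_neg_left (hf : IsUnitaryForm σ f) (x y : ι → F) : f (-x) y = - f x y := by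
  have := hf.smul_left (-1) x y
  simpa using this

lemma uf_neg_right (hf : IsUnitaryForm σ f) (x y : ι → F) : f x (-y) = - f x y := by
  rw [hf.herm x (-y), uf_neg_left hf, map_neg, ← hf.herm]

lemma uf_sub_left (hf : IsUnitaryForm σ f) (x y z : ι → F) : f (x - y) z = f x z - f y z := by
  rw [sub_eq_add_neg, hf.add_left, uf_neg_left hf, sub_eq_add_neg]

lemma uf_sub_right (hf : IsUnitaryForm σ f) (x y z : ι → F) : f x (y - z) = f x y - f x z := by
  rw [sub_eq_add_neg, uf_add_right hf, uf_neg_right hf, sub_eq_add_neg]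

lemma uf_self (hf : IsUnitaryForm σ f) (v : ι → F) : σ (f v v) = f v v := (hf.herm v v).symm

lemma uf_eq_zero_symm (hf : IsUnitaryForm σ f) {x y : ι → F} (h : f x y = 0) : f y x = 0 := by
  rw [hf.herm y x, h, map_zero]

lemma uf_ne_zero_symm (hf : IsUnitaryForm σ f) {x y : ι → F} (h : f x y ≠ 0) : f y x ≠ 0 :=
  fun h0 => h (uf_eq_zero_symm hf h0)

lemma ufvec_dot (hf : IsUnitaryForm σ f) (w x : ι → F) : fvec f w ⬝ᵥ x = f x w := by
  let L : (ι → F) →ₗ[F] F :=
    { toFun := fun x => f x w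
      map_add' := fun a b => hf.add_left a b w
      map_smul' := fun c a => by simpa using hf.smul_left c a w }
  have h1 : (dotProductEquiv F ι) ((dotProductEquiv F ι).symm L) x = L x := by
    rw [LinearEquiv.apply_symm_apply]
  have h2 : (dotProductEquiv F ι).symm L = fvec f w := by
    funext j; rfl
  rw [h2] at h1
  exact h1

/-- the functional `x ↦ f x w` as a linear map -/
def uflin (hf : IsUnitaryForm σ f) (w : ι → F) : (ι → F) →ₗ[F] F where
  toFun := fun x => f x w
  map_add' := fun a b => hf.add_left a b w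
  map_smul' := fun c a => by simpa using hf.smul_left c a w

lemma uflin_apply (hf : IsUnitaryForm σ f) (w x : ι → F) : uflin hf w x = f x w := rfl

/-! ### the field automorphism -/

lemma uf_exists_ne (hf : IsUnitaryForm σ f) : ∃ a : F, σ a ≠ a := by
  by_contra hcon
  push Not at hcon
  exact hf.ne_refl (RingEquiv.ext hcon)

lemma uf_exists_trace_ne_zero (hf : IsUnitaryForm σ f) : ∃ a : F, a + σ a ≠ 0 := by
  obtain ⟨a, ha⟩ := uf_exists_ne hf
  by_cases h : a + σ a = 0
  · refine ⟨1, ?_⟩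
    rw [map_one]
    intro h1
    apply ha
    have h2 : a + a = 0 := by linear_combination a * h1
    linear_combination h - h2
  · exact ⟨a, h⟩

lemma uf_trace_surj (hf : IsUnitaryForm σ f) (t : F) (ht : σ t = t) : ∃ b : F, b + σ b = t := by
  obtain ⟨a, ha⟩ := uf_exists_trace_ne_zero hf
  refine ⟨t * a / (a + σ a), ?_⟩
  have hfix : σ (a + σ a) = a + σ a := by rw [map_add, hf.involutive]; ring
  rw [map_div₀, map_mul, ht, hfix, ← add_div, ← mul_add]
  exact mul_div_cancel_right₀ t ha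

lemma uf_exists_theta (hf : IsUnitaryForm σ f) : ∃ θ : F, θ ≠ 0 ∧ θ + σ θ = 0 := by
  obtain ⟨a, ha⟩ := uf_exists_ne hf
  refine ⟨a - σ a, sub_ne_zero.mpr (Ne.symm ha), ?_⟩
  rw [map_sub, hf.involutive]; ring

lemma uf_norm_surj [Finite F] (hf : IsUnitaryForm σ f) (c : F) (hc : c ≠ 0) (hσc : σ c = c) :
    ∃ a : F, a * σ a = c := by
  have h1 : (σ : F →+* F) ≠ RingHom.id F := by
    intro h
    apply hf.ne_refl
    apply RingEquiv.ext
    intro x
    have := RingHom.congr_fun h x
    simpa using this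
  obtain ⟨a, ha⟩ := Cfsg.Agent.Helper13.norm_surj_involution (σ : F →+* F) h1
    (fun a => by simpa using hf.involutive a) c hc (by simpa using hσc)
  exact ⟨a, by simpa using ha⟩

/-- an element of norm one different from one -/
lemma uf_exists_norm_one_ne_one (hf : IsUnitaryForm σ f) : ∃ δ : F, δ ≠ 1 ∧ δ * σ δ = 1 := by
  obtain ⟨a, ha⟩ := uf_exists_ne hf
  have ha0 : a ≠ 0 := by
    rintro rfl
    exact ha (map_zero σ)
  have hσa0 : σ a ≠ 0 := by
    intro h0
    apply ha0
    have := congrArg σ h0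
    rwa [hf.involutive, map_zero] at this
  refine ⟨σ a / a, ?_, ?_⟩
  · intro h
    rw [div_eq_one_iff_eq ha0] at h
    exact ha h
  · rw [map_div₀, hf.involutive]
    field_simp

/-! ### Riesz representation -/

lemma ufvec_add (hf : IsUnitaryForm σ f) (w w' : ι → F) :
    fvec f (w + w') = fvec f w + fvec f w' := by
  funext j
  exact uf_add_right hf _ w w'

lemma ufvec_smul (hf : IsUnitaryForm σ f) (c : F) (w : ι → F) :
    fvec f (c • w) = σ c • fvec f w := by
  funext j
  exact uf_smul_right hf c _ w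

lemma uf_exists_fvec_eq [Finite F] (hf : IsUnitaryForm σ f) (ψ : ι → F) :
    ∃ w, fvec f w = ψ := by
  have hinj : Function.Injective (fun w : ι → F => fvec f w) := by
    intro w w' h
    by_contra hne
    have hne' : w - w' ≠ 0 := sub_ne_zero.mpr hne
    obtain ⟨⟨x, hx⟩, _⟩ := hf.nondegenerate _ hne'
    apply hx
    have h' : fvec f w = fvec f w' := h
    rw [uf_sub_right hf, ← ufvec_dot hf w, ← ufvec_dot hf w', h', sub_self]
  exact (Finite.injective_iff_surjective.mp hinj) ψ

/-- a vector outside a subspace pairs non-trivially with some vector of the perp -/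
lemma uf_exists_perp_pairing [Finite F] (hf : IsUnitaryForm σ f) (S : Submodule F (ι → F))
    (a : ι → F) (ha : a ∉ S) : ∃ p, (∀ y ∈ S, f y p = 0) ∧ f a p ≠ 0 := by
  obtain ⟨χ, hχS, hχa⟩ := exists_functional S a ha
  obtain ⟨p, hp⟩ := uf_exists_fvec_eq hf χ
  refine ⟨p, fun y hy => ?_, ?_⟩
  · rw [← ufvec_dot hf, hp]; exact hχS y hy
  · rw [← ufvec_dot hf, hp]; exact hχa

lemma not_mem_span_of_indep {x y : ι → F}
    (h : ∀ s t : F, s • x + t • y = 0 → s = 0 ∧ t = 0) : x ∉ Submodule.span F {y} := by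
  intro hmem
  obtain ⟨k, hk⟩ := Submodule.mem_span_singleton.mp hmem
  have := h 1 (-k) (by rw [← hk]; simp)
  exact one_ne_zero this.1

lemma indep_symm {x y : ι → F}
    (h : ∀ s t : F, s • x + t • y = 0 → s = 0 ∧ t = 0) :
    ∀ s t : F, s • y + t • x = 0 → s = 0 ∧ t = 0 := by
  intro s t hst
  have := h t s (by rw [add_comm]; exact hst)
  exact ⟨this.2, this.1⟩

lemma indep_of_not_mem_span {x y : ι → F} (h : x ∉ Submodule.span F {y}) (hy : y ≠ 0) :
    ∀ s t : F, s • x + t • y = 0 → s = 0 ∧ t = 0 := by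
  intro s t hst
  have hs : s = 0 := by
    by_contra hs
    apply h
    rw [Submodule.mem_span_singleton]
    refine ⟨-(s⁻¹ * t), ?_⟩
    have h1 : s • x = -(t • y) := eq_neg_of_add_eq_zero_left hst
    have h2 : x = s⁻¹ • (s • x) := by rw [smul_smul, inv_mul_cancel₀ hs, one_smul]
    rw [h2, h1, smul_neg, smul_smul, neg_smul]
  refine ⟨hs, ?_⟩
  rw [hs, zero_smul, zero_add] at hst
  rcases smul_eq_zero.mp hst with h0 | h0
  · exact h0
  · exact absurd h0 hy

/-- a functional with two prescribed values -/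
lemma exists_functional_two {x d : ι → F}
    (h : ∀ s t : F, s • x + t • d = 0 → s = 0 ∧ t = 0) (α β : F) :
    ∃ ψ : ι → F, ψ ⬝ᵥ x = α ∧ ψ ⬝ᵥ d = β := by
  obtain ⟨φ1, hφ1, hφ1x⟩ := exists_functional _ x (not_mem_span_of_indep h)
  obtain ⟨φ2, hφ2, hφ2d⟩ := exists_functional _ d (not_mem_span_of_indep (indep_symm h))
  have e1 : φ1 ⬝ᵥ d = 0 := hφ1 d (Submodule.mem_span_singleton_self d)
  have e2 : φ2 ⬝ᵥ x = 0 := hφ2 x (Submodule.mem_span_singleton_self x)
  refine ⟨(α / (φ1 ⬝ᵥ x)) • φ1 + (β / (φ2 ⬝ᵥ d)) • φ2, ?_, ?_⟩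
  · rw [add_dotProduct, smul_dotProduct, smul_dotProduct, e2, smul_zero, add_zero, smul_eq_mul,
      div_mul_cancel₀ _ hφ1x]
  · rw [add_dotProduct, smul_dotProduct, smul_dotProduct, e1, smul_zero, zero_add, smul_eq_mul,
      div_mul_cancel₀ _ hφ2d]

/-! ### quasi-reflections and transvections -/

/-- the parameter `c` gives an isometry `x ↦ x + c f(x,a) a` -/
def UValid (σ : F ≃+* F) (f : (ι → F) → (ι → F) → F) (a : ι → F) (c : F) : Prop :=
  c + σ c + c * σ c * f a a = 0

lemma UValid.ne {a : ι → F} {c : F} (h : UValid σ f a c) : 1 + c * f a a ≠ 0 := by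
  intro h0
  have h1 : (1 + c * f a a) * (1 + σ c * f a a) = 1 := by
    unfold UValid at h
    linear_combination (f a a) * h
  rw [h0, zero_mul] at h1
  exact zero_ne_one h1

lemma uvalid_of_iso {a : ι → F} {c : F} (ha : f a a = 0) (hc : c + σ c = 0) : UValid σ f a c := by
  unfold UValid
  rw [ha, mul_zero, add_zero]
  exact hc

open Classical in
/-- the map `x ↦ x + c f(x,a) a` as an element of `GL` (the identity when not invertible) -/
noncomputable def uref (hf : IsUnitaryForm σ f) (a : ι → F) (c : F) : GL ι F :=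
  if h : 1 + c * f a a ≠ 0 then
    Matrix.GeneralLinearGroup.mkOfDetNeZero (tvMat (c • fvec f a) a)
      (by rw [tvMat_det, smul_dotProduct, ufvec_dot hf, smul_eq_mul]; exact h)
  else 1

lemma uref_apply (hf : IsUnitaryForm σ f) (a : ι → F) (c : F) (h : 1 + c * f a a ≠ 0)
    (x : ι → F) : ((uref hf a c : GL ι F) : Matrix ι ι F) *ᵥ x = x + (c * f x a) • a := by
  unfold uref
  rw [dif_pos h]
  show tvMat (c • fvec f a) a *ᵥ x = _
  rw [tvMat_mulVec, smul_dotProduct, ufvec_dot hf, smul_eq_mul]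

lemma uref_of_not (hf : IsUnitaryForm σ f) (a : ι → F) (c : F) (h : ¬ (1 + c * f a a ≠ 0)) :
    uref hf a c = 1 := by
  unfold uref
  rw [dif_neg h]

lemma uref_det (hf : IsUnitaryForm σ f) (a : ι → F) (c : F) (h : 1 + c * f a a ≠ 0) :
    ((uref hf a c : GL ι F) : Matrix ι ι F).det = 1 + c * f a a := by
  unfold uref
  rw [dif_pos h]
  show (tvMat (c • fvec f a) a).det = _
  rw [tvMat_det, smul_dotProduct, ufvec_dot hf, smul_eq_mul]

lemma iso_ne (c : F) {a : ι → F} (ha : f a a = 0) : 1 + c * f a a ≠ 0 := by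
  rw [ha, mul_zero, add_zero]; exact one_ne_zero

lemma uref_apply_iso (hf : IsUnitaryForm σ f) (a : ι → F) (c : F) (ha : f a a = 0)
    (x : ι → F) : ((uref hf a c : GL ι F) : Matrix ι ι F) *ᵥ x = x + (c * f x a) • a :=
  uref_apply hf a c (iso_ne c ha) x

lemma uref_congr (hf : IsUnitaryForm σ f) {a a' : ι → F} {c c' : F}
    (h1 : c * f a a = c' * f a' a')
    (h2 : ∀ x, (c * f x a) • a = (c' * f x a') • a') : uref hf a c = uref hf a' c' := by
  by_cases h : 1 + c * f a a ≠ 0
  · have h' : 1 + c' * f a' a' ≠ 0 := by rw [← h1]; exact h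
    apply gl_ext
    intro x
    rw [uref_apply hf a c h, uref_apply hf a' c' h', h2]
  · have h' : ¬ (1 + c' * f a' a' ≠ 0) := by rw [← h1]; exact h
    rw [uref_of_not hf a c h, uref_of_not hf a' c' h']

lemma uref_zero (hf : IsUnitaryForm σ f) (a : ι → F) : uref hf a 0 = 1 := by
  have h : 1 + (0 : F) * f a a ≠ 0 := by rw [zero_mul, add_zero]; exact one_ne_zero
  apply gl_ext
  intro x
  rw [uref_apply hf a 0 h, gl_one_apply, zero_mul, zero_smul, add_zero]

lemma uref_zero_vec (hf : IsUnitaryForm σ f) (c : F) : uref hf (0 : ι → F) c = 1 := by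
  have h : 1 + c * f (0 : ι → F) 0 ≠ 0 := by
    rw [uf_zero_left hf, mul_zero, add_zero]; exact one_ne_zero
  apply gl_ext
  intro x
  rw [uref_apply hf 0 c h, gl_one_apply, smul_zero, add_zero]

theorem conj_uref (hf : IsUnitaryForm σ f) (p : GL ι F) (hp : Isom f p) (a : ι → F) (c : F) :
    p * uref hf a c * p⁻¹ = uref hf ((p : Matrix ι ι F) *ᵥ a) c := by
  by_cases h : 1 + c * f a a ≠ 0
  · have h' : 1 + c * f ((p : Matrix ι ι F) *ᵥ a) ((p : Matrix ι ι F) *ᵥ a) ≠ 0 := by
      rw [hp]; exact h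
    apply gl_ext
    intro x
    rw [gl_mul_apply, gl_mul_apply, uref_apply hf a c h, uref_apply hf _ c h', Matrix.mulVec_add,
      Matrix.mulVec_smul, gl_apply_inv_apply, hp.inv_left]
  · have h' : ¬ (1 + c * f ((p : Matrix ι ι F) *ᵥ a) ((p : Matrix ι ι F) *ᵥ a) ≠ 0) := by
      rw [hp]; exact h
    rw [uref_of_not hf a c h, uref_of_not hf _ c h', mul_one, mul_inv_cancel]

lemma uref_smul (hf : IsUnitaryForm σ f) (μ : F) (a : ι → F) (c : F) :
    uref hf (μ • a) c = uref hf a (c * μ * σ μ) := by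
  apply uref_congr hf
  · rw [hf.smul_left, uf_smul_right hf]; ring
  · intro x
    rw [uf_smul_right hf, smul_smul]
    congr 1
    ring

lemma uref_mul_exists (hf : IsUnitaryForm σ f) (a : ι → F) (c c' : F) :
    ∃ c'' : F, uref hf a c * uref hf a c' = uref hf a c'' := by
  by_cases h : 1 + c * f a a ≠ 0
  · by_cases h' : 1 + c' * f a a ≠ 0
    · refine ⟨c + c' + c * c' * f a a, ?_⟩
      have h'' : 1 + (c + c' + c * c' * f a a) * f a a ≠ 0 := by
        have e : 1 + (c + c' + c * c' * f a a) * f a a = (1 + c * f a a) * (1 + c' * f a a) := by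
          ring
        rw [e]; exact mul_ne_zero h h'
      apply gl_ext
      intro x
      rw [gl_mul_apply, uref_apply hf a c' h', uref_apply hf a c h, uref_apply hf a _ h'',
        hf.add_left, hf.smul_left, add_assoc, ← add_smul]
      congr 2
      ring
    · exact ⟨c, by rw [uref_of_not hf a c' h', mul_one]⟩
  · exact ⟨c', by rw [uref_of_not hf a c h, one_mul]⟩

lemma uref_isom (hf : IsUnitaryForm σ f) (a : ι → F) (c : F) (hv : UValid σ f a c) :
    Isom f (uref hf a c) := by
  intro x y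
  have h := hv.ne
  rw [uref_apply hf a c h, uref_apply hf a c h]
  simp only [hf.add_left, uf_add_right hf, hf.smul_left, uf_smul_right hf, map_mul]
  rw [hf.herm a y]
  unfold UValid at hv
  linear_combination (f x a * σ (f y a)) * hv

lemma uref_inv_apply (hf : IsUnitaryForm σ f) (a : ι → F) (c : F) {x : ι → F}
    (hx : ((uref hf a c : GL ι F) : Matrix ι ι F) *ᵥ x = x) :
    (((uref hf a c)⁻¹ : GL ι F) : Matrix ι ι F) *ᵥ x = x := by
  have := gl_inv_apply_apply (uref hf a c) x
  rwa [hx] at this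

/-- the group generated by the unitary transvections -/
def TU (hf : IsUnitaryForm σ f) : Subgroup (GL ι F) :=
  Subgroup.closure {g | ∃ a c, f a a = 0 ∧ c + σ c = 0 ∧ g = uref hf a c}

lemma uref_mem_TU (hf : IsUnitaryForm σ f) {a : ι → F} {c : F} (ha : f a a = 0)
    (hc : c + σ c = 0) : uref hf a c ∈ TU hf :=
  Subgroup.subset_closure ⟨a, c, ha, hc, rfl⟩

lemma TU_isom (hf : IsUnitaryForm σ f) (t : GL ι F) (ht : t ∈ TU hf) : Isom f t := by
  unfold TU at ht
  induction ht using Subgroup.closure_induction with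
  | mem g hg =>
    obtain ⟨a, c, ha, hc, rfl⟩ := hg
    exact uref_isom hf a c (uvalid_of_iso ha hc)
  | one => exact Isom.one
  | mul a b _ _ ha hb => exact ha.mul hb
  | inv a _ ha => exact ha.inv

lemma uref_mem_SL (hf : IsUnitaryForm σ f) {a : ι → F} (c : F) (ha : f a a = 0) :
    uref hf a c ∈ specialLinear ι F := by
  unfold Cfsg.Geo.specialLinear
  rw [MonoidHom.mem_ker]
  apply Units.ext
  rw [Matrix.GeneralLinearGroup.val_det_apply, uref_det hf a c (iso_ne c ha), ha, mul_zero,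
    add_zero]
  rfl

lemma TU_le_SL (hf : IsUnitaryForm σ f) : TU hf ≤ specialLinear ι F := by
  unfold TU
  rw [Subgroup.closure_le]
  rintro g ⟨a, c, ha, hc, rfl⟩
  exact uref_mem_SL hf c ha

lemma TU_conj (hf : IsUnitaryForm σ f) (p : GL ι F) (hp : Isom f p) (t : GL ι F)
    (ht : t ∈ TU hf) : p * t * p⁻¹ ∈ TU hf := by
  unfold TU at ht ⊢
  induction ht using Subgroup.closure_induction with
  | mem g hg =>
    obtain ⟨a, c, ha, hc, rfl⟩ := hg
    rw [conj_uref hf p hp]
    exact Subgroup.subset_closure ⟨_, c, by rw [hp]; exact ha, hc, rfl⟩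
  | one =>
    rw [mul_one, mul_inv_cancel]
    exact Subgroup.one_mem _
  | mul a b _ _ ha hb =>
    have e : p * (a * b) * p⁻¹ = (p * a * p⁻¹) * (p * b * p⁻¹) := by group
    rw [e]
    exact Subgroup.mul_mem _ ha hb
  | inv a _ ha =>
    have e : p * a⁻¹ * p⁻¹ = (p * a * p⁻¹)⁻¹ := by group
    rw [e]
    exact Subgroup.inv_mem _ ha

/-! ### every isometry is a product of quasi-reflections: the induction step -/

lemma exists_moved_pairing (hf : IsUnitaryForm σ f) (g : GL ι F) (hg : Isom f g) (hne : g ≠ 1) :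
    ∃ x, f x ((g : Matrix ι ι F) *ᵥ x - x) ≠ 0 := by
  by_contra hcon
  push Not at hcon
  apply hne
  apply gl_ext
  intro y
  rw [gl_one_apply]
  by_contra hy
  have hy' : (g : Matrix ι ι F) *ᵥ y - y ≠ 0 := sub_ne_zero.mpr hy
  obtain ⟨⟨x, hx⟩, _⟩ := hf.nondegenerate _ hy'
  apply hx
  obtain ⟨c, hc⟩ := uf_exists_ne hf
  have hD : ∀ (k : F) (u v : ι → F), (g : Matrix ι ι F) *ᵥ (k • u + v) - (k • u + v) =
      k • ((g : Matrix ι ι F) *ᵥ u - u) + ((g : Matrix ι ι F) *ᵥ v - v) := by
    intro k u v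
    rw [Matrix.mulVec_add, Matrix.mulVec_smul, smul_sub]
    abel
  have key : ∀ k : F, k * f x ((g : Matrix ι ι F) *ᵥ y - y)
      + σ k * f y ((g : Matrix ι ι F) *ᵥ x - x) = 0 := by
    intro k
    have h1 := hcon (k • x + y)
    rw [hD, hf.add_left, uf_add_right hf, uf_add_right hf, hf.smul_left, hf.smul_left,
      uf_smul_right hf, uf_smul_right hf, hcon x, hcon y] at h1
    linear_combination h1
  have k1 := key 1
  have kc := key c
  rw [map_one, one_mul, one_mul] at k1
  have h3 : (c - σ c) * f x ((g : Matrix ι ι F) *ᵥ y - y) = 0 := by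
    linear_combination kc - σ c * k1
  rcases mul_eq_zero.mp h3 with h4 | h4
  · exact absurd (sub_eq_zero.mp h4).symm hc
  · exact h4

lemma exists_uref_fix_lt (hf : IsUnitaryForm σ f) (g : GL ι F) (hg : Isom f g) (hne : g ≠ 1) :
    ∃ a c, UValid σ f a c ∧ fixSub g < fixSub ((uref hf a c)⁻¹ * g) := by
  obtain ⟨x, hx⟩ := exists_moved_pairing hf g hg hne
  obtain ⟨a, ha⟩ : ∃ a, a = (g : Matrix ι ι F) *ᵥ x - x := ⟨_, rfl⟩
  rw [← ha] at hx
  obtain ⟨z, hz⟩ : ∃ z, z = f x a := ⟨_, rfl⟩
  rw [← hz] at hx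
  have hgx : (g : Matrix ι ι F) *ᵥ x = x + a := by rw [ha]; abel
  have hza : z + σ z + f a a = 0 := by
    have h1 : f (x + a) (x + a) = f x x := by rw [← hgx]; exact hg x x
    rw [hf.add_left, uf_add_right hf, uf_add_right hf, hf.herm a x, ← hz] at h1
    linear_combination h1
  have hσz : σ z ≠ 0 := by
    intro h0
    apply hx
    have := congrArg σ h0
    rwa [hf.involutive, map_zero] at this
  have hv : UValid σ f a z⁻¹ := by
    unfold UValid
    rw [map_inv₀]
    have e1 : z * z⁻¹ = 1 := mul_inv_cancel₀ hx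
    have e2 : σ z * (σ z)⁻¹ = 1 := mul_inv_cancel₀ hσz
    have key : (z * σ z) * (z⁻¹ + (σ z)⁻¹ + z⁻¹ * (σ z)⁻¹ * f a a) = 0 := by
      linear_combination hza + σ z * e1 + z * e2 + f a a * (σ z * (σ z)⁻¹) * e1 + f a a * e2
    exact (mul_eq_zero.mp key).resolve_left (mul_ne_zero hx hσz)
  have hne1 : 1 + z⁻¹ * f a a ≠ 0 := hv.ne
  have hex : ((uref hf a z⁻¹ : GL ι F) : Matrix ι ι F) *ᵥ x = (g : Matrix ι ι F) *ᵥ x := by
    rw [uref_apply hf a _ hne1, ← hz, inv_mul_cancel₀ hx, one_smul, hgx]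
  have hfix : ∀ y ∈ fixSub g, ((uref hf a z⁻¹ : GL ι F) : Matrix ι ι F) *ᵥ y = y := by
    intro y hy
    have hy' := (mem_fixSub g y).mp hy
    have h0 : f y a = 0 := by
      rw [ha, uf_sub_right hf]
      have h1 := hg y x
      rw [hy'] at h1
      rw [h1, sub_self]
    rw [uref_apply hf a _ hne1, h0, mul_zero, zero_smul, add_zero]
  refine ⟨a, z⁻¹, hv, ?_⟩
  rw [SetLike.lt_iff_le_and_exists]
  refine ⟨?_, x, ?_, ?_⟩
  · intro y hy
    rw [mem_fixSub, gl_mul_apply, (mem_fixSub g y).mp hy]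
    exact uref_inv_apply hf a _ (hfix y hy)
  · rw [mem_fixSub, gl_mul_apply, ← hex]
    exact gl_inv_apply_apply _ x
  · intro hxfix
    apply hx
    have h0 : a = 0 := by rw [ha, (mem_fixSub g x).mp hxfix, sub_self]
    rw [hz, h0, uf_zero_right hf]

/-- induction principle: every isometry is built from the identity by multiplying with
quasi-reflections -/
theorem isom_induction (hf : IsUnitaryForm σ f) (P : GL ι F → Prop) (h1 : P 1)
    (hstep : ∀ (a : ι → F) (c : F) (g : GL ι F), UValid σ f a c → Isom f g → P g →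
      P (uref hf a c * g)) :
    ∀ g : GL ι F, Isom f g → P g := by
  have key : ∀ S : Submodule F (ι → F), ∀ g : GL ι F, Isom f g → fixSub g = S → P g := by
    intro S
    induction S using WellFoundedGT.induction with
    | ind S ih =>
      intro g hg hS
      by_cases hone : g = 1
      · rw [hone]; exact h1
      · obtain ⟨a, c, hv, hlt⟩ := exists_uref_fix_lt hf g hg hone
        rw [hS] at hlt
        have hI : Isom f ((uref hf a c)⁻¹ * g) := (uref_isom hf a c hv).inv.mul hg
        have h2 := ih _ hlt ((uref hf a c)⁻¹ * g) hI rfl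
        have h3 := hstep a c _ hv hI h2
        rwa [mul_inv_cancel_left] at h3
  intro g hg
  exact key _ g hg rfl

end Cfsg.Agent.Helper93
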