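import Cfsg.Agent.Lib.Helper93.UForm

set_option autoImplicit false
set_option linter.unusedSectionVars false

namespace Cfsg.Agent.Helper93

open Matrix Cfsg.Geo

variable {ι : Type} [Fintype ι] [DecidableEq ι] {F : Type*} [Field F]
variable {σ : F ≃+* F} {f : (ι → F) → (ι → F) → F}

/-- perp of a subspace -/
def uperp (hf : IsUnitaryForm σ f) (U : Submodule F (ι → F)) : Submodule F (ι → F) where
  carrier := {x | ∀ y ∈ U, f y x = 0}
  add_mem' := by
    intro a b ha hb y hy
    rw [uf_add_right hf, ha y hy, hb y hy, add_zero]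
  zero_mem' := by
    intro y _
    exact uf_zero_right hf y
  smul_mem' := by
    intro c a ha y hy
    rw [uf_smul_right hf, ha y hy, mul_zero]

lemma mem_uperp (hf : IsUnitaryForm σ f) (U : Submodule F (ι → F)) (x : ι → F) :
    x ∈ uperp hf U ↔ ∀ y ∈ U, f y x = 0 := Iff.rfl

/-- Riesz representation on a non-degenerate subspace -/
lemma uf_exists_proj [Finite F] (hf : IsUnitaryForm σ f) (U : Submodule F (ι → F))
    (hU : IsNondegenerateOn f U) (x : ι → F) : ∃ u ∈ U, x - u ∈ uperp hf U := by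
  let Φ : U → Module.Dual F U := fun w =>
    { toFun := fun y => f (y : ι → F) (w : ι → F)
      map_add' := fun a b => hf.add_left (a : ι → F) (b : ι → F) (w : ι → F)
      map_smul' := fun c a => by simpa using hf.smul_left c (a : ι → F) (w : ι → F) }
  have hinj : Function.Injective Φ := by
    intro w w' h
    by_contra hne
    have hne' : ((w : ι → F) - (w' : ι → F)) ≠ 0 := by
      intro h0
      exact hne (Subtype.ext (sub_eq_zero.mp h0))
    obtain ⟨⟨y, hyU, hy⟩, _⟩ := hU _ (U.sub_mem w.2 w'.2) hne'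
    apply hy
    rw [uf_sub_right hf]
    have h1 : f y (w : ι → F) = f y (w' : ι → F) := LinearMap.congr_fun h ⟨y, hyU⟩
    exact sub_eq_zero.mpr h1
  have : Finite (Module.Dual F U) := Module.finite_of_finite F
  have hcard : Nat.card (Module.Dual F U) ≤ Nat.card U := by
    rw [Module.natCard_eq_pow_finrank (K := F) (V := Module.Dual F U),
      Module.natCard_eq_pow_finrank (K := F) (V := U), Subspace.dual_finrank_eq]
  have hbij := hinj.bijective_of_nat_card_le hcard
  let ψ : Module.Dual F U :=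
    { toFun := fun y => f (y : ι → F) x
      map_add' := fun a b => hf.add_left (a : ι → F) (b : ι → F) x
      map_smul' := fun c a => by simpa using hf.smul_left c (a : ι → F) x }
  obtain ⟨u, hu⟩ := hbij.2 ψ
  refine ⟨u, u.2, ?_⟩
  intro y hy
  rw [uf_sub_right hf]
  have h1 : f y (u : ι → F) = f y x := LinearMap.congr_fun hu ⟨y, hy⟩
  rw [h1, sub_self]

lemma finrank_le_inf_ker_add_one (A : Submodule F (ι → F)) (φ : (ι → F) →ₗ[F] F) :
    Module.finrank F A ≤ Module.finrank F (A ⊓ LinearMap.ker φ : Submodule F (ι → F)) + 1 := by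
  have h1 := LinearMap.finrank_range_add_finrank_ker φ
  have h2 : Module.finrank F (LinearMap.range φ) ≤ 1 := by
    have := Submodule.finrank_le (LinearMap.range φ)
    rwa [Module.finrank_self] at this
  have h3 := Submodule.finrank_sup_add_finrank_inf_eq A (LinearMap.ker φ)
  have h4 := Submodule.finrank_le (A ⊔ LinearMap.ker φ)
  omega

lemma uf_exists_nonisotropic_pair (hf : IsUnitaryForm σ f) {r1 r2 : ι → F} (h : f r1 r2 ≠ 0) :
    ∃ α β : F, f (α • r1 + β • r2) (α • r1 + β • r2) ≠ 0 := by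
  by_cases h1 : f r1 r1 ≠ 0
  · exact ⟨1, 0, by rw [one_smul, zero_smul, add_zero]; exact h1⟩
  by_cases h2 : f r2 r2 ≠ 0
  · exact ⟨0, 1, by rw [one_smul, zero_smul, zero_add]; exact h2⟩
  push Not at h1 h2
  obtain ⟨a, ha⟩ := uf_exists_trace_ne_zero hf
  have hσz : σ (f r1 r2) ≠ 0 := by
    intro h0
    apply h
    have := congrArg σ h0
    rwa [hf.involutive, map_zero] at this
  refine ⟨1, a / σ (f r1 r2), ?_⟩
  rw [one_smul, hf.add_left, uf_add_right hf, uf_add_right hf, hf.smul_left, hf.smul_left,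
    uf_smul_right hf, uf_smul_right hf, h1, h2, hf.herm r2 r1, map_div₀, hf.involutive,
    div_mul_cancel₀ _ h, div_mul_cancel₀ _ hσz, mul_zero, mul_zero, add_zero, zero_add, add_comm]
  exact ha

/-- adjusting a vector along an isotropic vector to make it isotropic -/
lemma uf_iso_adjust (hf : IsUnitaryForm σ f) {w z0 : ι → F} (hw : f w w = 0) (h : f w z0 ≠ 0) :
    ∃ lam : F, f (z0 + lam • w) (z0 + lam • w) = 0 := by
  have hfix : σ (- f z0 z0) = - f z0 z0 := by rw [map_neg, uf_self hf]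
  obtain ⟨η, hη⟩ := uf_trace_surj hf _ hfix
  refine ⟨η / f w z0, ?_⟩
  rw [hf.add_left, uf_add_right hf, uf_add_right hf, hf.smul_left, hf.smul_left,
    uf_smul_right hf, uf_smul_right hf, hw, hf.herm z0 w, map_div₀,
    div_mul_cancel₀ _ h]
  have hσz : σ (f w z0) ≠ 0 := by
    intro h0
    apply h
    have := congrArg σ h0
    rwa [hf.involutive, map_zero] at this
  rw [div_mul_cancel₀ _ hσz]
  linear_combination hη

/-- a vector of prescribed norm perpendicular to three given vectors -/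
lemma uf_exists_perp_norm [Finite F] (hf : IsUnitaryForm σ f) (U : Submodule F (ι → F))
    (hU : IsNondegenerateOn f U) (hdim : 7 ≤ Module.finrank F U)
    {s1 s2 s3 : ι → F} (h1 : s1 ∈ U) (h2 : s2 ∈ U) (h3 : s3 ∈ U) (κ : F) (hκ : σ κ = κ) :
    ∃ r ∈ U, f r s1 = 0 ∧ f r s2 = 0 ∧ f r s3 = 0 ∧ f r r = κ := by
  classical
  obtain ⟨r0, hr0U, hr01, hr02, hr03, hr0⟩ :
      ∃ r0 ∈ U, f r0 s1 = 0 ∧ f r0 s2 = 0 ∧ f r0 s3 = 0 ∧ f r0 r0 ≠ 0 := by
    obtain ⟨K, hK⟩ : ∃ K : Submodule F (ι → F), K = ((U ⊓ LinearMap.ker (uflin hf s1)) ⊓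
        LinearMap.ker (uflin hf s2)) ⊓ LinearMap.ker (uflin hf s3) := ⟨_, rfl⟩
    have hKmem : ∀ x, x ∈ K ↔ ((x ∈ U ∧ f x s1 = 0) ∧ f x s2 = 0) ∧ f x s3 = 0 := by
      intro x
      rw [hK]
      simp only [Submodule.mem_inf, LinearMap.mem_ker, uflin_apply]
    have hKdim : 4 ≤ Module.finrank F K := by
      have e1 := finrank_le_inf_ker_add_one U (uflin hf s1)
      have e2 := finrank_le_inf_ker_add_one (U ⊓ LinearMap.ker (uflin hf s1)) (uflin hf s2)
      have e3 := finrank_le_inf_ker_add_one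
        ((U ⊓ LinearMap.ker (uflin hf s1)) ⊓ LinearMap.ker (uflin hf s2)) (uflin hf s3)
      rw [hK]
      omega
    obtain ⟨S, hS⟩ : ∃ S : Submodule F (ι → F),
        S = Submodule.span F (({s1, s2, s3} : Finset (ι → F)) : Set (ι → F)) := ⟨_, rfl⟩
    have hSdim : Module.finrank F S ≤ 3 := by
      have h := finrank_span_finset_le_card (R := F) ({s1, s2, s3} : Finset (ι → F))
      have hc : ({s1, s2, s3} : Finset (ι → F)).card ≤ 3 := Finset.card_le_three
      rw [hS]
      exact le_trans h hc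
    have hnle : ¬ K ≤ S := by
      intro hle
      have := Submodule.finrank_mono hle
      omega
    obtain ⟨r1, hr1K, hr1S⟩ := SetLike.not_le_iff_exists.1 hnle
    obtain ⟨⟨⟨hr1U, hr11⟩, hr12⟩, hr13⟩ := (hKmem r1).1 hr1K
    obtain ⟨p, hpS, hp⟩ := uf_exists_perp_pairing hf S r1 hr1S
    obtain ⟨r2, hr2U, hr2p⟩ := uf_exists_proj hf U hU p
    have hyr2 : ∀ y ∈ U, f y r2 = f y p := by
      intro y hy
      have := hr2p y hy
      rw [uf_sub_right hf] at this
      exact (sub_eq_zero.mp this).symm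
    have hs1 : s1 ∈ S := by rw [hS]; exact Submodule.subset_span (by simp)
    have hs2 : s2 ∈ S := by rw [hS]; exact Submodule.subset_span (by simp)
    have hs3 : s3 ∈ S := by rw [hS]; exact Submodule.subset_span (by simp)
    have hr21 : f r2 s1 = 0 := uf_eq_zero_symm hf (by rw [hyr2 s1 h1]; exact hpS s1 hs1)
    have hr22 : f r2 s2 = 0 := uf_eq_zero_symm hf (by rw [hyr2 s2 h2]; exact hpS s2 hs2)
    have hr23 : f r2 s3 = 0 := uf_eq_zero_symm hf (by rw [hyr2 s3 h3]; exact hpS s3 hs3)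
    have hr12' : f r1 r2 ≠ 0 := by rw [hyr2 r1 hr1U]; exact hp
    obtain ⟨α, β, hαβ⟩ := uf_exists_nonisotropic_pair hf hr12'
    refine ⟨α • r1 + β • r2, U.add_mem (U.smul_mem _ hr1U) (U.smul_mem _ hr2U), ?_, ?_, ?_, hαβ⟩
    · rw [hf.add_left, hf.smul_left, hf.smul_left, hr11, hr21, mul_zero, mul_zero, add_zero]
    · rw [hf.add_left, hf.smul_left, hf.smul_left, hr12, hr22, mul_zero, mul_zero, add_zero]
    · rw [hf.add_left, hf.smul_left, hf.smul_left, hr13, hr23, mul_zero, mul_zero, add_zero]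
  by_cases hκ0 : κ = 0
  · exact ⟨0, U.zero_mem, uf_zero_left hf _, uf_zero_left hf _, uf_zero_left hf _,
      by rw [uf_zero_left hf, hκ0]⟩
  · have hfix : σ (κ / f r0 r0) = κ / f r0 r0 := by rw [map_div₀, hκ, uf_self hf]
    obtain ⟨μ, hμ⟩ := uf_norm_surj hf (κ / f r0 r0) (div_ne_zero hκ0 hr0) hfix
    refine ⟨μ • r0, U.smul_mem _ hr0U, ?_, ?_, ?_, ?_⟩
    · rw [hf.smul_left, hr01, mul_zero]
    · rw [hf.smul_left, hr02, mul_zero]
    · rw [hf.smul_left, hr03, mul_zero]
    · rw [hf.smul_left, uf_smul_right hf, ← mul_assoc, hμ, div_mul_cancel₀ _ hr0]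

/-- an isotropic vector with two prescribed inner products -/
lemma uf_exists_iso_prescribed [Finite F] (hf : IsUnitaryForm σ f) (U : Submodule F (ι → F))
    (hU : IsNondegenerateOn f U) (hdim : 7 ≤ Module.finrank F U) {x d : ι → F}
    (hx : x ∈ U) (hd : d ∈ U) (hind : ∀ s t : F, s • x + t • d = 0 → s = 0 ∧ t = 0) (α β : F) :
    ∃ u ∈ U, f u u = 0 ∧ f u x = α ∧ f u d = β := by
  obtain ⟨ψ, hψx, hψd⟩ := exists_functional_two hind (σ α) (σ β)
  obtain ⟨p0, hp0⟩ := uf_exists_fvec_eq hf ψ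
  obtain ⟨p, hpU, hpp⟩ := uf_exists_proj hf U hU p0
  have hyp : ∀ y ∈ U, f y p = f y p0 := by
    intro y hy
    have := hpp y hy
    rw [uf_sub_right hf] at this
    exact (sub_eq_zero.mp this).symm
  have hpx : f p x = α := by
    rw [hf.herm p x, hyp x hx, ← ufvec_dot hf, hp0, hψx, hf.involutive]
  have hpd : f p d = β := by
    rw [hf.herm p d, hyp d hd, ← ufvec_dot hf, hp0, hψd, hf.involutive]
  have hfix : σ (- f p p) = - f p p := by rw [map_neg, uf_self hf]
  obtain ⟨r, hrU, hr1, hr2, hr3, hrr⟩ :=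
    uf_exists_perp_norm hf U hU hdim hx hd hpU (- f p p) hfix
  refine ⟨p + r, U.add_mem hpU hrU, ?_, ?_, ?_⟩
  · rw [hf.add_left, uf_add_right hf, uf_add_right hf, hr3, uf_eq_zero_symm hf hr3, hrr]
    ring
  · rw [hf.add_left, hpx, hr1, add_zero]
  · rw [hf.add_left, hpd, hr2, add_zero]

/-- two vectors of the same norm are connected by two isotropic steps -/
lemma uf_two_step [Finite F] (hf : IsUnitaryForm σ f) (U : Submodule F (ι → F))
    (hU : IsNondegenerateOn f U) (hdim : 7 ≤ Module.finrank F U) {x y : ι → F}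
    (hx : x ∈ U) (hy : y ∈ U) (hxy : f x x = f y y)
    (hind : ∀ s t : F, s • x + t • y = 0 → s = 0 ∧ t = 0) :
    ∃ u ∈ U, f u u = 0 ∧ f x u ≠ 0 ∧ f x u + σ (f x u) = 0 ∧
      f (y - x - u) (y - x - u) = 0 ∧ f (x + u) (y - x - u) ≠ 0 := by
  obtain ⟨θ, hθ0, hθ⟩ := uf_exists_theta hf
  obtain ⟨d, hd⟩ : ∃ d, d = y - x := ⟨_, rfl⟩
  rw [← hd]
  have hdU : d ∈ U := by rw [hd]; exact U.sub_mem hy hx
  have hind' : ∀ s t : F, s • x + t • d = 0 → s = 0 ∧ t = 0 := by
    intro s t hst
    have h0 : (s - t) • x + t • y = 0 := by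
      rw [← hst, hd, smul_sub, sub_smul]; abel
    obtain ⟨e1, e2⟩ := hind _ _ h0
    rw [e2, sub_zero] at e1
    exact ⟨e1, e2⟩
  have hddfix : σ (f d d) = f d d := uf_self hf d
  obtain ⟨β0, hβ0⟩ := uf_trace_surj hf (f d d) hddfix
  obtain ⟨β, hβtr, hβne⟩ : ∃ β : F, β + σ β = f d d ∧ f x d - θ + β ≠ 0 := by
    by_cases hc : f x d - θ + β0 ≠ 0
    · exact ⟨β0, hβ0, hc⟩
    · push Not at hc
      refine ⟨β0 + θ, ?_, ?_⟩
      · rw [map_add]; linear_combination hβ0 + hθ
      · have e : f x d - θ + (β0 + θ) = θ := by linear_combination hc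
        rw [e]; exact hθ0
  obtain ⟨u, huU, huu, hux, hud⟩ :=
    uf_exists_iso_prescribed hf U hU hdim hx hdU hind' (σ θ) β
  have hxu : f x u = θ := by rw [hf.herm x u, hux, hf.involutive]
  refine ⟨u, huU, huu, by rw [hxu]; exact hθ0, by rw [hxu]; exact hθ, ?_, ?_⟩
  · rw [uf_sub_left hf, uf_sub_right hf, uf_sub_right hf, huu, hud, hf.herm d u, hud]
    linear_combination -hβtr
  · rw [hf.add_left, uf_sub_right hf, uf_sub_right hf, hxu, hud, huu]
    have e : f x d - θ + (β - 0) = f x d - θ + β := by ring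
    rw [e]; exact hβne

lemma uf_one_step (hf : IsUnitaryForm σ f) {x u : ι → F} (hu : f u u = 0) (hxu : f x u ≠ 0)
    (htr : f x u + σ (f x u) = 0) :
    ∃ t ∈ TU hf, (t : Matrix ι ι F) *ᵥ x = x + u := by
  have hc : (f x u)⁻¹ + σ (f x u)⁻¹ = 0 := by
    rw [map_inv₀, eq_neg_of_add_eq_zero_right htr, inv_neg, add_neg_cancel]
  refine ⟨uref hf u (f x u)⁻¹, uref_mem_TU hf hu hc, ?_⟩
  rw [uref_apply_iso hf u _ hu, inv_mul_cancel₀ hxu, one_smul]

lemma uf_trace_zero_of_norm_eq (hf : IsUnitaryForm σ f) {m v : ι → F} (hv : f v v = 0)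
    (h : f (m + v) (m + v) = f m m) : f m v + σ (f m v) = 0 := by
  rw [hf.add_left, uf_add_right hf, uf_add_right hf, hv, hf.herm v m] at h
  linear_combination h

lemma nondeg_top (hf : IsUnitaryForm σ f) : IsNondegenerateOn f (⊤ : Submodule F (ι → F)) := by
  intro w _ hw
  obtain ⟨⟨a, ha⟩, ⟨b, hb⟩⟩ := hf.nondegenerate w hw
  exact ⟨⟨a, trivial, ha⟩, ⟨b, trivial, hb⟩⟩

lemma finrank_top_ge (hn : 7 ≤ Fintype.card ι) :
    7 ≤ Module.finrank F (⊤ : Submodule F (ι → F)) := by
  rw [finrank_top, Module.finrank_fintype_fun_eq_card]; exact hn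

/-- the transvection group is transitive on vectors of a given norm, up to scalars -/
theorem TU_transitive [Finite F] (hf : IsUnitaryForm σ f) (hn : 7 ≤ Fintype.card ι)
    {x y : ι → F} (hy : y ≠ 0) (hxy : f x x = f y y) :
    ∃ t ∈ TU hf, ∃ μ : F, (t : Matrix ι ι F) *ᵥ x = μ • y := by
  by_cases hspan : x ∈ Submodule.span F {y}
  · obtain ⟨k, hk⟩ := Submodule.mem_span_singleton.mp hspan
    exact ⟨1, (TU hf).one_mem, k, by rw [gl_one_apply, hk]⟩
  · have hind := indep_of_not_mem_span hspan hy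
    obtain ⟨u, _, huu, hxu, htr, hu'u', hne⟩ := uf_two_step hf ⊤ (nondeg_top hf)
      (finrank_top_ge hn) Submodule.mem_top Submodule.mem_top hxy hind
    obtain ⟨t1, ht1, h1⟩ := uf_one_step hf huu hxu htr
    have hnorm : f (x + u) (x + u) = f x x := by
      rw [hf.add_left, uf_add_right hf, uf_add_right hf, huu, hf.herm u x]
      linear_combination htr
    have hyeq : x + u + (y - x - u) = y := by abel
    have htr' : f (x + u) (y - x - u) + σ (f (x + u) (y - x - u)) = 0 := by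
      apply uf_trace_zero_of_norm_eq hf hu'u'
      rw [hyeq, hnorm, hxy]
    obtain ⟨t2, ht2, h2⟩ := uf_one_step hf hu'u' hne htr'
    refine ⟨t2 * t1, (TU hf).mul_mem ht2 ht1, 1, ?_⟩
    rw [gl_mul_apply, h1, h2, hyeq, one_smul]

/-- every isometry is a product of transvections and one quasi-reflection with a fixed centre -/
theorem isom_eq_TU_mul_uref [Finite F] (hf : IsUnitaryForm σ f) (hn : 7 ≤ Fintype.card ι)
    {a0 : ι → F} (ha0 : f a0 a0 ≠ 0) :
    ∀ g : GL ι F, Isom f g → ∃ t ∈ TU hf, ∃ c : F, g = t * uref hf a0 c := by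
  refine isom_induction hf (fun g => ∃ t ∈ TU hf, ∃ c : F, g = t * uref hf a0 c) ?_ ?_
  · exact ⟨1, (TU hf).one_mem, 0, by rw [uref_zero, mul_one]⟩
  · rintro a c g hv hg ⟨t', ht', c', hgc⟩
    by_cases haa : f a a = 0
    · have hc : c + σ c = 0 := by
        unfold UValid at hv
        rw [haa, mul_zero, add_zero] at hv
        exact hv
      refine ⟨uref hf a c * t', (TU hf).mul_mem (uref_mem_TU hf haa hc) ht', c', ?_⟩
      rw [hgc, mul_assoc]
    · have hfix : σ (f a a / f a0 a0) = f a a / f a0 a0 := by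
        rw [map_div₀, uf_self hf, uf_self hf]
      obtain ⟨lam, hlam⟩ := uf_norm_surj hf _ (div_ne_zero haa ha0) hfix
      have hlam0 : lam ≠ 0 := by
        rintro rfl
        rw [zero_mul] at hlam
        exact (div_ne_zero haa ha0) hlam.symm
      have hy0 : lam • a0 ≠ 0 := by
        intro h0
        apply ha0
        have h00 : a0 = 0 := by
          rcases smul_eq_zero.mp h0 with h | h
          · exact absurd h hlam0
          · exact h
        rw [h00, uf_zero_left hf]
      have hnorm : f a a = f (lam • a0) (lam • a0) := by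
        rw [hf.smul_left, uf_smul_right hf, ← mul_assoc, hlam, div_mul_cancel₀ _ ha0]
      obtain ⟨s, hs, μ, hsa⟩ := TU_transitive hf hn hy0 hnorm
      have hsI := TU_isom hf s hs
      obtain ⟨r, hr⟩ : ∃ r, r = uref hf a0 (c * (μ * lam) * σ (μ * lam)) := ⟨_, rfl⟩
      have h1 := conj_uref hf s hsI a c
      rw [hsa, smul_smul, uref_smul, ← hr] at h1
      have hE : uref hf a c = s⁻¹ * r * s := by
        rw [← h1]; group
      have hrI : Isom f r := by
        rw [← h1]
        exact (hsI.mul (uref_isom hf a c hv)).mul hsI.inv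
      obtain ⟨c'', hc''⟩ := uref_mul_exists hf a0 (c * (μ * lam) * σ (μ * lam)) c'
      rw [← hr] at hc''
      refine ⟨s⁻¹ * (r * (s * t') * r⁻¹), (TU hf).mul_mem ((TU hf).inv_mem hs)
        (TU_conj hf r hrI _ ((TU hf).mul_mem hs ht')), c'', ?_⟩
      rw [← hc'', hgc, hE]; group

/-- isometries of determinant one are products of unitary transvections -/
theorem isom_SL_mem_TU [Finite F] (hf : IsUnitaryForm σ f) (hn : 7 ≤ Fintype.card ι)
    (g : GL ι F) (hg : Isom f g) (hdet : g ∈ specialLinear ι F) : g ∈ TU hf := by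
  obtain ⟨a0, ha0⟩ : ∃ a0 : ι → F, f a0 a0 ≠ 0 := by
    have hne : Nonempty ι := by rw [← Fintype.card_pos_iff]; omega
    obtain ⟨i0⟩ := hne
    have hv : (Pi.single i0 1 : ι → F) ≠ 0 := by
      intro h
      have := congrFun h i0
      simp at this
    obtain ⟨⟨w, hw⟩, _⟩ := hf.nondegenerate _ hv
    obtain ⟨α, β, h⟩ := uf_exists_nonisotropic_pair hf hw
    exact ⟨_, h⟩
  obtain ⟨t, ht, c, hgc⟩ := isom_eq_TU_mul_uref hf hn ha0 g hg
  by_cases h : 1 + c * f a0 a0 ≠ 0
  · have hr : uref hf a0 c ∈ specialLinear ι F := by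
      have := (specialLinear ι F).mul_mem ((specialLinear ι F).inv_mem (TU_le_SL hf ht)) hdet
      rwa [hgc, inv_mul_cancel_left] at this
    have hd : ((uref hf a0 c : GL ι F) : Matrix ι ι F).det = 1 := by
      unfold Cfsg.Geo.specialLinear at hr
      rw [MonoidHom.mem_ker] at hr
      have := congrArg Units.val hr
      rwa [Matrix.GeneralLinearGroup.val_det_apply, Units.val_one] at this
    rw [uref_det hf a0 c h] at hd
    have hc0 : c = 0 := by
      have h0 : c * f a0 a0 = 0 := by linear_combination hd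
      rcases mul_eq_zero.mp h0 with h1 | h1
      · exact h1
      · exact absurd h1 ha0
    rw [hgc, hc0, uref_zero, mul_one]; exact ht
  · rw [hgc, uref_of_not hf a0 c h, mul_one]; exact ht

end Cfsg.Agent.Helper93
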