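import Cfsg.Agent.Lib.Helper93.USim

set_option autoImplicit false
set_option linter.unusedSectionVars false

namespace Cfsg.Agent.Helper93

open Matrix Cfsg.Geo

variable {ι : Type} [Fintype ι] [DecidableEq ι] {F : Type*} [Field F]
variable {σ : F ≃+* F} {f : (ι → F) → (ι → F) → F}

lemma usieg_mem_TU (hf : IsUnitaryForm σ f) {a b : ι → F} (ha : f a a = 0) (hb : f b b = 0)
    (hab : f a b = 0) {c : F} (hc : c + σ c = 0) (lam : F) : usieg hf a b c lam ∈ TU hf := by
  have hiso := uf_iso_add_smul hf ha hb hab lam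
  unfold usieg
  have hc2 : (-c) + σ (-c) = 0 := by rw [map_neg]; linear_combination -hc
  have hc3 : (-(c * lam * σ lam)) + σ (-(c * lam * σ lam)) = 0 := by
    rw [map_neg, map_mul, map_mul, hf.involutive]
    linear_combination (-(lam * σ lam)) * hc
  exact (TU hf).mul_mem ((TU hf).mul_mem (uref_mem_TU hf hiso hc) (uref_mem_TU hf ha hc2))
    (uref_mem_TU hf hb hc3)

/-- every vector of a non-degenerate subspace is a sum of two isotropic vectors of it -/
lemma uf_exists_iso_decomp_rel [Finite F] (hf : IsUnitaryForm σ f) (U : Submodule F (ι → F))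
    (hU : IsNondegenerateOn f U) (hdim : 7 ≤ Module.finrank F U) (b : ι → F) (hbU : b ∈ U) :
    ∃ b1 ∈ U, ∃ b2 ∈ U, b = b1 + b2 ∧ f b1 b1 = 0 ∧ f b2 b2 = 0 := by
  by_cases hbb : f b b = 0
  · exact ⟨b, hbU, 0, U.zero_mem, by rw [add_zero], hbb, uf_zero_left hf 0⟩
  · obtain ⟨η, hη⟩ := uf_trace_surj hf (f b b) (uf_self hf b)
    obtain ⟨ζ, hζ⟩ : ∃ ζ, ζ = η / f b b := ⟨_, rfl⟩
    have hfix : σ (-(f (ζ • b) (ζ • b))) = -(f (ζ • b) (ζ • b)) := by
      rw [map_neg, uf_self hf]
    obtain ⟨r, hrU, _, hr2, _, hrr⟩ := uf_exists_perp_norm hf U hU hdim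
      (s1 := b) (s2 := b) (s3 := b) hbU hbU hbU _ hfix
    have hpb : f (ζ • b) b = η := by rw [hf.smul_left, hζ, div_mul_cancel₀ _ hbb]
    have hrp : f r (ζ • b) = 0 := by rw [uf_smul_right hf, hr2, mul_zero]
    have hpr : f (ζ • b) r = 0 := uf_eq_zero_symm hf hrp
    have hb1 : f (ζ • b + r) (ζ • b + r) = 0 := by
      rw [hf.add_left, uf_add_right hf, uf_add_right hf, hrp, hpr, hrr]; ring
    have hb1b : f (ζ • b + r) b = η := by rw [hf.add_left, hpb, hr2, add_zero]
    have hb1U : ζ • b + r ∈ U := U.add_mem (U.smul_mem _ hbU) hrU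
    refine ⟨ζ • b + r, hb1U, b - (ζ • b + r), U.sub_mem hbU hb1U, by abel, hb1, ?_⟩
    rw [uf_sub_left hf, uf_sub_right hf, uf_sub_right hf, hb1, hb1b, hf.herm b (ζ • b + r),
      hb1b]
    linear_combination -hη

/-- if `M` contains all "long root elements" and one further transvection with isotropic
centre `u`, it contains all transvections with centre `u` -/
lemma allTv_of_iso [Finite F] (hf : IsUnitaryForm σ f) (hn : 13 ≤ Fintype.card ι)
    (M : Subgroup (GL ι F))
    (hE : ∀ u' : ι → F, f u' u' = 0 → ∀ κ : F, InA f M u' (κ • u'))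
    (u : ι → F) (hu : f u u = 0) (hu0 : u ≠ 0) (w0 : ι → F) (hw0 : InA f M u w0)
    (hw0u : w0 ∉ Submodule.span F {u}) : AllTv M u := by
  obtain ⟨_, ⟨z0, hz0⟩⟩ := hf.nondegenerate u hu0
  obtain ⟨l, hl⟩ := uf_iso_adjust hf hu hz0
  obtain ⟨us, hus⟩ : ∃ us, us = z0 + l • u := ⟨_, rfl⟩
  rw [← hus] at hl
  have huus : f u us ≠ 0 := by
    rw [hus, uf_add_right hf, uf_smul_right hf, hu, mul_zero, add_zero]; exact hz0
  have husu : f us u ≠ 0 := uf_ne_zero_symm hf huus
  obtain ⟨U, hUdef⟩ : ∃ U : Submodule F (ι → F), U = ((⊤ : Submodule F (ι → F)) ⊓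
      LinearMap.ker (uflin hf u)) ⊓ LinearMap.ker (uflin hf us) := ⟨_, rfl⟩
  have hUmem : ∀ y, y ∈ U ↔ f y u = 0 ∧ f y us = 0 := by
    intro y
    rw [hUdef]
    simp only [Submodule.mem_inf, Submodule.mem_top, true_and, LinearMap.mem_ker, uflin_apply]
  have hUdim : 7 ≤ Module.finrank F U := by
    have e1 := finrank_le_inf_ker_add_one (⊤ : Submodule F (ι → F)) (uflin hf u)
    have e2 := finrank_le_inf_ker_add_one
      ((⊤ : Submodule F (ι → F)) ⊓ LinearMap.ker (uflin hf u)) (uflin hf us)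
    have e3 : Module.finrank F (⊤ : Submodule F (ι → F)) = Fintype.card ι := by
      rw [finrank_top, Module.finrank_fintype_fun_eq_card]
    rw [hUdef]
    omega
  have hproj : ∀ x : ι → F, x - (f x us / f u us) • u - (f x u / f us u) • us ∈ U := by
    intro x
    rw [hUmem]
    constructor
    · rw [uf_sub_left hf, uf_sub_left hf, hf.smul_left, hf.smul_left, hu,
        div_mul_cancel₀ _ husu]
      ring
    · rw [uf_sub_left hf, uf_sub_left hf, hf.smul_left, hf.smul_left, hl,
        div_mul_cancel₀ _ huus]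
      ring
  have hperpU : ∀ y ∈ U, f u y = 0 ∧ f us y = 0 := fun y hy =>
    ⟨uf_eq_zero_symm hf ((hUmem y).1 hy).1, uf_eq_zero_symm hf ((hUmem y).1 hy).2⟩
  have hUnd : IsNondegenerateOn f U := by
    intro y hy hy0
    obtain ⟨⟨x, hx⟩, _⟩ := hf.nondegenerate y hy0
    have hval : f (x - (f x us / f u us) • u - (f x u / f us u) • us) y = f x y := by
      rw [uf_sub_left hf, uf_sub_left hf, hf.smul_left, hf.smul_left, (hperpU y hy).1,
        (hperpU y hy).2]
      ring
    exact ⟨⟨_, hproj x, by rw [hval]; exact hx⟩,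
      ⟨_, hproj x, uf_ne_zero_symm hf (by rw [hval]; exact hx)⟩⟩
  have h6b : ∀ w u' : ι → F, InA f M u w → f u' u' = 0 → f u u' = 0 → f w u' ≠ 0 →
      ∀ κ : F, InA f M u (κ • u') := by
    intro w u' hw hu' huu' hwu' κ
    have h1 := hw.conj_tv' hf (κ / f w u') (hE u' hu' _) huu'
    rw [div_mul_cancel₀ _ hwu'] at h1
    have h2 := hw.usub hf h1
    rwa [sub_sub_cancel] at h2
  obtain ⟨α0, hα0⟩ : ∃ α0, α0 = f w0 us / f u us := ⟨_, rfl⟩
  have hw0side := hw0.side hf
  have hw0u' : f w0 u = 0 := uf_eq_zero_symm hf hw0side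
  have hw0'U : w0 - α0 • u ∈ U := by
    have h := hproj w0
    rw [hw0u', zero_div, zero_smul, sub_zero, ← hα0] at h
    exact h
  have hw0'A : InA f M u (w0 - α0 • u) := hw0.usub hf (hE u hu α0)
  have hw0'0 : w0 - α0 • u ≠ 0 := by
    intro h0
    apply hw0u
    rw [sub_eq_zero.mp h0]
    exact Submodule.smul_mem _ _ (Submodule.mem_span_singleton_self u)
  have hkey : ∀ u' ∈ U, f u' u' = 0 → ∀ κ : F, InA f M u (κ • u') := by
    intro u' hu'U hu' κ
    have huu' : f u u' = 0 := (hperpU u' hu'U).1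
    by_cases hu'0 : u' = 0
    · rw [hu'0, smul_zero]
      have h := hw0.usub hf hw0
      rwa [sub_self] at h
    by_cases hc : f (w0 - α0 • u) u' ≠ 0
    · exact h6b _ u' hw0'A hu' huu' hc κ
    · push Not at hc
      obtain ⟨u1, hu1U, hu1, hw0u1, hu1u'⟩ : ∃ u1 ∈ U, f u1 u1 = 0 ∧
          f (w0 - α0 • u) u1 ≠ 0 ∧ f u1 u' ≠ 0 := by
        by_cases hsp : (w0 - α0 • u) ∈ Submodule.span F {u'}
        · obtain ⟨m, hm⟩ := Submodule.mem_span_singleton.mp hsp
          have hm0 : m ≠ 0 := by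
            rintro rfl
            rw [zero_smul] at hm
            exact hw0'0 hm.symm
          obtain ⟨_, ⟨x, hxU, hx⟩⟩ := hUnd u' hu'U hu'0
          obtain ⟨l', hl'⟩ := uf_iso_adjust hf hu' hx
          have hu'x' : f u' (x + l' • u') ≠ 0 := by
            rw [uf_add_right hf, uf_smul_right hf, hu', mul_zero, add_zero]; exact hx
          refine ⟨x + l' • u', U.add_mem hxU (U.smul_mem _ hu'U), hl', ?_,
            uf_ne_zero_symm hf hu'x'⟩
          rw [← hm, hf.smul_left]
          exact mul_ne_zero hm0 hu'x'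
        · have hind := indep_of_not_mem_span hsp hu'0
          obtain ⟨u1, hu1U, hu1, h1, h2⟩ :=
            uf_exists_iso_prescribed hf U hUnd hUdim hw0'U hu'U hind 1 1
          exact ⟨u1, hu1U, hu1, uf_ne_zero_symm hf (by rw [h1]; exact one_ne_zero),
            by rw [h2]; exact one_ne_zero⟩
      have huu1 : f u u1 = 0 := (hperpU u1 hu1U).1
      have hA1 := h6b _ u1 hw0'A hu1 huu1 hw0u1 1
      rw [one_smul] at hA1
      exact h6b u1 u' hA1 hu' huu' hu1u' κ
  have hallU : ∀ y ∈ U, InA f M u y := by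
    intro y hy
    obtain ⟨b1, hb1U, b2, hb2U, hb12, hb1, hb2⟩ :=
      uf_exists_iso_decomp_rel hf U hUnd hUdim y hy
    have h1 := hkey b1 hb1U hb1 1
    have h2 := hkey b2 hb2U hb2 1
    rw [one_smul] at h1 h2
    rw [hb12]
    exact h1.uadd hf h2
  have hall : ∀ w, f u w = 0 → InA f M u w := by
    intro w hw
    have hwu : f w u = 0 := uf_eq_zero_symm hf hw
    have h1 := hproj w
    rw [hwu, zero_div, zero_smul, sub_zero] at h1
    have h2 := (hallU _ h1).uadd hf (hE u hu (f w us / f u us))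
    rwa [sub_add_cancel] at h2
  intro ψ hψ
  obtain ⟨w', hw'⟩ := uf_exists_fvec_eq hf ψ
  have hz : f u w' = 0 := by rw [← ufvec_dot hf, hw']; exact hψ
  obtain ⟨s, m⟩ := hall w' hz
  rw [tv_congr _ hw' rfl] at m
  exact m

/-- the similarity group of a unitary form is maximal in the special linear group -/
theorem usim_isMaximalIn [Finite F] (hf : IsUnitaryForm σ f) (hn : 13 ≤ Fintype.card ι) :
    IsMaximalIn (specialLinear ι F) (similarityGroup f ⊓ specialLinear ι F) := by
  have hn7 : 7 ≤ Fintype.card ι := by omega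
  have hTH : TU hf ≤ similarityGroup f ⊓ specialLinear ι F := by
    intro t ht
    refine ⟨⟨1, fun x y => ?_⟩, TU_le_SL hf ht⟩
    rw [TU_isom hf t ht, Units.val_one, one_mul]
  obtain ⟨θ, hθ0, hθ⟩ := uf_exists_theta hf
  have hσθ0 : σ θ ≠ 0 := by
    intro h0
    apply hθ0
    have := congrArg σ h0
    rwa [hf.involutive, map_zero] at this
  constructor
  · rw [SetLike.lt_iff_le_and_exists]
    refine ⟨inf_le_right, ?_⟩
    have hne : Nonempty ι := by rw [← Fintype.card_pos_iff]; omega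
    obtain ⟨i0⟩ := hne
    obtain ⟨v, hvdef⟩ : ∃ v : ι → F, v = Pi.single i0 1 := ⟨_, rfl⟩
    have hv : v ≠ 0 := by
      intro h
      have := congrFun h i0
      rw [hvdef] at this
      simp at this
    obtain ⟨⟨u0, hu0⟩, _⟩ := hf.nondegenerate v hv
    obtain ⟨y, hy⟩ := exists_notMem_span_pair (F := F) (by omega) u0 v
    obtain ⟨x0, hx0⟩ : ∃ x0, x0 = y - (f y v / f u0 v) • u0 := ⟨_, rfl⟩
    have hx0v : f x0 v = 0 := by
      rw [hx0, uf_sub_left hf, hf.smul_left, div_mul_cancel₀ _ hu0, sub_self]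
    have hx0span : x0 ∉ Submodule.span F ({u0, v} : Set (ι → F)) := by
      intro h
      apply hy
      have e : y = x0 + (f y v / f u0 v) • u0 := by rw [hx0]; abel
      rw [e]
      exact Submodule.add_mem _ h (Submodule.smul_mem _ _ (Submodule.subset_span (by simp)))
    obtain ⟨ψ, hψP, hψ1⟩ := exists_functional_one _ _ hx0span
    have hψu : ψ ⬝ᵥ u0 = 0 := hψP u0 (Submodule.subset_span (by simp))
    have hψv : ψ ⬝ᵥ v = 0 := hψP v (Submodule.subset_span (by simp))
    refine ⟨tv ψ u0 hψu, tv_mem_SL ψ u0 hψu, ?_⟩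
    rintro ⟨⟨c, hc⟩, _⟩
    have h := hc x0 v
    rw [tv_coe, tvMat_mulVec, tvMat_mulVec, hψ1, hψv, one_smul, zero_smul, add_zero,
      hf.add_left, hx0v, zero_add, mul_zero] at h
    exact hu0 h
  · intro M hHM hMK
    by_cases hMH : M = similarityGroup f ⊓ specialLinear ι F
    · left; exact hMH
    right
    obtain ⟨g, hgM, hgH⟩ := SetLike.exists_of_lt (lt_of_le_of_ne hHM (Ne.symm hMH))
    have hg : g ∉ similarityGroup f := fun h => hgH ⟨h, hMK hgM⟩
    have hTM : TU hf ≤ M := le_trans hTH hHM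
    have hex : ∃ x v, f v v = 0 ∧ f x v = 0 ∧
        f ((g : Matrix ι ι F) *ᵥ x) ((g : Matrix ι ι F) *ᵥ v) ≠ 0 := by
      by_contra hcon
      push Not at hcon
      exact hg (mem_similarityGroup_of_iso_perp hf hn7 g (fun x v hv hxv => hcon x v hv hxv))
    obtain ⟨x, v, hvv, hxv, hgxv⟩ := hex
    -- Step 2: a non-unitary transvection in `M`
    have hθmem : uref hf v θ ∈ M := hTM (uref_mem_TU hf hvv hθ)
    have hside0 : (θ • fvec f v) ⬝ᵥ v = 0 := by
      rw [smul_dotProduct, ufvec_dot hf, hvv, smul_zero]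
    have huref : uref hf v θ = tv (θ • fvec f v) v hside0 := by
      apply gl_ext
      intro y
      rw [uref_apply_iso hf v θ hvv, tv_coe, tvMat_mulVec, smul_dotProduct, ufvec_dot hf,
        smul_eq_mul]
    have ht : g * uref hf v θ * g⁻¹ ∈ M := M.mul_mem (M.mul_mem hgM hθmem) (M.inv_mem hgM)
    rw [huref, conj_tv] at ht
    obtain ⟨w1, hw1⟩ := uf_exists_fvec_eq hf
      ((θ • fvec f v) ᵥ* ((g⁻¹ : GL ι F) : Matrix ι ι F))
    rw [tv_congr _ hw1.symm rfl] at ht
    have hA1 : InA f M ((g : Matrix ι ι F) *ᵥ v) w1 := ⟨_, ht⟩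
    have hkey : ∀ a, f a w1 = θ * f (((g⁻¹ : GL ι F) : Matrix ι ι F) *ᵥ a) v := by
      intro a
      rw [← ufvec_dot hf, hw1, ← Matrix.dotProduct_mulVec, smul_dotProduct, ufvec_dot hf,
        smul_eq_mul]
    have hv0 : v ≠ 0 := by
      rintro rfl
      rw [Matrix.mulVec_zero, uf_zero_right hf] at hgxv
      exact hgxv rfl
    have hu1 : (g : Matrix ι ι F) *ᵥ v ≠ 0 := by
      intro h
      rw [h, uf_zero_right hf] at hgxv
      exact hgxv rfl
    have hw1ne : w1 ≠ 0 := by
      rintro rfl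
      obtain ⟨⟨x', hx'⟩, _⟩ := hf.nondegenerate v hv0
      apply hx'
      have h := hkey ((g : Matrix ι ι F) *ᵥ x')
      rw [gl_inv_apply_apply, uf_zero_right hf] at h
      rcases mul_eq_zero.mp h.symm with h1 | h1
      · exact absurd h1 hθ0
      · exact h1
    have hw1span : w1 ∉ Submodule.span F {(g : Matrix ι ι F) *ᵥ v} := by
      intro hmem
      obtain ⟨m, hm⟩ := Submodule.mem_span_singleton.mp hmem
      have h := hkey ((g : Matrix ι ι F) *ᵥ x)
      rw [gl_inv_apply_apply, hxv, mul_zero, ← hm, uf_smul_right hf] at h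
      rcases mul_eq_zero.mp h with h1 | h1
      · have hm0 : m = 0 := by
          have := congrArg σ h1
          rwa [hf.involutive, map_zero] at this
        rw [hm0, zero_smul] at hm
        exact hw1ne hm.symm
      · exact hgxv h1
    obtain ⟨u1, hu1def⟩ : ∃ u1, u1 = (g : Matrix ι ι F) *ᵥ v := ⟨_, rfl⟩
    rw [← hu1def] at hA1 hu1 hw1span
    have hu1w1 : f u1 w1 = 0 := hA1.side hf
    have hw1u1 : f w1 u1 = 0 := uf_eq_zero_symm hf hu1w1
    -- Step 3: an isotropic centre
    have hind1 := indep_of_not_mem_span hw1span hu1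
    obtain ⟨z, _, hzz, hzw1, hzu1⟩ := uf_exists_iso_prescribed hf ⊤ (nondeg_top hf)
      (finrank_top_ge hn7) (Submodule.mem_top : w1 ∈ ⊤) (Submodule.mem_top : u1 ∈ ⊤) hind1 0 1
    have hw1z : f w1 z = 0 := uf_eq_zero_symm hf hzw1
    have hu1z : f u1 z = 1 := by rw [hf.herm u1 z, hzu1, map_one]
    have hz0 : z ≠ 0 := by
      rintro rfl
      rw [uf_zero_left hf] at hzu1
      exact zero_ne_one hzu1
    have hA2 := hA1.uconj hf (uref hf z θ) (hTM (uref_mem_TU hf hzz hθ))
      (uref_isom hf z θ (uvalid_of_iso hzz hθ))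
    rw [uref_apply_iso hf z θ hzz, uref_apply_iso hf z θ hzz, hw1z, hu1z, mul_zero, zero_smul,
      add_zero, mul_one] at hA2
    have hA3 := hA2.centre_sub hA1
    rw [add_sub_cancel_left] at hA3
    have hA4 := hA3.centre_smul hf
    obtain ⟨w0, hw0def⟩ : ∃ w0, w0 = σ θ • w1 := ⟨_, rfl⟩
    rw [← hw0def] at hA4
    have hw0span : w0 ∉ Submodule.span F {z} := by
      intro hmem
      obtain ⟨m, hm⟩ := Submodule.mem_span_singleton.mp hmem
      have h1 : f w0 u1 = m := by rw [← hm, hf.smul_left, hzu1, mul_one]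
      rw [hw0def, hf.smul_left, hw1u1, mul_zero] at h1
      rw [← h1, zero_smul] at hm
      have h2 : w1 = 0 := by
        rw [hw0def] at hm
        rcases smul_eq_zero.mp hm.symm with h | h
        · exact absurd h hσθ0
        · exact h
      exact hw1ne h2
    have hzw0 : f z w0 = 0 := hA4.side hf
    have hw0z : f w0 z = 0 := uf_eq_zero_symm hf hzw0
    -- Step 4: all multiples of `z`
    have hind0 := indep_of_not_mem_span hw0span hz0
    obtain ⟨b, _, hbb, hbw0, hbz⟩ := uf_exists_iso_prescribed hf ⊤ (nondeg_top hf)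
      (finrank_top_ge hn7) (Submodule.mem_top : w0 ∈ ⊤) (Submodule.mem_top : z ∈ ⊤) hind0 1 0
    have hzb : f z b = 0 := uf_eq_zero_symm hf hbz
    have hw0b : f w0 b = 1 := by rw [hf.herm w0 b, hbw0, map_one]
    have hEz : ∀ κ : F, InA f M z (κ • z) := by
      intro κ
      have hρ := usieg_mem_TU hf hzz hbb hzb hθ (σ (κ / θ))
      have hA5 := hA4.uconj hf _ (hTM hρ) (TU_isom hf _ hρ)
      have e3 : θ * (κ / θ) = κ := by field_simp
      have e1 : ((usieg hf z b θ (σ (κ / θ)) : GL ι F) : Matrix ι ι F) *ᵥ z = z := by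
        rw [usieg_apply hf hzz hbb hzb, hzb, hzz, mul_zero, mul_zero, zero_smul, zero_smul,
          add_zero, add_zero]
      have e2 : ((usieg hf z b θ (σ (κ / θ)) : GL ι F) : Matrix ι ι F) *ᵥ w0 = w0 + κ • z := by
        rw [usieg_apply hf hzz hbb hzb, hw0b, hw0z, mul_zero, zero_smul, add_zero, mul_one,
          hf.involutive, e3]
      rw [e1, e2] at hA5
      have hA6 := hA5.usub hf hA4
      rwa [add_sub_cancel_left] at hA6
    -- Step 5: all isotropic centres
    have htrans : ∀ u' : ι → F, f u' u' = 0 → u' ≠ 0 →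
        ∃ t ∈ TU hf, ∃ μ : F, μ ≠ 0 ∧ (t : Matrix ι ι F) *ᵥ z = μ • u' := by
      intro u' hu' hu'0
      obtain ⟨t, ht, μ, hμ⟩ := TU_transitive hf hn7 hu'0 (by rw [hzz, hu'])
      refine ⟨t, ht, μ, ?_, hμ⟩
      rintro rfl
      rw [zero_smul] at hμ
      apply hz0
      have := congrArg (fun y => ((t⁻¹ : GL ι F) : Matrix ι ι F) *ᵥ y) hμ
      simpa [gl_inv_apply_apply] using this
    have hE : ∀ u' : ι → F, f u' u' = 0 → ∀ κ : F, InA f M u' (κ • u') := by
      intro u' hu' κ
      by_cases hu'0 : u' = 0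
      · rw [hu'0]; exact InA_zero_centre M _
      · obtain ⟨t, ht, μ, hμ0, hμ⟩ := htrans u' hu' hu'0
        have hσμ0 : σ μ ≠ 0 := by
          intro h0
          apply hμ0
          have := congrArg σ h0
          rwa [hf.involutive, map_zero] at this
        have h1 := (hEz (κ / (μ * σ μ))).uconj hf t (hTM ht) (TU_isom hf t ht)
        rw [Matrix.mulVec_smul, hμ] at h1
        have h2 := h1.centre_smul hf
        have e : σ μ • (κ / (μ * σ μ)) • μ • u' = κ • u' := by
          rw [smul_smul, smul_smul]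
          congr 1
          field_simp
        rwa [e] at h2
    have hW : ∀ u' : ι → F, f u' u' = 0 → u' ≠ 0 →
        ∃ w', InA f M u' w' ∧ w' ∉ Submodule.span F {u'} := by
      intro u' hu' hu'0
      obtain ⟨t, ht, μ, hμ0, hμ⟩ := htrans u' hu' hu'0
      have h1 := hA4.uconj hf t (hTM ht) (TU_isom hf t ht)
      rw [hμ] at h1
      have h2 := h1.centre_smul hf
      refine ⟨_, h2, ?_⟩
      intro hmem
      obtain ⟨m, hm⟩ := Submodule.mem_span_singleton.mp hmem
      have hσμ0 : σ μ ≠ 0 := by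
        intro h0
        apply hμ0
        have := congrArg σ h0
        rwa [hf.involutive, map_zero] at this
      apply hw0span
      rw [Submodule.mem_span_singleton]
      refine ⟨(σ μ)⁻¹ * m * μ⁻¹, ?_⟩
      have h3 : (t : Matrix ι ι F) *ᵥ w0 = ((σ μ)⁻¹ * m * μ⁻¹) • ((t : Matrix ι ι F) *ᵥ z) := by
        rw [hμ, smul_smul, mul_assoc, inv_mul_cancel₀ hμ0, mul_one, mul_smul, hm, smul_smul,
          inv_mul_cancel₀ hσμ0, one_smul]
      have h4 := congrArg (fun y => ((t⁻¹ : GL ι F) : Matrix ι ι F) *ᵥ y) h3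
      simp only [Matrix.mulVec_smul, gl_inv_apply_apply] at h4
      exact h4.symm
    -- Step 6: all transvections with isotropic centre
    have hIso : ∀ u' : ι → F, f u' u' = 0 → u' ≠ 0 → AllTv M u' := by
      intro u' hu' hu'0
      obtain ⟨w', hw', hw'span⟩ := hW u' hu' hu'0
      exact allTv_of_iso hf hn M hE u' hu' hu'0 w' hw' hw'span
    -- Step 7: all centres
    have hAll : ∀ a : ι → F, AllTv M a := by
      intro a
      by_cases haa : f a a = 0
      · by_cases ha0 : a = 0
        · subst ha0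
          intro ψ h
          have e : tv ψ (0 : ι → F) h = 1 := by
            apply gl_ext
            intro x
            rw [tv_coe, tvMat_mulVec, smul_zero, add_zero, gl_one_apply]
          rw [e]; exact M.one_mem
        · exact hIso a haa ha0
      · obtain ⟨b1, b2, hb12, hb1, hb2, _, _⟩ :=
          uf_exists_iso_decomp hf hn7 (0 : ι → F) a (uf_zero_right hf a)
        have hb1span : b1 ∉ Submodule.span F {b2} := by
          intro hmem
          obtain ⟨m, hm⟩ := Submodule.mem_span_singleton.mp hmem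
          apply haa
          have e : a = (m + 1) • b2 := by rw [hb12, ← hm, add_smul, one_smul]
          rw [e, hf.smul_left, uf_smul_right hf, hb2, mul_zero, mul_zero]
        have hb10 : b1 ≠ 0 := by
          intro h0
          apply hb1span
          rw [h0]; exact Submodule.zero_mem _
        have hb20 : b2 ≠ 0 := by
          intro h0
          apply haa
          rw [hb12, h0, add_zero]; exact hb1
        obtain ⟨φ, hφP, hφ1⟩ := exists_functional_one _ _ hb1span
        have hφb2 : φ ⬝ᵥ b2 = 0 := hφP b2 (Submodule.mem_span_singleton_self b2)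
        have hτ : tv φ b2 hφb2 ∈ M := hIso b2 hb2 hb20 φ hφb2
        have h1 := (hIso b1 hb1 hb10).conj _ hτ
        rw [tv_coe, tvMat_mulVec, hφ1, one_smul, ← hb12] at h1
        exact h1
    exact le_antisymm hMK (SL_le_of_allTv M hAll)

end Cfsg.Agent.Helper93
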