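import Cfsg.Agent.Lib.Helper93.UPair

set_option autoImplicit false
set_option linter.unusedSectionVars false

namespace Cfsg.Agent.Helper93

open Matrix Cfsg.Geo

variable {ι : Type} [Fintype ι] [DecidableEq ι] {F : Type*} [Field F]
variable {σ : F ≃+* F} {f : (ι → F) → (ι → F) → F}

lemma gl_mulVec_eq_zero {g : GL ι F} {x : ι → F} (h : (g : Matrix ι ι F) *ᵥ x = 0) : x = 0 := by
  have := congrArg (fun z => ((g⁻¹ : GL ι F) : Matrix ι ι F) *ᵥ z) h
  simpa only [gl_inv_apply_apply, Matrix.mulVec_zero] using this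

lemma indep_of_not_smul {x d : ι → F} (hx : x ≠ 0) (h : ∀ c : F, d ≠ c • x) :
    ∀ s t : F, s • x + t • d = 0 → s = 0 ∧ t = 0 := by
  intro s t hst
  have ht : t = 0 := by
    by_contra ht
    apply h (-(t⁻¹ * s))
    have h1 : t • d = -(s • x) := eq_neg_of_add_eq_zero_right hst
    calc d = t⁻¹ • (t • d) := by rw [smul_smul, inv_mul_cancel₀ ht, one_smul]
      _ = t⁻¹ • (-(s • x)) := by rw [h1]
      _ = (-(t⁻¹ * s)) • x := by rw [smul_neg, smul_smul, neg_smul]
  rw [ht, zero_smul, add_zero] at hst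
  rcases smul_eq_zero.1 hst with h0 | h0
  · exact ⟨h0, ht⟩
  · exact absurd h0 hx

section fin

variable [Finite F]

lemma uperp_nondeg (hf : IsUnitaryForm σ f) (W : Submodule F (ι → F))
    (hW : IsNondegenerateOn f W) : IsNondegenerateOn f (uperp hf W) := by
  intro b hb hb0
  obtain ⟨⟨z, hz⟩, _⟩ := hf.nondegenerate b hb0
  obtain ⟨w, hwW, hzw⟩ := uf_exists_proj hf W hW z
  have h1 : f (z - w) b ≠ 0 := by
    rw [uf_sub_left hf, hb w hwW, sub_zero]
    exact hz
  exact ⟨⟨z - w, hzw, h1⟩, ⟨z - w, hzw, uf_ne_zero_symm hf h1⟩⟩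

omit [Finite F] in
lemma uperp_disjoint (hf : IsUnitaryForm σ f) (W : Submodule F (ι → F))
    (hW : IsNondegenerateOn f W) {x : ι → F} (hxW : x ∈ W) (hxU : x ∈ uperp hf W) : x = 0 := by
  by_contra hne
  obtain ⟨⟨y, hyW, hy⟩, _⟩ := hW x hxW hne
  exact hy (hxU y hyW)

lemma finrank_uperp (hf : IsUnitaryForm σ f) (W : Submodule F (ι → F))
    (hW : IsNondegenerateOn f W) :
    Module.finrank F W + Module.finrank F (uperp hf W) = Fintype.card ι := by
  have h1 := Submodule.finrank_sup_add_finrank_inf_eq W (uperp hf W)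
  have hsup : W ⊔ uperp hf W = ⊤ := by
    rw [eq_top_iff]
    intro x _
    obtain ⟨w, hwW, hxw⟩ := uf_exists_proj hf W hW x
    have e : x = w + (x - w) := by abel
    rw [e]
    exact Submodule.add_mem_sup hwW hxw
  have hinf : W ⊓ uperp hf W = ⊥ := by
    rw [eq_bot_iff]
    intro x hx
    obtain ⟨h1, h2⟩ := Submodule.mem_inf.1 hx
    rw [Submodule.mem_bot]
    exact uperp_disjoint hf W hW h1 h2
  rw [hsup, hinf, finrank_top, finrank_bot, Module.finrank_fintype_fun_eq_card] at h1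
  omega

omit [Finite F] in
lemma uf_one_step_M (hf : IsUnitaryForm σ f) (M : Subgroup (GL ι F)) {x u : ι → F}
    (hu : f u u = 0) (hxu : f x u ≠ 0) (htr : f x u + σ (f x u) = 0)
    (hM : ∀ c, c + σ c = 0 → uref hf u c ∈ M) (hC : UCtr hf M x) : UCtr hf M (x + u) := by
  have hc : (f x u)⁻¹ + σ (f x u)⁻¹ = 0 := by
    rw [map_inv₀, eq_neg_of_add_eq_zero_right htr, inv_neg, add_neg_cancel]
  have h := hC.conj hf (uref hf u (f x u)⁻¹) (hM _ hc)
    (uref_isom hf u _ (uvalid_of_iso hu hc))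
  rwa [uref_apply_iso hf u _ hu, inv_mul_cancel₀ hxu, one_smul] at h

lemma und_claim1_indep (hf : IsUnitaryForm σ f) (U : Submodule F (ι → F))
    (hU : IsNondegenerateOn f U) (hdim : 7 ≤ Module.finrank F U) (M : Subgroup (GL ι F))
    (hUM : ∀ u ∈ U, f u u = 0 → ∀ c, c + σ c = 0 → uref hf u c ∈ M)
    {w : ι → F} (hwU : ∀ y ∈ U, f w y = 0) {b b' : ι → F} (hb : b ∈ U) (hb' : b' ∈ U)
    (hnorm : f b b = f b' b')
    (hind : ∀ s t : F, s • b + t • b' = 0 → s = 0 ∧ t = 0)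
    (hC : UCtr hf M (w + b)) : UCtr hf M (w + b') := by
  obtain ⟨u, huU, huu, hbu, htr, hu'u', hne⟩ := uf_two_step hf U hU hdim hb hb' hnorm hind
  have hwu : f w u = 0 := hwU u huU
  have h1 : f (w + b) u = f b u := by rw [hf.add_left, hwu, zero_add]
  have hC1 := uf_one_step_M hf M huu (by rw [h1]; exact hbu) (by rw [h1]; exact htr)
    (hUM u huU huu) hC
  have hu'U : b' - b - u ∈ U := U.sub_mem (U.sub_mem hb' hb) huU
  have hwu' : f w (b' - b - u) = 0 := hwU _ hu'U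
  have h2 : f (w + b + u) (b' - b - u) = f (b + u) (b' - b - u) := by
    rw [add_assoc, hf.add_left, hwu', zero_add]
  have hnormbu : f (b + u) (b + u) = f b b := by
    rw [hf.add_left, uf_add_right hf, uf_add_right hf, huu, hf.herm u b]
    linear_combination htr
  have hyeq : b + u + (b' - b - u) = b' := by abel
  have htr' : f (b + u) (b' - b - u) + σ (f (b + u) (b' - b - u)) = 0 := by
    apply uf_trace_zero_of_norm_eq hf hu'u'
    rw [hyeq, hnormbu, hnorm]
  have hC2 := uf_one_step_M hf M hu'u' (by rw [h2]; exact hne) (by rw [h2]; exact htr')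
    (hUM _ hu'U hu'u') hC1
  have e : w + b + u + (b' - b - u) = w + b' := by abel
  rwa [e] at hC2

lemma und_claim1 (hf : IsUnitaryForm σ f) (U : Submodule F (ι → F))
    (hU : IsNondegenerateOn f U) (hdim : 7 ≤ Module.finrank F U) (M : Subgroup (GL ι F))
    (hUM : ∀ u ∈ U, f u u = 0 → ∀ c, c + σ c = 0 → uref hf u c ∈ M)
    {w : ι → F} (hwU : ∀ y ∈ U, f w y = 0) {b b' : ι → F} (hb : b ∈ U) (hb' : b' ∈ U)
    (hb0 : b ≠ 0) (hb'0 : b' ≠ 0) (hnorm : f b b = f b' b')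
    (hC : UCtr hf M (w + b)) : UCtr hf M (w + b') := by
  by_cases hind : ∀ s t : F, s • b + t • b' = 0 → s = 0 ∧ t = 0
  · exact und_claim1_indep hf U hU hdim M hUM hwU hb hb' hnorm hind hC
  · push Not at hind
    obtain ⟨s, t, hst, hne⟩ := hind
    have ht : t ≠ 0 := by
      intro ht0
      rw [ht0, zero_smul, add_zero] at hst
      rcases smul_eq_zero.1 hst with h | h
      · exact hne h ht0
      · exact hb0 h
    obtain ⟨k, hk⟩ : ∃ k : F, b' = k • b := by
      refine ⟨-(t⁻¹ * s), ?_⟩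
      have h1 : t • b' = -(s • b) := eq_neg_of_add_eq_zero_right hst
      calc b' = t⁻¹ • (t • b') := by rw [smul_smul, inv_mul_cancel₀ ht, one_smul]
        _ = t⁻¹ • (-(s • b)) := by rw [h1]
        _ = (-(t⁻¹ * s)) • b := by rw [smul_neg, smul_smul, neg_smul]
    obtain ⟨b'', hb''U, hn'', hi1, hi2⟩ : ∃ b'' ∈ U, f b'' b'' = f b b ∧
        (∀ s t : F, s • b + t • b'' = 0 → s = 0 ∧ t = 0) ∧
        (∀ s t : F, s • b'' + t • b' = 0 → s = 0 ∧ t = 0) := by
      by_cases hκ : f b b = 0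
      · obtain ⟨_, ⟨y, hyU, hy⟩⟩ := hU b hb hb0
        obtain ⟨lam, hlam⟩ := uf_iso_adjust hf hκ hy
        have hg : f (y + lam • b) b ≠ 0 := by
          rw [hf.add_left, hf.smul_left, hκ, mul_zero, add_zero]
          exact uf_ne_zero_symm hf hy
        refine ⟨y + lam • b, U.add_mem hyU (U.smul_mem _ hb), by rw [hlam, hκ], ?_, ?_⟩
        · intro s t hst'
          have h1 : f (s • b + t • (y + lam • b)) b = 0 := by rw [hst', uf_zero_left hf]
          rw [hf.add_left, hf.smul_left, hf.smul_left, hκ, mul_zero, zero_add] at h1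
          have ht0 : t = 0 := (mul_eq_zero.1 h1).resolve_right hg
          rw [ht0, zero_smul, add_zero] at hst'
          rcases smul_eq_zero.1 hst' with h | h
          · exact ⟨h, ht0⟩
          · exact absurd h hb0
        · intro s t hst'
          have h1 : f (s • (y + lam • b) + t • b') b = 0 := by rw [hst', uf_zero_left hf]
          rw [hk, hf.add_left, hf.smul_left, hf.smul_left, hf.smul_left, hκ, mul_zero, mul_zero,
            add_zero] at h1
          have hs0 : s = 0 := (mul_eq_zero.1 h1).resolve_right hg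
          rw [hs0, zero_smul, zero_add] at hst'
          rcases smul_eq_zero.1 hst' with h | h
          · exact ⟨hs0, h⟩
          · exact absurd h hb'0
      · obtain ⟨r, hrU, hr1, _, _, hrr⟩ :=
          uf_exists_perp_norm hf U hU hdim hb hb hb (f b b) (uf_self hf b)
        have hbr : f b r = 0 := uf_eq_zero_symm hf hr1
        refine ⟨r, hrU, hrr, ?_, ?_⟩
        · intro s t hst'
          have h1 : f (s • b + t • r) r = 0 := by rw [hst', uf_zero_left hf]
          rw [hf.add_left, hf.smul_left, hf.smul_left, hbr, hrr, mul_zero, zero_add] at h1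
          have ht0 : t = 0 := (mul_eq_zero.1 h1).resolve_right hκ
          rw [ht0, zero_smul, add_zero] at hst'
          rcases smul_eq_zero.1 hst' with h | h
          · exact ⟨h, ht0⟩
          · exact absurd h hb0
        · intro s t hst'
          have h1 : f (s • r + t • b') r = 0 := by rw [hst', uf_zero_left hf]
          rw [hk, hf.add_left, hf.smul_left, hf.smul_left, hf.smul_left, hbr, hrr, mul_zero,
            mul_zero, add_zero] at h1
          have hs0 : s = 0 := (mul_eq_zero.1 h1).resolve_right hκ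
          rw [hs0, zero_smul, zero_add] at hst'
          rcases smul_eq_zero.1 hst' with h | h
          · exact ⟨hs0, h⟩
          · exact absurd h hb'0
    have hC1 := und_claim1_indep hf U hU hdim M hUM hwU hb hb''U hn''.symm hi1 hC
    exact und_claim1_indep hf U hU hdim M hUM hwU hb''U hb' (by rw [hn'', hnorm]) hi2 hC1

lemma uf_exists_norm_ne_zero (hf : IsUnitaryForm σ f) (U : Submodule F (ι → F))
    (hU : IsNondegenerateOn f U) (hdim : 7 ≤ Module.finrank F U) (κ : F) (hκ : σ κ = κ) :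
    ∃ b ∈ U, b ≠ 0 ∧ f b b = κ := by
  have hU0 : U ≠ ⊥ := by
    intro h
    rw [h, finrank_bot] at hdim
    omega
  obtain ⟨x, hxU, hx0⟩ := Submodule.exists_mem_ne_zero_of_ne_bot hU0
  obtain ⟨d, hdU, hdx⟩ := exists_not_smul U (by omega) x
  have hind := indep_of_not_smul hx0 hdx
  obtain ⟨u, huU, huu, hux, _⟩ := uf_exists_iso_prescribed hf U hU hdim hxU hdU hind 1 0
  obtain ⟨r, hrU, hr1, hr2, _, hrr⟩ := uf_exists_perp_norm hf U hU hdim huU hxU hxU κ hκ
  refine ⟨u + r, U.add_mem huU hrU, ?_, ?_⟩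
  · intro h0
    have h1 : f (u + r) x = 1 := by rw [hf.add_left, hux, hr2, add_zero]
    rw [h0, uf_zero_left hf] at h1
    exact zero_ne_one h1
  · rw [hf.add_left, uf_add_right hf, uf_add_right hf, huu, hr1, uf_eq_zero_symm hf hr1, hrr]
    ring

omit [Finite F] in
lemma uvalid_norm_one {a : ι → F} (ha : f a a = 1) {δ : F} (hδ : δ * σ δ = 1) :
    UValid σ f a (δ - 1) := by
  unfold UValid
  rw [ha, mul_one, map_sub, map_one]
  linear_combination hδ

lemma exists_move_in_W (hf : IsUnitaryForm σ f) (W : Submodule F (ι → F))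
    (hW : IsNondegenerateOn f W) (hdimU : 7 ≤ Module.finrank F (uperp hf W))
    (G : Subgroup (GL ι F)) (hG : ∀ g, g ∈ G ↔ Isom f g ∧ g ∈ specialLinear ι F)
    {w d : ι → F} (hw : w ∈ W) (hd : d ∈ W) (hwd : f w d ≠ 0) :
    ∃ h ∈ subspaceStabilizer W ⊓ G, ∃ κ0 : F, κ0 ≠ 0 ∧
      (h : Matrix ι ι F) *ᵥ w = w + κ0 • d ∧ ∀ x ∈ W, (h : Matrix ι ι F) *ᵥ x ∈ W := by
  by_cases hdd : f d d = 0
  · obtain ⟨θ, hθ0, hθ⟩ := uf_exists_theta hf
    have hmaps : ∀ x ∈ W, ((uref hf d θ : GL ι F) : Matrix ι ι F) *ᵥ x ∈ W := by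
      intro x hx
      rw [uref_apply_iso hf d θ hdd]
      exact W.add_mem hx (W.smul_mem _ hd)
    exact ⟨uref hf d θ, ⟨mem_stab_of_maps_le W _ hmaps,
      (hG _).2 ⟨uref_isom hf _ _ (uvalid_of_iso hdd hθ), uref_mem_SL hf _ hdd⟩⟩,
      θ * f w d, mul_ne_zero hθ0 hwd, uref_apply_iso hf d θ hdd w, hmaps⟩
  · have hU := uperp_nondeg hf W hW
    have hρfix : σ (f d d)⁻¹ = (f d d)⁻¹ := by rw [map_inv₀, uf_self hf]
    obtain ⟨lam, hlam⟩ := uf_norm_surj hf _ (inv_ne_zero hdd) hρfix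
    have hlam0 : lam ≠ 0 := by
      rintro rfl
      rw [zero_mul] at hlam
      exact inv_ne_zero hdd hlam.symm
    have hd1n : f (lam • d) (lam • d) = 1 := by
      rw [hf.smul_left, uf_smul_right hf, ← mul_assoc, hlam, inv_mul_cancel₀ hdd]
    obtain ⟨d', hd'U, _, hd'n⟩ := uf_exists_norm_ne_zero hf _ hU hdimU 1 (map_one σ)
    obtain ⟨δ, hδ1, hδ⟩ := uf_exists_norm_one_ne_one hf
    have hδ0 : δ ≠ 0 := by
      rintro rfl
      rw [zero_mul] at hδ
      exact zero_ne_one hδ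
    have hε : δ⁻¹ * σ δ⁻¹ = 1 := by rw [map_inv₀, ← mul_inv, hδ, inv_one]
    have hv1 : UValid σ f (lam • d) (δ - 1) := uvalid_norm_one hd1n hδ
    have hv2 : UValid σ f d' (δ⁻¹ - 1) := uvalid_norm_one hd'n hε
    obtain ⟨h, hh⟩ : ∃ h : GL ι F, h = uref hf (lam • d) (δ - 1) * uref hf d' (δ⁻¹ - 1) :=
      ⟨_, rfl⟩
    have hhI : Isom f h := by
      rw [hh]
      exact (uref_isom hf _ _ hv1).mul (uref_isom hf _ _ hv2)
    have hSL : h ∈ specialLinear ι F := by
      unfold Cfsg.Geo.specialLinear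
      rw [MonoidHom.mem_ker]
      apply Units.ext
      rw [Matrix.GeneralLinearGroup.val_det_apply, hh, Units.val_mul, Matrix.det_mul,
        uref_det hf _ _ hv1.ne, uref_det hf _ _ hv2.ne, hd1n, hd'n, mul_one, mul_one,
        add_sub_cancel, add_sub_cancel, mul_inv_cancel₀ hδ0]
      rfl
    have hfix2 : ∀ x ∈ W, ((uref hf d' (δ⁻¹ - 1) : GL ι F) : Matrix ι ι F) *ᵥ x = x := by
      intro x hx
      rw [uref_apply hf d' _ hv2.ne, hd'U x hx, mul_zero, zero_smul, add_zero]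
    have happ : ∀ x ∈ W, (h : Matrix ι ι F) *ᵥ x
        = x + ((δ - 1) * f x (lam • d)) • (lam • d) := by
      intro x hx
      rw [hh, gl_mul_apply, hfix2 x hx, uref_apply hf _ _ hv1.ne]
    have hmaps : ∀ x ∈ W, (h : Matrix ι ι F) *ᵥ x ∈ W := by
      intro x hx
      rw [happ x hx]
      exact W.add_mem hx (W.smul_mem _ (W.smul_mem _ hd))
    refine ⟨h, ⟨mem_stab_of_maps_le W h hmaps, (hG h).2 ⟨hhI, hSL⟩⟩,
      (δ - 1) * f w (lam • d) * lam, ?_, ?_, hmaps⟩
    · refine mul_ne_zero (mul_ne_zero (sub_ne_zero.2 hδ1) ?_) hlam0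
      rw [uf_smul_right hf]
      refine mul_ne_zero ?_ hwd
      intro h0
      apply hlam0
      have := congrArg σ h0
      rwa [hf.involutive, map_zero] at this
    · rw [happ w hw, smul_smul]

lemma und_step (hf : IsUnitaryForm σ f) (W : Submodule F (ι → F))
    (hW : IsNondegenerateOn f W) (hdimU : 7 ≤ Module.finrank F (uperp hf W))
    (G : Subgroup (GL ι F)) (hG : ∀ g, g ∈ G ↔ Isom f g ∧ g ∈ specialLinear ι F)
    (M : Subgroup (GL ι F)) (hHM : subspaceStabilizer W ⊓ G ≤ M)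
    {w d : ι → F} (hw : w ∈ W) (hd : d ∈ W) (hwd : f w d ≠ 0)
    (hP : ∀ b' ∈ uperp hf W, b' ≠ 0 → f b' b' = -f w w → UCtr hf M (w + b')) :
    ∃ μ : F, μ ≠ 0 ∧ ∃ bd ∈ uperp hf W, bd ≠ 0 ∧ UCtr hf M (μ • d + bd) := by
  obtain ⟨θ, hθ0, hθ⟩ := uf_exists_theta hf
  have hU := uperp_nondeg hf W hW
  obtain ⟨h, hhH, κ0, hκ0, hhw, hhW⟩ := exists_move_in_W hf W hW hdimU G hG hw hd hwd
  have hhM : h ∈ M := hHM hhH
  have hhI : Isom f h := ((hG h).1 hhH.2).1
  have hνfix : σ (-f w w) = -f w w := by rw [map_neg, uf_self hf]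
  obtain ⟨b2, hb2U, hb20, hb2n⟩ := uf_exists_norm_ne_zero hf _ hU hdimU (-f w w) hνfix
  have hC2 : UCtr hf M ((h : Matrix ι ι F) *ᵥ w + b2) := by
    have hb'U : ((h⁻¹ : GL ι F) : Matrix ι ι F) *ᵥ b2 ∈ uperp hf W := by
      intro y hy
      rw [hhI.inv_right]
      exact hb2U _ (hhW y hy)
    have hb'0 : ((h⁻¹ : GL ι F) : Matrix ι ι F) *ᵥ b2 ≠ 0 := by
      intro h0
      apply hb20
      have := congrArg (fun z => (h : Matrix ι ι F) *ᵥ z) h0
      simpa only [gl_apply_inv_apply, Matrix.mulVec_zero] using this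
    have hb'n : f (((h⁻¹ : GL ι F) : Matrix ι ι F) *ᵥ b2) (((h⁻¹ : GL ι F) : Matrix ι ι F) *ᵥ b2)
        = -f w w := by
      rw [hhI.inv]
      exact hb2n
    have h1 := (hP _ hb'U hb'0 hb'n).conj hf h hhM hhI
    rwa [Matrix.mulVec_add, gl_apply_inv_apply] at h1
  have e1 := finrank_le_inf_ker_add_one (uperp hf W) (uflin hf b2)
  obtain ⟨d0, hd0mem, hd0sp⟩ :=
    exists_not_smul (uperp hf W ⊓ LinearMap.ker (uflin hf b2)) (by omega) b2
  obtain ⟨hd0U, hd0k⟩ := Submodule.mem_inf.1 hd0mem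
  have hd0b2 : f d0 b2 = 0 := by
    have := LinearMap.mem_ker.1 hd0k
    rwa [uflin_apply] at this
  have hb2d0 : f b2 d0 = 0 := uf_eq_zero_symm hf hd0b2
  have hind : ∀ s t : F, s • b2 + t • d0 = 0 → s = 0 ∧ t = 0 := indep_of_not_smul hb20 hd0sp
  obtain ⟨η, hη⟩ : ∃ η, η = θ - f w ((h : Matrix ι ι F) *ᵥ w) := ⟨_, rfl⟩
  obtain ⟨u, huU, huu, hub2, hud0⟩ :=
    uf_exists_iso_prescribed hf _ hU hdimU hb2U hd0U hind η 1
  obtain ⟨r, hrU, hru, hrb2, hrd0, hrr⟩ :=
    uf_exists_perp_norm hf _ hU hdimU huU hb2U hd0U (-f w w) hνfix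
  have hur : f u r = 0 := uf_eq_zero_symm hf hru
  obtain ⟨b1, hb1⟩ : ∃ b1, b1 = u + r := ⟨_, rfl⟩
  have hb1U : b1 ∈ uperp hf W := by
    rw [hb1]
    exact (uperp hf W).add_mem huU hrU
  have hb1n : f b1 b1 = -f w w := by
    rw [hb1, hf.add_left, uf_add_right hf, uf_add_right hf, huu, hur, hru, hrr]
    ring
  have hb1b2 : f b1 b2 = η := by rw [hb1, hf.add_left, hub2, hrb2, add_zero]
  have hb1d0 : f b1 d0 = 1 := by rw [hb1, hf.add_left, hud0, hrd0, add_zero]
  have hb10 : b1 ≠ 0 := by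
    intro h0
    rw [h0, uf_zero_left hf] at hb1d0
    exact zero_ne_one hb1d0
  have hC1 : UCtr hf M (w + b1) := hP b1 hb1U hb10 hb1n
  have hwb2 : f w b2 = 0 := hb2U w hw
  have hb1hw : f b1 ((h : Matrix ι ι F) *ᵥ w) = 0 :=
    uf_eq_zero_symm hf (hb1U _ (hhW w hw))
  have h12 : f (w + b1) ((h : Matrix ι ι F) *ᵥ w + b2) = θ := by
    rw [hf.add_left, uf_add_right hf, uf_add_right hf, hwb2, hb1hw, hb1b2, hη]
    ring
  have hiso : f (w + b1 + (-1 : F) • ((h : Matrix ι ι F) *ᵥ w + b2))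
      (w + b1 + (-1 : F) • ((h : Matrix ι ι F) *ᵥ w + b2)) = 0 := by
    have e : w + b1 + (-1 : F) • ((h : Matrix ι ι F) *ᵥ w + b2)
        = (w + b1) - ((h : Matrix ι ι F) *ᵥ w + b2) := by
      rw [neg_one_smul, sub_eq_add_neg]
    rw [e, uf_sub_left hf, uf_sub_right hf, uf_sub_right hf, hC1.1, hC2.1, h12,
      hf.herm ((h : Matrix ι ι F) *ᵥ w + b2) (w + b1), h12]
    linear_combination -hθ
  have hC3 := hC1.add_smul hf hC2 (by rw [h12]; exact hθ0) (-1) hiso
  have e3 : w + b1 + (-1 : F) • ((h : Matrix ι ι F) *ᵥ w + b2) = (-κ0) • d + (b1 - b2) := by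
    rw [hhw, neg_one_smul, neg_smul]
    abel
  rw [e3] at hC3
  refine ⟨-κ0, neg_ne_zero.2 hκ0, b1 - b2, (uperp hf W).sub_mem hb1U hb2U, ?_, hC3⟩
  intro h0
  have h1 : f (b1 - b2) d0 = 1 := by rw [uf_sub_left hf, hb1d0, hb2d0, sub_zero]
  rw [h0, uf_zero_left hf] at h1
  exact zero_ne_one h1

end fin

end Cfsg.Agent.Helper93
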