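import Cfsg.Agent.Lib.Helper93.UND

set_option autoImplicit false
set_option linter.unusedSectionVars false

namespace Cfsg.Agent.Helper93

open Matrix Cfsg.Geo

variable {ι : Type} [Fintype ι] [DecidableEq ι] {F : Type*} [Field F]
variable {σ : F ≃+* F} {f : (ι → F) → (ι → F) → F}

theorem und_stab_max [Finite F] (hf : IsUnitaryForm σ f) (hn : 13 ≤ Fintype.card ι)
    (W : Submodule F (ι → F)) (hW0 : W ≠ ⊥) (hW : IsNondegenerateOn f W)
    (hdim : 2 * Module.finrank F W < Fintype.card ι) (G : Subgroup (GL ι F))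
    (hG : ∀ g, g ∈ G ↔ Isom f g ∧ g ∈ specialLinear ι F) :
    IsMaximalIn G (subspaceStabilizer W ⊓ G) := by
  obtain ⟨θ, hθ0, hθ⟩ := uf_exists_theta hf
  have hU := uperp_nondeg hf W hW
  have hfr := finrank_uperp hf W hW
  have hdimU : 7 ≤ Module.finrank F (uperp hf W) := by omega
  have hn7 : 7 ≤ Fintype.card ι := by omega
  have hTG : ∀ t ∈ TU hf, t ∈ G := fun t ht => (hG t).2 ⟨TU_isom hf t ht, TU_le_SL hf ht⟩
  have hUH : ∀ u ∈ uperp hf W, f u u = 0 → ∀ c, c + σ c = 0 →
      uref hf u c ∈ subspaceStabilizer W ⊓ G := by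
    intro u hu huu c hc
    refine ⟨mem_stab_of_maps_le W _ ?_, hTG _ (uref_mem_TU hf huu hc)⟩
    intro x hx
    rw [uref_fix hf u c huu x (hu x hx)]
    exact hx
  have hWH : ∀ w ∈ W, f w w = 0 → ∀ c, c + σ c = 0 →
      uref hf w c ∈ subspaceStabilizer W ⊓ G := by
    intro w hw hww c hc
    refine ⟨mem_stab_of_maps_le W _ ?_, hTG _ (uref_mem_TU hf hww hc)⟩
    intro x hx
    rw [uref_apply_iso hf w c hww]
    exact W.add_mem hx (W.smul_mem _ hw)
  have hsplit : ∀ x : ι → F, ∃ w ∈ W, ∃ b ∈ uperp hf W, x = w + b := by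
    intro x
    obtain ⟨w, hwW, hxw⟩ := uf_exists_proj hf W hW x
    exact ⟨w, hwW, x - w, hxw, by abel⟩
  have hnorm_of : ∀ w ∈ W, ∀ b ∈ uperp hf W, f (w + b) (w + b) = 0 → f b b = -f w w := by
    intro w hw b hb h
    have hwb : f w b = 0 := hb w hw
    have hbw : f b w = 0 := uf_eq_zero_symm hf hwb
    rw [hf.add_left, uf_add_right hf, uf_add_right hf, hwb, hbw] at h
    linear_combination h
  constructor
  · refine SetLike.lt_iff_le_and_exists.2 ⟨inf_le_right, ?_⟩
    obtain ⟨w0, hw0W, hw00⟩ := Submodule.exists_mem_ne_zero_of_ne_bot hW0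
    obtain ⟨_, ⟨y, hyW, hy⟩⟩ := hW w0 hw0W hw00
    obtain ⟨α, β, hαβ⟩ := uf_exists_nonisotropic_pair hf hy
    obtain ⟨w, hw⟩ : ∃ w, w = α • w0 + β • y := ⟨_, rfl⟩
    rw [← hw] at hαβ
    have hwW : w ∈ W := by
      rw [hw]
      exact W.add_mem (W.smul_mem _ hw0W) (W.smul_mem _ hyW)
    have hνfix : σ (-f w w) = -f w w := by rw [map_neg, uf_self hf]
    obtain ⟨b, hbU, hb0, hbn⟩ := uf_exists_norm_ne_zero hf _ hU hdimU (-f w w) hνfix
    have hwb : f w b = 0 := hbU w hwW
    have hbw : f b w = 0 := uf_eq_zero_symm hf hwb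
    have haa : f (w + b) (w + b) = 0 := by
      rw [hf.add_left, uf_add_right hf, uf_add_right hf, hwb, hbw, hbn]
      ring
    refine ⟨uref hf (w + b) θ, hTG _ (uref_mem_TU hf haa hθ), ?_⟩
    rintro ⟨hstab, _⟩
    have hstab' := (mem_subspaceStabilizer_iff W _).1 hstab
    have h1 := (hstab' w).1 hwW
    rw [uref_apply_iso hf _ _ haa, uf_add_right hf, hwb, add_zero] at h1
    have hc : θ * f w w ≠ 0 := mul_ne_zero hθ0 hαβ
    have h2 : (θ * f w w) • b ∈ W := by
      have := W.sub_mem h1 (W.add_mem hwW (W.smul_mem (θ * f w w) hwW))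
      have e : w + (θ * f w w) • (w + b) - (w + (θ * f w w) • w) = (θ * f w w) • b := by
        rw [smul_add]
        abel
      rwa [e] at this
    have hbW : b ∈ W := by
      have := W.smul_mem (θ * f w w)⁻¹ h2
      rwa [smul_smul, inv_mul_cancel₀ hc, one_smul] at this
    exact hb0 (uperp_disjoint hf W hW hbW hbU)
  · intro M hHM hMG
    by_cases hMH : M ≤ subspaceStabilizer W ⊓ G
    · left; exact le_antisymm hMH hHM
    · right
      apply le_antisymm hMG
      obtain ⟨g, hgM, hgH⟩ := SetLike.not_le_iff_exists.1 hMH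
      have hMI : ∀ m ∈ M, Isom f m := fun m hm => ((hG m).1 (hMG hm)).1
      have hgI : Isom f g := hMI g hgM
      have hgS : g ∉ subspaceStabilizer W := fun h => hgH ⟨h, hMG hgM⟩
      have hUM : ∀ u ∈ uperp hf W, f u u = 0 → ∀ c, c + σ c = 0 → uref hf u c ∈ M :=
        fun u hu huu c hc => hHM (hUH u hu huu c hc)
      have hUC : ∀ u ∈ uperp hf W, f u u = 0 → UCtr hf M u :=
        fun u hu huu => ⟨huu, hUM u hu huu⟩
      have hWC : ∀ w ∈ W, f w w = 0 → UCtr hf M w :=
        fun w hw hww => ⟨hww, fun c hc => hHM (hWH w hw hww c hc)⟩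
      have hcl1 : ∀ w ∈ W, ∀ b ∈ uperp hf W, ∀ b' ∈ uperp hf W, b ≠ 0 → b' ≠ 0 →
          f b b = f b' b' → UCtr hf M (w + b) → UCtr hf M (w + b') := by
        intro w hw b hb b' hb' hb0 hb'0 hnorm hC
        exact und_claim1 hf _ hU hdimU M hUM (fun y hy => hy w hw) hb hb' hb0 hb'0 hnorm hC
      -- Step A: a mixed centre
      have hmixed : ∃ u0 ∈ uperp hf W, f u0 u0 = 0 ∧
          (g : Matrix ι ι F) *ᵥ u0 ∉ uperp hf W ∧ (g : Matrix ι ι F) *ᵥ u0 ∉ W := by
        by_contra hcon
        have hdich : ∀ u ∈ uperp hf W, f u u = 0 →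
            (g : Matrix ι ι F) *ᵥ u ∈ uperp hf W ∨ (g : Matrix ι ι F) *ᵥ u ∈ W := by
          intro u hu huu
          by_contra h
          rw [not_or] at h
          exact hcon ⟨u, hu, huu, h.1, h.2⟩
        have hnomix : ∀ u1 ∈ uperp hf W, ∀ u2 ∈ uperp hf W, f u1 u1 = 0 → f u2 u2 = 0 →
            (g : Matrix ι ι F) *ᵥ u1 ∉ W → (g : Matrix ι ι F) *ᵥ u2 ∉ uperp hf W → False := by
          intro u1 hu1 u2 hu2 h11 h22 hn1 hn2
          have hg1U : (g : Matrix ι ι F) *ᵥ u1 ∈ uperp hf W :=
            (hdich u1 hu1 h11).resolve_right hn1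
          have hg2W : (g : Matrix ι ι F) *ᵥ u2 ∈ W := (hdich u2 hu2 h22).resolve_left hn2
          obtain ⟨t, ht0, hiso⟩ : ∃ t : F, t ≠ 0 ∧ f (u1 + t • u2) (u1 + t • u2) = 0 := by
            by_cases h12 : f u1 u2 = 0
            · exact ⟨1, one_ne_zero, uf_iso_add_smul hf h11 h22 h12 1⟩
            · have h21 : f u2 u1 ≠ 0 := uf_ne_zero_symm hf h12
              obtain ⟨t, ht⟩ : ∃ t, t = θ / f u2 u1 := ⟨_, rfl⟩
              have ht0 : t ≠ 0 := by rw [ht]; exact div_ne_zero hθ0 h21
              have e1 : t * f u2 u1 = θ := by rw [ht, div_mul_cancel₀ _ h21]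
              have e2 : σ t * f u1 u2 = σ θ := by rw [← e1, map_mul, ← hf.herm u1 u2]
              refine ⟨t, ht0, ?_⟩
              rw [hf.add_left, uf_add_right hf, uf_add_right hf, hf.smul_left, hf.smul_left,
                uf_smul_right hf, uf_smul_right hf, h11, h22, e2, e1]
              linear_combination hθ
          have himg : (g : Matrix ι ι F) *ᵥ (u1 + t • u2)
              = (g : Matrix ι ι F) *ᵥ u1 + t • ((g : Matrix ι ι F) *ᵥ u2) := by
            rw [Matrix.mulVec_add, Matrix.mulVec_smul]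
          have hsumU : u1 + t • u2 ∈ uperp hf W :=
            (uperp hf W).add_mem hu1 ((uperp hf W).smul_mem t hu2)
          rcases hdich _ hsumU hiso with h | h
          · rw [himg] at h
            apply hn2
            have h3 := (uperp hf W).sub_mem h hg1U
            rw [add_sub_cancel_left] at h3
            have h4 := (uperp hf W).smul_mem t⁻¹ h3
            rwa [smul_smul, inv_mul_cancel₀ ht0, one_smul] at h4
          · rw [himg] at h
            apply hn1
            have h3 := W.sub_mem h (W.smul_mem t hg2W)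
            rwa [add_sub_cancel_right] at h3
        by_cases hB : ∀ u ∈ uperp hf W, f u u = 0 → (g : Matrix ι ι F) *ᵥ u ∈ W
        · have hle : ∀ x ∈ uperp hf W, (g : Matrix ι ι F) *ᵥ x ∈ W := by
            intro x hx
            obtain ⟨b1, hb1, b2, hb2, hsum, h11, h22⟩ :=
              uf_exists_iso_decomp_rel hf _ hU hdimU x hx
            rw [hsum, Matrix.mulVec_add]
            exact W.add_mem (hB b1 hb1 h11) (hB b2 hb2 h22)
          have hmaple : (uperp hf W).map (Matrix.toLin' (g : Matrix ι ι F)) ≤ W := by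
            rintro _ ⟨x, hx, rfl⟩
            rw [Matrix.toLin'_apply]
            exact hle x hx
          have h1 := Submodule.finrank_mono hmaple
          have h2 : Module.finrank F (uperp hf W)
              = Module.finrank F ((uperp hf W).map (Matrix.toLin' (g : Matrix ι ι F))) :=
            (Submodule.equivMapOfInjective _ (toLin_gl_injective g) (uperp hf W)).finrank_eq
          omega
        · push Not at hB
          obtain ⟨u1, hu1, h11, hn1⟩ := hB
          have hall : ∀ u2 ∈ uperp hf W, f u2 u2 = 0 →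
              (g : Matrix ι ι F) *ᵥ u2 ∈ uperp hf W := by
            intro u2 hu2 h22
            by_contra hn2
            exact hnomix u1 hu1 u2 hu2 h11 h22 hn1 hn2
          have hUU : ∀ x ∈ uperp hf W, (g : Matrix ι ι F) *ᵥ x ∈ uperp hf W := by
            intro x hx
            obtain ⟨b1, hb1, b2, hb2, hsum, hb11, hb22⟩ :=
              uf_exists_iso_decomp_rel hf _ hU hdimU x hx
            rw [hsum, Matrix.mulVec_add]
            exact (uperp hf W).add_mem (hall b1 hb1 hb11) (hall b2 hb2 hb22)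
          have hmapU := map_eq_of_le_of_finrank g (uperp hf W) (uperp hf W) hUU rfl
          apply hgS
          apply mem_stab_of_maps_le
          intro w hw
          obtain ⟨w', hw', b', hb', hsum⟩ := hsplit ((g : Matrix ι ι F) *ᵥ w)
          have hb'0 : b' = 0 := by
            by_contra hne
            obtain ⟨⟨y, hyU, hy⟩, _⟩ := hU b' hb' hne
            apply hy
            have hymem : y ∈ (uperp hf W).map (Matrix.toLin' (g : Matrix ι ι F)) := by
              rw [hmapU]
              exact hyU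
            obtain ⟨y0, hy0U, hy0⟩ := Submodule.mem_map.1 hymem
            rw [Matrix.toLin'_apply] at hy0
            have h1 : f y ((g : Matrix ι ι F) *ᵥ w) = 0 := by
              rw [← hy0, hgI]
              exact uf_eq_zero_symm hf (hy0U w hw)
            rw [hsum, uf_add_right hf, uf_eq_zero_symm hf (hyU w' hw'), zero_add] at h1
            exact h1
          rw [hsum, hb'0, add_zero]
          exact hw'
      obtain ⟨u0, hu0U, hu00, hgu0U, hgu0W⟩ := hmixed
      have hCa : UCtr hf M ((g : Matrix ι ι F) *ᵥ u0) := (hUC u0 hu0U hu00).conj hf g hgM hgI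
      obtain ⟨w0, hw0W, b0, hb0U, hsum0⟩ := hsplit ((g : Matrix ι ι F) *ᵥ u0)
      have hw00 : w0 ≠ 0 := by
        intro h
        apply hgu0U
        rw [hsum0, h, zero_add]
        exact hb0U
      have hb00 : b0 ≠ 0 := by
        intro h
        apply hgu0W
        rw [hsum0, h, add_zero]
        exact hw0W
      rw [hsum0] at hCa
      have hPw0 : ∀ b' ∈ uperp hf W, b' ≠ 0 → f b' b' = -f w0 w0 → UCtr hf M (w0 + b') := by
        intro b' hb' hb'0 hb'n
        exact hcl1 w0 hw0W b0 hb0U b' hb' hb00 hb'0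
          (by rw [hb'n]; exact hnorm_of w0 hw0W b0 hb0U hCa.1) hCa
      have hstep : ∀ w ∈ W, ∀ d ∈ W, f w d ≠ 0 →
          (∀ b' ∈ uperp hf W, b' ≠ 0 → f b' b' = -f w w → UCtr hf M (w + b')) →
          (∀ b' ∈ uperp hf W, b' ≠ 0 → f b' b' = -f d d → UCtr hf M (d + b')) := by
        intro w hw d hd hwd hP b' hb' hb'0 hb'n
        obtain ⟨μ, hμ0, bd, hbdU, hbd0, hCbd⟩ :=
          und_step hf W hW hdimU G hG M hHM hw hd hwd hP
        have hC2 := hCbd.smul hf μ⁻¹
        rw [smul_add, smul_smul, inv_mul_cancel₀ hμ0, one_smul] at hC2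
        have hb2U : μ⁻¹ • bd ∈ uperp hf W := (uperp hf W).smul_mem _ hbdU
        have hb20 : μ⁻¹ • bd ≠ 0 := smul_ne_zero (inv_ne_zero hμ0) hbd0
        exact hcl1 d hd _ hb2U b' hb' hb20 hb'0
          (by rw [hb'n]; exact hnorm_of d hd _ hb2U hC2.1) hC2
      have hPall : ∀ d ∈ W, d ≠ 0 →
          ∀ b' ∈ uperp hf W, b' ≠ 0 → f b' b' = -f d d → UCtr hf M (d + b') := by
        intro d hd hd0
        obtain ⟨_, ⟨p, hpW, hp⟩⟩ := hW w0 hw0W hw00
        obtain ⟨⟨q, hqW, hq⟩, _⟩ := hW d hd hd0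
        obtain ⟨z, hzW, hz1, hz2⟩ := exists_both_ne W (fun z => f w0 z) (fun z => f z d)
          (fun x y => uf_add_right hf w0 x y) (fun x y => hf.add_left x y d) hpW hqW hp hq
        exact hstep z hzW d hd hz2 (hstep w0 hw0W z hzW hz1 hPw0)
      have hAll : ∀ x : ι → F, f x x = 0 → UCtr hf M x := by
        intro x hxx
        obtain ⟨w, hwW, b, hbU, hsum⟩ := hsplit x
        by_cases hw0 : w = 0
        · rw [hsum, hw0, zero_add] at hxx ⊢
          exact hUC b hbU hxx
        · by_cases hb0 : b = 0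
          · rw [hsum, hb0, add_zero] at hxx ⊢
            exact hWC w hwW hxx
          · rw [hsum] at hxx ⊢
            exact hPall w hwW hw0 b hbU hb0 (hnorm_of w hwW b hbU hxx)
      intro g' hg'
      have hTM : TU hf ≤ M := by
        unfold TU
        rw [Subgroup.closure_le]
        rintro t ⟨a, c, ha, hc, rfl⟩
        exact (hAll a ha).2 c hc
      obtain ⟨hI', hS'⟩ := (hG g').1 hg'
      exact hTM (isom_SL_mem_TU hf hn7 g' hI' hS')

end Cfsg.Agent.Helper93
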