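import Cfsg.Agent.Lib.Helper93.USubMax

set_option autoImplicit false
set_option linter.unusedSectionVars false

namespace Cfsg.Agent.Helper93

open Matrix Cfsg.Geo

/-! ### Chevalley–Warning for a matrix quadratic form -/

section uocw

variable {ι : Type} [Fintype ι] [DecidableEq ι] {K : Type*} [Field K]

/-- the polynomial `∑ A i j X i X j` -/
noncomputable def uoQPoly (A : Matrix ι ι K) : MvPolynomial ι K :=
  ∑ i, ∑ j, MvPolynomial.C (A i j) * MvPolynomial.X i * MvPolynomial.X j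

lemma uoQPoly_eval (A : Matrix ι ι K) (x : ι → K) :
    MvPolynomial.eval x (uoQPoly A) = ∑ i, ∑ j, A i j * x i * x j := by
  unfold uoQPoly
  simp only [map_sum, map_mul, MvPolynomial.eval_C, MvPolynomial.eval_X]

lemma uoQPoly_deg (A : Matrix ι ι K) : (uoQPoly A).totalDegree ≤ 2 := by
  unfold uoQPoly
  apply MvPolynomial.totalDegree_finsetSum_le
  intro i _
  apply MvPolynomial.totalDegree_finsetSum_le
  intro j _
  have h1 := MvPolynomial.totalDegree_mul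
    (MvPolynomial.C (A i j) * (MvPolynomial.X i : MvPolynomial ι K))
    (MvPolynomial.X j : MvPolynomial ι K)
  have h2 := MvPolynomial.totalDegree_mul
    (MvPolynomial.C (A i j) : MvPolynomial ι K)
    (MvPolynomial.X i : MvPolynomial ι K)
  rw [MvPolynomial.totalDegree_X] at h1 h2
  rw [MvPolynomial.totalDegree_C] at h2
  omega

/-- the polynomial of a linear form -/
noncomputable def uoLPoly (l : ι → K) : MvPolynomial ι K :=
  ∑ i, MvPolynomial.C (l i) * MvPolynomial.X i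

lemma uoLPoly_eval (l x : ι → K) : MvPolynomial.eval x (uoLPoly l) = ∑ i, l i * x i := by
  unfold uoLPoly
  simp only [map_sum, map_mul, MvPolynomial.eval_C, MvPolynomial.eval_X]

lemma uoLPoly_deg (l : ι → K) : (uoLPoly l).totalDegree ≤ 1 := by
  unfold uoLPoly
  apply MvPolynomial.totalDegree_finsetSum_le
  intro i _
  have h2 := MvPolynomial.totalDegree_mul (MvPolynomial.C (l i) : MvPolynomial ι K)
    (MvPolynomial.X i)
  rw [MvPolynomial.totalDegree_X, MvPolynomial.totalDegree_C] at h2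
  omega

/-- Chevalley–Warning: a nontrivial common zero of a quadratic form and `k` linear forms -/
lemma uo_cw [Fintype K] (A : Matrix ι ι K) {k : ℕ} (L : Fin k → (ι → K))
    (hk : 2 + k < Fintype.card ι) :
    ∃ x : ι → K, x ≠ 0 ∧ (∑ i, ∑ j, A i j * x i * x j) = 0 ∧
      ∀ t, (∑ j, L t j * x j) = 0 := by
  classical
  obtain ⟨p, hp0, hp1⟩ : ∃ p : Option (Fin k) → MvPolynomial ι K,
      p none = uoQPoly A ∧ ∀ i, p (some i) = uoLPoly (L i) :=
    ⟨fun o => o.elim (uoQPoly A) (fun i => uoLPoly (L i)), rfl, fun _ => rfl⟩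
  have hdeg : (∑ o, (p o).totalDegree) < Fintype.card ι := by
    rw [Fintype.sum_option, hp0]
    have h1 := uoQPoly_deg A
    have h3 : ∑ i : Fin k, (p (some i)).totalDegree ≤ k := by
      calc ∑ i : Fin k, (p (some i)).totalDegree ≤ ∑ _i : Fin k, 1 :=
            Finset.sum_le_sum (fun i _ => by rw [hp1]; exact uoLPoly_deg (L i))
        _ = k := by simp
    omega
  have hpr : (ringChar K).Prime := CharP.char_is_prime K (ringChar K)
  have hdvd := char_dvd_card_solutions_of_fintype_sum_lt (ringChar K) hdeg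
  rw [Fintype.card_eq_nat_card] at hdvd
  have h0mem : ∀ o, MvPolynomial.eval (0 : ι → K) (p o) = 0 := by
    intro o
    rcases o with _ | i
    · rw [hp0, uoQPoly_eval]; simp
    · rw [hp1, uoLPoly_eval]; simp
  have hne0 : Nonempty {x : ι → K // ∀ o, MvPolynomial.eval x (p o) = 0} := ⟨⟨0, h0mem⟩⟩
  have hpos : 0 < Nat.card {x : ι → K // ∀ o, MvPolynomial.eval x (p o) = 0} := Nat.card_pos
  have hlt : 1 < Nat.card {x : ι → K // ∀ o, MvPolynomial.eval x (p o) = 0} :=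
    lt_of_lt_of_le hpr.one_lt (Nat.le_of_dvd hpos hdvd)
  rw [Finite.one_lt_card_iff_nontrivial] at hlt
  obtain ⟨⟨x, hx⟩, hxne⟩ := @exists_ne _ hlt
    (⟨0, h0mem⟩ : {x : ι → K // ∀ o, MvPolynomial.eval x (p o) = 0})
  refine ⟨x, fun h => hxne (Subtype.ext h), ?_, ?_⟩
  · have h := hx none
    rwa [hp0, uoQPoly_eval] at h
  · intro t
    have h := hx (some t)
    rwa [hp1, uoLPoly_eval] at h

end uocw

variable {ι : Type} [Fintype ι] [DecidableEq ι] {F : Type*} [Field F]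
variable {σ : F ≃+* F} {f : (ι → F) → (ι → F) → F}
variable {F₀ : Subfield F} {P : GL ι F}

/-! ### rational structures of orthogonal type -/

/-- the data of a rational structure on which `f` is an `F₀`-valued (symmetric) form -/
structure RatStrO (σ : F ≃+* F) (f : (ι → F) → (ι → F) → F) (F₀ : Subfield F)
    (P : GL ι F) : Prop where
  fix : ∀ x : F, x ∈ F₀ ↔ σ x = x
  form : ∀ a b, RatVec F₀ P a → RatVec F₀ P b → f a b ∈ F₀

lemma RatStrO.symm (hf : IsUnitaryForm σ f) (hR : RatStrO σ f F₀ P) {a b : ι → F}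
    (ha : RatVec F₀ P a) (hb : RatVec F₀ P b) : f b a = f a b := by
  rw [hf.herm b a]
  exact (hR.fix _).1 (hR.form a b ha hb)

lemma RatStrO.comp (hf : IsUnitaryForm σ f) (hR : RatStrO σ f F₀ P) {ω : F} (hω : σ ω ≠ ω)
    {y1 y2 e : ι → F} (h1 : RatVec F₀ P y1) (h2 : RatVec F₀ P y2) (he : RatVec F₀ P e)
    (h : f (y1 + ω • y2) e ∈ F₀) : f y2 e = 0 := by
  have e1 : f (y1 + ω • y2) e = f y1 e + ω * f y2 e := by
    rw [hf.add_left, hf.smul_left]
  rw [e1] at h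
  exact fld_decomp_unique hR.fix hω (hR.form _ _ h1 he) (hR.form _ _ h2 he) h

lemma RatStrO.comp_zero (hf : IsUnitaryForm σ f) (hR : RatStrO σ f F₀ P) {ω : F}
    (hω : σ ω ≠ ω) {y1 y2 e : ι → F} (h1 : RatVec F₀ P y1) (h2 : RatVec F₀ P y2)
    (he : RatVec F₀ P e) (h : f (y1 + ω • y2) e = 0) : f y1 e = 0 ∧ f y2 e = 0 := by
  have h2' : f y2 e = 0 := hR.comp hf hω h1 h2 he (by rw [h]; exact F₀.zero_mem)
  refine ⟨?_, h2'⟩
  rw [hf.add_left, hf.smul_left, h2', mul_zero, add_zero] at h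
  exact h

lemma RatStrO.exists_pair (hf : IsUnitaryForm σ f) (hR : RatStrO σ f F₀ P) {a : ι → F}
    (ha0 : a ≠ 0) : ∃ y, RatVec F₀ P y ∧ f y a ≠ 0 := by
  obtain ⟨ω, hω⟩ := uf_exists_ne hf
  obtain ⟨⟨z, hz⟩, _⟩ := hf.nondegenerate a ha0
  obtain ⟨z1, z2, h1, h2, rfl⟩ := rat_decomp hf.involutive hR.fix P hω z
  by_cases h : f z1 a = 0
  · refine ⟨z2, h2, fun h' => hz ?_⟩
    rw [hf.add_left, hf.smul_left, h, h', mul_zero, add_zero]
  · exact ⟨z1, h1, h⟩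

lemma RatStrO.exists_dual2 [Finite F] (hf : IsUnitaryForm σ f) (hR : RatStrO σ f F₀ P)
    (hn : 7 ≤ Fintype.card ι) {a b : ι → F} (ha : RatVec F₀ P a) (hb : RatVec F₀ P b)
    (hind : ∀ s t : F, s • a + t • b = 0 → s = 0 ∧ t = 0) {α β : F} (hα : α ∈ F₀)
    (hβ : β ∈ F₀) : ∃ y, RatVec F₀ P y ∧ f y a = α ∧ f y b = β := by
  obtain ⟨ω, hω⟩ := uf_exists_ne hf
  obtain ⟨y', -, -, hya, hyb⟩ := uf_exists_iso_prescribed hf ⊤ (nondeg_top hf)
    (finrank_top_ge hn) (Submodule.mem_top : a ∈ ⊤) (Submodule.mem_top : b ∈ ⊤) hind α β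
  obtain ⟨y1, y2, h1, h2, rfl⟩ := rat_decomp hf.involutive hR.fix P hω y'
  have h2a : f y2 a = 0 := hR.comp hf hω h1 h2 ha (by rw [hya]; exact hα)
  have h2b : f y2 b = 0 := hR.comp hf hω h1 h2 hb (by rw [hyb]; exact hβ)
  refine ⟨y1, h1, ?_, ?_⟩
  · rw [← hya, hf.add_left, hf.smul_left, h2a, mul_zero, add_zero]
  · rw [← hyb, hf.add_left, hf.smul_left, h2b, mul_zero, add_zero]

lemma RatStrO.coeff_mem [Finite F] (hf : IsUnitaryForm σ f) (hR : RatStrO σ f F₀ P)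
    (hn : 7 ≤ Fintype.card ι) {w1 w2 : ι → F} (h1 : RatVec F₀ P w1) (h2 : RatVec F₀ P w2)
    (hind : ∀ s t : F, s • w1 + t • w2 = 0 → s = 0 ∧ t = 0) {c1 c2 : F}
    (hw : RatVec F₀ P (c1 • w1 + c2 • w2)) : c1 ∈ F₀ ∧ c2 ∈ F₀ := by
  constructor
  · obtain ⟨y, hy, hy1, hy2⟩ := hR.exists_dual2 hf hn h1 h2 hind F₀.one_mem F₀.zero_mem
    have hr := hR.form _ _ hw hy
    have e : f (c1 • w1 + c2 • w2) y = c1 := by
      rw [hf.add_left, hf.smul_left, hf.smul_left, hR.symm hf hy h1, hR.symm hf hy h2, hy1, hy2]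
      ring
    rwa [e] at hr
  · obtain ⟨y, hy, hy1, hy2⟩ := hR.exists_dual2 hf hn h1 h2 hind F₀.zero_mem F₀.one_mem
    have hr := hR.form _ _ hw hy
    have e : f (c1 • w1 + c2 • w2) y = c2 := by
      rw [hf.add_left, hf.smul_left, hf.smul_left, hR.symm hf hy h1, hR.symm hf hy h2, hy1, hy2]
      ring
    rwa [e] at hr

/-! ### linear expansion along the columns of `P` -/

lemma uf_mulVec_left (hf : IsUnitaryForm σ f) (P : GL ι F) (v w : ι → F) :
    f ((P : Matrix ι ι F) *ᵥ v) w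
      = ∑ j, v j * f ((P : Matrix ι ι F) *ᵥ Pi.single j 1) w := by
  rw [← ufvec_dot hf w, Matrix.dotProduct_mulVec]
  show ∑ j, (fvec f w ᵥ* (P : Matrix ι ι F)) j * v j = _
  apply Finset.sum_congr rfl
  intro j _
  rw [mul_comm]
  congr 1
  rw [← ufvec_dot hf w ((P : Matrix ι ι F) *ᵥ Pi.single j 1), Matrix.mulVec_single_one]
  rfl

lemma uf_mulVec_right (hf : IsUnitaryForm σ f) (P : GL ι F) (v : ι → F)
    (hv : ∀ j, σ (v j) = v j) (w : ι → F) :
    f w ((P : Matrix ι ι F) *ᵥ v)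
      = ∑ j, v j * f w ((P : Matrix ι ι F) *ᵥ Pi.single j 1) := by
  rw [hf.herm w, uf_mulVec_left hf, map_sum]
  apply Finset.sum_congr rfl
  intro j _
  rw [map_mul, hv j, ← hf.herm]

/-- a nonzero rational singular vector perpendicular to `k` given rational vectors -/
lemma rat_sing_perp [Finite F] (hf : IsUnitaryForm σ f) (hR : RatStrO σ f F₀ P) {k : ℕ}
    (r : Fin k → ι → F) (hr : ∀ t, RatVec F₀ P (r t)) (hk : 2 + k < Fintype.card ι) :
    ∃ e, RatVec F₀ P e ∧ e ≠ 0 ∧ f e e = 0 ∧ ∀ t, f e (r t) = 0 := by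
  classical
  have : Fintype F₀ := Fintype.ofFinite _
  obtain ⟨A, hA⟩ : ∃ A : Matrix ι ι F₀, ∀ i j, ((A i j : F₀) : F) =
      f ((P : Matrix ι ι F) *ᵥ Pi.single i 1) ((P : Matrix ι ι F) *ᵥ Pi.single j 1) :=
    ⟨fun i j => ⟨_, hR.form _ _ (ratVec_col F₀ P i) (ratVec_col F₀ P j)⟩, fun _ _ => rfl⟩
  obtain ⟨L, hL⟩ : ∃ L : Fin k → ι → F₀, ∀ t j, ((L t j : F₀) : F) =
      f ((P : Matrix ι ι F) *ᵥ Pi.single j 1) (r t) :=
    ⟨fun t j => ⟨_, hR.form _ _ (ratVec_col F₀ P j) (hr t)⟩, fun _ _ => rfl⟩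
  obtain ⟨x, hx0, hxQ, hxL⟩ := uo_cw A L hk
  obtain ⟨xb, hxb⟩ : ∃ xb : ι → F, ∀ i, xb i = ((x i : F₀) : F) :=
    ⟨fun i => x i, fun _ => rfl⟩
  have hxbF : ∀ i, xb i ∈ F₀ := fun i => by rw [hxb]; exact (x i).2
  have hxbσ : ∀ i, σ (xb i) = xb i := fun i => (hR.fix _).1 (hxbF i)
  refine ⟨(P : Matrix ι ι F) *ᵥ xb, ⟨xb, hxbF, rfl⟩, ?_, ?_, ?_⟩
  · intro h0
    have h1 := gl_mulVec_eq_zero h0
    apply hx0
    funext i
    apply Subtype.ext
    have h3 := congrFun h1 i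
    rw [hxb] at h3
    simpa using h3
  · have e1 : f ((P : Matrix ι ι F) *ᵥ xb) ((P : Matrix ι ι F) *ᵥ xb)
        = ∑ i, ∑ j, ((A i j : F₀) : F) * xb i * xb j := by
      rw [uf_mulVec_left hf]
      apply Finset.sum_congr rfl
      intro i _
      rw [uf_mulVec_right hf P xb hxbσ, Finset.mul_sum]
      apply Finset.sum_congr rfl
      intro j _
      rw [hA]
      ring
    have e2 : (((∑ i, ∑ j, A i j * x i * x j : F₀)) : F)
        = ∑ i, ∑ j, ((A i j : F₀) : F) * xb i * xb j := by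
      push_cast
      apply Finset.sum_congr rfl
      intro i _
      apply Finset.sum_congr rfl
      intro j _
      rw [hxb, hxb]
    rw [e1, ← e2, hxQ]
    rfl
  · intro t
    have e1 : f ((P : Matrix ι ι F) *ᵥ xb) (r t) = ∑ j, ((L t j : F₀) : F) * xb j := by
      rw [uf_mulVec_left hf]
      apply Finset.sum_congr rfl
      intro j _
      rw [hL]
      ring
    have e2 : (((∑ j, L t j * x j : F₀)) : F) = ∑ j, ((L t j : F₀) : F) * xb j := by
      push_cast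
      apply Finset.sum_congr rfl
      intro j _
      rw [hxb]
    rw [e1, ← e2, hxL t]
    rfl

lemma rat_sing_exists [Finite F] (hf : IsUnitaryForm σ f) (hR : RatStrO σ f F₀ P)
    (hn : 3 ≤ Fintype.card ι) : ∃ e, RatVec F₀ P e ∧ e ≠ 0 ∧ f e e = 0 := by
  obtain ⟨e, he, he0, hee, _⟩ := rat_sing_perp hf hR (k := 0) (fun t => Fin.elim0 t)
    (fun t => Fin.elim0 t) (by omega)
  exact ⟨e, he, he0, hee⟩

lemma rat_sing_perp2 [Finite F] (hf : IsUnitaryForm σ f) (hR : RatStrO σ f F₀ P)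
    (hn : 5 ≤ Fintype.card ι) {r1 r2 : ι → F} (h1 : RatVec F₀ P r1) (h2 : RatVec F₀ P r2) :
    ∃ e, RatVec F₀ P e ∧ e ≠ 0 ∧ f e e = 0 ∧ f e r1 = 0 ∧ f e r2 = 0 := by
  obtain ⟨e, he, he0, hee, hp⟩ := rat_sing_perp hf hR ![r1, r2]
    (by intro t; fin_cases t; exacts [h1, h2]) (by omega)
  exact ⟨e, he, he0, hee, hp 0, hp 1⟩

lemma rat_sing_perp7 [Finite F] (hf : IsUnitaryForm σ f) (hR : RatStrO σ f F₀ P)
    (hn : 10 ≤ Fintype.card ι) {r1 r2 r3 r4 r5 r6 r7 : ι → F} (h1 : RatVec F₀ P r1)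
    (h2 : RatVec F₀ P r2) (h3 : RatVec F₀ P r3) (h4 : RatVec F₀ P r4) (h5 : RatVec F₀ P r5)
    (h6 : RatVec F₀ P r6) (h7 : RatVec F₀ P r7) :
    ∃ e, RatVec F₀ P e ∧ e ≠ 0 ∧ f e e = 0 ∧ f e r1 = 0 ∧ f e r2 = 0 ∧ f e r3 = 0 ∧
      f e r4 = 0 ∧ f e r5 = 0 ∧ f e r6 = 0 ∧ f e r7 = 0 := by
  obtain ⟨e, he, he0, hee, hp⟩ := rat_sing_perp hf hR ![r1, r2, r3, r4, r5, r6, r7]
    (by intro t; fin_cases t; exacts [h1, h2, h3, h4, h5, h6, h7]) (by omega)
  exact ⟨e, he, he0, hee, hp 0, hp 1, hp 2, hp 3, hp 4, hp 5, hp 6⟩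

end Cfsg.Agent.Helper93
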