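import Cfsg.Agent.Lib.Helper93.UOSub1

set_option autoImplicit false
set_option linter.unusedSectionVars false

namespace Cfsg.Agent.Helper93

open Matrix Cfsg.Geo

variable {ι : Type} [Fintype ι] [DecidableEq ι] {F : Type*} [Field F]
variable {σ : F ≃+* F} {f : (ι → F) → (ι → F) → F}
variable {F₀ : Subfield F} {P : GL ι F}

lemma two_mem_subfield (F₀ : Subfield F) : (2 : F) ∈ F₀ := by
  have := F₀.add_mem F₀.one_mem F₀.one_mem
  rwa [one_add_one_eq_two] at this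

/-- subtracting a multiple of a singular vector to make a vector singular -/
lemma rat_fix_norm (hf : IsUnitaryForm σ f) (hR : RatStrO σ f F₀ P) (h2 : (2 : F) ≠ 0)
    {z u : ι → F} (hz : RatVec F₀ P z) (hu : RatVec F₀ P u) (huu : f u u = 0)
    (hzu : f z u = 1) :
    RatVec F₀ P (z - (f z z / 2) • u) ∧
      f (z - (f z z / 2) • u) (z - (f z z / 2) • u) = 0 := by
  have hm : f z z ∈ F₀ := hR.form _ _ hz hz
  have hcF : f z z / 2 ∈ F₀ := F₀.div_mem hm (two_mem_subfield F₀)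
  have hcσ : σ (f z z / 2) = f z z / 2 := (hR.fix _).1 hcF
  have huz : f u z = 1 := by rw [hR.symm hf hz hu]; exact hzu
  obtain ⟨c, hc⟩ : ∃ c, c = f z z / 2 := ⟨_, rfl⟩
  have hc2 : 2 * c = f z z := by rw [hc]; field_simp
  rw [← hc] at hcF hcσ ⊢
  refine ⟨hz.sub (RatVec.smul hcF hu), ?_⟩
  have e : f (z - c • u) (z - c • u)
      = f z z - σ c * f z u - c * f u z + c * σ c * f u u := by
    simp only [uf_sub_left hf, uf_sub_right hf, hf.smul_left, uf_smul_right hf]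
    ring
  rw [e, hcσ, huu, huz, hzu]
  linear_combination (-1 : F) * hc2

/-- a singular partner of a rational singular vector -/
lemma rat_partner (hf : IsUnitaryForm σ f) (hR : RatStrO σ f F₀ P) (h2 : (2 : F) ≠ 0)
    {u : ι → F} (hu : RatVec F₀ P u) (hu0 : u ≠ 0) (huu : f u u = 0) :
    ∃ v, RatVec F₀ P v ∧ f v v = 0 ∧ f v u = 1 := by
  obtain ⟨z, hz, hzu⟩ := hR.exists_pair hf hu0
  have hcF : f z u ∈ F₀ := hR.form z u hz hu
  obtain ⟨z', hz'def⟩ : ∃ z', z' = (f z u)⁻¹ • z := ⟨_, rfl⟩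
  have hz' : RatVec F₀ P z' := by rw [hz'def]; exact RatVec.smul (F₀.inv_mem hcF) hz
  have hz'u : f z' u = 1 := by rw [hz'def, hf.smul_left, inv_mul_cancel₀ hzu]
  obtain ⟨h1, h2'⟩ := rat_fix_norm hf hR h2 hz' hu huu hz'u
  refine ⟨_, h1, h2', ?_⟩
  rw [uf_sub_left hf, hf.smul_left, huu, mul_zero, sub_zero, hz'u]

/-- a rational singular vector not perpendicular to a given nonzero rational vector -/
lemma rat_sing_np [Finite F] (hf : IsUnitaryForm σ f) (hR : RatStrO σ f F₀ P)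
    (h2 : (2 : F) ≠ 0) (hn : 7 ≤ Fintype.card ι) {e : ι → F} (he : RatVec F₀ P e)
    (he0 : e ≠ 0) : ∃ b, RatVec F₀ P b ∧ f b b = 0 ∧ f b e ≠ 0 := by
  obtain ⟨d, hd, hde⟩ := hR.exists_pair hf he0
  obtain ⟨u0, hu0, hu00, hu0u0, hu0e, hu0d⟩ := rat_sing_perp2 hf hR (by omega) he hd
  have hed : f e d ≠ 0 := uf_ne_zero_symm hf hde
  have hind : ∀ s t : F, s • u0 + t • e = 0 → s = 0 ∧ t = 0 := by
    intro s t hst
    have h1 : f (s • u0 + t • e) d = 0 := by rw [hst, uf_zero_left hf]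
    rw [hf.add_left, hf.smul_left, hf.smul_left, hu0d, mul_zero, zero_add] at h1
    have ht : t = 0 := (mul_eq_zero.1 h1).resolve_right hed
    rw [ht, zero_smul, add_zero] at hst
    exact ⟨(smul_eq_zero.1 hst).resolve_right hu00, ht⟩
  obtain ⟨z, hz, hzu0, hze⟩ := hR.exists_dual2 hf hn hu0 he hind F₀.one_mem F₀.one_mem
  obtain ⟨h1, h2'⟩ := rat_fix_norm hf hR h2 hz hu0 hu0u0 hzu0
  refine ⟨_, h1, h2', ?_⟩
  rw [uf_sub_left hf, hf.smul_left, hu0e, mul_zero, sub_zero, hze]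
  exact one_ne_zero

/-- a rational singular vector not perpendicular to a given nonzero vector -/
lemma rat_sing_np_any [Finite F] (hf : IsUnitaryForm σ f) (hR : RatStrO σ f F₀ P)
    (h2 : (2 : F) ≠ 0) (hn : 7 ≤ Fintype.card ι) {x : ι → F} (hx0 : x ≠ 0) :
    ∃ b, RatVec F₀ P b ∧ f b b = 0 ∧ f x b ≠ 0 := by
  obtain ⟨ω, hω⟩ := uf_exists_ne hf
  obtain ⟨x1, x2, h1, h2', rfl⟩ := rat_decomp hf.involutive hR.fix P hω x
  by_cases hx1 : x1 = 0
  · have hx2 : x2 ≠ 0 := by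
      rintro rfl
      exact hx0 (by rw [hx1, smul_zero, add_zero])
    obtain ⟨b, hb, hbb, hbx⟩ := rat_sing_np hf hR h2 hn h2' hx2
    refine ⟨b, hb, hbb, fun h0 => hbx ?_⟩
    have h3 := (hR.comp_zero hf hω h1 h2' hb h0).2
    rw [hR.symm hf h2' hb]
    exact h3
  · obtain ⟨b, hb, hbb, hbx⟩ := rat_sing_np hf hR h2 hn h1 hx1
    refine ⟨b, hb, hbb, fun h0 => hbx ?_⟩
    have h3 := (hR.comp_zero hf hω h1 h2' hb h0).1
    rw [hR.symm hf h1 hb]
    exact h3

/-- a rational singular vector not perpendicular to either of two perpendicular rational singular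
vectors -/
lemma rat_sing_two [Finite F] (hf : IsUnitaryForm σ f) (hR : RatStrO σ f F₀ P)
    (h2 : (2 : F) ≠ 0) (hn : 7 ≤ Fintype.card ι) {u c : ι → F} (hu : RatVec F₀ P u)
    (hu0 : u ≠ 0) (hc : RatVec F₀ P c) (hc0 : c ≠ 0) (hcc : f c c = 0) (huc : f u c = 0) :
    ∃ s, RatVec F₀ P s ∧ f s s = 0 ∧ f s u ≠ 0 ∧ f s c ≠ 0 := by
  obtain ⟨s1, hs1, hs1s1, hs1u⟩ := rat_sing_np hf hR h2 hn hu hu0
  obtain ⟨s2, hs2, hs2s2, hs2c⟩ := rat_sing_np hf hR h2 hn hc hc0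
  by_cases h1 : f s1 c = 0
  · by_cases h3 : f s2 u = 0
    · obtain ⟨γ, hγ⟩ : ∃ γ, γ = -(f s1 s2) / f s2 c := ⟨_, rfl⟩
      have hγF : γ ∈ F₀ := by
        rw [hγ]
        exact F₀.div_mem (F₀.neg_mem (hR.form _ _ hs1 hs2)) (hR.form _ _ hs2 hc)
      have hγσ : σ γ = γ := (hR.fix _).1 hγF
      have hγ' : γ * f s2 c = -(f s1 s2) := by rw [hγ, div_mul_cancel₀ _ hs2c]
      have hcs1 : f c s1 = 0 := by rw [hR.symm hf hs1 hc]; exact h1
      have hs21 : f s2 s1 = f s1 s2 := hR.symm hf hs1 hs2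
      have hcs2 : f c s2 = f s2 c := hR.symm hf hs2 hc
      have hcu : f c u = 0 := by rw [hR.symm hf hu hc]; exact huc
      refine ⟨s1 + s2 + γ • c, (hs1.add hs2).add (RatVec.smul hγF hc), ?_, ?_, ?_⟩
      · simp only [hf.add_left, uf_add_right hf, hf.smul_left, uf_smul_right hf, hs1s1, hs2s2,
          hcc, h1, hcs1, hs21, hcs2, hγσ, mul_zero, add_zero, zero_add]
        linear_combination 2 * hγ'
      · rw [hf.add_left, hf.add_left, hf.smul_left, h3, hcu, mul_zero, add_zero, add_zero]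
        exact hs1u
      · rw [hf.add_left, hf.add_left, hf.smul_left, h1, hcc, mul_zero, add_zero, zero_add]
        exact hs2c
    · exact ⟨s2, hs2, hs2s2, h3, hs2c⟩
  · exact ⟨s1, hs1, hs1s1, hs1u, h1⟩

/-- a rational nonsingular vector perpendicular to a rational singular vector -/
lemma rat_nonsing_perp [Finite F] (hf : IsUnitaryForm σ f) (hR : RatStrO σ f F₀ P)
    (h2 : (2 : F) ≠ 0) (hn : 7 ≤ Fintype.card ι) {u : ι → F} (hu : RatVec F₀ P u)
    (hu0 : u ≠ 0) (huu : f u u = 0) : ∃ y, RatVec F₀ P y ∧ f y u = 0 ∧ f y y ≠ 0 := by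
  obtain ⟨v, hv, hvv, hvu⟩ := rat_partner hf hR h2 hu hu0 huu
  obtain ⟨e, he, he0, hee, heu, hev⟩ := rat_sing_perp2 hf hR (by omega) hu hv
  obtain ⟨z, hz, hze⟩ := hR.exists_pair hf he0
  have hue : f u e = 0 := by rw [hR.symm hf he hu]; exact heu
  have hve : f v e = 0 := by rw [hR.symm hf he hv]; exact hev
  have huv : f u v = 1 := by rw [hR.symm hf hv hu]; exact hvu
  obtain ⟨z', hz'def⟩ : ∃ z', z' = z - f z v • u - f z u • v := ⟨_, rfl⟩
  have hz' : RatVec F₀ P z' := by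
    rw [hz'def]
    exact (hz.sub (RatVec.smul (hR.form _ _ hz hv) hu)).sub (RatVec.smul (hR.form _ _ hz hu) hv)
  have hz'u : f z' u = 0 := by
    rw [hz'def, uf_sub_left hf, uf_sub_left hf, hf.smul_left, hf.smul_left, huu, hvu]
    ring
  have hz'e : f z' e ≠ 0 := by
    rw [hz'def, uf_sub_left hf, uf_sub_left hf, hf.smul_left, hf.smul_left, hue, hve, mul_zero,
      mul_zero, sub_zero, sub_zero]
    exact hze
  by_cases h : f z' z' = 0
  · refine ⟨z' + e, hz'.add he, ?_, ?_⟩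
    · rw [hf.add_left, hz'u, heu, add_zero]
    · have hez' : f e z' = f z' e := hR.symm hf hz' he
      rw [hf.add_left, uf_add_right hf, uf_add_right hf, h, hee, hez', zero_add, add_zero]
      intro h0
      apply hz'e
      have h4 : (2 : F) * f z' e = 0 := by linear_combination h0
      exact (mul_eq_zero.1 h4).resolve_left h2
  · exact ⟨z', hz', hz'u, h⟩

/-- dependent rational vectors give a rational point -/
lemma rat_dep_point {a b : ι → F} (ω : F)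
    (hnot : ¬ ∀ s t : F, s • a + t • b = 0 → s = 0 ∧ t = 0) :
    ∃ μ : F, a + ω • b = μ • a ∨ a + ω • b = μ • b := by
  push Not at hnot
  obtain ⟨s, t, hst, hne⟩ := hnot
  by_cases ht : t = 0
  · have hs : s ≠ 0 := fun h => hne h ht
    rw [ht, zero_smul, add_zero] at hst
    have ha0' : a = 0 := (smul_eq_zero.1 hst).resolve_left hs
    exact ⟨ω, Or.inr (by rw [ha0', zero_add])⟩
  · have hb' : b = (-(t⁻¹ * s)) • a := by
      have h1 : t • b = -(s • a) := eq_neg_of_add_eq_zero_right hst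
      calc b = t⁻¹ • (t • b) := by rw [smul_smul, inv_mul_cancel₀ ht, one_smul]
        _ = t⁻¹ • (-(s • a)) := by rw [h1]
        _ = (-(t⁻¹ * s)) • a := by rw [smul_neg, smul_smul, neg_smul]
    refine ⟨1 + ω * (-(t⁻¹ * s)), Or.inl ?_⟩
    rw [add_smul, one_smul, ← smul_smul, ← hb']

/-! ### membership in the subfield group from rational points -/

lemma mem_subfield_of_ratpt'
    (hcoeff : ∀ {w1 w2 : ι → F}, RatVec F₀ P w1 → RatVec F₀ P w2 →
      (∀ s t : F, s • w1 + t • w2 = 0 → s = 0 ∧ t = 0) → ∀ {c1 c2 : F},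
      RatVec F₀ P (c1 • w1 + c2 • w2) → c1 ∈ F₀ ∧ c2 ∈ F₀)
    (hn : 0 < Fintype.card ι) (g : GL ι F)
    (h : ∀ e, RatVec F₀ P e →
      ∃ μ : F, ∃ e', RatVec F₀ P e' ∧ (g : Matrix ι ι F) *ᵥ e = μ • e') :
    g ∈ subfieldSubgroup F₀ P := by
  obtain ⟨p0, hp0, hp00⟩ := exists_ratVec_ne_zero F₀ P hn
  obtain ⟨lam, w0, hw0, hgp0⟩ := h p0 hp0
  have hlam0 : lam ≠ 0 := by
    rintro rfl
    rw [zero_smul] at hgp0
    exact hp00 (gl_mulVec_eq_zero hgp0)
  apply mem_subfield_of hlam0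
  intro x hx
  by_cases hdep : ∃ c : F, x = c • p0
  · obtain ⟨c, rfl⟩ := hdep
    have hc : c ∈ F₀ := ratVec_smul_mem hp0 hp00 hx
    have e : lam⁻¹ • ((g : Matrix ι ι F) *ᵥ (c • p0)) = c • w0 := by
      calc lam⁻¹ • ((g : Matrix ι ι F) *ᵥ (c • p0)) = lam⁻¹ • (c • (lam • w0)) := by
            rw [Matrix.mulVec_smul, hgp0]
        _ = (lam⁻¹ * lam) • (c • w0) := by rw [smul_comm c lam w0, ← smul_smul]
        _ = c • w0 := by rw [inv_mul_cancel₀ hlam0, one_smul]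
    rw [e]
    exact RatVec.smul hc hw0
  · push Not at hdep
    have hx0 : x ≠ 0 := by
      intro h0
      exact hdep 0 (by rw [h0, zero_smul])
    obtain ⟨μ, w, hw, hgx⟩ := h x hx
    obtain ⟨ν, w', hw', hgxp⟩ := h (x + p0) (hx.add hp0)
    have hindxp : ∀ s t : F, s • p0 + t • x = 0 → s = 0 ∧ t = 0 := indep_of_not_smul hp00 hdep
    have hμ0 : μ ≠ 0 := by
      rintro rfl
      rw [zero_smul] at hgx
      exact hx0 (gl_mulVec_eq_zero hgx)
    have hν0 : ν ≠ 0 := by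
      rintro rfl
      rw [zero_smul] at hgxp
      have h1 := gl_mulVec_eq_zero hgxp
      have := hindxp 1 1 (by rw [one_smul, one_smul, add_comm]; exact h1)
      exact one_ne_zero this.1
    have hindw : ∀ s t : F, s • w0 + t • w = 0 → s = 0 ∧ t = 0 := by
      intro s t hst
      have h1 : (g : Matrix ι ι F) *ᵥ ((s * lam⁻¹) • p0 + (t * μ⁻¹) • x) = 0 := by
        rw [Matrix.mulVec_add, Matrix.mulVec_smul, Matrix.mulVec_smul, hgp0, hgx, smul_smul,
          smul_smul, mul_assoc, mul_assoc, inv_mul_cancel₀ hlam0, inv_mul_cancel₀ hμ0, mul_one,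
          mul_one]
        exact hst
      have h2 := hindxp _ _ (gl_mulVec_eq_zero h1)
      constructor
      · exact (mul_eq_zero.1 h2.1).resolve_right (inv_ne_zero hlam0)
      · exact (mul_eq_zero.1 h2.2).resolve_right (inv_ne_zero hμ0)
    have hsum : ν • w' = lam • w0 + μ • w := by
      rw [← hgxp, Matrix.mulVec_add, hgx, hgp0, add_comm]
    have hw'eq : w' = (ν⁻¹ * lam) • w0 + (ν⁻¹ * μ) • w := by
      calc w' = ν⁻¹ • (ν • w') := by rw [smul_smul, inv_mul_cancel₀ hν0, one_smul]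
        _ = ν⁻¹ • (lam • w0 + μ • w) := by rw [hsum]
        _ = (ν⁻¹ * lam) • w0 + (ν⁻¹ * μ) • w := by rw [smul_add, smul_smul, smul_smul]
    rw [hw'eq] at hw'
    obtain ⟨hc1, hc2⟩ := hcoeff hw0 hw hindw hw'
    have hmem : lam⁻¹ * μ ∈ F₀ := by
      have h3 := F₀.mul_mem (F₀.inv_mem hc1) hc2
      have e : (ν⁻¹ * lam)⁻¹ * (ν⁻¹ * μ) = lam⁻¹ * μ := by
        rw [mul_inv, inv_inv]
        calc ν * lam⁻¹ * (ν⁻¹ * μ) = (ν * ν⁻¹) * (lam⁻¹ * μ) := by ring
          _ = lam⁻¹ * μ := by rw [mul_inv_cancel₀ hν0, one_mul]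
      rwa [e] at h3
    rw [hgx, smul_smul]
    exact RatVec.smul hmem hw

/-- the ratio of the scalars of two rational points whose sum is a rational point -/
lemma rat_ratio_mem [Finite F] (hf : IsUnitaryForm σ f) (hR : RatStrO σ f F₀ P)
    (hn : 7 ≤ Fintype.card ι) (g : GL ι F) {x y : ι → F}
    (hind : ∀ s t : F, s • x + t • y = 0 → s = 0 ∧ t = 0)
    {μ ν κ : F} {r r' r'' : ι → F} (hr : RatVec F₀ P r) (hr' : RatVec F₀ P r')
    (hr'' : RatVec F₀ P r'') (hx : (g : Matrix ι ι F) *ᵥ x = μ • r)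
    (hy : (g : Matrix ι ι F) *ᵥ y = ν • r')
    (hxy : (g : Matrix ι ι F) *ᵥ (x + y) = κ • r'') : μ * ν⁻¹ ∈ F₀ := by
  have hx0 : x ≠ 0 := by
    rintro rfl
    have := hind 1 0 (by rw [smul_zero, zero_smul, add_zero])
    exact one_ne_zero this.1
  have hy0 : y ≠ 0 := by
    rintro rfl
    have := hind 0 1 (by rw [smul_zero, zero_smul, add_zero])
    exact one_ne_zero this.2
  have hμ0 : μ ≠ 0 := by
    rintro rfl
    rw [zero_smul] at hx
    exact hx0 (gl_mulVec_eq_zero hx)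
  have hν0 : ν ≠ 0 := by
    rintro rfl
    rw [zero_smul] at hy
    exact hy0 (gl_mulVec_eq_zero hy)
  have hκ0 : κ ≠ 0 := by
    rintro rfl
    rw [zero_smul] at hxy
    have h1 := gl_mulVec_eq_zero hxy
    have := hind 1 1 (by rw [one_smul, one_smul]; exact h1)
    exact one_ne_zero this.1
  have hindr : ∀ s t : F, s • r + t • r' = 0 → s = 0 ∧ t = 0 := by
    intro s t hst
    have h1 : (g : Matrix ι ι F) *ᵥ ((s * μ⁻¹) • x + (t * ν⁻¹) • y) = 0 := by
      rw [Matrix.mulVec_add, Matrix.mulVec_smul, Matrix.mulVec_smul, hx, hy, smul_smul,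
        smul_smul, mul_assoc, mul_assoc, inv_mul_cancel₀ hμ0, inv_mul_cancel₀ hν0, mul_one,
        mul_one]
      exact hst
    have h2 := hind _ _ (gl_mulVec_eq_zero h1)
    constructor
    · exact (mul_eq_zero.1 h2.1).resolve_right (inv_ne_zero hμ0)
    · exact (mul_eq_zero.1 h2.2).resolve_right (inv_ne_zero hν0)
  have hsum : κ • r'' = μ • r + ν • r' := by
    rw [← hxy, Matrix.mulVec_add, hx, hy]
  have heq : r'' = (κ⁻¹ * μ) • r + (κ⁻¹ * ν) • r' := by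
    calc r'' = κ⁻¹ • (κ • r'') := by rw [smul_smul, inv_mul_cancel₀ hκ0, one_smul]
      _ = κ⁻¹ • (μ • r + ν • r') := by rw [hsum]
      _ = (κ⁻¹ * μ) • r + (κ⁻¹ * ν) • r' := by rw [smul_add, smul_smul, smul_smul]
  rw [heq] at hr''
  obtain ⟨hc1, hc2⟩ := hR.coeff_mem hf hn hr hr' hindr hr''
  have h3 := F₀.mul_mem hc1 (F₀.inv_mem hc2)
  have e : κ⁻¹ * μ * (κ⁻¹ * ν)⁻¹ = μ * ν⁻¹ := by
    rw [mul_inv, inv_inv]
    calc κ⁻¹ * μ * (κ * ν⁻¹) = (κ⁻¹ * κ) * (μ * ν⁻¹) := by ring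
      _ = μ * ν⁻¹ := by rw [inv_mul_cancel₀ hκ0, one_mul]
  rwa [e] at h3

/-- an element outside the subfield group moves some rational singular point to a non-rational
point -/
lemma exists_sing_nonrat [Finite F] (hf : IsUnitaryForm σ f) (hR : RatStrO σ f F₀ P)
    (h2 : (2 : F) ≠ 0) (hn : 7 ≤ Fintype.card ι) (g : GL ι F)
    (hg : g ∉ subfieldSubgroup F₀ P) :
    ∃ u, RatVec F₀ P u ∧ f u u = 0 ∧
      ¬ ∃ μ : F, ∃ e', RatVec F₀ P e' ∧ (g : Matrix ι ι F) *ᵥ u = μ • e' := by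
  by_contra hcon
  push Not at hcon
  apply hg
  apply mem_subfield_of_ratpt' (fun h1 h2 hind _ _ hw => hR.coeff_mem hf hn h1 h2 hind hw)
    (by omega) g
  intro e he
  by_cases he0 : e = 0
  · exact ⟨0, 0, RatVec.zero, by rw [he0, Matrix.mulVec_zero, zero_smul]⟩
  obtain ⟨u0, hu0, hu0u0, hu0e⟩ := rat_sing_np hf hR h2 hn he he0
  have heu0 : f e u0 = f u0 e := hR.symm hf hu0 he
  obtain ⟨c, hc⟩ : ∃ c, c = f e e / (2 * f u0 e) := ⟨_, rfl⟩
  have hcF : c ∈ F₀ := by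
    rw [hc]
    exact F₀.div_mem (hR.form _ _ he he)
      (F₀.mul_mem (two_mem_subfield F₀) (hR.form _ _ hu0 he))
  have hcσ : σ c = c := (hR.fix _).1 hcF
  have hc2 : c * (2 * f u0 e) = f e e := by
    rw [hc, div_mul_cancel₀ _ (mul_ne_zero h2 hu0e)]
  obtain ⟨v, hv⟩ : ∃ v, v = e - c • u0 := ⟨_, rfl⟩
  have hvR : RatVec F₀ P v := by rw [hv]; exact he.sub (RatVec.smul hcF hu0)
  have hvv : f v v = 0 := by
    have e1 : f (e - c • u0) (e - c • u0)
        = f e e - σ c * f e u0 - c * f u0 e + c * σ c * f u0 u0 := by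
      simp only [uf_sub_left hf, uf_sub_right hf, hf.smul_left, uf_smul_right hf]
      ring
    rw [hv, e1, hcσ, hu0u0, heu0]
    linear_combination (-1 : F) * hc2
  have hvu0 : f v u0 = f u0 e := by
    rw [hv, uf_sub_left hf, hf.smul_left, hu0u0, mul_zero, sub_zero, heu0]
  have hvu0' : f v u0 ≠ 0 := by rw [hvu0]; exact hu0e
  have hu0v : f u0 v ≠ 0 := uf_ne_zero_symm hf hvu0'
  have hev : e = v + c • u0 := by rw [hv]; abel
  obtain ⟨s, hs, hs0, hss, hsu0, hsv⟩ := rat_sing_perp2 hf hR (by omega) hu0 hvR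
  have hu0s : f u0 s = 0 := by rw [hR.symm hf hs hu0]; exact hsu0
  have hvs : f v s = 0 := by rw [hR.symm hf hs hvR]; exact hsv
  have hind1 : ∀ a b : F, a • u0 + b • s = 0 → a = 0 ∧ b = 0 := by
    intro a b hab
    have h1 : f (a • u0 + b • s) v = 0 := by rw [hab, uf_zero_left hf]
    rw [hf.add_left, hf.smul_left, hf.smul_left, hsv, mul_zero, add_zero] at h1
    have ha : a = 0 := (mul_eq_zero.1 h1).resolve_right hu0v
    rw [ha, zero_smul, zero_add] at hab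
    exact ⟨ha, (smul_eq_zero.1 hab).resolve_right hs0⟩
  have hind2 : ∀ a b : F, a • v + b • s = 0 → a = 0 ∧ b = 0 := by
    intro a b hab
    have h1 : f (a • v + b • s) u0 = 0 := by rw [hab, uf_zero_left hf]
    rw [hf.add_left, hf.smul_left, hf.smul_left, hsu0, mul_zero, add_zero] at h1
    have ha : a = 0 := (mul_eq_zero.1 h1).resolve_right hvu0'
    rw [ha, zero_smul, zero_add] at hab
    exact ⟨ha, (smul_eq_zero.1 hab).resolve_right hs0⟩
  have hsum1 : f (u0 + s) (u0 + s) = 0 := by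
    rw [hf.add_left, uf_add_right hf, uf_add_right hf, hu0u0, hss, hu0s, hsu0]
    ring
  have hsum2 : f (v + s) (v + s) = 0 := by
    rw [hf.add_left, uf_add_right hf, uf_add_right hf, hvv, hss, hvs, hsv]
    ring
  obtain ⟨μ1, r1, hr1, hg1⟩ := hcon u0 hu0 hu0u0
  obtain ⟨μ2, r2, hr2, hg2⟩ := hcon v hvR hvv
  obtain ⟨μ3, r3, hr3, hg3⟩ := hcon s hs hss
  obtain ⟨μ4, r4, hr4, hg4⟩ := hcon (u0 + s) (hu0.add hs) hsum1
  obtain ⟨μ5, r5, hr5, hg5⟩ := hcon (v + s) (hvR.add hs) hsum2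
  have key1 : μ1 * μ3⁻¹ ∈ F₀ := rat_ratio_mem hf hR hn g hind1 hr1 hr3 hr4 hg1 hg3 hg4
  have key2 : μ2 * μ3⁻¹ ∈ F₀ := rat_ratio_mem hf hR hn g hind2 hr2 hr3 hr5 hg2 hg3 hg5
  have hμ3 : μ3 ≠ 0 := by
    rintro rfl
    rw [zero_smul] at hg3
    exact hs0 (gl_mulVec_eq_zero hg3)
  refine ⟨μ3, (μ2 * μ3⁻¹) • r2 + (c * (μ1 * μ3⁻¹)) • r1,
    (RatVec.smul key2 hr2).add (RatVec.smul (F₀.mul_mem hcF key1) hr1), ?_⟩
  rw [hev, Matrix.mulVec_add, Matrix.mulVec_smul, hg1, hg2, smul_add, smul_smul, smul_smul,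
    smul_smul]
  congr 1
  · congr 1
    rw [mul_comm μ2, ← mul_assoc, mul_inv_cancel₀ hμ3, one_mul]
  · congr 1
    calc c * μ1 = (μ3 * μ3⁻¹) * (c * μ1) := by rw [mul_inv_cancel₀ hμ3, one_mul]
      _ = μ3 * (c * (μ1 * μ3⁻¹)) := by ring

end Cfsg.Agent.Helper93
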