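import Cfsg.Agent.Lib.Helper93.UOSub2

set_option autoImplicit false
set_option linter.unusedSectionVars false

namespace Cfsg.Agent.Helper93

open Matrix Cfsg.Geo

variable {ι : Type} [Fintype ι] [DecidableEq ι] {F : Type*} [Field F]
variable {σ : F ≃+* F} {f : (ι → F) → (ι → F) → F}
variable {F₀ : Subfield F} {P : GL ι F}

/-! ### unitary Siegel elements -/

open Classical in
/-- the unitary Siegel element `x ↦ x + f(x,a) b - f(x,b) a + c f(x,a) a` (for `a` isotropic,
`b ⊥ a`); the identity for invalid parameters -/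
noncomputable def usg (hf : IsUnitaryForm σ f) (a b : ι → F) (c : F) : GL ι F :=
  if h : f a a = 0 ∧ f a b = 0 then
    tv ((c + f b b) • fvec f a) a (by rw [smul_dotProduct, ufvec_dot hf, h.1, smul_zero]) *
    tv (-(fvec f b)) a (by rw [neg_dotProduct, ufvec_dot hf, h.2, neg_zero]) *
    tv (fvec f a) b (by rw [ufvec_dot hf]; exact uf_eq_zero_symm hf h.2)
  else 1

lemma usg_apply (hf : IsUnitaryForm σ f) {a b : ι → F} (ha : f a a = 0) (hab : f a b = 0)
    (c : F) (x : ι → F) :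
    ((usg hf a b c : GL ι F) : Matrix ι ι F) *ᵥ x
      = x + f x a • b - f x b • a + (c * f x a) • a := by
  have hba : f b a = 0 := uf_eq_zero_symm hf hab
  unfold usg
  rw [dif_pos ⟨ha, hab⟩, gl_mul_apply, gl_mul_apply, tv_coe, tv_coe, tv_coe, tvMat_mulVec,
    tvMat_mulVec, tvMat_mulVec]
  simp only [smul_dotProduct, neg_dotProduct, dotProduct_add, dotProduct_smul, ufvec_dot hf,
    smul_eq_mul, ha, hab, hba, mul_zero, add_zero, neg_zero, zero_mul]
  module

lemma usg_mem_SL (hf : IsUnitaryForm σ f) (a b : ι → F) (c : F) :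
    usg hf a b c ∈ specialLinear ι F := by
  unfold usg
  split_ifs with h
  · exact (specialLinear ι F).mul_mem
      ((specialLinear ι F).mul_mem (tv_mem_SL _ _ _) (tv_mem_SL _ _ _)) (tv_mem_SL _ _ _)
  · exact (specialLinear ι F).one_mem

lemma usg_isom (hf : IsUnitaryForm σ f) {a b : ι → F} (ha : f a a = 0) (hab : f a b = 0)
    {c : F} (hc : c + σ c + f b b = 0) : Isom f (usg hf a b c) := by
  have hba : f b a = 0 := uf_eq_zero_symm hf hab
  intro x y
  rw [usg_apply hf ha hab, usg_apply hf ha hab]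
  simp only [hf.add_left, uf_add_right hf, uf_sub_left hf, uf_sub_right hf, hf.smul_left,
    uf_smul_right hf, map_mul, ha, hab, hba, mul_zero, zero_mul, add_zero, sub_zero, zero_add]
  rw [hf.herm a y, hf.herm b y]
  linear_combination (f x a * σ (f y a)) * hc

theorem conj_usg (hf : IsUnitaryForm σ f) (p : GL ι F) (hp : Isom f p) {a b : ι → F}
    (ha : f a a = 0) (hab : f a b = 0) (c : F) :
    p * usg hf a b c * p⁻¹
      = usg hf ((p : Matrix ι ι F) *ᵥ a) ((p : Matrix ι ι F) *ᵥ b) c := by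
  have ha' : f ((p : Matrix ι ι F) *ᵥ a) ((p : Matrix ι ι F) *ᵥ a) = 0 := by rw [hp]; exact ha
  have hab' : f ((p : Matrix ι ι F) *ᵥ a) ((p : Matrix ι ι F) *ᵥ b) = 0 := by
    rw [hp]; exact hab
  apply gl_ext
  intro x
  rw [gl_mul_apply, gl_mul_apply, usg_apply hf ha hab, usg_apply hf ha' hab']
  simp only [Matrix.mulVec_add, Matrix.mulVec_sub, Matrix.mulVec_smul, gl_apply_inv_apply,
    hp.inv_left]

lemma usg_mul (hf : IsUnitaryForm σ f) {a b b' : ι → F} (ha : f a a = 0) (hab : f a b = 0)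
    (hab' : f a b' = 0) (c c' : F) :
    usg hf a b c * usg hf a b' c' = usg hf a (b + b') (c + c' - f b' b) := by
  have hab'' : f a (b + b') = 0 := by rw [uf_add_right hf, hab, hab', add_zero]
  have hba : f b a = 0 := uf_eq_zero_symm hf hab
  have hb'a : f b' a = 0 := uf_eq_zero_symm hf hab'
  apply gl_ext
  intro x
  rw [gl_mul_apply, usg_apply hf ha hab', usg_apply hf ha hab, usg_apply hf ha hab'']
  simp only [hf.add_left, uf_add_right hf, uf_sub_left hf, hf.smul_left, ha, hab, hab', hba,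
    hb'a, mul_zero, add_zero, sub_zero]
  module

lemma usg_zero_right (hf : IsUnitaryForm σ f) {a : ι → F} (ha : f a a = 0) (c : F) :
    usg hf a 0 c = uref hf a c := by
  apply gl_ext
  intro x
  rw [usg_apply hf ha (uf_zero_right hf a), uref_apply_iso hf a c ha, uf_zero_right hf,
    zero_smul, smul_zero, add_zero, sub_zero]

lemma usg_swap (hf : IsUnitaryForm σ f) {a u : ι → F} (ha : f a a = 0) (hu : f u u = 0)
    (hau : f a u = 0) (η : F) :
    usg hf a (η • u) 0 = usg hf u ((-σ η) • a) 0 := by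
  have hua : f u a = 0 := uf_eq_zero_symm hf hau
  have h1 : f a (η • u) = 0 := by rw [uf_smul_right hf, hau, mul_zero]
  have h2 : f u ((-σ η) • a) = 0 := by rw [uf_smul_right hf, hua, mul_zero]
  apply gl_ext
  intro x
  rw [usg_apply hf ha h1, usg_apply hf hu h2]
  simp only [uf_smul_right hf, map_neg, hf.involutive, zero_mul, zero_smul, add_zero]
  module

/-- commutator inside the unipotent radical of an isotropic point -/
lemma usg_comm (hf : IsUnitaryForm σ f) {a b1 b2 : ι → F} (ha : f a a = 0) (h1 : f a b1 = 0)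
    (h2 : f a b2 = 0) (c1 c2 : F) :
    usg hf a b1 c1 * usg hf a b2 c2
      = uref hf a (f b1 b2 - f b2 b1) * (usg hf a b2 c2 * usg hf a b1 c1) := by
  have hb1a : f b1 a = 0 := uf_eq_zero_symm hf h1
  have hb2a : f b2 a = 0 := uf_eq_zero_symm hf h2
  apply gl_ext
  intro x
  simp only [gl_mul_apply, usg_apply hf ha h1, usg_apply hf ha h2, uref_apply_iso hf a _ ha,
    hf.add_left, uf_sub_left hf, hf.smul_left, ha, h1, h2, hb1a, hb2a, mul_zero, zero_mul,
    add_zero, sub_zero]
  module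

/-- conjugating a Siegel element at `a` by a Siegel element at a perpendicular isotropic `u` -/
lemma usg_comm_cross (hf : IsUnitaryForm σ f) {a b u w : ι → F} (ha : f a a = 0)
    (hab : f a b = 0) (hu : f u u = 0) (huw : f u w = 0) (hau : f a u = 0) (haw : f a w = 0)
    (hbu : f b u = 0) (c : F) {c' : F} (hc' : c' + σ c' + f w w = 0) :
    usg hf u w c' * usg hf a b c * (usg hf u w c')⁻¹
      = usg hf a ((-(f b w)) • u) 0 * usg hf a b c := by
  have hE : Isom f (usg hf u w c') := usg_isom hf hu huw hc'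
  have h1 : f a ((-(f b w)) • u) = 0 := by rw [uf_smul_right hf, hau, mul_zero]
  have e1 : ((usg hf u w c' : GL ι F) : Matrix ι ι F) *ᵥ a = a := by
    rw [usg_apply hf hu huw, hau, haw, mul_zero, zero_smul, zero_smul, add_zero, sub_zero,
      add_zero]
  have e2 : ((usg hf u w c' : GL ι F) : Matrix ι ι F) *ᵥ b = (-(f b w)) • u + b := by
    rw [usg_apply hf hu huw, hbu, mul_zero, zero_smul, zero_smul, add_zero, add_zero]
    module
  rw [conj_usg hf _ hE ha hab, usg_mul hf ha h1 hab, e1, e2]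
  congr 1
  rw [uf_smul_right hf, hbu]
  ring

/-! ### reflections -/

/-- the reflection in a nonsingular vector -/
noncomputable def rrefl (hf : IsUnitaryForm σ f) (x : ι → F) : GL ι F :=
  uref hf x (-2 / f x x)

lemma rrefl_ne {x : ι → F} (hx : f x x ≠ 0) : 1 + (-2 / f x x) * f x x ≠ 0 := by
  rw [div_mul_cancel₀ _ hx]
  have e : (1 : F) + -2 = -1 := by ring
  rw [e]
  exact neg_ne_zero.2 one_ne_zero

lemma rrefl_apply (hf : IsUnitaryForm σ f) {x : ι → F} (hx : f x x ≠ 0) (y : ι → F) :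
    ((rrefl hf x : GL ι F) : Matrix ι ι F) *ᵥ y = y + ((-2 / f x x) * f y x) • x := by
  unfold rrefl
  exact uref_apply hf x _ (rrefl_ne hx) y

lemma rrefl_isom (hf : IsUnitaryForm σ f) {x : ι → F} (hx : f x x ≠ 0) :
    Isom f (rrefl hf x) := by
  unfold rrefl
  apply uref_isom hf
  unfold UValid
  have hσ : σ (-2 / f x x) = -2 / f x x := by
    rw [map_div₀, map_neg, map_ofNat, uf_self hf]
  have hm : (-2 / f x x) * f x x = -2 := div_mul_cancel₀ _ hx
  rw [hσ]
  linear_combination (-2 / f x x) * hm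

lemma rrefl_det (hf : IsUnitaryForm σ f) {x : ι → F} (hx : f x x ≠ 0) :
    ((rrefl hf x : GL ι F) : Matrix ι ι F).det = -1 := by
  unfold rrefl
  rw [uref_det hf x _ (rrefl_ne hx), div_mul_cancel₀ _ hx]
  ring

lemma rr_mem_SL (hf : IsUnitaryForm σ f) {x y : ι → F} (hx : f x x ≠ 0) (hy : f y y ≠ 0) :
    rrefl hf x * rrefl hf y ∈ specialLinear ι F := by
  unfold Cfsg.Geo.specialLinear
  rw [MonoidHom.mem_ker, map_mul]
  apply Units.ext
  rw [Units.val_mul, Matrix.GeneralLinearGroup.val_det_apply,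
    Matrix.GeneralLinearGroup.val_det_apply, rrefl_det hf hx, rrefl_det hf hy]
  simp

/-- products of two rational reflections lie in the subfield group -/
lemma rr_mem_K (hf : IsUnitaryForm σ f) (hR : RatStrO σ f F₀ P) (G : Subgroup (GL ι F))
    (hG : ∀ g, g ∈ G ↔ Isom f g ∧ g ∈ specialLinear ι F) {x y : ι → F}
    (hxR : RatVec F₀ P x) (hyR : RatVec F₀ P y) (hx : f x x ≠ 0) (hy : f y y ≠ 0) :
    rrefl hf x * rrefl hf y ∈ subfieldSubgroup F₀ P ⊓ G := by
  have hmaps : ∀ {v : ι → F}, RatVec F₀ P v → f v v ≠ 0 → ∀ z, RatVec F₀ P z →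
      RatVec F₀ P (((rrefl hf v : GL ι F) : Matrix ι ι F) *ᵥ z) := by
    intro v hvR hv z hz
    rw [rrefl_apply hf hv]
    refine hz.add (RatVec.smul ?_ hvR)
    exact F₀.mul_mem (F₀.div_mem (F₀.neg_mem (two_mem_subfield F₀)) (hR.form _ _ hvR hvR))
      (hR.form _ _ hz hvR)
  refine ⟨?_, (hG _).2 ⟨(rrefl_isom hf hx).mul (rrefl_isom hf hy), rr_mem_SL hf hx hy⟩⟩
  apply mem_subfield_of (lam := 1) one_ne_zero
  intro z hz
  rw [inv_one, one_smul, gl_mul_apply]
  exact hmaps hxR hx _ (hmaps hyR hy z hz)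

/-- rational Siegel (Eichler) elements lie in the subfield group -/
lemma usg_mem_K (hf : IsUnitaryForm σ f) (hR : RatStrO σ f F₀ P) (h2 : (2 : F) ≠ 0)
    (G : Subgroup (GL ι F)) (hG : ∀ g, g ∈ G ↔ Isom f g ∧ g ∈ specialLinear ι F)
    {u w : ι → F} (hu : RatVec F₀ P u) (hw : RatVec F₀ P w) (huu : f u u = 0)
    (huw : f u w = 0) : usg hf u w (-(f w w) / 2) ∈ subfieldSubgroup F₀ P ⊓ G := by
  have hcF : -(f w w) / 2 ∈ F₀ :=
    F₀.div_mem (F₀.neg_mem (hR.form _ _ hw hw)) (two_mem_subfield F₀)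
  have hcσ : σ (-(f w w) / 2) = -(f w w) / 2 := (hR.fix _).1 hcF
  obtain ⟨c, hc⟩ : ∃ c, c = -(f w w) / 2 := ⟨_, rfl⟩
  have hc2 : 2 * c = -(f w w) := by rw [hc]; field_simp
  rw [← hc] at hcF hcσ ⊢
  have hval : c + σ c + f w w = 0 := by
    rw [hcσ]
    linear_combination hc2
  refine ⟨?_, (hG _).2 ⟨usg_isom hf huu huw hval, usg_mem_SL hf _ _ _⟩⟩
  apply mem_subfield_of (lam := 1) one_ne_zero
  intro x hx
  rw [inv_one, one_smul, usg_apply hf huu huw]
  exact ((hx.add (RatVec.smul (hR.form _ _ hx hu) hw)).sub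
    (RatVec.smul (hR.form _ _ hx hw) hu)).add
    (RatVec.smul (F₀.mul_mem hcF (hR.form _ _ hx hu)) hu)

lemma uref_mul_iso (hf : IsUnitaryForm σ f) {a : ι → F} (ha : f a a = 0) (c c' : F) :
    uref hf a c * uref hf a c' = uref hf a (c + c') := by
  apply gl_ext
  intro x
  rw [gl_mul_apply, uref_apply_iso hf a c' ha, uref_apply_iso hf a c ha,
    uref_apply_iso hf a (c + c') ha, hf.add_left, hf.smul_left, ha, mul_zero, add_zero]
  module

lemma uref_neg_iso (hf : IsUnitaryForm σ f) {a : ι → F} (ha : f a a = 0) (c : F) :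
    uref hf a (-c) = (uref hf a c)⁻¹ := by
  symm
  apply inv_eq_of_mul_eq_one_right
  rw [uref_mul_iso hf ha, add_neg_cancel, uref_zero]

end Cfsg.Agent.Helper93
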