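import Cfsg.Agent.Lib.Helper93.UOSub3

set_option autoImplicit false
set_option linter.unusedSectionVars false

namespace Cfsg.Agent.Helper93

open Matrix Cfsg.Geo

variable {ι : Type} [Fintype ι] [DecidableEq ι] {F : Type*} [Field F]
variable {σ : F ≃+* F} {f : (ι → F) → (ι → F) → F}
variable {F₀ : Subfield F} {P : GL ι F}

lemma dep_smul {u v : ι → F} (hu0 : u ≠ 0)
    (hnot : ¬ ∀ s t : F, s • u + t • v = 0 → s = 0 ∧ t = 0) : ∃ k : F, v = k • u := by
  by_contra hcon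
  push Not at hcon
  exact hnot (indep_of_not_smul hu0 hcon)

/-- one transvection with a rational singular centre gives all of them (same centre) -/
lemma uctr_of_tv (hf : IsUnitaryForm σ f) (hR : RatStrO σ f F₀ P) (h2 : (2 : F) ≠ 0)
    (M : Subgroup (GL ι F))
    (hRR : ∀ x y, RatVec F₀ P x → RatVec F₀ P y → f x x ≠ 0 → f y y ≠ 0 →
      rrefl hf x * rrefl hf y ∈ M)
    {u : ι → F} (hu : RatVec F₀ P u) (hu0 : u ≠ 0) (huu : f u u = 0) {z : F} (hz0 : z ≠ 0)
    (hz : z + σ z = 0) (hzM : uref hf u z ∈ M) : UCtr hf M u := by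
  obtain ⟨v, hv, hvv, hvu⟩ := rat_partner hf hR h2 hu hu0 huu
  have huv : f u v = 1 := by rw [hR.symm hf hv hu]; exact hvu
  have hscale : ∀ t : F, t ∈ F₀ → t ≠ 0 → uref hf u (z * (t⁻¹ * t⁻¹)) ∈ M := by
    intro t ht ht0
    have hσt : σ t = t := (hR.fix _).1 ht
    have hx1 : f (u - v) (u - v) = -2 := by
      simp only [uf_sub_left hf, uf_sub_right hf, huu, hvv, huv, hvu]
      ring
    have hx2 : f (u - t • v) (u - t • v) = -(2 * t) := by
      simp only [uf_sub_left hf, uf_sub_right hf, hf.smul_left, uf_smul_right hf, huu, hvv, huv,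
        hvu, hσt]
      ring
    have hx1' : f (u - v) (u - v) ≠ 0 := by rw [hx1]; exact neg_ne_zero.2 h2
    have hx2' : f (u - t • v) (u - t • v) ≠ 0 := by
      rw [hx2]; exact neg_ne_zero.2 (mul_ne_zero h2 ht0)
    obtain ⟨h, hh⟩ : ∃ h, h = rrefl hf (u - t • v) * rrefl hf (u - v) := ⟨_, rfl⟩
    have hhM : h ∈ M := by
      rw [hh]
      exact hRR _ _ (hu.sub (RatVec.smul ht hv)) (hu.sub hv) hx2' hx1'
    have hhI : Isom f h := by
      rw [hh]
      exact (rrefl_isom hf hx2').mul (rrefl_isom hf hx1')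
    have e1 : ((rrefl hf (u - v) : GL ι F) : Matrix ι ι F) *ᵥ u = v := by
      rw [rrefl_apply hf hx1', hx1, uf_sub_right hf, huu, huv]
      have e : ((-2 : F) / -2) * (0 - 1) = -1 := by
        rw [div_self (neg_ne_zero.2 h2)]; ring
      rw [e]
      module
    have e2 : ((rrefl hf (u - t • v) : GL ι F) : Matrix ι ι F) *ᵥ v = t⁻¹ • u := by
      rw [rrefl_apply hf hx2', hx2, uf_sub_right hf, uf_smul_right hf, hvu, hvv]
      have e : (-2 / -(2 * t)) * (1 - σ t * 0) = t⁻¹ := by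
        rw [mul_zero, sub_zero, mul_one, neg_div_neg_eq, ← div_div, div_self h2, one_div]
      rw [e, smul_sub, smul_smul, inv_mul_cancel₀ ht0, one_smul]
      abel
    have hhu : (h : Matrix ι ι F) *ᵥ u = t⁻¹ • u := by rw [hh, gl_mul_apply, e1, e2]
    have hconj := conj_uref hf h hhI u z
    have hσt' : σ t⁻¹ = t⁻¹ := (hR.fix _).1 (F₀.inv_mem ht)
    rw [hhu, uref_smul, hσt', mul_assoc z t⁻¹ t⁻¹] at hconj
    rw [← hconj]
    exact M.mul_mem (M.mul_mem hhM hzM) (M.inv_mem hhM)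
  have hA : ∀ s : F, s ∈ F₀ → uref hf u (z * (s * s)) ∈ M := by
    intro s hs
    by_cases hs0 : s = 0
    · rw [hs0, mul_zero, mul_zero, uref_zero]
      exact M.one_mem
    · have := hscale s⁻¹ (F₀.inv_mem hs) (inv_ne_zero hs0)
      rwa [inv_inv] at this
  refine ⟨huu, fun c hc => ?_⟩
  have hlF : c / z ∈ F₀ := trz_div_mem hR.fix hz hc
  obtain ⟨s1, hs1⟩ : ∃ s1, s1 = (c / z + 1) / 2 := ⟨_, rfl⟩
  obtain ⟨s2, hs2⟩ : ∃ s2, s2 = (c / z - 1) / 2 := ⟨_, rfl⟩
  have hs1F : s1 ∈ F₀ := by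
    rw [hs1]; exact F₀.div_mem (F₀.add_mem hlF F₀.one_mem) (two_mem_subfield F₀)
  have hs2F : s2 ∈ F₀ := by
    rw [hs2]; exact F₀.div_mem (F₀.sub_mem hlF F₀.one_mem) (two_mem_subfield F₀)
  have hc' : c = z * (s1 * s1) + -(z * (s2 * s2)) := by
    rw [hs1, hs2]
    field_simp
    ring
  rw [hc', ← uref_mul_iso hf huu, uref_neg_iso hf huu]
  exact M.mul_mem (hA s1 hs1F) (M.inv_mem (hA s2 hs2F))

/-- moving a centre to a non-perpendicular rational singular vector -/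
lemma uctr_move [Finite F] (hf : IsUnitaryForm σ f) (hR : RatStrO σ f F₀ P)
    (h2 : (2 : F) ≠ 0) (hn : 7 ≤ Fintype.card ι) (M : Subgroup (GL ι F))
    (hMI : ∀ m ∈ M, Isom f m)
    (hRR : ∀ x y, RatVec F₀ P x → RatVec F₀ P y → f x x ≠ 0 → f y y ≠ 0 →
      rrefl hf x * rrefl hf y ∈ M)
    {a c : ι → F} (haR : RatVec F₀ P a) (hcR : RatVec F₀ P c) (ha0 : a ≠ 0)
    (hcc : f c c = 0) (hac : f a c ≠ 0) (hC : UCtr hf M a) : UCtr hf M c := by
  have haa := hC.1
  obtain ⟨y, hy, hya, hyy⟩ := rat_nonsing_perp hf hR h2 hn haR ha0 haa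
  have hay : f a y = 0 := by rw [hR.symm hf hy haR]; exact hya
  have hca : f c a = f a c := hR.symm hf haR hcR
  have hxx : f (a - c) (a - c) = -(2 * f a c) := by
    simp only [uf_sub_left hf, uf_sub_right hf, haa, hcc, hca]
    ring
  have hne : 2 * f a c ≠ 0 := mul_ne_zero h2 hac
  have hxx' : f (a - c) (a - c) ≠ 0 := by rw [hxx]; exact neg_ne_zero.2 hne
  have hhM : rrefl hf (a - c) * rrefl hf y ∈ M := hRR _ _ (haR.sub hcR) hy hxx' hyy
  have hha : ((rrefl hf (a - c) * rrefl hf y : GL ι F) : Matrix ι ι F) *ᵥ a = c := by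
    rw [gl_mul_apply, rrefl_apply hf hyy, hay, mul_zero, zero_smul, add_zero,
      rrefl_apply hf hxx', hxx, uf_sub_right hf, haa]
    have e : (-2 / -(2 * f a c)) * (0 - f a c) = -1 := by
      rw [neg_div_neg_eq, zero_sub, mul_neg, div_mul_eq_mul_div, div_self hne]
    rw [e]
    module
  have := hC.conj hf _ hhM (hMI _ hhM)
  rwa [hha] at this

/-- all rational singular vectors are centres -/
lemma uctr_rat_all [Finite F] (hf : IsUnitaryForm σ f) (hR : RatStrO σ f F₀ P)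
    (h2 : (2 : F) ≠ 0) (hn : 7 ≤ Fintype.card ι) (M : Subgroup (GL ι F))
    (hMI : ∀ m ∈ M, Isom f m)
    (hRR : ∀ x y, RatVec F₀ P x → RatVec F₀ P y → f x x ≠ 0 → f y y ≠ 0 →
      rrefl hf x * rrefl hf y ∈ M)
    {u : ι → F} (hu : RatVec F₀ P u) (hu0 : u ≠ 0) (hC : UCtr hf M u) :
    ∀ c, RatVec F₀ P c → f c c = 0 → UCtr hf M c := by
  intro c hcR hcc
  by_cases hc0 : c = 0
  · rw [hc0]; exact UCtr.zero hf M
  by_cases h : f u c = 0
  · obtain ⟨s, hs, hss, hsu, hsc⟩ := rat_sing_two hf hR h2 hn hu hu0 hcR hc0 hcc h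
    have hs0 : s ≠ 0 := by
      rintro rfl
      exact hsu (uf_zero_left hf u)
    have hCs := uctr_move hf hR h2 hn M hMI hRR hu hs hu0 hss (uf_ne_zero_symm hf hsu) hC
    exact uctr_move hf hR h2 hn M hMI hRR hs hcR hs0 hcc hsc hCs
  · exact uctr_move hf hR h2 hn M hMI hRR hu hcR hu0 hcc h hC

section spread

variable (hf : IsUnitaryForm σ f) (hR : RatStrO σ f F₀ P) (M : Subgroup (GL ι F))

lemma theta_iso (hf : IsUnitaryForm σ f) (hR : RatStrO σ f F₀ P) {θ : F} (hσθ : σ θ = -θ)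
    {y1 y2 : ι → F} (h1 : RatVec F₀ P y1) (h2 : RatVec F₀ P y2) :
    f (y1 + θ • y2) (y1 + θ • y2) = f y1 y1 - θ * θ * f y2 y2 := by
  have h21 : f y2 y1 = f y1 y2 := hR.symm hf h1 h2
  simp only [hf.add_left, uf_add_right hf, hf.smul_left, uf_smul_right hf, h21, hσθ]
  ring

/-- `x₁ + θ x₂` is a centre for rational singular `x₁, x₂` -/
lemma uctr_sing_pair [Finite F] (hf : IsUnitaryForm σ f) (hR : RatStrO σ f F₀ P)
    (h2 : (2 : F) ≠ 0) (hn : 7 ≤ Fintype.card ι) (M : Subgroup (GL ι F))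
    (hC : ∀ c, RatVec F₀ P c → f c c = 0 → UCtr hf M c) {θ : F} (hσθ : σ θ = -θ)
    {x1 x2 : ι → F} (h1 : RatVec F₀ P x1) (h2' : RatVec F₀ P x2) (h11 : f x1 x1 = 0)
    (h22 : f x2 x2 = 0) : UCtr hf M (x1 + θ • x2) := by
  have hgen : ∀ y1 y2, RatVec F₀ P y1 → RatVec F₀ P y2 → f y1 y1 = 0 → f y2 y2 = 0 →
      f (y1 + θ • y2) (y1 + θ • y2) = 0 := by
    intro y1 y2 hy1 hy2 h1' h2''
    rw [theta_iso hf hR hσθ hy1 hy2, h1', h2'', mul_zero, sub_zero]
  have hiso := hgen x1 x2 h1 h2' h11 h22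
  by_cases h12 : f x1 x2 = 0
  · by_cases hind : ∀ s t : F, s • x1 + t • x2 = 0 → s = 0 ∧ t = 0
    · obtain ⟨b0, hb0, hb01, hb02⟩ :=
        hR.exists_dual2 hf hn h1 h2' hind F₀.one_mem F₀.zero_mem
      obtain ⟨hbR, hbb⟩ := rat_fix_norm hf hR h2 hb0 h1 h11 hb01
      obtain ⟨b, hb⟩ : ∃ b, b = b0 - (f b0 b0 / 2) • x1 := ⟨_, rfl⟩
      rw [← hb] at hbR hbb
      have hb1 : f b x1 = 1 := by
        rw [hb, uf_sub_left hf, hf.smul_left, h11, mul_zero, sub_zero, hb01]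
      have hb2 : f b x2 = 0 := by
        rw [hb, uf_sub_left hf, hf.smul_left, h12, mul_zero, sub_zero, hb02]
      have h1b : f x1 b = 1 := by rw [hR.symm hf hbR h1]; exact hb1
      have h2b : f x2 b = 0 := by rw [hR.symm hf hbR h2']; exact hb2
      have hx2' : f (x2 + b) (x2 + b) = 0 := by
        rw [hf.add_left, uf_add_right hf, uf_add_right hf, h22, hbb, h2b, hb2]
        ring
      have h12' : f x1 (x2 + b) ≠ 0 := by
        rw [uf_add_right hf, h12, h1b, zero_add]; exact one_ne_zero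
      have hiso' := hgen x1 (x2 + b) h1 (h2'.add hbR) h11 hx2'
      have hC' : UCtr hf M (x1 + θ • (x2 + b)) :=
        (hC x1 h1 h11).add_smul hf (hC _ (h2'.add hbR) hx2') h12' θ hiso'
      have e : x1 + θ • x2 = (x1 + θ • (x2 + b)) + (-θ) • b := by module
      rw [e]
      refine hC'.add_smul hf (hC b hbR hbb) ?_ (-θ) ?_
      · rw [hf.add_left, hf.smul_left, hf.add_left, h1b, h2b, hbb, zero_add, mul_zero, add_zero]
        exact one_ne_zero
      · rw [← e]; exact hiso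
    · obtain ⟨μ, hμ | hμ⟩ := rat_dep_point θ hind
      · rw [hμ]; exact (hC x1 h1 h11).smul hf μ
      · rw [hμ]; exact (hC x2 h2' h22).smul hf μ
  · exact (hC x1 h1 h11).add_smul hf (hC x2 h2' h22) h12 θ hiso

/-- an isotropic `x₁ + θ x₂` is a centre if a rational singular vector pairs non-trivially with
both components -/
lemma uctr_via_pair [Finite F] (hf : IsUnitaryForm σ f) (hR : RatStrO σ f F₀ P)
    (h2 : (2 : F) ≠ 0) (hn : 7 ≤ Fintype.card ι) (M : Subgroup (GL ι F))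
    (hC : ∀ c, RatVec F₀ P c → f c c = 0 → UCtr hf M c) {θ : F} (hσθ : σ θ = -θ)
    (hσθne : σ θ ≠ θ)
    {x1 x2 b : ι → F} (h1 : RatVec F₀ P x1) (h2' : RatVec F₀ P x2) (hb : RatVec F₀ P b)
    (hbb : f b b = 0) (hβ1 : f b x1 ≠ 0) (hβ2 : f b x2 ≠ 0)
    (hiso : f (x1 + θ • x2) (x1 + θ • x2) = 0) : UCtr hf M (x1 + θ • x2) := by
  have h1b : f x1 b = f b x1 := hR.symm hf hb h1
  have h2b : f x2 b = f b x2 := hR.symm hf hb h2'
  have hβ1F : f b x1 ∈ F₀ := hR.form _ _ hb h1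
  have hβ2F : f b x2 ∈ F₀ := hR.form _ _ hb h2'
  obtain ⟨c1, hc1⟩ : ∃ c1, c1 = -(f x1 x1) / (2 * f b x1) := ⟨_, rfl⟩
  obtain ⟨c2, hc2⟩ : ∃ c2, c2 = -(f x2 x2) / (2 * f b x2) := ⟨_, rfl⟩
  have hc1F : c1 ∈ F₀ := by
    rw [hc1]
    exact F₀.div_mem (F₀.neg_mem (hR.form _ _ h1 h1)) (F₀.mul_mem (two_mem_subfield F₀) hβ1F)
  have hc2F : c2 ∈ F₀ := by
    rw [hc2]
    exact F₀.div_mem (F₀.neg_mem (hR.form _ _ h2' h2')) (F₀.mul_mem (two_mem_subfield F₀) hβ2F)
  have hc1σ : σ c1 = c1 := (hR.fix _).1 hc1F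
  have hc2σ : σ c2 = c2 := (hR.fix _).1 hc2F
  have hc1' : c1 * (2 * f b x1) = -(f x1 x1) := by
    rw [hc1, div_mul_cancel₀ _ (mul_ne_zero h2 hβ1)]
  have hc2' : c2 * (2 * f b x2) = -(f x2 x2) := by
    rw [hc2, div_mul_cancel₀ _ (mul_ne_zero h2 hβ2)]
  have hx1' : f (x1 + c1 • b) (x1 + c1 • b) = 0 := by
    simp only [hf.add_left, uf_add_right hf, hf.smul_left, uf_smul_right hf, hbb, h1b, hc1σ,
      mul_zero, add_zero]
    linear_combination hc1'
  have hx2' : f (x2 + c2 • b) (x2 + c2 • b) = 0 := by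
    simp only [hf.add_left, uf_add_right hf, hf.smul_left, uf_smul_right hf, hbb, h2b, hc2σ,
      mul_zero, add_zero]
    linear_combination hc2'
  have hC' : UCtr hf M ((x1 + c1 • b) + θ • (x2 + c2 • b)) :=
    uctr_sing_pair hf hR h2 hn M hC hσθ (h1.add (RatVec.smul hc1F hb))
      (h2'.add (RatVec.smul hc2F hb)) hx1' hx2'
  have e : x1 + θ • x2 = ((x1 + c1 • b) + θ • (x2 + c2 • b)) + (-(c1 + θ * c2)) • b := by
    module
  rw [e]
  refine hC'.add_smul hf (hC b hb hbb) ?_ (-(c1 + θ * c2)) ?_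
  · simp only [hf.add_left, hf.smul_left, hbb, h1b, h2b, mul_zero, add_zero]
    intro h0
    apply hβ2
    exact fld_decomp_unique hR.fix (ω := θ) hσθne hβ1F hβ2F (by rw [h0]; exact F₀.zero_mem)
  · rw [← e]; exact hiso

/-- every isotropic vector is a centre -/
lemma uctr_all [Finite F] (hf : IsUnitaryForm σ f) (hR : RatStrO σ f F₀ P)
    (h2 : (2 : F) ≠ 0) (hn : 7 ≤ Fintype.card ι) (M : Subgroup (GL ι F))
    (hC : ∀ c, RatVec F₀ P c → f c c = 0 → UCtr hf M c) :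
    ∀ x, f x x = 0 → UCtr hf M x := by
  obtain ⟨θ, hθ0, hθ⟩ := uf_exists_theta hf
  have hσθ : σ θ = -θ := by linear_combination hθ
  have hσθne : σ θ ≠ θ := by
    rw [hσθ]
    intro h0
    have h4 : (2 : F) * θ = 0 := by linear_combination -h0
    exact hθ0 ((mul_eq_zero.1 h4).resolve_left h2)
  have hδsq : ∀ ε : F, ε ∈ F₀ → θ * θ ≠ ε * ε := by
    intro ε hε h0
    have h4 : (θ - ε) * (θ + ε) = 0 := by linear_combination h0
    have hθF : θ ∈ F₀ := by
      rcases mul_eq_zero.1 h4 with h5 | h5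
      · have : θ = ε := by linear_combination h5
        rw [this]; exact hε
      · have : θ = -ε := by linear_combination h5
        rw [this]; exact F₀.neg_mem hε
    exact hσθne ((hR.fix θ).1 hθF)
  have hhalf : ∀ m : F, 2 * (m / 2) = m := fun m => mul_div_cancel₀ m h2
  intro x hxx
  by_cases hx0 : x = 0
  · rw [hx0]; exact UCtr.zero hf M
  obtain ⟨b, hb, hbb, hxb⟩ := rat_sing_np_any hf hR h2 hn hx0
  suffices h : UCtr hf M ((f x b)⁻¹ • x) by
    have h3 := h.smul hf (f x b)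
    rwa [smul_smul, mul_inv_cancel₀ hxb, one_smul] at h3
  obtain ⟨x1, x2, h1, h2', hx⟩ :=
    rat_decomp hf.involutive hR.fix P hσθne ((f x b)⁻¹ • x)
  have hxb1 : f ((f x b)⁻¹ • x) b = 1 := by rw [hf.smul_left, inv_mul_cancel₀ hxb]
  have hiso : f ((f x b)⁻¹ • x) ((f x b)⁻¹ • x) = 0 := by
    rw [hf.smul_left, uf_smul_right hf, hxx, mul_zero, mul_zero]
  rw [hx] at hxb1 hiso ⊢
  have h2b : f x2 b = 0 := hR.comp hf hσθne h1 h2' hb (by rw [hxb1]; exact F₀.one_mem)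
  have h1b : f x1 b = 1 := by
    rw [hf.add_left, hf.smul_left, h2b, mul_zero, add_zero] at hxb1
    exact hxb1
  have hb1 : f b x1 = 1 := by rw [hR.symm hf h1 hb]; exact h1b
  have hb2 : f b x2 = 0 := by rw [hR.symm hf h2' hb]; exact h2b
  have h21 : f x2 x1 = f x1 x2 := hR.symm hf h1 h2'
  have hrel : f x1 x1 = θ * θ * f x2 x2 := by
    rw [theta_iso hf hR hσθ h1 h2'] at hiso
    linear_combination hiso
  by_cases hs2 : f x2 x2 = 0
  · have hs1 : f x1 x1 = 0 := by rw [hrel, hs2, mul_zero]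
    exact uctr_sing_pair hf hR h2 hn M hC hσθ h1 h2' hs1 hs2
  · by_cases hp : f x1 x2 = 0
    · obtain ⟨X, hX⟩ : ∃ X, X = x1 + x2 := ⟨_, rfl⟩
      have hXR : RatVec F₀ P X := by rw [hX]; exact h1.add h2'
      have hXb : f X b = 1 := by rw [hX, hf.add_left, h1b, h2b, add_zero]
      have hXx1 : f X x1 = f x1 x1 := by rw [hX, hf.add_left, h21, hp, add_zero]
      have hXx2 : f X x2 = f x2 x2 := by rw [hX, hf.add_left, hp, zero_add]
      have hXX : f X X = f x1 x1 + f x2 x2 := by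
        rw [hX, hf.add_left, uf_add_right hf, uf_add_right hf, hp, h21, hp]
        ring
      obtain ⟨hb'R, hb'b'⟩ := rat_fix_norm hf hR h2 hXR hb hbb hXb
      refine uctr_via_pair hf hR h2 hn M hC hσθ hσθne h1 h2' hb'R hb'b' ?_ ?_ hiso
      · rw [uf_sub_left hf, hf.smul_left, hb1, mul_one, hXx1, hXX, hrel]
        intro h0
        have h4 : f x2 x2 * (θ * θ - 1) = 0 := by
          linear_combination (2 : F) * h0 + hhalf (θ * θ * f x2 x2 + f x2 x2)
        have h5 : θ * θ - 1 = 0 := (mul_eq_zero.1 h4).resolve_left hs2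
        exact hδsq 1 F₀.one_mem (by linear_combination h5)
      · rw [uf_sub_left hf, hf.smul_left, hb2, mul_zero, sub_zero, hXx2]
        exact hs2
    · obtain ⟨hb'R, hb'b'⟩ := rat_fix_norm hf hR h2 h1 hb hbb h1b
      refine uctr_via_pair hf hR h2 hn M hC hσθ hσθne h1 h2' hb'R hb'b' ?_ ?_ hiso
      · rw [uf_sub_left hf, hf.smul_left, hb1, mul_one]
        intro h0
        have h4 : f x1 x1 = 0 := by linear_combination (2 : F) * h0 + hhalf (f x1 x1)
        rw [hrel] at h4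
        rcases mul_eq_zero.1 h4 with h5 | h5
        · exact hδsq 0 F₀.zero_mem (by rw [h5, mul_zero])
        · exact hs2 h5
      · rw [uf_sub_left hf, hf.smul_left, hb2, mul_zero, sub_zero]
        exact hp

end spread

end Cfsg.Agent.Helper93
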