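import Cfsg.Agent.Lib.Helper93.UOSub4

set_option autoImplicit false
set_option linter.unusedSectionVars false

namespace Cfsg.Agent.Helper93

open Matrix Cfsg.Geo

variable {ι : Type} [Fintype ι] [DecidableEq ι] {F : Type*} [Field F]
variable {σ : F ≃+* F} {f : (ι → F) → (ι → F) → F}
variable {F₀ : Subfield F} {P : GL ι F}

/-- an overgroup of the orthogonal subfield group containing an element outside it contains a
unitary transvection with rational singular centre -/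
lemma exists_tv_of_nonrat [Finite F] (hf : IsUnitaryForm σ f) (hR : RatStrO σ f F₀ P)
    (h2 : (2 : F) ≠ 0) (hn : 13 ≤ Fintype.card ι) (G : Subgroup (GL ι F))
    (hG : ∀ g, g ∈ G ↔ Isom f g ∧ g ∈ specialLinear ι F) (M : Subgroup (GL ι F))
    (hHM : subfieldSubgroup F₀ P ⊓ G ≤ M) (hMI : ∀ m ∈ M, Isom f m) (g : GL ι F)
    (hgM : g ∈ M) (hgS : g ∉ subfieldSubgroup F₀ P) :
    ∃ u' z, RatVec F₀ P u' ∧ u' ≠ 0 ∧ f u' u' = 0 ∧ z ≠ 0 ∧ z + σ z = 0 ∧
      uref hf u' z ∈ M := by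
  have hn7 : 7 ≤ Fintype.card ι := by omega
  obtain ⟨θ, hθ0, hθ⟩ := uf_exists_theta hf
  have hσθ : σ θ = -θ := by linear_combination hθ
  have hσθne : σ θ ≠ θ := by
    rw [hσθ]
    intro h0
    have h4 : (2 : F) * θ = 0 := by linear_combination -h0
    exact hθ0 ((mul_eq_zero.1 h4).resolve_left h2)
  have hσσθne : σ (σ θ) ≠ σ θ := by
    rw [hf.involutive]
    exact fun h => hσθne h.symm
  have hgI := hMI g hgM
  obtain ⟨u, hu, huu, hnr⟩ := exists_sing_nonrat hf hR h2 hn7 g hgS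
  have hu0 : u ≠ 0 := by
    rintro rfl
    exact hnr ⟨0, 0, RatVec.zero, by rw [Matrix.mulVec_zero, zero_smul]⟩
  obtain ⟨a, ha⟩ : ∃ a, a = (g : Matrix ι ι F) *ᵥ u := ⟨_, rfl⟩
  have haa : f a a = 0 := by rw [ha, hgI]; exact huu
  obtain ⟨a1, a2, ha1, ha2, hadec⟩ := rat_decomp hf.involutive hR.fix P hσθne a
  have hindep : ∀ s t : F, s • a1 + t • a2 = 0 → s = 0 ∧ t = 0 := by
    by_contra hnot
    obtain ⟨μ, hμ | hμ⟩ := rat_dep_point θ hnot
    · exact hnr ⟨μ, a1, ha1, by rw [← ha, hadec, hμ]⟩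
    · exact hnr ⟨μ, a2, ha2, by rw [← ha, hadec, hμ]⟩
  obtain ⟨w', hw', hw'0, hw'w', hw'a1, hw'a2⟩ := rat_sing_perp2 hf hR (by omega) ha1 ha2
  have ha1w' : f a1 w' = 0 := by rw [hR.symm hf hw' ha1]; exact hw'a1
  have ha2w' : f a2 w' = 0 := by rw [hR.symm hf hw' ha2]; exact hw'a2
  have haw' : f a w' = 0 := by
    rw [hadec, hf.add_left, hf.smul_left, ha1w', ha2w', mul_zero, add_zero]
  obtain ⟨y, hy⟩ : ∃ y, y = ((g⁻¹ : GL ι F) : Matrix ι ι F) *ᵥ w' := ⟨_, rfl⟩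
  have hgy : (g : Matrix ι ι F) *ᵥ y = w' := by rw [hy, gl_apply_inv_apply]
  have hynot : ∀ c : F, y ≠ c • u := by
    intro c hyc
    have h1 : w' = c • a := by rw [← hgy, hyc, Matrix.mulVec_smul, ← ha]
    have hc0 : c ≠ 0 := by
      rintro rfl
      rw [zero_smul] at h1
      exact hw'0 h1
    apply hnr
    refine ⟨c⁻¹, w', hw', ?_⟩
    rw [← ha, h1, smul_smul, inv_mul_cancel₀ hc0, one_smul]
  obtain ⟨y1, y2, hy1, hy2, hydec⟩ := rat_decomp hf.involutive hR.fix P hσθne y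
  obtain ⟨w0, hw0, hw0u, hw0y⟩ : ∃ w0, RatVec F₀ P w0 ∧ f w0 u = 0 ∧ f w0 y ≠ 0 := by
    by_cases hi1 : ∀ s t : F, s • u + t • y1 = 0 → s = 0 ∧ t = 0
    · obtain ⟨w0, hw0, h01, h02⟩ := hR.exists_dual2 hf hn7 hu hy1 hi1 F₀.zero_mem F₀.one_mem
      refine ⟨w0, hw0, h01, ?_⟩
      intro h0
      rw [hydec, uf_add_right hf, uf_smul_right hf, h02] at h0
      have hβ : f w0 y2 ∈ F₀ := hR.form _ _ hw0 hy2
      have h3 := fld_decomp_unique hR.fix (ω := σ θ) hσσθne F₀.one_mem hβ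
        (by rw [h0]; exact F₀.zero_mem)
      rw [h3, mul_zero, add_zero] at h0
      exact one_ne_zero h0
    · obtain ⟨k1, hk1⟩ := dep_smul hu0 hi1
      by_cases hi2 : ∀ s t : F, s • u + t • y2 = 0 → s = 0 ∧ t = 0
      · obtain ⟨w0, hw0, h01, h02⟩ :=
          hR.exists_dual2 hf hn7 hu hy2 hi2 F₀.zero_mem F₀.one_mem
        refine ⟨w0, hw0, h01, ?_⟩
        rw [hydec, uf_add_right hf, uf_smul_right hf, h02, hk1, uf_smul_right hf, h01, mul_zero,
          zero_add, mul_one, hσθ]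
        exact neg_ne_zero.2 hθ0
      · obtain ⟨k2, hk2⟩ := dep_smul hu0 hi2
        exfalso
        apply hynot (k1 + θ * k2)
        rw [hydec, hk1, hk2, smul_smul, add_smul]
  obtain ⟨b, hb⟩ : ∃ b, b = (g : Matrix ι ι F) *ᵥ w0 := ⟨_, rfl⟩
  have huw0 : f u w0 = 0 := uf_eq_zero_symm hf hw0u
  have hab : f a b = 0 := by rw [ha, hb, hgI]; exact huw0
  have hbw' : f b w' ≠ 0 := by rw [hb, ← hgy, hgI]; exact hw0y
  obtain ⟨c0, hc0⟩ : ∃ c0, c0 = -(f w0 w0) / 2 := ⟨_, rfl⟩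
  have hτM : usg hf a b c0 ∈ M := by
    have h1 : usg hf u w0 c0 ∈ M := by
      rw [hc0]
      exact hHM (usg_mem_K hf hR h2 G hG hu hw0 huu huw0)
    have h3 := conj_usg hf g hgI huu huw0 c0
    rw [← ha, ← hb] at h3
    rw [← h3]
    exact M.mul_mem (M.mul_mem hgM h1) (M.inv_mem hgM)
  obtain ⟨b1, b2, hb1, hb2, hbdec⟩ := rat_decomp hf.involutive hR.fix P hσθne b
  obtain ⟨d1, hd1, hd11, hd12⟩ :=
    hR.exists_dual2 hf hn7 ha1 ha2 hindep F₀.one_mem F₀.zero_mem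
  obtain ⟨d2, hd2, hd21, hd22⟩ :=
    hR.exists_dual2 hf hn7 ha1 ha2 hindep F₀.zero_mem F₀.one_mem
  obtain ⟨u', hu', hu'0, hu'u', p1, p2, p3, p4, p5, p6, p7⟩ :=
    rat_sing_perp7 hf hR (by omega) ha1 ha2 hw' hb1 hb2 hd1 hd2
  have hau' : f a u' = 0 := by
    rw [hadec, hf.add_left, hf.smul_left, hR.symm hf hu' ha1, hR.symm hf hu' ha2, p1, p2,
      mul_zero, add_zero]
  have hbu' : f b u' = 0 := by
    rw [hbdec, hf.add_left, hf.smul_left, hR.symm hf hu' hb1, hR.symm hf hu' hb2, p4, p5,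
      mul_zero, add_zero]
  have hu'a : f u' a = 0 := uf_eq_zero_symm hf hau'
  have hE'M : usg hf u' w' 0 ∈ M := by
    have h1 := hHM (usg_mem_K hf hR h2 G hG hu' hw' hu'u' p3)
    rwa [hw'w', neg_zero, zero_div] at h1
  have hcross := usg_comm_cross hf haa hab hu'u' p3 hau' haw' hbu' c0 (c' := 0)
    (by rw [map_zero, hw'w']; ring)
  have hρM : usg hf a ((-(f b w')) • u') 0 ∈ M := by
    have h1 : usg hf a ((-(f b w')) • u') 0
        = usg hf u' w' 0 * usg hf a b c0 * (usg hf u' w' 0)⁻¹ * (usg hf a b c0)⁻¹ := by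
      rw [hcross, mul_inv_cancel_right]
    rw [h1]
    exact M.mul_mem (M.mul_mem (M.mul_mem hE'M hτM) (M.inv_mem hE'M)) (M.inv_mem hτM)
  rw [usg_swap hf haa hu'u' hau'] at hρM
  obtain ⟨κ, hκ⟩ : ∃ κ, κ = -σ (-(f b w')) := ⟨_, rfl⟩
  rw [← hκ] at hρM
  have hκ0 : κ ≠ 0 := by
    rw [hκ, map_neg, neg_neg]
    intro h0
    apply hbw'
    have h3 := congrArg σ h0
    rwa [hf.involutive, map_zero] at h3
  have hu'κa : f u' (κ • a) = 0 := by rw [uf_smul_right hf, hu'a, mul_zero]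
  have had1 : f a d1 = 1 := by
    rw [hadec, hf.add_left, hf.smul_left, hR.symm hf hd1 ha1, hR.symm hf hd1 ha2, hd11, hd12,
      mul_zero, add_zero]
  have had2 : f a d2 = θ := by
    rw [hadec, hf.add_left, hf.smul_left, hR.symm hf hd2 ha1, hR.symm hf hd2 ha2, hd21, hd22,
      mul_one, zero_add]
  have hgen : ∀ w, RatVec F₀ P w → f u' w = 0 →
      uref hf u' (f (κ • a) w - f w (κ • a)) ∈ M := by
    intro w hw hu'w
    have hEw : usg hf u' w (-(f w w) / 2) ∈ M :=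
      hHM (usg_mem_K hf hR h2 G hG hu' hw hu'u' hu'w)
    have hcomm := usg_comm hf hu'u' hu'κa hu'w 0 (-(f w w) / 2)
    have h1 : uref hf u' (f (κ • a) w - f w (κ • a))
        = usg hf u' (κ • a) 0 * usg hf u' w (-(f w w) / 2)
          * (usg hf u' w (-(f w w) / 2) * usg hf u' (κ • a) 0)⁻¹ := by
      rw [hcomm, mul_inv_cancel_right]
    rw [h1]
    exact M.mul_mem (M.mul_mem hρM hEw) (M.inv_mem (M.mul_mem hEw hρM))
  by_cases hκσ : σ κ = κ
  · refine ⟨u', f (κ • a) d2 - f d2 (κ • a), hu', hu'0, hu'u', ?_, ?_, hgen d2 hd2 p7⟩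
    · rw [hf.herm d2 (κ • a), hf.smul_left, had2, map_mul, hκσ, hσθ]
      intro h0
      have h4 : (2 : F) * (κ * θ) = 0 := by linear_combination h0
      exact (mul_ne_zero h2 (mul_ne_zero hκ0 hθ0)) h4
    · rw [hf.herm d2 (κ • a), map_sub, hf.involutive]
      ring
  · refine ⟨u', f (κ • a) d1 - f d1 (κ • a), hu', hu'0, hu'u', ?_, ?_, hgen d1 hd1 p6⟩
    · rw [hf.herm d1 (κ • a), hf.smul_left, had1, mul_one]
      intro h0
      exact hκσ (by linear_combination -h0)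
    · rw [hf.herm d1 (κ • a), map_sub, hf.involutive]
      ring

/-- **Orthogonal subfield subgroups of the special unitary group are maximal** (odd
characteristic, dimension at least 13). -/
theorem usub_o_max [Finite F] (hf : IsUnitaryForm σ f) (h2 : (2 : F) ≠ 0)
    (hn : 13 ≤ Fintype.card ι) (hR : RatStrO σ f F₀ P) (G : Subgroup (GL ι F))
    (hG : ∀ g, g ∈ G ↔ Isom f g ∧ g ∈ specialLinear ι F) :
    IsMaximalIn G (subfieldSubgroup F₀ P ⊓ G) := by
  have hn7 : 7 ≤ Fintype.card ι := by omega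
  have hTG : ∀ t ∈ TU hf, t ∈ G := fun t ht => (hG t).2 ⟨TU_isom hf t ht, TU_le_SL hf ht⟩
  constructor
  · refine SetLike.lt_iff_le_and_exists.2 ⟨inf_le_right, ?_⟩
    obtain ⟨u, hu, hu0, huu⟩ := rat_sing_exists hf hR (by omega)
    obtain ⟨v, hv, hvv, hvu⟩ := rat_partner hf hR h2 hu hu0 huu
    obtain ⟨z, hz0, hz⟩ := uf_exists_theta hf
    refine ⟨uref hf u z, hTG _ (uref_mem_TU hf huu hz), ?_⟩
    rintro ⟨hsub, _⟩
    obtain ⟨lam, hlam0, hmap⟩ := mem_subfield_imp hsub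
    obtain ⟨y1, hy1R, hy1⟩ := hmap u hu
    rw [uref_apply_iso hf u z huu, huu, mul_zero, zero_smul, add_zero] at hy1
    have hy1' : y1 = lam⁻¹ • u := by
      rw [hy1, smul_smul, inv_mul_cancel₀ hlam0, one_smul]
    rw [hy1'] at hy1R
    have hlamF : lam⁻¹ ∈ F₀ := ratVec_smul_mem hu hu0 hy1R
    have hlamF' : lam ∈ F₀ := by
      have := F₀.inv_mem hlamF
      rwa [inv_inv] at this
    obtain ⟨y2, hy2R, hy2⟩ := hmap v hv
    rw [uref_apply_iso hf u z huu, hvu, mul_one] at hy2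
    have h3 : RatVec F₀ P (z • u) := by
      have h4 : z • u = lam • y2 - v := by rw [← hy2]; abel
      rw [h4]
      exact (RatVec.smul hlamF' hy2R).sub hv
    have hzF : z ∈ F₀ := ratVec_smul_mem hu hu0 h3
    have hσz : σ z = z := (hR.fix z).1 hzF
    rw [hσz] at hz
    have h5 : (2 : F) * z = 0 := by linear_combination hz
    exact hz0 ((mul_eq_zero.1 h5).resolve_left h2)
  · intro M hHM hMG
    by_cases hMH : M ≤ subfieldSubgroup F₀ P ⊓ G
    · left; exact le_antisymm hMH hHM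
    · right
      apply le_antisymm hMG
      obtain ⟨g, hgM, hgH⟩ := SetLike.not_le_iff_exists.1 hMH
      have hMI : ∀ m ∈ M, Isom f m := fun m hm => ((hG m).1 (hMG hm)).1
      have hgS : g ∉ subfieldSubgroup F₀ P := fun h => hgH ⟨h, hMG hgM⟩
      have hRR : ∀ x y, RatVec F₀ P x → RatVec F₀ P y → f x x ≠ 0 → f y y ≠ 0 →
          rrefl hf x * rrefl hf y ∈ M :=
        fun x y hx hy hxx hyy => hHM (rr_mem_K hf hR G hG hx hy hxx hyy)
      obtain ⟨u', z, hu', hu'0, hu'u', hz0, hz, hzM⟩ :=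
        exists_tv_of_nonrat hf hR h2 hn G hG M hHM hMI g hgM hgS
      have hC0 : UCtr hf M u' := uctr_of_tv hf hR h2 M hRR hu' hu'0 hu'u' hz0 hz hzM
      have hCrat := uctr_rat_all hf hR h2 hn7 M hMI hRR hu' hu'0 hC0
      have hAll := uctr_all hf hR h2 hn7 M hCrat
      intro g' hg'
      have hTM : TU hf ≤ M := by
        unfold TU
        rw [Subgroup.closure_le]
        rintro t ⟨a, c, ha, hc, rfl⟩
        exact (hAll a ha).2 c hc
      obtain ⟨hI', hS'⟩ := (hG g').1 hg'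
      exact hTM (isom_SL_mem_TU hf hn7 g' hI' hS')

end Cfsg.Agent.Helper93
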