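import Cfsg.Agent.Lib.Helper93.ULin
import Cfsg.Agent.Lib.Helper93.SpPair

set_option autoImplicit false
set_option linter.unusedSectionVars false

namespace Cfsg.Agent.Helper93

open Matrix Cfsg.Geo

variable {ι : Type} [Fintype ι] [DecidableEq ι] {F : Type*} [Field F]
variable {σ : F ≃+* F} {f : (ι → F) → (ι → F) → F}

lemma TIPair.uexists_pair (hf : IsUnitaryForm σ f) {A B : Submodule F (ι → F)}
    (h : TIPair f A B) {a : ι → F} (ha : a ∈ A) (ha0 : a ≠ 0) : ∃ b ∈ B, f a b ≠ 0 := by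
  obtain ⟨_, ⟨z, hz⟩⟩ := hf.nondegenerate a ha0
  obtain ⟨u, hu, v, hv, rfl⟩ := h.split z
  refine ⟨v, hv, ?_⟩
  rwa [uf_add_right hf, h.tiA a ha u hu, zero_add] at hz

lemma TIPair.udual (hf : IsUnitaryForm σ f) {A B : Submodule F (ι → F)} (h : TIPair f A B)
    {a x : ι → F} (ha : a ∈ A) (hx : x ∈ A) (hker : ∀ b ∈ B, f a b = 0 → f x b = 0) :
    ∃ c : F, x = c • a := by
  have hzero : ∀ z ∈ A, (∀ b ∈ B, f z b = 0) → z = 0 := by
    intro z hz hzb
    by_contra hne
    obtain ⟨b, hbB, hb'⟩ := h.uexists_pair hf hz hne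
    exact hb' (hzb b hbB)
  by_cases ha0 : a = 0
  · refine ⟨0, ?_⟩
    rw [zero_smul]
    apply hzero x hx
    intro b hbB
    apply hker b hbB
    rw [ha0, uf_zero_left hf]
  · obtain ⟨b1, hb1, hab1⟩ := h.uexists_pair hf ha ha0
    refine ⟨f x b1 / f a b1, ?_⟩
    have hz : x - (f x b1 / f a b1) • a = 0 := by
      apply hzero _ (A.sub_mem hx (A.smul_mem _ ha))
      intro b hbB
      have h1 : f a (b - σ (f a b / f a b1) • b1) = 0 := by
        rw [uf_sub_right hf, uf_smul_right hf, hf.involutive, div_mul_cancel₀ _ hab1, sub_self]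
      have h2 := hker _ (B.sub_mem hbB (B.smul_mem _ hb1)) h1
      rw [uf_sub_right hf, uf_smul_right hf, hf.involutive] at h2
      rw [uf_sub_left hf, hf.smul_left]
      have e : f x b1 / f a b1 * f a b = f a b / f a b1 * f x b1 := by ring
      rw [e]
      exact h2
    exact sub_eq_zero.mp hz

theorem conj_usieg (hf : IsUnitaryForm σ f) (p : GL ι F) (hp : Isom f p) (a b : ι → F)
    (c lam : F) :
    p * usieg hf a b c lam * p⁻¹
      = usieg hf ((p : Matrix ι ι F) *ᵥ a) ((p : Matrix ι ι F) *ᵥ b) c lam := by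
  unfold usieg
  rw [← conj_uref hf p hp a (-c), ← conj_uref hf p hp b (-(c * lam * σ lam)),
    ← Matrix.mulVec_smul, ← Matrix.mulVec_add, ← conj_uref hf p hp (a + lam • b) c]
  group

lemma usieg_maps_left (hf : IsUnitaryForm σ f) {A B : Submodule F (ι → F)} (h : TIPair f A B)
    {a b : ι → F} (ha : a ∈ A) (hb : b ∈ B) (hab : f a b = 0) (c lam : F) :
    ∀ x ∈ A, ((usieg hf a b c lam : GL ι F) : Matrix ι ι F) *ᵥ x ∈ A := by
  intro x hx
  rw [usieg_apply hf (h.tiA a ha a ha) (h.tiB b hb b hb) hab, h.tiA x hx a ha, mul_zero,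
    zero_smul, add_zero]
  exact A.add_mem hx (A.smul_mem _ ha)

lemma usieg_maps_right (hf : IsUnitaryForm σ f) {A B : Submodule F (ι → F)} (h : TIPair f A B)
    {a b : ι → F} (ha : a ∈ A) (hb : b ∈ B) (hab : f a b = 0) (c lam : F) :
    ∀ x ∈ B, ((usieg hf a b c lam : GL ι F) : Matrix ι ι F) *ᵥ x ∈ B := by
  intro x hx
  rw [usieg_apply hf (h.tiA a ha a ha) (h.tiB b hb b hb) hab, h.tiB x hx b hb, mul_zero,
    zero_smul, add_zero]
  exact B.add_mem hx (B.smul_mem _ hb)

lemma usieg_comm (hf : IsUnitaryForm σ f) {a b y : ι → F} (ha : f a a = 0) (hb : f b b = 0)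
    (hy : f y y = 0) (hab : f a b = 0) (hay : f a y = 0) (θ lam μ : F) :
    usieg hf a b θ lam * usieg hf a y θ μ
      = uref hf a (θ * θ * (σ lam * μ * f y b - lam * σ μ * f b y))
        * (usieg hf a y θ μ * usieg hf a b θ lam) := by
  have hba : f b a = 0 := uf_eq_zero_symm hf hab
  have hya : f y a = 0 := uf_eq_zero_symm hf hay
  apply gl_ext
  intro x
  simp only [gl_mul_apply, fun c x => uref_apply_iso hf a c ha x,
    fun c lam x => usieg_apply hf ha hb hab c lam x, fun c lam x => usieg_apply hf ha hy hay c lam x]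
  simp only [hf.add_left, hf.smul_left, ha, hab, hba, hay, hya, mul_zero, add_zero, zero_add]
  ext i
  simp only [Pi.add_apply, Pi.smul_apply, smul_eq_mul]
  ring

lemma uctr_of_comm (hf : IsUnitaryForm σ f) (M : Subgroup (GL ι F)) {θ : F} (hθ0 : θ ≠ 0)
    (hθ : θ + σ θ = 0) {a b y : ι → F} (ha : f a a = 0) (hb : f b b = 0) (hy : f y y = 0)
    (hab : f a b = 0) (hay : f a y = 0) (hyb : f y b ≠ 0)
    (hMb : ∀ lam : F, usieg hf a b θ lam ∈ M) (hMy : ∀ μ : F, usieg hf a y θ μ ∈ M) :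
    UCtr hf M a := by
  refine ⟨ha, fun c hc => ?_⟩
  have hσθ : σ θ = -θ := by linear_combination hθ
  have hσc : σ c = -c := by linear_combination hc
  have hθ3 : θ * θ * θ ≠ 0 := mul_ne_zero (mul_ne_zero hθ0 hθ0) hθ0
  have hfix : σ (c / (θ * θ * θ)) = c / (θ * θ * θ) := by
    rw [map_div₀, map_mul, map_mul, hσθ, hσc]
    have e : -θ * -θ * -θ = -(θ * θ * θ) := by ring
    rw [e, neg_div_neg_eq]
  obtain ⟨w, hw⟩ := uf_trace_surj hf _ hfix
  obtain ⟨μ, hμ⟩ : ∃ μ, μ = θ * w / f y b := ⟨_, rfl⟩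
  have h1 := usieg_comm hf ha hb hy hab hay θ 1 μ
  have e1 : μ * f y b = θ * w := by rw [hμ]; exact div_mul_cancel₀ _ hyb
  have e2 : σ μ * f b y = -θ * σ w := by
    rw [hf.herm b y, ← map_mul, e1, map_mul, hσθ]
  have h3 : θ * θ * (σ 1 * μ * f y b - 1 * σ μ * f b y) = c := by
    rw [map_one, one_mul, one_mul, e1, e2]
    have e : θ * θ * (θ * w - -θ * σ w) = (w + σ w) * (θ * θ * θ) := by ring
    rw [e, hw, div_mul_cancel₀ _ hθ3]
  rw [h3] at h1
  have h4 : uref hf a c = usieg hf a b θ 1 * usieg hf a y θ μ *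
      (usieg hf a y θ μ * usieg hf a b θ 1)⁻¹ := by
    rw [h1, mul_inv_cancel_right]
  rw [h4]
  exact M.mul_mem (M.mul_mem (hMb 1) (hMy μ)) (M.inv_mem (M.mul_mem (hMy μ) (hMb 1)))

/-- the part of `A` perpendicular to `e` -/
def ucut (hf : IsUnitaryForm σ f) (A : Submodule F (ι → F)) (e : ι → F) :
    Submodule F (ι → F) where
  carrier := {x | x ∈ A ∧ f x e = 0}
  add_mem' := by
    rintro a b ⟨ha, ha1⟩ ⟨hb, hb1⟩
    exact ⟨A.add_mem ha hb, by rw [hf.add_left, ha1, hb1, add_zero]⟩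
  zero_mem' := ⟨A.zero_mem, uf_zero_left hf _⟩
  smul_mem' := by
    rintro c a ⟨ha, ha1⟩
    exact ⟨A.smul_mem c ha, by rw [hf.smul_left, ha1, mul_zero]⟩

lemma uref_fix (hf : IsUnitaryForm σ f) (u : ι → F) (c : F) (hu : f u u = 0) (x : ι → F)
    (h : f x u = 0) : ((uref hf u c : GL ι F) : Matrix ι ι F) *ᵥ x = x := by
  rw [uref_apply_iso hf u c hu, h, mul_zero, zero_smul, add_zero]

/-- an element of the transvection group interchanging two totally isotropic subspaces in
duality -/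
theorem exists_upair_swap (hf : IsUnitaryForm σ f) :
    ∀ n : ℕ, ∀ A B : Submodule F (ι → F), Module.finrank F A = n →
      IsTotallySingularFor f A → IsTotallySingularFor f B →
      (∀ a ∈ A, a ≠ 0 → ∃ b ∈ B, f a b ≠ 0) → (∀ b ∈ B, b ≠ 0 → ∃ a ∈ A, f a b ≠ 0) →
      ∃ s ∈ TU hf, (∀ x ∈ A, (s : Matrix ι ι F) *ᵥ x ∈ B) ∧
        (∀ x ∈ B, (s : Matrix ι ι F) *ᵥ x ∈ A) ∧
        (∀ x, (∀ a ∈ A, f x a = 0) → (∀ b ∈ B, f x b = 0) → (s : Matrix ι ι F) *ᵥ x = x) := by
  obtain ⟨θ, hθ0, hθ⟩ := uf_exists_theta hf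
  have hσθ : σ θ = -θ := by linear_combination hθ
  obtain ⟨c', hc'def⟩ : ∃ c' : F, c' = -θ⁻¹ := ⟨_, rfl⟩
  have hcc : θ * c' = -1 := by rw [hc'def, mul_neg, mul_inv_cancel₀ hθ0]
  have hc' : c' + σ c' = 0 := by
    rw [hc'def, map_neg, map_inv₀, hσθ, inv_neg, neg_neg, neg_add_cancel]
  intro n
  induction n using Nat.strong_induction_on with
  | _ n ih =>
    intro A B hn htA htB hAB hBA
    by_cases hA : ∀ a ∈ A, a = 0
    · refine ⟨1, (TU hf).one_mem, ?_, ?_, ?_⟩
      · intro x hx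
        rw [gl_one_apply, hA x hx]
        exact B.zero_mem
      · intro x hx
        have hx0 : x = 0 := by
          by_contra hne
          obtain ⟨a, ha, hab⟩ := hBA x hx hne
          rw [hA a ha, uf_zero_left hf] at hab
          exact hab rfl
        rw [gl_one_apply, hx0]
        exact A.zero_mem
      · intro x _ _
        exact gl_one_apply x
    · push Not at hA
      obtain ⟨a, haA, ha0⟩ := hA
      obtain ⟨b0, hb0B, hab0⟩ := hAB a haA ha0
      obtain ⟨b, hbB, hab⟩ : ∃ b ∈ B, f a b = 1 :=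
        ⟨(σ ((f a b0)⁻¹)) • b0, B.smul_mem _ hb0B, by
          rw [uf_smul_right hf, hf.involutive, inv_mul_cancel₀ hab0]⟩
      have hba : f b a = 1 := by rw [hf.herm b a, hab, map_one]
      have haa : f a a = 0 := htA a haA a haA
      have hbb : f b b = 0 := htB b hbB b hbB
      have hlt : ucut hf A b < A := by
        refine SetLike.lt_iff_le_and_exists.2 ⟨fun x hx => hx.1, a, haA, fun h => ?_⟩
        have h1 : f a b = 0 := h.2
        rw [hab] at h1
        exact one_ne_zero h1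
      have hfin : Module.finrank F (ucut hf A b) < n := by
        rw [← hn]
        exact Submodule.finrank_lt_finrank_of_lt hlt
      obtain ⟨s', hs'T, hs'A, hs'B, hs'fix⟩ := ih _ hfin (ucut hf A b) (ucut hf B a) rfl
        (fun u hu v hv => htA u hu.1 v hv.1) (fun u hu v hv => htB u hu.1 v hv.1)
        (by
          intro a' ha' hne
          obtain ⟨b1, hb1B, h1⟩ := hAB a' ha'.1 hne
          have hmem : b1 - f b1 a • b ∈ B := B.sub_mem hb1B (B.smul_mem _ hbB)
          have hperp : f (b1 - f b1 a • b) a = 0 := by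
            rw [uf_sub_left hf, hf.smul_left, hba, mul_one, sub_self]
          refine ⟨b1 - f b1 a • b, ⟨hmem, hperp⟩, ?_⟩
          rw [uf_sub_right hf, uf_smul_right hf, ha'.2, mul_zero, sub_zero]
          exact h1)
        (by
          intro b' hb' hne
          obtain ⟨a1, ha1A, h1⟩ := hBA b' hb'.1 hne
          have hmem : a1 - f a1 b • a ∈ A := A.sub_mem ha1A (A.smul_mem _ haA)
          have hperp : f (a1 - f a1 b • a) b = 0 := by
            rw [uf_sub_left hf, hf.smul_left, hab, mul_one, sub_self]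
          refine ⟨a1 - f a1 b • a, ⟨hmem, hperp⟩, ?_⟩
          have hab' : f a b' = 0 := uf_eq_zero_symm hf hb'.2
          rw [uf_sub_left hf, hf.smul_left, hab', mul_zero, sub_zero]
          exact h1)
      have hs'a : (s' : Matrix ι ι F) *ᵥ a = a := by
        apply hs'fix
        · intro a' ha'; exact htA a haA a' ha'.1
        · intro b' hb'; exact uf_eq_zero_symm hf hb'.2
      have hs'b : (s' : Matrix ι ι F) *ᵥ b = b := by
        apply hs'fix
        · intro a' ha'; exact uf_eq_zero_symm hf ha'.2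
        · intro b' hb'; exact htB b hbB b' hb'.1
      obtain ⟨w, hw⟩ : ∃ w : GL ι F, w = uref hf a θ * uref hf b c' * uref hf a θ := ⟨_, rfl⟩
      have hwT : w ∈ TU hf := by
        rw [hw]
        exact (TU hf).mul_mem ((TU hf).mul_mem (uref_mem_TU hf haa hθ) (uref_mem_TU hf hbb hc'))
          (uref_mem_TU hf haa hθ)
      have hwfix : ∀ x, f x a = 0 → f x b = 0 → (w : Matrix ι ι F) *ᵥ x = x := by
        intro x hxa hxb
        rw [hw, gl_mul_apply, gl_mul_apply, uref_fix hf a θ haa x hxa, uref_fix hf b c' hbb x hxb,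
          uref_fix hf a θ haa x hxa]
      have hwa : (w : Matrix ι ι F) *ᵥ a = c' • b := by
        rw [hw, gl_mul_apply, gl_mul_apply]
        simp only [fun c x => uref_apply_iso hf a c haa x, fun c x => uref_apply_iso hf b c hbb x,
          hf.add_left, hf.smul_left, haa, hbb, hab, hba]
        ext i
        simp only [Pi.add_apply, Pi.smul_apply, smul_eq_mul]
        linear_combination (a i) * hcc
      have hwb : (w : Matrix ι ι F) *ᵥ b = θ • a := by
        rw [hw, gl_mul_apply, gl_mul_apply]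
        simp only [fun c x => uref_apply_iso hf a c haa x, fun c x => uref_apply_iso hf b c hbb x,
          hf.add_left, hf.smul_left, haa, hbb, hab, hba]
        ext i
        simp only [Pi.add_apply, Pi.smul_apply, smul_eq_mul]
        linear_combination (b i + θ * a i) * hcc
      refine ⟨s' * w, (TU hf).mul_mem hs'T hwT, ?_, ?_, ?_⟩
      · intro x hx
        have h1 : f (x - f x b • a) a = 0 := htA _ (A.sub_mem hx (A.smul_mem _ haA)) a haA
        have h2 : f (x - f x b • a) b = 0 := by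
          rw [uf_sub_left hf, hf.smul_left, hab, mul_one, sub_self]
        have hmem : x - f x b • a ∈ ucut hf A b := ⟨A.sub_mem hx (A.smul_mem _ haA), h2⟩
        have e : ((s' * w : GL ι F) : Matrix ι ι F) *ᵥ x
            = (s' : Matrix ι ι F) *ᵥ (x - f x b • a) + f x b • (c' • b) := by
          have hx' : x = (x - f x b • a) + f x b • a := (sub_add_cancel x _).symm
          conv_lhs => rw [hx']
          rw [gl_mul_apply, Matrix.mulVec_add, Matrix.mulVec_smul, hwfix _ h1 h2, hwa,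
            Matrix.mulVec_add, Matrix.mulVec_smul, Matrix.mulVec_smul, hs'b]
        rw [e]
        exact B.add_mem (hs'A _ hmem).1 (B.smul_mem _ (B.smul_mem _ hbB))
      · intro x hx
        have h1 : f (x - f x a • b) b = 0 := htB _ (B.sub_mem hx (B.smul_mem _ hbB)) b hbB
        have h2 : f (x - f x a • b) a = 0 := by
          rw [uf_sub_left hf, hf.smul_left, hba, mul_one, sub_self]
        have hmem : x - f x a • b ∈ ucut hf B a := ⟨B.sub_mem hx (B.smul_mem _ hbB), h2⟩
        have e : ((s' * w : GL ι F) : Matrix ι ι F) *ᵥ x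
            = (s' : Matrix ι ι F) *ᵥ (x - f x a • b) + f x a • (θ • a) := by
          have hx' : x = (x - f x a • b) + f x a • b := (sub_add_cancel x _).symm
          conv_lhs => rw [hx']
          rw [gl_mul_apply, Matrix.mulVec_add, Matrix.mulVec_smul, hwfix _ h2 h1, hwb,
            Matrix.mulVec_add, Matrix.mulVec_smul, Matrix.mulVec_smul, hs'a]
        rw [e]
        exact A.add_mem (hs'B _ hmem).1 (A.smul_mem _ (A.smul_mem _ haA))
      · intro x hxA hxB
        rw [gl_mul_apply, hwfix x (hxA a haA) (hxB b hbB)]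
        exact hs'fix x (fun a' ha' => hxA a' ha'.1) (fun b' hb' => hxB b' hb'.1)

lemma uexists_ne_zero_perp3 (hf : IsUnitaryForm σ f) (S : Submodule F (ι → F))
    (hS : 4 ≤ Module.finrank F S) (u1 u2 u3 : ι → F) :
    ∃ x ∈ S, x ≠ 0 ∧ f x u1 = 0 ∧ f x u2 = 0 ∧ f x u3 = 0 := by
  have e1 := finrank_le_inf_ker_succ S (uflin hf u1)
  have e2 := finrank_le_inf_ker_succ (S ⊓ LinearMap.ker (uflin hf u1)) (uflin hf u2)
  have e3 := finrank_le_inf_ker_succ ((S ⊓ LinearMap.ker (uflin hf u1)) ⊓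
    LinearMap.ker (uflin hf u2)) (uflin hf u3)
  have hne : ((S ⊓ LinearMap.ker (uflin hf u1)) ⊓
      LinearMap.ker (uflin hf u2)) ⊓ LinearMap.ker (uflin hf u3) ≠ ⊥ := by
    intro h
    rw [h, finrank_bot] at e3
    omega
  obtain ⟨x, hx, hx0⟩ := Submodule.exists_mem_ne_zero_of_ne_bot hne
  obtain ⟨hx', h3⟩ := Submodule.mem_inf.1 hx
  obtain ⟨hx'', h2⟩ := Submodule.mem_inf.1 hx'
  obtain ⟨hxS, h1⟩ := Submodule.mem_inf.1 hx''
  have h1' : f x u1 = 0 := by
    have := LinearMap.mem_ker.1 h1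
    rwa [uflin_apply] at this
  have h2' : f x u2 = 0 := by
    have := LinearMap.mem_ker.1 h2
    rwa [uflin_apply] at this
  have h3' : f x u3 = 0 := by
    have := LinearMap.mem_ker.1 h3
    rwa [uflin_apply] at this
  exact ⟨x, hxS, hx0, h1', h2', h3'⟩

end Cfsg.Agent.Helper93
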