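import Cfsg.Agent.Lib.Helper93.UPair

set_option autoImplicit false
set_option linter.unusedSectionVars false

namespace Cfsg.Agent.Helper93

open Matrix Cfsg.Geo

variable {ι : Type} [Fintype ι] [DecidableEq ι] {F : Type*} [Field F]
variable {σ : F ≃+* F} {f : (ι → F) → (ι → F) → F}

theorem upair_stab_max [Finite F] (hf : IsUnitaryForm σ f) (hn : 7 ≤ Fintype.card ι) {k : ℕ}
    (hk : 4 ≤ k) (D : Fin 2 → Submodule F (ι → F)) (hD : IsMDecomposition k D)
    (hts : ∀ i, IsTotallySingularFor f (D i)) (G : Subgroup (GL ι F))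
    (hG : ∀ g, g ∈ G ↔ Isom f g ∧ g ∈ specialLinear ι F) :
    IsMaximalIn G (decompositionStabilizer D ⊓ G) := by
  obtain ⟨θ, hθ0, hθ⟩ := uf_exists_theta hf
  have hσθ : σ θ = -θ := by linear_combination hθ
  have hP : ∀ i j : Fin 2, i ≠ j → TIPair f (D i) (D j) :=
    fun i j hij => tipair_of_decomp hD hts i j hij
  have h01 : (0 : Fin 2) ≠ 1 := by decide
  have hnz : ∀ i : Fin 2, ∃ a ∈ D i, a ≠ 0 := by
    intro i
    apply Submodule.exists_mem_ne_zero_of_ne_bot
    intro h
    have h1 := hD.finrank_eq i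
    rw [h, finrank_bot] at h1
    omega
  have hfr : ∀ i j : Fin 2, Module.finrank F (D i) = Module.finrank F (D j) := by
    intro i j
    rw [hD.finrank_eq, hD.finrank_eq]
  have hTG : ∀ t ∈ TU hf, t ∈ G := fun t ht => (hG t).2 ⟨TU_isom hf t ht, TU_le_SL hf ht⟩
  have hpres : ∀ g ∈ G,
      (∀ i, ∀ x ∈ D i, (g : Matrix ι ι F) *ᵥ x ∈ D i) → g ∈ decompositionStabilizer D ⊓ G := by
    intro g hg hmap
    refine ⟨⟨1, fun i => ?_⟩, hg⟩
    rw [Equiv.Perm.one_apply]
    exact map_eq_of_le_of_finrank g (D i) (D i) (hmap i) rfl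
  have hswapmem : ∀ g ∈ G, (∀ x ∈ D 0, (g : Matrix ι ι F) *ᵥ x ∈ D 1) →
      (∀ x ∈ D 1, (g : Matrix ι ι F) *ᵥ x ∈ D 0) → g ∈ decompositionStabilizer D ⊓ G := by
    intro g hg h0 h1
    refine ⟨⟨Equiv.swap 0 1, fun i => ?_⟩, hg⟩
    by_cases hi : i = 0
    · rw [hi, Equiv.swap_apply_left]
      exact map_eq_of_le_of_finrank g (D 0) (D 1) h0 (hfr 0 1)
    · have hi1 : i = 1 := fin2_eq_of_ne hi h01
      rw [hi1, Equiv.swap_apply_right]
      exact map_eq_of_le_of_finrank g (D 1) (D 0) h1 (hfr 1 0)
  have hsiegH : ∀ i j : Fin 2, i ≠ j → ∀ a ∈ D i, ∀ b ∈ D j, f a b = 0 → ∀ lam : F,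
      usieg hf a b θ lam ∈ decompositionStabilizer D ⊓ G := by
    intro i j hij a ha b hb' hab lam
    have haa := hts i a ha a ha
    have hbb := hts j b hb' b hb'
    apply hpres _ (hTG _ (usieg_mem_TU hf haa hbb hab hθ lam))
    intro l x hx
    by_cases hl : l = i
    · rw [hl] at hx ⊢
      exact usieg_maps_left hf (hP i j hij) ha hb' hab θ lam x hx
    · have hlj : l = j := fin2_eq_of_ne hl hij
      rw [hlj] at hx ⊢
      exact usieg_maps_right hf (hP i j hij) ha hb' hab θ lam x hx
  constructor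
  · refine SetLike.lt_iff_le_and_exists.2 ⟨inf_le_right, ?_⟩
    obtain ⟨a, haA, ha0⟩ := hnz 0
    obtain ⟨b0, hb0, hab0⟩ := (hP 0 1 h01).uexists_pair hf haA ha0
    obtain ⟨b, hbB, hab⟩ : ∃ b ∈ D 1, f a b = 1 :=
      ⟨(σ ((f a b0)⁻¹)) • b0, (D 1).smul_mem _ hb0, by
        rw [uf_smul_right hf, hf.involutive, inv_mul_cancel₀ hab0]⟩
    have hba : f b a = 1 := by rw [hf.herm b a, hab, map_one]
    have haa := hts 0 a haA a haA
    have hbb := hts 1 b hbB b hbB
    have hzz : f (a + θ • b) (a + θ • b) = 0 := by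
      rw [hf.add_left, uf_add_right hf, uf_add_right hf, hf.smul_left, hf.smul_left,
        uf_smul_right hf, uf_smul_right hf, haa, hbb, hab, hba, hσθ]
      ring
    obtain ⟨a', ha'A, ha'0, ha'b, _, _⟩ := uexists_ne_zero_perp3 hf (D 0)
      (by rw [hD.finrank_eq]; exact hk) b b b
    refine ⟨uref hf (a + θ • b) θ, hTG _ (uref_mem_TU hf hzz hθ), ?_⟩
    rintro ⟨⟨τ, hτ⟩, _⟩
    have hfixa' : ((uref hf (a + θ • b) θ : GL ι F) : Matrix ι ι F) *ᵥ a' = a' := by
      apply uref_fix hf _ _ hzz
      rw [uf_add_right hf, uf_smul_right hf, hts 0 a' ha'A a haA, ha'b, mul_zero, add_zero]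
    have himg : ((uref hf (a + θ • b) θ : GL ι F) : Matrix ι ι F) *ᵥ a
        = a + (θ * σ θ) • (a + θ • b) := by
      rw [uref_apply_iso hf _ _ hzz, uf_add_right hf, uf_smul_right hf, haa, hab, zero_add,
        mul_one]
    have hmem1 : a' ∈ D (τ 0) := by
      rw [← hfixa', ← hτ 0]
      exact ⟨a', ha'A, Matrix.toLin'_apply _ _⟩
    have hmem2 : a + (θ * σ θ) • (a + θ • b) ∈ D (τ 0) := by
      rw [← himg, ← hτ 0]
      exact ⟨a, haA, Matrix.toLin'_apply _ _⟩
    by_cases hs : τ 0 = 0
    · rw [hs] at hmem2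
      have h3 : (θ * σ θ * θ) • b ∈ D 0 := by
        have := (D 0).sub_mem hmem2 ((D 0).add_mem haA ((D 0).smul_mem (θ * σ θ) haA))
        have e : a + (θ * σ θ) • (a + θ • b) - (a + (θ * σ θ) • a) = (θ * σ θ * θ) • b := by
          rw [smul_add, smul_smul]
          abel
        rwa [e] at this
      have hne : θ * σ θ * θ ≠ 0 := by
        rw [hσθ]
        exact mul_ne_zero (mul_ne_zero hθ0 (neg_ne_zero.2 hθ0)) hθ0
      have hbA : b ∈ D 0 := by
        have := (D 0).smul_mem (θ * σ θ * θ)⁻¹ h3
        rwa [smul_smul, inv_mul_cancel₀ hne, one_smul] at this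
      have hb0' : b = 0 := (hP 0 1 h01).disj b hbA hbB
      rw [hb0', uf_zero_right hf] at hab
      exact zero_ne_one hab
    · have hs1 : τ 0 = 1 := fin2_eq_of_ne hs h01
      rw [hs1] at hmem1
      exact ha'0 ((hP 0 1 h01).disj a' ha'A hmem1)
  · intro M hHM hMG
    by_cases hMH : M ≤ decompositionStabilizer D ⊓ G
    · left; exact le_antisymm hMH hHM
    · right
      apply le_antisymm hMG
      obtain ⟨g, hgM, hgH⟩ := SetLike.not_le_iff_exists.1 hMH
      have hMI : ∀ m ∈ M, Isom f m := fun m hm => ((hG m).1 (hMG hm)).1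
      have hgI : Isom f g := hMI g hgM
      have hgS : g ∉ decompositionStabilizer D := fun h => hgH ⟨h, hMG hgM⟩
      have hsiegM : ∀ i j : Fin 2, i ≠ j → ∀ a ∈ D i, ∀ b ∈ D j, f a b = 0 → ∀ lam : F,
          usieg hf a b θ lam ∈ M :=
        fun i j hij a ha b hb' hab lam => hHM (hsiegH i j hij a ha b hb' hab lam)
      -- transitivity on the centres inside a block
      have htrans : ∀ i j : Fin 2, i ≠ j → ∀ a ∈ D i, a ≠ 0 → UCtr hf M a →
          ∀ a' ∈ D i, UCtr hf M a' := by
        intro i j hij a ha ha0 hCa a' ha'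
        by_cases hsp : ∃ c : F, a' = c • a
        · obtain ⟨c, rfl⟩ := hsp
          exact hCa.smul hf c
        · have hne : ¬ ∀ b ∈ D j, f (a' - a) b = 0 → f a b = 0 := by
            intro hker
            obtain ⟨c, hc⟩ := (hP i j hij).udual hf ((D i).sub_mem ha' ha) ha hker
            apply hsp
            have hc0 : c ≠ 0 := by
              intro h0
              rw [h0, zero_smul] at hc
              exact ha0 hc
            refine ⟨1 + c⁻¹, ?_⟩
            have h3 : c⁻¹ • a = c⁻¹ • (c • (a' - a)) := congrArg (fun z => c⁻¹ • z) hc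
            rw [smul_smul, inv_mul_cancel₀ hc0, one_smul] at h3
            rw [add_smul, one_smul, h3]
            abel
          push Not at hne
          obtain ⟨b', hb'B, hb'1, hb'2⟩ := hne
          have hdm : a' - a ∈ D i := (D i).sub_mem ha' ha
          have hmem := hsiegM i j hij (a' - a) hdm b' hb'B hb'1 (σ ((θ * f a b')⁻¹))
          have h1 := hCa.conj hf _ hmem (hMI _ hmem)
          rw [usieg_apply hf (hts i _ hdm _ hdm) (hts j b' hb'B b' hb'B) hb'1, hf.involutive,
            (hts i) a ha (a' - a) hdm, mul_zero, zero_smul, add_zero] at h1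
          have e : θ * (θ * f a b')⁻¹ * f a b' = 1 := by
            rw [mul_comm θ (θ * f a b')⁻¹, mul_assoc, inv_mul_cancel₀ (mul_ne_zero hθ0 hb'2)]
          rw [e, one_smul, add_sub_cancel] at h1
          exact h1
      -- first centre
      have hS1 : ∀ i i' : Fin 2, i ≠ i' →
          (∀ j, (D i).map (Matrix.toLin' (g : Matrix ι ι F)) ≠ D j) →
          ∃ x0 ∈ D i', x0 ≠ 0 ∧ UCtr hf M x0 := by
        intro i i' hii' hL
        have hmixed : ∃ y0 ∈ D i, (g : Matrix ι ι F) *ᵥ y0 ∉ D 0 ∧
            (g : Matrix ι ι F) *ᵥ y0 ∉ D 1 := by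
          by_contra hcon
          push Not at hcon
          have hor : ∀ y ∈ (D i).map (Matrix.toLin' (g : Matrix ι ι F)), y ∈ D 0 ∨ y ∈ D 1 := by
            rintro _ ⟨y0, hy0, rfl⟩
            rw [Matrix.toLin'_apply]
            by_cases h : (g : Matrix ι ι F) *ᵥ y0 ∈ D 0
            · left; exact h
            · right; exact hcon y0 hy0 h
          rcases le_or_le_of_forall_mem_or _ _ _ hor with hle | hle
          · apply hL 0
            exact map_eq_of_le_of_finrank g (D i) (D 0)
              (fun x hx => hle ⟨x, hx, Matrix.toLin'_apply _ _⟩) (hfr i 0)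
          · apply hL 1
            exact map_eq_of_le_of_finrank g (D i) (D 1)
              (fun x hx => hle ⟨x, hx, Matrix.toLin'_apply _ _⟩) (hfr i 1)
        obtain ⟨y0, hy0, hy0', hy1'⟩ := hmixed
        obtain ⟨y, hy⟩ : ∃ y, y = (g : Matrix ι ι F) *ᵥ y0 := ⟨_, rfl⟩
        rw [← hy] at hy0' hy1'
        have hyy : f y y = 0 := by
          rw [hy, hgI]
          exact hts i y0 hy0 y0 hy0
        obtain ⟨y1, hy1, y2, hy2, hysum⟩ := (hP 0 1 h01).split y
        have hy1ne : y1 ≠ 0 := by
          intro h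
          apply hy1'
          rw [hysum, h, zero_add]
          exact hy2
        have hy2ne : y2 ≠ 0 := by
          intro h
          apply hy0'
          rw [hysum, h, add_zero]
          exact hy1
        have ha0 : ∃ a0 ∈ D 0, f y2 a0 ≠ 0 ∧ ∀ c : F, a0 ≠ c • y1 := by
          obtain ⟨a1, ha1, h1⟩ := (hP 1 0 h01.symm).uexists_pair hf hy2 hy2ne
          by_cases hsp : ∀ c : F, a1 ≠ c • y1
          · exact ⟨a1, ha1, h1, hsp⟩
          · push Not at hsp
            obtain ⟨c, hc⟩ := hsp
            obtain ⟨a', ha', hsp'⟩ := exists_not_smul (D 0) (by rw [hD.finrank_eq]; omega) y1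
            by_cases h2' : f y2 a' = 0
            · refine ⟨a1 + a', (D 0).add_mem ha1 ha', ?_, ?_⟩
              · rw [uf_add_right hf, h2', add_zero]
                exact h1
              · intro c' hc'
                apply hsp' (c' - c)
                rw [sub_smul, ← hc', ← hc, add_sub_cancel_left]
            · exact ⟨a', ha', h2', hsp'⟩
        obtain ⟨a0, ha0A, hy2a0, ha0sp⟩ := ha0
        have hb0 : ∃ b0 ∈ D 1, f a0 b0 = 0 ∧ f y1 b0 ≠ 0 := by
          by_contra hcon
          push Not at hcon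
          obtain ⟨c, hc⟩ := (hP 0 1 h01).udual hf ha0A hy1 hcon
          have hc0 : c ≠ 0 := by
            intro h
            rw [h, zero_smul] at hc
            exact hy1ne hc
          apply ha0sp c⁻¹
          rw [hc, smul_smul, inv_mul_cancel₀ hc0, one_smul]
        obtain ⟨b0, hb0B, ha0b0, hy1b0⟩ := hb0
        have hya0 : f y a0 ≠ 0 := by
          rw [hysum, hf.add_left, (hts 0) y1 hy1 a0 ha0A, zero_add]
          exact hy2a0
        have hyb0 : f y b0 ≠ 0 := by
          rw [hysum, hf.add_left, (hts 1) y2 hy2 b0 hb0B, add_zero]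
          exact hy1b0
        obtain ⟨x0, hx0, hx0ne, hx1, hx2, hx3⟩ := uexists_ne_zero_perp3 hf (D i')
          (by rw [hD.finrank_eq]; exact hk)
          (((g⁻¹ : GL ι F) : Matrix ι ι F) *ᵥ y) (((g⁻¹ : GL ι F) : Matrix ι ι F) *ᵥ a0)
          (((g⁻¹ : GL ι F) : Matrix ι ι F) *ᵥ b0)
        rw [hgI.inv_right] at hx1 hx2 hx3
        obtain ⟨x, hx⟩ : ∃ x, x = (g : Matrix ι ι F) *ᵥ x0 := ⟨_, rfl⟩
        rw [← hx] at hx1 hx2 hx3
        have hxx : f x x = 0 := by
          rw [hx, hgI]
          exact hts i' x0 hx0 x0 hx0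
        have hrx : ∀ lam : F, usieg hf x y θ lam ∈ M := by
          intro lam
          have h0 : f x0 y0 = 0 := by
            rw [← hgI x0 y0, ← hx, ← hy]
            exact hx1
          have h1 := hsiegM i' i (Ne.symm hii') x0 hx0 y0 hy0 h0 lam
          have h3 := M.mul_mem (M.mul_mem hgM h1) (M.inv_mem hgM)
          rw [conj_usieg hf g hgI, ← hx, ← hy] at h3
          exact h3
        obtain ⟨e0, he0⟩ := uf_exists_trace_ne_zero hf
        obtain ⟨lam0, hlam0⟩ : ∃ lam0, lam0 = e0 / (f y a0 * σ (f y b0)) := ⟨_, rfl⟩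
        have haa0 := hts 0 a0 ha0A a0 ha0A
        have hbb0 := hts 1 b0 hb0B b0 hb0B
        have hh : usieg hf a0 b0 θ lam0 ∈ M := hsiegM 0 1 h01 a0 ha0A b0 hb0B ha0b0 lam0
        have hhI : Isom f (usieg hf a0 b0 θ lam0) := hMI _ hh
        have hhx : ((usieg hf a0 b0 θ lam0 : GL ι F) : Matrix ι ι F) *ᵥ x = x := by
          rw [usieg_apply hf haa0 hbb0 ha0b0, hx2, hx3, mul_zero, mul_zero, zero_smul, zero_smul,
            add_zero, add_zero]
        have hhy : ((usieg hf a0 b0 θ lam0 : GL ι F) : Matrix ι ι F) *ᵥ y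
            = y + (θ * σ lam0 * f y b0) • a0 + (θ * lam0 * f y a0) • b0 :=
          usieg_apply hf haa0 hbb0 ha0b0 θ lam0 y
        have hrxhy : ∀ μ : F,
            usieg hf x (((usieg hf a0 b0 θ lam0 : GL ι F) : Matrix ι ι F) *ᵥ y) θ μ ∈ M := by
          intro μ
          have h3 := M.mul_mem (M.mul_mem hh (hrx μ)) (M.inv_mem hh)
          rw [conj_usieg hf _ hhI, hhx] at h3
          exact h3
        have hCx : UCtr hf M x := by
          apply uctr_of_comm hf M hθ0 hθ (a := x) (b := y)
            (y := ((usieg hf a0 b0 θ lam0 : GL ι F) : Matrix ι ι F) *ᵥ y) hxx hyy ?_ hx1 ?_ ?_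
            hrx hrxhy
          · rw [hhI]
            exact hyy
          · have e : f x (((usieg hf a0 b0 θ lam0 : GL ι F) : Matrix ι ι F) *ᵥ y)
                = f (((usieg hf a0 b0 θ lam0 : GL ι F) : Matrix ι ι F) *ᵥ x)
                  (((usieg hf a0 b0 θ lam0 : GL ι F) : Matrix ι ι F) *ᵥ y) := by rw [hhx]
            rw [e, hhI]
            exact hx1
          · rw [hhy]
            simp only [hf.add_left, hf.smul_left, hyy, zero_add]
            rw [hf.herm a0 y, hf.herm b0 y]
            have hσb : σ (f y b0) ≠ 0 := by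
              intro h0
              apply hyb0
              have := congrArg σ h0
              rwa [hf.involutive, map_zero] at this
            have hκ : f y a0 * σ (f y b0) ≠ 0 := mul_ne_zero hya0 hσb
            have e1 : lam0 * (f y a0 * σ (f y b0)) = e0 := by
              rw [hlam0]
              exact div_mul_cancel₀ _ hκ
            have e2 : σ lam0 * (σ (f y a0) * f y b0) = σ e0 := by
              rw [← e1, map_mul, map_mul, hf.involutive]
            intro hzero
            apply mul_ne_zero hθ0 he0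
            linear_combination hzero - θ * e2 - θ * e1
        refine ⟨x0, hx0, hx0ne, ?_⟩
        have := hCx.conj hf g⁻¹ (M.inv_mem hgM) hgI.inv
        rwa [hx, gl_inv_apply_apply] at this
      -- some block is moved off the decomposition
      have hex : ∃ i : Fin 2, ∀ j, (D i).map (Matrix.toLin' (g : Matrix ι ι F)) ≠ D j := by
        by_contra hcon
        push Not at hcon
        obtain ⟨j0, hj0⟩ := hcon 0
        obtain ⟨j1, hj1⟩ := hcon 1
        have hne : j0 ≠ j1 := by
          intro h
          rw [h, ← hj1] at hj0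
          have h3 : D 0 = D 1 := Submodule.map_injective_of_injective (toLin_gl_injective g) hj0
          obtain ⟨a, ha, ha0⟩ := hnz 0
          have ha1 : a ∈ D 1 := by rw [← h3]; exact ha
          exact ha0 ((hP 0 1 h01).disj a ha ha1)
        apply hgS
        by_cases h0 : j0 = 0
        · have h1 : j1 = 1 := fin2_eq_of_ne (fun h => hne (h0.trans h.symm)) h01
          refine ⟨1, fun i => ?_⟩
          by_cases hi : i = 0
          · rw [hi, Equiv.Perm.one_apply, hj0, h0]
          · have hi1 : i = 1 := fin2_eq_of_ne hi h01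
            rw [hi1, Equiv.Perm.one_apply, hj1, h1]
        · have h0' : j0 = 1 := fin2_eq_of_ne h0 h01
          have h1 : j1 = 0 := fin2_eq_of_ne (fun h => hne (h0'.trans h.symm)) h01.symm
          refine ⟨Equiv.swap 0 1, fun i => ?_⟩
          by_cases hi : i = 0
          · rw [hi, Equiv.swap_apply_left, hj0, h0']
          · have hi1 : i = 1 := fin2_eq_of_ne hi h01
            rw [hi1, Equiv.swap_apply_right, hj1, h1]
      obtain ⟨i, hi⟩ := hex
      obtain ⟨i', hii'⟩ : ∃ i' : Fin 2, i ≠ i' := by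
        by_cases h : i = 0
        · exact ⟨1, by rw [h]; exact h01⟩
        · exact ⟨0, h⟩
      obtain ⟨x0, hx0, hx0ne, hCx0⟩ := hS1 i i' hii' hi
      have hall' : ∀ a ∈ D i', UCtr hf M a := htrans i' i (Ne.symm hii') x0 hx0 hx0ne hCx0
      -- swap
      obtain ⟨s, hsT, hsA, hsB, _⟩ := exists_upair_swap hf _ (D 0) (D 1) rfl (hts 0) (hts 1)
        (fun a ha ha0 => (hP 0 1 h01).uexists_pair hf ha ha0)
        (fun b hb' hb0 => by
          obtain ⟨a, ha, hab⟩ := (hP 1 0 h01.symm).uexists_pair hf hb' hb0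
          exact ⟨a, ha, uf_ne_zero_symm hf hab⟩)
      have hsI : Isom f s := TU_isom hf s hsT
      have hsM : s ∈ M := hHM (hswapmem s (hTG s hsT) hsA hsB)
      have hsmap : ∀ x ∈ D i', (s : Matrix ι ι F) *ᵥ x ∈ D i := by
        intro x hx
        by_cases h : i' = 0
        · have hi1 : i = 1 := fin2_eq_of_ne (k := i) (i := 0) (j := 1)
            (by rw [← h]; exact hii') h01
          rw [hi1]
          rw [h] at hx
          exact hsA x hx
        · have h' : i' = 1 := fin2_eq_of_ne h h01
          have hi0 : i = 0 := fin2_eq_of_ne (k := i) (i := 1) (j := 0)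
            (by rw [← h']; exact hii') h01.symm
          rw [hi0]
          rw [h'] at hx
          exact hsB x hx
      have hsx0 : UCtr hf M ((s : Matrix ι ι F) *ᵥ x0) := hCx0.conj hf s hsM hsI
      have hsx0ne : (s : Matrix ι ι F) *ᵥ x0 ≠ 0 := by
        intro h
        apply hx0ne
        have := congrArg (fun z => ((s⁻¹ : GL ι F) : Matrix ι ι F) *ᵥ z) h
        simpa only [gl_inv_apply_apply, Matrix.mulVec_zero] using this
      have hall : ∀ a ∈ D i, UCtr hf M a := htrans i i' hii' _ (hsmap x0 hx0) hsx0ne hsx0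
      have hallD : ∀ l : Fin 2, ∀ a ∈ D l, UCtr hf M a := by
        intro l a ha
        by_cases hl : l = i
        · rw [hl] at ha
          exact hall a ha
        · have hl' : l = i' := fin2_eq_of_ne hl hii'
          rw [hl'] at ha
          exact hall' a ha
      have hAll : ∀ x : ι → F, f x x = 0 → UCtr hf M x := by
        intro x hxx
        obtain ⟨x1, hx1, x2, hx2, hsum⟩ := (hP 0 1 h01).split x
        have h11 := hts 0 x1 hx1 x1 hx1
        by_cases h12 : f x1 x2 = 0
        · by_cases hx10 : x1 = 0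
          · rw [hsum, hx10, zero_add]
            exact hallD 1 x2 hx2
          · obtain ⟨z0, hz0, hxz0⟩ := (hP 0 1 h01).uexists_pair hf hx1 hx10
            obtain ⟨z, hz, hxz⟩ : ∃ z ∈ D 1, f x1 z = θ :=
              ⟨σ (θ / f x1 z0) • z0, (D 1).smul_mem _ hz0, by
                rw [uf_smul_right hf, hf.involutive, div_mul_cancel₀ _ hxz0]⟩
            obtain ⟨u, hu⟩ : ∃ u, u = x2 - z := ⟨_, rfl⟩
            have huB : u ∈ D 1 := by rw [hu]; exact (D 1).sub_mem hx2 hz
            have huu := hts 1 u huB u huB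
            have hx1u : f x1 u = -θ := by rw [hu, uf_sub_right hf, h12, hxz, zero_sub]
            have hux1 : f u x1 = θ := by rw [hf.herm u x1, hx1u, map_neg, hσθ, neg_neg]
            have hiso1 : f (x1 + (1 : F) • u) (x1 + (1 : F) • u) = 0 := by
              rw [one_smul, hf.add_left, uf_add_right hf, uf_add_right hf, h11, huu, hx1u, hux1]
              ring
            have hgood := (hallD 0 x1 hx1).add_smul hf (hallD 1 u huB)
              (by rw [hx1u]; exact neg_ne_zero.2 hθ0) 1 hiso1
            rw [one_smul] at hgood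
            have h3 : f (x1 + u) z ≠ 0 := by
              rw [hf.add_left, hxz, hts 1 u huB z hz, add_zero]
              exact hθ0
            have hxe : x1 + u + (1 : F) • z = x := by
              rw [one_smul, hu, hsum]
              abel
            have h4 := hgood.add_smul hf (hallD 1 z hz) h3 1 (by rw [hxe]; exact hxx)
            rwa [hxe] at h4
        · have h := (hallD 0 x1 hx1).add_smul hf (hallD 1 x2 hx2) h12 1
            (by rw [one_smul, ← hsum]; exact hxx)
          rwa [one_smul, ← hsum] at h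
      intro g' hg'
      have hTM : TU hf ≤ M := by
        unfold TU
        rw [Subgroup.closure_le]
        rintro t ⟨a, c, ha, hc, rfl⟩
        exact (hAll a ha).2 c hc
      obtain ⟨hI', hS'⟩ := (hG g').1 hg'
      exact hTM (isom_SL_mem_TU hf hn g' hI' hS')

end Cfsg.Agent.Helper93
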