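import Cfsg.Agent.Lib.Helper93.UOSub3
import Cfsg.Agent.Lib.Helper93.SpSfC
import Cfsg.Agent.Lib.Helper93.SubfE

set_option autoImplicit false
set_option linter.unusedSectionVars false
set_option linter.unusedVariables false
set_option linter.unusedSimpArgs false
set_option linter.style.haveILetI false

/-!
# Subfield subgroups of `SU_n` (odd index): fields and rational vectors
-/

namespace Cfsg.Agent.Helper93.SubfL.USf

open Matrix Cfsg.Geo Cfsg.Agent.Helper93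
open Cfsg.Agent.Helper93.SubfL.SpSf (RatForm isomGroup mem_isomGroup sq_lemma subfield_top_of)

section fields

variable {F : Type*} [Field F] {σ : F ≃+* F} {F₀ : Subfield F}

/-- the involution stabilises the subfield and moves it -/
structure SigSt (σ : F ≃+* F) (F₀ : Subfield F) : Prop where
  inv : ∀ a : F, σ (σ a) = a
  stab : ∀ x ∈ F₀, σ x ∈ F₀
  mov : ∃ μ₀ ∈ F₀, σ μ₀ ≠ μ₀

lemma SigSt.theta (h : SigSt σ F₀) : ∃ θ ∈ F₀, θ ≠ 0 ∧ θ + σ θ = 0 := by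
  obtain ⟨μ₀, hμ, hne⟩ := h.mov
  refine ⟨μ₀ - σ μ₀, F₀.sub_mem hμ (h.stab _ hμ), sub_ne_zero.2 (Ne.symm hne), ?_⟩
  rw [map_sub, h.inv]
  ring

lemma theta_inv {θ : F} (hθ : θ + σ θ = 0) : θ⁻¹ + σ θ⁻¹ = 0 := by
  have h1 : σ θ = -θ := by linear_combination hθ
  rw [map_inv₀, h1, inv_neg]
  ring

lemma SigSt.tr_surj (h : SigSt σ F₀) {t : F} (ht : t ∈ F₀) (hσ : σ t = t) :
    ∃ c ∈ F₀, c + σ c = t := by
  obtain ⟨μ₀, hμ, hne⟩ := h.mov
  by_cases hτ : μ₀ + σ μ₀ = 0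
  · have h2 : (2 : F) ≠ 0 := by
      intro h2
      apply hne
      linear_combination hτ - μ₀ * h2
    have h2F : (2 : F) ∈ F₀ := by
      have := F₀.add_mem F₀.one_mem F₀.one_mem
      rwa [one_add_one_eq_two] at this
    refine ⟨t * 2⁻¹, F₀.mul_mem ht (F₀.inv_mem h2F), ?_⟩
    rw [map_mul, hσ, map_inv₀, map_ofNat, ← mul_add, ← two_mul, mul_inv_cancel₀ h2, mul_one]
  · have hστ : σ (μ₀ + σ μ₀) = μ₀ + σ μ₀ := by rw [map_add, h.inv, add_comm]
    refine ⟨t * μ₀ * (μ₀ + σ μ₀)⁻¹, F₀.mul_mem (F₀.mul_mem ht hμ)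
      (F₀.inv_mem (F₀.add_mem hμ (h.stab _ hμ))), ?_⟩
    rw [map_mul, map_mul, hσ, map_inv₀, hστ, ← add_mul, ← mul_add, mul_assoc,
      mul_inv_cancel₀ hτ, mul_one]

lemma SigSt.norm_surj [Finite F] (h : SigSt σ F₀) {κ : F} (hκ : κ ∈ F₀) (hσ : σ κ = κ)
    (hκ0 : κ ≠ 0) : ∃ x ∈ F₀, x * σ x = κ := by
  obtain ⟨μ₀, hμ, hne⟩ := h.mov
  let sig0 : F₀ →+* F₀ :=
    ((σ : F →+* F).comp F₀.subtype).codRestrict F₀ (fun x => h.stab x.1 x.2)
  have hs0 : ∀ x : F₀, ((sig0 x : F₀) : F) = σ (x : F) := fun x => rfl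
  have hne0 : sig0 ≠ RingHom.id F₀ := by
    intro h0
    apply hne
    have h1 := hs0 ⟨μ₀, hμ⟩
    rw [h0] at h1
    exact h1.symm
  have hinv0 : ∀ a : F₀, sig0 (sig0 a) = a := by
    intro a
    apply Subtype.ext
    rw [hs0, hs0, h.inv]
  have hfix0 : sig0 ⟨κ, hκ⟩ = ⟨κ, hκ⟩ := by
    apply Subtype.ext
    rw [hs0]
    exact hσ
  have hk0 : (⟨κ, hκ⟩ : F₀) ≠ 0 := by
    intro h0
    exact hκ0 (congrArg Subtype.val h0)
  obtain ⟨a, ha⟩ := Cfsg.Agent.Helper13.norm_surj_involution sig0 hne0 hinv0 ⟨κ, hκ⟩ hk0 hfix0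
  refine ⟨a.1, a.2, ?_⟩
  have h3 := congrArg Subtype.val ha
  exact h3

/-- decomposition along the fixed field -/
lemma SigSt.decomp (h : SigSt σ F₀) {μ₀ : F} (hne : σ μ₀ ≠ μ₀) (x : F) :
    ∃ a b : F, σ a = a ∧ σ b = b ∧ x = a + μ₀ * b ∧ (μ₀ ∈ F₀ → x ∈ F₀ → a ∈ F₀ ∧ b ∈ F₀) := by
  have hd : μ₀ - σ μ₀ ≠ 0 := sub_ne_zero.2 (Ne.symm hne)
  obtain ⟨b, hb⟩ : ∃ b, b = (x - σ x) / (μ₀ - σ μ₀) := ⟨_, rfl⟩
  have hb' : b * (μ₀ - σ μ₀) = x - σ x := by rw [hb, div_mul_cancel₀ _ hd]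
  have hσb : σ b = b := by
    rw [hb, map_div₀, map_sub, map_sub, h.inv, h.inv, ← neg_sub x (σ x), ← neg_sub μ₀ (σ μ₀),
      neg_div_neg_eq]
  refine ⟨x - μ₀ * b, b, ?_, hσb, by ring, ?_⟩
  · rw [map_sub, map_mul, hσb]
    linear_combination hb'
  · intro hμ hx
    have hbF : b ∈ F₀ := by
      rw [hb]
      exact F₀.div_mem (F₀.sub_mem hx (h.stab _ hx)) (F₀.sub_mem hμ (h.stab _ hμ))
    exact ⟨F₀.sub_mem hx (F₀.mul_mem hμ hbF), hbF⟩

/-- the fixed field of a ring automorphism -/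
def fixF (σ : F ≃+* F) : Subfield F where
  carrier := {x | σ x = x}
  mul_mem' := by
    intro a b ha hb
    have ha' : σ a = a := ha
    have hb' : σ b = b := hb
    show σ (a * b) = a * b
    rw [map_mul, ha', hb']
  one_mem' := map_one σ
  add_mem' := by
    intro a b ha hb
    have ha' : σ a = a := ha
    have hb' : σ b = b := hb
    show σ (a + b) = a + b
    rw [map_add, ha', hb']
  zero_mem' := map_zero σ
  neg_mem' := by
    intro a ha
    have ha' : σ a = a := ha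
    show σ (-a) = -a
    rw [map_neg, ha']
  inv_mem' := by
    intro a ha
    have ha' : σ a = a := ha
    show σ a⁻¹ = a⁻¹
    rw [map_inv₀, ha']

lemma mem_fixF (x : F) : x ∈ fixF σ ↔ σ x = x := Iff.rfl

/-- for an odd index the involution moves the subfield -/
lemma sigSt_of_odd [Fintype F] {r : ℕ} (hr : r.Prime) (hr2 : r ≠ 2)
    (hcard : Fintype.card F = Nat.card F₀ ^ r) (hne : σ ≠ RingEquiv.refl F)
    (hinv : ∀ a : F, σ (σ a) = a) (hstab : ∀ x ∈ F₀, σ x ∈ F₀) : SigSt σ F₀ := by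
  refine ⟨hinv, hstab, ?_⟩
  by_contra hcon
  push Not at hcon
  have hle : ∀ c ∈ F₀, c ∈ fixF σ := fun c hc => hcon c hc
  have hfix : ∀ x : F, x ∈ F₀ ↔ σ x = x := by
    intro x
    constructor
    · exact hcon x
    · intro hx
      by_contra hxF
      have htop := subfield_top_of hr hcard (fixF σ) hle (a := x) hx hxF
      apply hne
      ext y
      exact htop y
  obtain ⟨ω, hω⟩ : ∃ ω : F, σ ω ≠ ω := by
    by_contra hall
    push Not at hall
    apply hne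
    ext y
    exact hall y
  have hsurj : Function.Surjective (fun p : F₀ × F₀ => (p.1 : F) + ω * (p.2 : F)) := by
    intro x
    obtain ⟨a, ha, b, hb, hx⟩ := fld_decomp hinv hfix hω x
    exact ⟨(⟨a, ha⟩, ⟨b, hb⟩), hx.symm⟩
  have hc := Nat.card_le_card_of_surjective _ hsurj
  rw [Nat.card_prod, Nat.card_eq_fintype_card (α := F), hcard] at hc
  have hq : 2 ≤ Nat.card F₀ := Finite.one_lt_card
  have hr3 : 3 ≤ r := by
    have := hr.two_le
    omega
  have h3 : Nat.card F₀ ^ 3 ≤ Nat.card F₀ ^ r := Nat.pow_le_pow_right (by omega) hr3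
  obtain ⟨X, hX⟩ : ∃ X, X = Nat.card F₀ := ⟨_, rfl⟩
  rw [← hX] at hc hq h3
  have e1 : 2 * (X * X) ≤ X * (X * X) := Nat.mul_le_mul_right _ hq
  have e2 : 2 * 2 ≤ X * X := Nat.mul_le_mul hq hq
  have e3 : X ^ 3 = X * (X * X) := by ring
  nlinarith [e1, e2, e3, hc, h3]

end fields

section rational

variable {ι : Type} [Fintype ι] [DecidableEq ι] {F : Type*} [Field F]
variable {σ : F ≃+* F} {F₀ : Subfield F} {f : (ι → F) → (ι → F) → F}

lemma fvec_rat (hrat : RatForm F₀ f) {x : ι → F} (hx : Rat F₀ x) : Rat F₀ (fvec f x) :=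
  fun j => hrat _ x (Rat.single j) hx

lemma fvec_inj (hf : IsUnitaryForm σ f) {v w : ι → F} (h : fvec f v = fvec f w) : v = w := by
  by_contra hne
  have hne' : v - w ≠ 0 := sub_ne_zero.mpr hne
  obtain ⟨⟨x, hx⟩, _⟩ := hf.nondegenerate _ hne'
  apply hx
  rw [uf_sub_right hf, ← ufvec_dot hf v, ← ufvec_dot hf w, h, sub_self]

lemma rat_riesz [Finite F] (hf : IsUnitaryForm σ f) (hrat : RatForm F₀ f) {ψ : ι → F}
    (hψ : Rat F₀ ψ) : ∃ v : ι → F, Rat F₀ v ∧ fvec f v = ψ := by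
  have hinj : Function.Injective (fun v : {v : ι → F // Rat F₀ v} =>
      (⟨fvec f v.1, fvec_rat hrat v.2⟩ : {v : ι → F // Rat F₀ v})) := by
    intro v w h
    apply Subtype.ext
    exact fvec_inj hf (congrArg Subtype.val h)
  obtain ⟨v, hv⟩ := Finite.surjective_of_injective hinj ⟨ψ, hψ⟩
  exact ⟨v.1, v.2, congrArg Subtype.val hv⟩

/-- a rational vector representing a rational functional -/
lemma rat_riesz' [Finite F] (hf : IsUnitaryForm σ f) (hrat : RatForm F₀ f) {ψ : ι → F}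
    (hψ : Rat F₀ ψ) : ∃ v : ι → F, Rat F₀ v ∧ ∀ x, f x v = ψ ⬝ᵥ x := by
  obtain ⟨v, hv, hvψ⟩ := rat_riesz hf hrat hψ
  exact ⟨v, hv, fun x => by rw [← ufvec_dot hf, hvψ]⟩

lemma rat_of_fvec [Finite F] (hf : IsUnitaryForm σ f) (hrat : RatForm F₀ f) {w : ι → F}
    (h : Rat F₀ (fvec f w)) : Rat F₀ w := by
  obtain ⟨v, hv, hvw⟩ := rat_riesz hf hrat h
  rw [← fvec_inj hf hvw]
  exact hv

/-- a vector whose pairings with the standard basis are rational is rational -/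
lemma rat_of_dual_u [Finite F] (hf : IsUnitaryForm σ f) (hrat : RatForm F₀ f)
    (hst : SigSt σ F₀) {w : ι → F} (h : ∀ j, f w (Pi.single j 1) ∈ F₀) : Rat F₀ w := by
  apply rat_of_fvec hf hrat
  intro j
  show f (Pi.single j 1) w ∈ F₀
  rw [hf.herm]
  exact hst.stab _ (h j)

/-- a vector orthogonal to the standard basis vanishes -/
lemma eq_zero_of_basis_perp_u (hf : IsUnitaryForm σ f) {v : ι → F}
    (h : ∀ j, f (Pi.single j 1) v = 0) : v = 0 := by
  apply fvec_inj hf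
  funext j
  show f (Pi.single j 1) v = f (Pi.single j 1) 0
  rw [h j, uf_zero_right hf]

lemma exists_rat_dual1 [Finite F] (hf : IsUnitaryForm σ f) (hrat : RatForm F₀ f) {x : ι → F}
    (hx : Rat F₀ x) (hx0 : x ≠ 0) {α : F} (hα : α ∈ F₀) :
    ∃ p : ι → F, Rat F₀ p ∧ f x p = α := by
  obtain ⟨i, hi⟩ := Function.ne_iff.mp hx0
  have hi' : x i ≠ 0 := hi
  obtain ⟨p, hp, hpf⟩ := rat_riesz' hf hrat
    (Rat.smul (F₀.mul_mem hα (F₀.inv_mem (hx i))) (Rat.single (F₀ := F₀) i))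
  refine ⟨p, hp, ?_⟩
  rw [hpf, smul_dotProduct, single_dotProduct, one_mul, smul_eq_mul, mul_assoc,
    inv_mul_cancel₀ hi', mul_one]

lemma exists_rat_dual2 [Finite F] (hf : IsUnitaryForm σ f) (hrat : RatForm F₀ f)
    {x d : ι → F} (hx : Rat F₀ x) (hx0 : x ≠ 0) (hd : Rat F₀ d) (hind : ∀ α : F, d ≠ α • x)
    {α β : F} (hα : α ∈ F₀) (hβ : β ∈ F₀) :
    ∃ p : ι → F, Rat F₀ p ∧ f x p = α ∧ f d p = β := by
  have hd0 : d ≠ 0 := fun h => hind 0 (by rw [h, zero_smul])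
  have hind' : ∀ α : F, x ≠ α • d := by
    intro a h
    have ha : a ≠ 0 := by
      intro h0; rw [h0, zero_smul] at h; exact hx0 h
    apply hind a⁻¹
    rw [h, smul_smul, inv_mul_cancel₀ ha, one_smul]
  obtain ⟨ε1, hε1, h1d, h1x⟩ := exists_rat_sep hd hd0 hind'
  obtain ⟨ε2, hε2, h2x, h2d⟩ := exists_rat_sep hx hx0 hind
  have r1 : ε1 ⬝ᵥ x ∈ F₀ := Rat.dot hε1 hx
  have r2 : ε2 ⬝ᵥ d ∈ F₀ := Rat.dot hε2 hd
  obtain ⟨p, hp, hpf⟩ := rat_riesz' hf hrat
    ((Rat.smul (F₀.mul_mem hα (F₀.inv_mem r1)) hε1).add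
      (Rat.smul (F₀.mul_mem hβ (F₀.inv_mem r2)) hε2))
  refine ⟨p, hp, ?_, ?_⟩
  · rw [hpf, add_dotProduct, smul_dotProduct, smul_dotProduct, h2x, smul_zero, add_zero,
      smul_eq_mul, mul_assoc, inv_mul_cancel₀ h1x, mul_one]
  · rw [hpf, add_dotProduct, smul_dotProduct, smul_dotProduct, h1d, smul_zero, zero_add,
      smul_eq_mul, mul_assoc, inv_mul_cancel₀ h2d, mul_one]

lemma exists_rat_perp (hf : IsUnitaryForm σ f) (hrat : RatForm F₀ f) (m : ℕ)
    (ψ : Fin m → ι → F) (hψ : ∀ k, Rat F₀ (ψ k)) (hm : m < Fintype.card ι) :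
    ∃ x : ι → F, Rat F₀ x ∧ x ≠ 0 ∧ ∀ k, f x (ψ k) = 0 := by
  obtain ⟨x, hx, hx0, hk⟩ := exists_rat_ker (F₀ := F₀) m (fun k => fvec f (ψ k))
    (fun k => fvec_rat hrat (hψ k)) hm
  exact ⟨x, hx, hx0, fun k => by rw [← ufvec_dot hf]; exact hk k⟩

/-- a non-zero rational isotropic vector orthogonal to given rational vectors -/
lemma exists_rat_iso [Finite F] (hf : IsUnitaryForm σ f) (hrat : RatForm F₀ f)
    (hst : SigSt σ F₀) (m : ℕ) (ψ : Fin m → ι → F) (hψ : ∀ k, Rat F₀ (ψ k))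
    (hm : m + 1 < Fintype.card ι) :
    ∃ z : ι → F, Rat F₀ z ∧ z ≠ 0 ∧ f z z = 0 ∧ ∀ k, f z (ψ k) = 0 := by
  obtain ⟨x1, hx1, hx10, hk1⟩ := exists_rat_perp hf hrat m ψ hψ (by omega)
  by_cases h1 : f x1 x1 = 0
  · exact ⟨x1, hx1, hx10, h1, hk1⟩
  obtain ⟨x2, hx2, hx20, hk2⟩ := exists_rat_perp hf hrat (m + 1) (Fin.cons x1 ψ)
    (fun k => by
      refine Fin.cases ?_ (fun j => ?_) k
      · rw [Fin.cons_zero]; exact hx1
      · rw [Fin.cons_succ]; exact hψ j) hm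
  have h21 : f x2 x1 = 0 := by
    have := hk2 0
    rwa [Fin.cons_zero] at this
  have h2k : ∀ k, f x2 (ψ k) = 0 := by
    intro k
    have := hk2 k.succ
    rwa [Fin.cons_succ] at this
  by_cases h2 : f x2 x2 = 0
  · exact ⟨x2, hx2, hx20, h2, h2k⟩
  have hn1 : f x1 x1 ∈ F₀ := hrat _ _ hx1 hx1
  have hn2 : f x2 x2 ∈ F₀ := hrat _ _ hx2 hx2
  have hκ : -(f x2 x2) / f x1 x1 ∈ F₀ := F₀.div_mem (F₀.neg_mem hn2) hn1
  have hκσ : σ (-(f x2 x2) / f x1 x1) = -(f x2 x2) / f x1 x1 := by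
    rw [map_div₀, map_neg, uf_self hf, uf_self hf]
  have hκ0 : -(f x2 x2) / f x1 x1 ≠ 0 := div_ne_zero (neg_ne_zero.mpr h2) h1
  obtain ⟨a, ha, haN⟩ := hst.norm_surj hκ hκσ hκ0
  have h12 : f x1 x2 = 0 := uf_eq_zero_symm hf h21
  refine ⟨a • x1 + x2, (Rat.smul ha hx1).add hx2, ?_, ?_, ?_⟩
  · intro h0
    have : f (a • x1 + x2) x2 = f x2 x2 := by
      rw [hf.add_left, hf.smul_left, h12, mul_zero, zero_add]
    rw [h0, uf_zero_left hf] at this
    exact h2 this.symm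
  · rw [hf.add_left, uf_add_right hf, uf_add_right hf, hf.smul_left, hf.smul_left,
      uf_smul_right hf, uf_smul_right hf, h12, h21]
    have e : a * σ a * f x1 x1 = -(f x2 x2) := by
      rw [haN, div_mul_cancel₀ _ h1]
    linear_combination e
  · intro k
    rw [hf.add_left, hf.smul_left, hk1 k, h2k k, mul_zero, add_zero]

/-- a rational isotropic partner -/
lemma hyp_partner1 [Finite F] (hf : IsUnitaryForm σ f) (hrat : RatForm F₀ f)
    (hst : SigSt σ F₀) {e : ι → F} (he : Rat F₀ e) (he0 : e ≠ 0) (hee : f e e = 0) :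
    ∃ e' : ι → F, Rat F₀ e' ∧ f e' e' = 0 ∧ f e e' = 1 ∧ f e' e = 1 := by
  obtain ⟨p, hp, hep⟩ := exists_rat_dual1 hf hrat he he0 F₀.one_mem
  have hpe : f p e = 1 := by rw [hf.herm, hep, map_one]
  have hfix : σ (-(f p p)) = -(f p p) := by rw [map_neg, uf_self hf]
  obtain ⟨lam, hlam, hl⟩ := hst.tr_surj (F₀.neg_mem (hrat _ _ hp hp)) hfix
  refine ⟨p + lam • e, hp.add (Rat.smul hlam he), ?_, ?_, ?_⟩
  · rw [hf.add_left, uf_add_right hf, uf_add_right hf, hf.smul_left, hf.smul_left,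
      uf_smul_right hf, uf_smul_right hf, hee, hep, hpe]
    linear_combination hl
  · rw [uf_add_right hf, uf_smul_right hf, hee, hep, mul_zero, add_zero]
  · rw [hf.add_left, hf.smul_left, hee, hpe, mul_zero, add_zero]

/-- a rational isotropic partner orthogonal to a further vector -/
lemma hyp_partner2 [Finite F] (hf : IsUnitaryForm σ f) (hrat : RatForm F₀ f)
    (hst : SigSt σ F₀) {e d : ι → F} (he : Rat F₀ e) (he0 : e ≠ 0) (hee : f e e = 0)
    (hd : Rat F₀ d) (hind : ∀ α : F, d ≠ α • e) (hde : f d e = 0) :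
    ∃ e' : ι → F, Rat F₀ e' ∧ f e' e' = 0 ∧ f e e' = 1 ∧ f e' e = 1 ∧ f d e' = 0 ∧
      f e' d = 0 := by
  obtain ⟨p, hp, hep, hdp⟩ := exists_rat_dual2 hf hrat he he0 hd hind F₀.one_mem F₀.zero_mem
  have hpe : f p e = 1 := by rw [hf.herm, hep, map_one]
  have hfix : σ (-(f p p)) = -(f p p) := by rw [map_neg, uf_self hf]
  obtain ⟨lam, hlam, hl⟩ := hst.tr_surj (F₀.neg_mem (hrat _ _ hp hp)) hfix
  have h5 : f d (p + lam • e) = 0 := by
    rw [uf_add_right hf, uf_smul_right hf, hde, hdp, mul_zero, add_zero]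
  refine ⟨p + lam • e, hp.add (Rat.smul hlam he), ?_, ?_, ?_, h5, uf_eq_zero_symm hf h5⟩
  · rw [hf.add_left, uf_add_right hf, uf_add_right hf, hf.smul_left, hf.smul_left,
      uf_smul_right hf, uf_smul_right hf, hee, hep, hpe]
    linear_combination hl
  · rw [uf_add_right hf, uf_smul_right hf, hee, hep, mul_zero, add_zero]
  · rw [hf.add_left, hf.smul_left, hee, hpe, mul_zero, add_zero]

/-- a rational vector orthogonal to a rational isotropic vector is a rational combination of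
three rational isotropic vectors orthogonal to it -/
lemma iso_decomp [Finite F] (hf : IsUnitaryForm σ f) (hrat : RatForm F₀ f)
    (hst : SigSt σ F₀) (hn : 6 ≤ Fintype.card ι) {a0 y : ι → F} (ha : Rat F₀ a0)
    (ha0 : a0 ≠ 0) (haa : f a0 a0 = 0) (hy : Rat F₀ y) (hya : f y a0 = 0) :
    ∃ (z1 z2 z3 : ι → F) (c2 c3 : F), Rat F₀ z1 ∧ Rat F₀ z2 ∧ Rat F₀ z3 ∧ f z1 z1 = 0 ∧
      f z2 z2 = 0 ∧ f z3 z3 = 0 ∧ f z1 a0 = 0 ∧ f z2 a0 = 0 ∧ f z3 a0 = 0 ∧ c2 ∈ F₀ ∧ c3 ∈ F₀ ∧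
      y = z1 + c2 • z2 + c3 • z3 := by
  obtain ⟨p0, hp0, hap0⟩ := exists_rat_dual1 hf hrat ha ha0 F₀.one_mem
  obtain ⟨e, he, he0, hee, hk⟩ := exists_rat_iso hf hrat hst 3 ![a0, p0, y]
    (by intro k; fin_cases k; exacts [ha, hp0, hy]) (by omega)
  have hea : f e a0 = 0 := hk 0
  have hep0 : f e p0 = 0 := hk 1
  have hey : f e y = 0 := hk 2
  have hae : f a0 e = 0 := uf_eq_zero_symm hf hea
  have hye : f y e = 0 := uf_eq_zero_symm hf hey
  have hind : ∀ α : F, a0 ≠ α • e := by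
    intro α h
    have h1 : f a0 p0 = α * f e p0 := by rw [← hf.smul_left, ← h]
    rw [hap0, hep0, mul_zero] at h1
    exact one_ne_zero h1
  obtain ⟨e', he', he'e', hee', he'e, hae', he'a⟩ :=
    hyp_partner2 hf hrat hst he he0 hee ha hind hae
  obtain ⟨y', hy'_def⟩ : ∃ y' : ι → F, y' = y - f y e' • e := ⟨_, rfl⟩
  have hy' : Rat F₀ y' := by
    rw [hy'_def]; exact hy.sub (Rat.smul (hrat _ _ hy he') he)
  have hy'e' : f y' e' = 0 := by
    rw [hy'_def, uf_sub_left hf, hf.smul_left, hee', mul_one, sub_self]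
  have hy'e : f y' e = 0 := by
    rw [hy'_def, uf_sub_left hf, hf.smul_left, hee, hye, mul_zero, sub_zero]
  have hy'a : f y' a0 = 0 := by
    rw [hy'_def, uf_sub_left hf, hf.smul_left, hea, hya, mul_zero, sub_zero]
  have he'y' : f e' y' = 0 := uf_eq_zero_symm hf hy'e'
  have hey' : f e y' = 0 := uf_eq_zero_symm hf hy'e
  have hfix : σ (-(f y' y')) = -(f y' y') := by rw [map_neg, uf_self hf]
  obtain ⟨t, ht, htσ⟩ := hst.tr_surj (F₀.neg_mem (hrat _ _ hy' hy')) hfix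
  refine ⟨y' + e + t • e', e, e', f y e' - 1, -t, (hy'.add he).add (Rat.smul ht he'), he, he',
    ?_, hee, he'e', ?_, hea, he'a, F₀.sub_mem (hrat _ _ hy he') F₀.one_mem, F₀.neg_mem ht, ?_⟩
  · simp only [hf.add_left, uf_add_right hf, hf.smul_left, uf_smul_right hf, hy'e', hy'e, he'y',
      hey', hee, he'e', hee', he'e, mul_zero, mul_one, add_zero, zero_add]
    linear_combination htσ
  · rw [hf.add_left, hf.add_left, hf.smul_left, hy'a, hea, he'a, mul_zero, add_zero, add_zero]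
  · rw [hy'_def]
    module

/-- two non-zero rational isotropic vectors have a common rational isotropic non-neighbour -/
lemma exists_common_iso [Finite F] (hf : IsUnitaryForm σ f) (hrat : RatForm F₀ f)
    (hst : SigSt σ F₀) {w w'' : ι → F} (hw : Rat F₀ w) (hw0 : w ≠ 0) (hww : f w w = 0)
    (hw'' : Rat F₀ w'') (hw''0 : w'' ≠ 0) (hww'' : f w'' w'' = 0) :
    ∃ w' : ι → F, Rat F₀ w' ∧ f w' w' = 0 ∧ f w w' ≠ 0 ∧ f w'' w' ≠ 0 := by
  obtain ⟨p, hp, hpp, hwp, hpw⟩ := hyp_partner1 hf hrat hst hw hw0 hww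
  obtain ⟨q, hq, hqq, hwq, hqw⟩ := hyp_partner1 hf hrat hst hw'' hw''0 hww''
  by_cases h1 : f w'' p = 0
  · by_cases h2 : f w q = 0
    · obtain ⟨θ, hθF, hθ0, hθσ⟩ := hst.theta
      obtain ⟨t, htF, ht0, htt⟩ : ∃ t : F, t ∈ F₀ ∧ t ≠ 0 ∧ t * f q p + σ (t * f q p) = 0 := by
        by_cases hqp : f q p = 0
        · exact ⟨1, F₀.one_mem, one_ne_zero, by rw [hqp, mul_zero, map_zero, add_zero]⟩
        · refine ⟨θ / f q p, F₀.div_mem hθF (hrat _ _ hq hp), div_ne_zero hθ0 hqp, ?_⟩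
          rw [div_mul_cancel₀ _ hqp]
          exact hθσ
      have hσt : σ t ≠ 0 := by
        intro h0
        apply ht0
        have := congrArg σ h0
        rwa [hst.inv, map_zero] at this
      refine ⟨p + t • q, hp.add (Rat.smul htF hq), ?_, ?_, ?_⟩
      · rw [hf.add_left, uf_add_right hf, uf_add_right hf, hf.smul_left, hf.smul_left,
          uf_smul_right hf, uf_smul_right hf, hpp, hqq, hf.herm p q]
        rw [map_mul] at htt
        linear_combination htt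
      · rw [uf_add_right hf, uf_smul_right hf, hwp, h2, mul_zero, add_zero]
        exact one_ne_zero
      · rw [uf_add_right hf, uf_smul_right hf, h1, hwq, mul_one, zero_add]
        exact hσt
    · exact ⟨q, hq, hqq, h2, by rw [hwq]; exact one_ne_zero⟩
  · exact ⟨p, hp, hpp, by rw [hwp]; exact one_ne_zero, h1⟩

end rational

end Cfsg.Agent.Helper93.SubfL.USf
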