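import Cfsg.Agent.Lib.Helper93.USfA

set_option autoImplicit false
set_option linter.unusedSectionVars false
set_option linter.unusedVariables false
set_option linter.unusedSimpArgs false
set_option linter.style.haveILetI false

/-!
# Subfield subgroups of `SU_n` (odd index): root elements of an overgroup
-/

namespace Cfsg.Agent.Helper93.SubfL.USf

open Matrix Cfsg.Geo Cfsg.Agent.Helper93
open Cfsg.Agent.Helper93.SubfL.SpSf (RatForm isomGroup mem_isomGroup sq_lemma subfield_top_of)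

variable {ι : Type} [Fintype ι] [DecidableEq ι] {F : Type*} [Field F]
variable {σ : F ≃+* F} {F₀ : Subfield F} {f : (ι → F) → (ι → F) → F} {M : Subgroup (GL ι F)}

/-- the subfield group inside the special isometry group -/
def HS (F₀ : Subfield F) (f : (ι → F) → (ι → F) → F) : Subgroup (GL ι F) :=
  subfieldSubgroup F₀ (1 : GL ι F) ⊓ (isomGroup f ⊓ specialLinear ι F)

/-- a transvection whose centre is the sum of two orthogonal isotropic vectors -/
lemma uref_add_smul (hf : IsUnitaryForm σ f) {u b : ι → F} (hu : f u u = 0) (hb : f b b = 0)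
    (hub : f u b = 0) (κ : F) {γ : F} (hγ : γ + σ γ = 0) :
    uref hf (u + κ • b) γ
      = uref hf u γ * uref hf b (κ * σ κ * γ) * usg hf u ((γ * κ) • b) 0 := by
  have hbu : f b u = 0 := uf_eq_zero_symm hf hub
  have hiso : f (u + κ • b) (u + κ • b) = 0 := uf_iso_add_smul hf hu hb hub κ
  have h1 : f u ((γ * κ) • b) = 0 := by rw [uf_smul_right hf, hub, mul_zero]
  apply gl_ext
  intro x
  simp only [gl_mul_apply, uref_apply_iso hf _ _ hiso, uref_apply_iso hf _ _ hu,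
    uref_apply_iso hf _ _ hb, usg_apply hf hu h1]
  simp only [hf.add_left, uf_add_right hf, uf_sub_left hf, hf.smul_left, uf_smul_right hf, hu, hb,
    hub, hbu, map_mul, mul_zero, zero_mul, add_zero, sub_zero, zero_smul]
  ext i
  simp only [Pi.add_apply, Pi.sub_apply, Pi.smul_apply, smul_eq_mul]
  linear_combination (σ κ * f x b * u i) * hγ

lemma uref_rat_mem (hf : IsUnitaryForm σ f) (hrat : RatForm F₀ f) {w : ι → F}
    (hw : Rat F₀ w) (hww : f w w = 0) {c : F} (hc : c ∈ F₀) (hcσ : c + σ c = 0) :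
    uref hf w c ∈ HS F₀ f := by
  refine Subgroup.mem_inf.2 ⟨?_, Subgroup.mem_inf.2
    ⟨(mem_isomGroup _).2 (uref_isom hf w c (uvalid_of_iso hww hcσ)), uref_mem_SL hf c hww⟩⟩
  apply mem_H1_of (lam := 1) one_ne_zero
  intro x hx
  rw [inv_one, one_smul, uref_apply_iso hf w c hww]
  exact hx.add (Rat.smul (F₀.mul_mem hc (hrat x w hx hw)) hw)

lemma usg_rat_mem (hf : IsUnitaryForm σ f) (hrat : RatForm F₀ f) {a b : ι → F}
    (ha : Rat F₀ a) (hb : Rat F₀ b) (haa : f a a = 0) (hab : f a b = 0) {c : F} (hc : c ∈ F₀)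
    (hcσ : c + σ c + f b b = 0) : usg hf a b c ∈ HS F₀ f := by
  refine Subgroup.mem_inf.2 ⟨?_, Subgroup.mem_inf.2
    ⟨(mem_isomGroup _).2 (usg_isom hf haa hab hcσ), usg_mem_SL hf a b c⟩⟩
  apply mem_H1_of (lam := 1) one_ne_zero
  intro x hx
  rw [inv_one, one_smul, usg_apply hf haa hab]
  exact ((hx.add (Rat.smul (hrat x a hx ha) hb)).sub (Rat.smul (hrat x b hx hb) ha)).add
    (Rat.smul (F₀.mul_mem hc (hrat x a hx ha)) ha)

/-- `u` is a centre of `M`, with all the rational parameters -/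
def UMC (hf : IsUnitaryForm σ f) (F₀ : Subfield F) (M : Subgroup (GL ι F)) (u : ι → F) : Prop :=
  ∀ γ ∈ F₀, γ + σ γ = 0 → uref hf u γ ∈ M

/-- every unitary transvection of `M` with rational centre has a rational parameter -/
def UNoBad (hf : IsUnitaryForm σ f) (F₀ : Subfield F) (M : Subgroup (GL ι F)) : Prop :=
  ∀ (w : ι → F) (c : F), Rat F₀ w → w ≠ 0 → f w w = 0 → uref hf w c ∈ M → c ∈ F₀

/-- the standing hypotheses on the overgroup `M` -/
structure UCtx (hf : IsUnitaryForm σ f) (F₀ : Subfield F) (M : Subgroup (GL ι F)) : Prop where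
  rat : RatForm F₀ f
  sig : SigSt σ F₀
  le : HS F₀ f ≤ M
  isom : M ≤ isomGroup f ⊓ specialLinear ι F

variable {hf : IsUnitaryForm σ f}

lemma UCtx.isom' (C : UCtx hf F₀ M) {m : GL ι F} (hm : m ∈ M) : Isom f m :=
  (mem_isomGroup m).1 (Subgroup.mem_inf.1 (C.isom hm)).1

lemma UMC.of_rat (C : UCtx hf F₀ M) {w : ι → F} (hw : Rat F₀ w) (hww : f w w = 0) :
    UMC hf F₀ M w :=
  fun γ hγ hγσ => C.le (uref_rat_mem hf C.rat hw hww hγ hγσ)

lemma UMC.map {c : ι → F} (hc : UMC hf F₀ M c) (C : UCtx hf F₀ M) {m : GL ι F} (hm : m ∈ M) :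
    UMC hf F₀ M ((m : Matrix ι ι F) *ᵥ c) := by
  intro γ hγ hγσ
  rw [← conj_uref hf m (C.isom' hm)]
  exact M.mul_mem (M.mul_mem hm (hc γ hγ hγσ)) (M.inv_mem hm)

lemma UMC.smul {c : ι → F} (hc : UMC hf F₀ M c) {lam : F} (hl : lam * σ lam ∈ F₀) :
    UMC hf F₀ M (lam • c) := by
  intro γ hγ hγσ
  rw [uref_smul]
  apply hc _ (by rw [mul_assoc]; exact F₀.mul_mem hγ hl)
  rw [map_mul, map_mul, hf.involutive]
  linear_combination (lam * σ lam) * hγσ

/-- a pure Siegel element with rational directions has a parameter of rational norm -/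
lemma uR1 (C : UCtx hf F₀ M) (hN : UNoBad hf F₀ M) {z b y : ι → F} (hz : Rat F₀ z)
    (hb : Rat F₀ b) (hb0 : b ≠ 0) (hy : Rat F₀ y) (hzz : f z z = 0) (hbb : f b b = 0)
    (hyy : f y y = 0) (hzb : f z b = 0) (hyz : f y z = 1) (hyb : f y b = 0) (x : F)
    (hY : usg hf z (x • b) 0 ∈ M) : x * σ x ∈ F₀ := by
  obtain ⟨θ, hθF, hθ0, hθσ⟩ := C.sig.theta
  have hbz : f b z = 0 := uf_eq_zero_symm hf hzb
  have hby : f b y = 0 := uf_eq_zero_symm hf hyb
  have hzy : f z y = 1 := by rw [hf.herm, hyz, map_one]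
  have h1 : f z (x • b) = 0 := by rw [uf_smul_right hf, hzb, mul_zero]
  have e1 : ((usg hf z (x • b) 0 : GL ι F) : Matrix ι ι F) *ᵥ y = y + x • b := by
    rw [usg_apply hf hzz h1]
    simp only [hyz, uf_smul_right hf, hyb, mul_zero, zero_mul, zero_smul, one_smul, sub_zero,
      add_zero]
  have m1 : UMC hf F₀ M (y + x • b) := by
    rw [← e1]; exact (UMC.of_rat C hy hyy).map C hY
  have h2 := m1 θ hθF hθσ
  rw [uref_add_smul hf hyy hbb hyb x hθσ] at h2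
  have h3 : uref hf b (x * σ x * θ) * usg hf y ((θ * x) • b) 0 ∈ M := by
    have := M.mul_mem (M.inv_mem (UMC.of_rat C hy hyy θ hθF hθσ)) h2
    rwa [mul_assoc, inv_mul_cancel_left] at this
  have h4 : f y ((θ * x) • b) = 0 := by rw [uf_smul_right hf, hyb, mul_zero]
  have e2 : ((uref hf b (x * σ x * θ) * usg hf y ((θ * x) • b) 0 : GL ι F) :
      Matrix ι ι F) *ᵥ z = z + (θ * x) • b := by
    simp only [gl_mul_apply, uref_apply_iso hf b _ hbb, usg_apply hf hyy h4]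
    simp only [hf.add_left, uf_sub_left hf, hf.smul_left, uf_smul_right hf, hzy, hzb, hbb, hyb,
      hby, mul_zero, zero_mul, zero_smul, one_smul, add_zero, sub_zero]
  have m2 : UMC hf F₀ M (z + (θ * x) • b) := by
    rw [← e2]; exact (UMC.of_rat C hz hzz).map C h3
  have hγ' : -θ⁻¹ + σ (-θ⁻¹) = 0 := by
    have := theta_inv (σ := σ) hθσ
    rw [map_neg]
    linear_combination -this
  have hγ'F : -θ⁻¹ ∈ F₀ := F₀.neg_mem (F₀.inv_mem hθF)
  have h5 := m2 (-θ⁻¹) hγ'F hγ'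
  rw [uref_add_smul hf hzz hbb hzb (θ * x) hγ'] at h5
  have h6 : uref hf b (θ * x * σ (θ * x) * -θ⁻¹) * usg hf z ((-θ⁻¹ * (θ * x)) • b) 0 ∈ M := by
    have := M.mul_mem (M.inv_mem (UMC.of_rat C hz hzz (-θ⁻¹) hγ'F hγ')) h5
    rwa [mul_assoc, inv_mul_cancel_left] at this
  have e3 : (-θ⁻¹ * (θ * x)) • b = (-x) • b := by
    rw [neg_mul, inv_mul_cancel_left₀ hθ0]
  rw [e3] at h6
  have h7 := M.mul_mem h6 hY
  have h8 : f z ((-x) • b) = 0 := by rw [uf_smul_right hf, hzb, mul_zero]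
  have e4 : usg hf z ((-x) • b) 0 * usg hf z (x • b) 0 = 1 := by
    rw [usg_mul hf hzz h8 h1]
    have e5 : (-x) • b + x • b = 0 := by rw [neg_smul, neg_add_cancel]
    have e6 : (0 : F) + 0 - f (x • b) ((-x) • b) = 0 := by
      rw [hf.smul_left, uf_smul_right hf, hbb, mul_zero, mul_zero, add_zero, sub_zero]
    rw [e5, e6, usg_zero_right hf hzz, uref_zero]
  rw [mul_assoc, e4, mul_one] at h7
  have h9 := hN b _ hb hb0 hbb h7
  have hσθ : σ θ = -θ := by linear_combination hθσ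
  have e7 : θ * x * σ (θ * x) * -θ⁻¹ = θ * (x * σ x) := by
    rw [map_mul, hσθ]
    have e8 : θ * θ⁻¹ = 1 := mul_inv_cancel₀ hθ0
    linear_combination (θ * x * σ x) * e8
  rw [e7] at h9
  have : x * σ x = θ⁻¹ * (θ * (x * σ x)) := by rw [inv_mul_cancel_left₀ hθ0]
  rw [this]
  exact F₀.mul_mem (F₀.inv_mem hθF) h9

/-- a centre `w + κ b` with `w ⊥ b` rational isotropic and independent has `κ` rational -/
lemma u_two_term [Finite F] (C : UCtx hf F₀ M) (hN : UNoBad hf F₀ M)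
    (hn : 7 ≤ Fintype.card ι) {w b : ι → F} (hw : Rat F₀ w) (hw0 : w ≠ 0) (hb : Rat F₀ b)
    (hww : f w w = 0) (hbb : f b b = 0) (hwb : f w b = 0) (hind : ∀ α : F, b ≠ α • w) {κ : F}
    (hc : UMC hf F₀ M (w + κ • b)) : κ ∈ F₀ := by
  have hrat := C.rat
  have hst := C.sig
  obtain ⟨θ, hθF, hθ0, hθσ⟩ := hst.theta
  obtain ⟨μ₀, hμ₀, hμne⟩ := hst.mov
  have hbw : f b w = 0 := uf_eq_zero_symm hf hwb
  have hb0 : b ≠ 0 := fun h => hind 0 (by rw [h, zero_smul])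
  obtain ⟨pw, hpw, hwpw, hbpw⟩ := exists_rat_dual2 hf hrat hw hw0 hb hind
    (F₀.neg_mem F₀.one_mem) F₀.zero_mem
  obtain ⟨pb, hpb, hwpb, hbpb⟩ := exists_rat_dual2 hf hrat hw hw0 hb hind F₀.zero_mem F₀.one_mem
  obtain ⟨b3, hb3, hb30, hb3b3, hk⟩ := exists_rat_iso hf hrat hst 4 ![w, b, pw, pb]
    (by intro k; fin_cases k; exacts [hw, hb, hpw, hpb]) (by omega)
  have hb3w : f b3 w = 0 := hk 0
  have hb3b : f b3 b = 0 := hk 1
  have hb3pw : f b3 pw = 0 := hk 2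
  have hb3pb : f b3 pb = 0 := hk 3
  have hwb3 : f w b3 = 0 := uf_eq_zero_symm hf hb3w
  have hbb3 : f b b3 = 0 := uf_eq_zero_symm hf hb3b
  have hindb : ∀ α : F, b ≠ α • b3 := by
    intro α h
    have h1 : f b pb = α * f b3 pb := by rw [← hf.smul_left, ← h]
    rw [hbpb, hb3pb, mul_zero] at h1
    exact one_ne_zero h1
  obtain ⟨y, hy, hyy, hb3y, hyb3, hby, hyb⟩ :=
    hyp_partner2 hf hrat hst hb3 hb30 hb3b3 hb hindb hbb3
  have hfix : σ (-(f pw pw)) = -(f pw pw) := by rw [map_neg, uf_self hf]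
  obtain ⟨cp, hcp, hcpσ⟩ := hst.tr_surj (F₀.neg_mem (hrat _ _ hpw hpw)) hfix
  have hcp' : cp + σ cp + f pw pw = 0 := by linear_combination hcpσ
  have hm : usg hf b3 pw cp ∈ M := C.le (usg_rat_mem hf hrat hb3 hpw hb3b3 hb3pw hcp hcp')
  have huu : f (w + κ • b) (w + κ • b) = 0 := uf_iso_add_smul hf hww hbb hwb κ
  have hub3 : f (w + κ • b) b3 = 0 := by
    rw [hf.add_left, hf.smul_left, hwb3, hbb3, mul_zero, add_zero]
  have e3 : ((usg hf b3 pw cp : GL ι F) : Matrix ι ι F) *ᵥ (w + κ • b)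
      = (w + κ • b) + (1 : F) • b3 := by
    rw [usg_apply hf hb3b3 hb3pw, hub3]
    have e : f (w + κ • b) pw = -1 := by
      rw [hf.add_left, hf.smul_left, hwpw, hbpw, mul_zero, add_zero]
    rw [e]
    simp only [zero_smul, mul_zero, add_zero, neg_smul, one_smul, sub_neg_eq_add]
  have m3 : UMC hf F₀ M ((w + κ • b) + (1 : F) • b3) := by
    rw [← e3]; exact hc.map C hm
  have hrho : ∀ γ ∈ F₀, γ + σ γ = 0 → usg hf b3 ((γ * κ) • b) 0 ∈ M := by
    intro γ hγ hγσ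
    have h1 := m3 γ hγ hγσ
    rw [uref_add_smul hf huu hb3b3 hub3 1 hγσ] at h1
    simp only [map_one, one_mul, mul_one] at h1
    have h2 : usg hf (w + κ • b) (γ • b3) 0 ∈ M := by
      have := M.mul_mem (M.inv_mem (M.mul_mem (hc γ hγ hγσ)
        (UMC.of_rat C hb3 hb3b3 γ hγ hγσ))) h1
      rwa [inv_mul_cancel_left] at this
    have hσγ : -σ γ = γ := by linear_combination -hγσ
    rw [usg_swap hf huu hb3b3 hub3 γ, hσγ] at h2
    have e5 : γ • (w + κ • b) = γ • w + (γ * κ) • b := by rw [smul_add, smul_smul]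
    have h3 : f b3 (γ • w) = 0 := by rw [uf_smul_right hf, hb3w, mul_zero]
    have h4 : f b3 ((γ * κ) • b) = 0 := by rw [uf_smul_right hf, hb3b, mul_zero]
    have e6 : usg hf b3 (γ • w) 0 * usg hf b3 ((γ * κ) • b) 0
        = usg hf b3 (γ • w + (γ * κ) • b) 0 := by
      rw [usg_mul hf hb3b3 h3 h4]
      congr 1
      rw [hf.smul_left, uf_smul_right hf, hbw, mul_zero, mul_zero, add_zero, sub_zero]
    rw [e5, ← e6] at h2
    have h5 : usg hf b3 (γ • w) 0 ∈ M := by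
      apply C.le
      apply usg_rat_mem hf hrat hb3 (Rat.smul hγ hw) hb3b3 h3 F₀.zero_mem
      rw [map_zero, add_zero, zero_add, hf.smul_left, uf_smul_right hf, hww, mul_zero, mul_zero]
    have h6 := M.mul_mem (M.inv_mem h5) h2
    rwa [inv_mul_cancel_left] at h6
  have hsq : ∀ x : F, usg hf b3 (x • b) 0 ∈ M → x * σ x ∈ F₀ := fun x hx =>
    uR1 C hN hb3 hb hb0 hy hb3b3 hbb hyy hb3b hyb3 hyb x hx
  have hθθ : θ * σ θ ∈ F₀ := F₀.mul_mem hθF (hst.stab _ hθF)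
  have hθθ0 : θ * σ θ ≠ 0 := by
    apply mul_ne_zero hθ0
    intro h0
    apply hθ0
    have := congrArg σ h0
    rwa [hst.inv, map_zero] at this
  have hNμ : ∀ μ ∈ F₀, (μ + κ) * σ (μ + κ) ∈ F₀ := by
    intro μ hμ
    have h1 := hrho θ hθF hθσ
    have h7 : f b3 ((θ * μ) • b) = 0 := by rw [uf_smul_right hf, hb3b, mul_zero]
    have h8 : f b3 ((θ * κ) • b) = 0 := by rw [uf_smul_right hf, hb3b, mul_zero]
    have h2 : usg hf b3 ((θ * μ) • b) 0 ∈ M := by
      apply C.le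
      apply usg_rat_mem hf hrat hb3 (Rat.smul (F₀.mul_mem hθF hμ) hb) hb3b3 h7 F₀.zero_mem
      rw [map_zero, add_zero, zero_add, hf.smul_left, uf_smul_right hf, hbb, mul_zero, mul_zero]
    have h3 := M.mul_mem h2 h1
    have e : usg hf b3 ((θ * μ) • b) 0 * usg hf b3 ((θ * κ) • b) 0
        = usg hf b3 ((θ * (μ + κ)) • b) 0 := by
      rw [usg_mul hf hb3b3 h7 h8]
      have e1 : (θ * μ) • b + (θ * κ) • b = (θ * (μ + κ)) • b := by rw [← add_smul, mul_add]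
      have e2 : (0 : F) + 0 - f ((θ * κ) • b) ((θ * μ) • b) = 0 := by
        rw [hf.smul_left, uf_smul_right hf, hbb, mul_zero, mul_zero, add_zero, sub_zero]
      rw [e1, e2]
    rw [e] at h3
    have h4 := hsq _ h3
    rw [map_mul] at h4
    have e3 : θ * (μ + κ) * (σ θ * σ (μ + κ)) = (θ * σ θ) * ((μ + κ) * σ (μ + κ)) := by ring
    rw [e3] at h4
    have e4 : (μ + κ) * σ (μ + κ) = (θ * σ θ)⁻¹ * ((θ * σ θ) * ((μ + κ) * σ (μ + κ))) := by
      rw [inv_mul_cancel_left₀ hθθ0]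
    rw [e4]
    exact F₀.mul_mem (F₀.inv_mem hθθ) h4
  have h0 := hNμ 0 F₀.zero_mem
  rw [zero_add] at h0
  have h1 := hNμ 1 F₀.one_mem
  have h2 := hNμ μ₀ hμ₀
  have t1 : κ + σ κ ∈ F₀ := by
    have e : κ + σ κ = (1 + κ) * σ (1 + κ) - 1 - κ * σ κ := by
      rw [map_add, map_one]; ring
    rw [e]
    exact F₀.sub_mem (F₀.sub_mem h1 F₀.one_mem) h0
  have t2 : μ₀ * σ κ + κ * σ μ₀ ∈ F₀ := by
    have e : μ₀ * σ κ + κ * σ μ₀ = (μ₀ + κ) * σ (μ₀ + κ) - μ₀ * σ μ₀ - κ * σ κ := by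
      rw [map_add]; ring
    rw [e]
    exact F₀.sub_mem (F₀.sub_mem h2 (F₀.mul_mem hμ₀ (hst.stab _ hμ₀))) h0
  have hd : σ μ₀ - μ₀ ≠ 0 := sub_ne_zero.2 hμne
  have e : κ = (μ₀ * σ κ + κ * σ μ₀ - μ₀ * (κ + σ κ)) / (σ μ₀ - μ₀) := by
    rw [eq_div_iff hd]; ring
  rw [e]
  exact F₀.div_mem (F₀.sub_mem t2 (F₀.mul_mem hμ₀ t1)) (F₀.sub_mem (hst.stab _ hμ₀) hμ₀)

end Cfsg.Agent.Helper93.SubfL.USf
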