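import Cfsg.Agent.Lib.Helper93.USfB

set_option autoImplicit false
set_option linter.unusedSectionVars false
set_option linter.unusedVariables false
set_option linter.unusedSimpArgs false
set_option linter.style.haveILetI false

/-!
# Subfield subgroups of `SU_n` (odd index): centres orthogonal to a rational isotropic vector
-/

namespace Cfsg.Agent.Helper93.SubfL.USf

open Matrix Cfsg.Geo Cfsg.Agent.Helper93
open Cfsg.Agent.Helper93.SubfL.SpSf (RatForm isomGroup mem_isomGroup sq_lemma subfield_top_of)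

variable {ι : Type} [Fintype ι] [DecidableEq ι] {F : Type*} [Field F]
variable {σ : F ≃+* F} {F₀ : Subfield F} {f : (ι → F) → (ι → F) → F} {M : Subgroup (GL ι F)}
variable {hf : IsUnitaryForm σ f}

/-- a centre of `M` orthogonal to a non-zero rational isotropic vector is a rational point -/
lemma uNG [Finite F] (C : UCtx hf F₀ M) (hN : UNoBad hf F₀ M) (hn : 7 ≤ Fintype.card ι)
    {u : ι → F} (hu : UMC hf F₀ M u) (huu : f u u = 0) {b0 : ι → F} (hb0 : Rat F₀ b0)
    (hb00 : b0 ≠ 0) (hbb : f b0 b0 = 0) (hub : f u b0 = 0) :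
    ∃ (lam : F) (v : ι → F), Rat F₀ v ∧ u = lam • v := by
  have hrat := C.rat
  have hst := C.sig
  obtain ⟨θ, hθF, hθ0, hθσ⟩ := hst.theta
  have hbu : f b0 u = 0 := uf_eq_zero_symm hf hub
  have step1 : ∀ a x : ι → F, Rat F₀ a → Rat F₀ x → f b0 a = 0 → f x x = 0 → f x b0 = 0 →
      f u a * f x u ∈ F₀ := by
    intro a x ha hx hba hxx hxb
    by_cases hdep : ∃ α : F, x = α • b0
    · obtain ⟨α, hα⟩ := hdep
      rw [hα, hf.smul_left, hbu, mul_zero, mul_zero]
      exact F₀.zero_mem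
    · push Not at hdep
      have hx0 : x ≠ 0 := fun h => hdep 0 (by rw [h, zero_smul])
      have hind : ∀ α : F, b0 ≠ α • x := by
        intro α h
        have hα : α ≠ 0 := by
          intro h0; rw [h0, zero_smul] at h; exact hb00 h
        apply hdep α⁻¹
        rw [h, smul_smul, inv_mul_cancel₀ hα, one_smul]
      have hfix : σ (-(f a a)) = -(f a a) := by rw [map_neg, uf_self hf]
      obtain ⟨ca, hca, hcaσ⟩ := hst.tr_surj (F₀.neg_mem (hrat _ _ ha ha)) hfix
      have hca' : ca + σ ca + f a a = 0 := by linear_combination hcaσ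
      have hm : usg hf b0 a ca ∈ M := C.le (usg_rat_mem hf hrat hb0 ha hbb hba hca hca')
      have e1 : ((usg hf b0 a ca : GL ι F) : Matrix ι ι F) *ᵥ u = u + (-(f u a)) • b0 := by
        rw [usg_apply hf hbb hba, hub]
        simp only [zero_smul, mul_zero, add_zero, neg_smul, sub_eq_add_neg]
      have m1 : UMC hf F₀ M (u + (-(f u a)) • b0) := by rw [← e1]; exact hu.map C hm
      have h1 := m1 θ hθF hθσ
      rw [uref_add_smul hf huu hbb hub (-(f u a)) hθσ] at h1
      have h2 : uref hf b0 (-(f u a) * σ (-(f u a)) * θ)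
          * usg hf u ((θ * -(f u a)) • b0) 0 ∈ M := by
        have := M.mul_mem (M.inv_mem (hu θ hθF hθσ)) h1
        rwa [mul_assoc, inv_mul_cancel_left] at this
      have h3 : f u ((θ * -(f u a)) • b0) = 0 := by rw [uf_smul_right hf, hub, mul_zero]
      have e2 : ((uref hf b0 (-(f u a) * σ (-(f u a)) * θ)
          * usg hf u ((θ * -(f u a)) • b0) 0 : GL ι F) : Matrix ι ι F) *ᵥ x
          = x + (f x u * (θ * -(f u a))) • b0 := by
        simp only [gl_mul_apply, uref_apply_iso hf b0 _ hbb, usg_apply hf huu h3]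
        simp only [hf.add_left, uf_sub_left hf, hf.smul_left, uf_smul_right hf, hxb, hbb, hub,
          hbu, mul_zero, zero_mul, zero_smul, add_zero, sub_zero, smul_smul]
      have m2 : UMC hf F₀ M (x + (f x u * (θ * -(f u a))) • b0) := by
        rw [← e2]; exact (UMC.of_rat C hx hxx).map C h2
      have h4 := u_two_term C hN hn hx hx0 hb0 hxx hbb hxb hind m2
      have e : f u a * f x u = -θ⁻¹ * (f x u * (θ * -(f u a))) := by
        have e8 : θ * θ⁻¹ = 1 := mul_inv_cancel₀ hθ0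
        linear_combination (-(f u a) * f x u) * e8
      rw [e]
      exact F₀.mul_mem (F₀.neg_mem (F₀.inv_mem hθF)) h4
  obtain ⟨p0, hp0, hb0p0⟩ := exists_rat_dual1 hf hrat hb0 hb00 F₀.one_mem
  have hp0b0 : f p0 b0 = 1 := by rw [hf.herm, hb0p0, map_one]
  have hajrat : ∀ j : ι, Rat F₀ (Pi.single j 1 - f (Pi.single j 1) b0 • p0) := fun j =>
    (Rat.single j).sub (Rat.smul (hrat _ _ (Rat.single j) hb0) hp0)
  have hajb : ∀ j : ι, f (Pi.single j 1 - f (Pi.single j 1) b0 • p0) b0 = 0 := by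
    intro j
    rw [uf_sub_left hf, hf.smul_left, hp0b0, mul_one, sub_self]
  by_cases hall : ∀ x : ι → F, Rat F₀ x → f x x = 0 → f x b0 = 0 → f x u = 0
  · have hperp : ∀ a : ι → F, Rat F₀ a → f a b0 = 0 → f a u = 0 := by
      intro a ha hab
      obtain ⟨z1, z2, z3, c2, c3, hz1, hz2, hz3, h11, h22, h33, h1b, h2b, h3b, hc2, hc3, hsum⟩ :=
        iso_decomp hf hrat hst (by omega) hb0 hb00 hbb ha hab
      rw [hsum, hf.add_left, hf.add_left, hf.smul_left, hf.smul_left, hall z1 hz1 h11 h1b,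
        hall z2 hz2 h22 h2b, hall z3 hz3 h33 h3b, mul_zero, mul_zero, add_zero, add_zero]
    refine ⟨f u p0, b0, hb0, ?_⟩
    apply sub_eq_zero.mp
    apply eq_zero_of_basis_perp_u hf
    intro j
    have h1 := hperp _ (hajrat j) (hajb j)
    rw [uf_sub_left hf, hf.smul_left] at h1
    rw [uf_sub_right hf, uf_smul_right hf, ← hf.herm p0 u]
    linear_combination h1
  · push Not at hall
    obtain ⟨x0, hx0, hx0x0, hx0b, hν⟩ := hall
    have hb0x0 : f b0 x0 = 0 := uf_eq_zero_symm hf hx0b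
    have hνN : f u x0 * f x0 u ∈ F₀ := step1 x0 x0 hx0 hx0 hb0x0 hx0x0 hx0b
    have hσν : σ (f x0 u) = f u x0 := (hf.herm u x0).symm
    have hu' : UMC hf F₀ M (f x0 u • u) := by
      apply hu.smul
      rw [hσν, mul_comm]
      exact hνN
    obtain ⟨θ2, hθ2⟩ : ∃ θ2 : F, θ2 = f (f x0 u • u) p0 := ⟨_, rfl⟩
    obtain ⟨w0, hw0_def⟩ : ∃ w0 : ι → F, w0 = f x0 u • u - θ2 • b0 := ⟨_, rfl⟩
    have hw0 : Rat F₀ w0 := by
      apply rat_of_dual_u hf hrat hst
      intro j
      have hba : f b0 (Pi.single j 1 - f (Pi.single j 1) b0 • p0) = 0 :=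
        uf_eq_zero_symm hf (hajb j)
      have h1 := step1 _ x0 (hajrat j) hx0 hba hx0x0 hx0b
      have e : f w0 (Pi.single j 1)
          = f u (Pi.single j 1 - f (Pi.single j 1) b0 • p0) * f x0 u := by
        rw [hw0_def, uf_sub_left hf, hf.smul_left, hf.smul_left, uf_sub_right hf,
          uf_smul_right hf, hθ2, hf.smul_left, hf.herm b0 (Pi.single j 1)]
        ring
      rw [e]; exact h1
    have hw0b : f w0 b0 = 0 := by
      rw [hw0_def, uf_sub_left hf, hf.smul_left, hf.smul_left, hub, hbb, mul_zero, mul_zero,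
        sub_zero]
    have hw0w0 : f w0 w0 = 0 := by
      rw [hw0_def]
      simp only [uf_sub_left hf, uf_sub_right hf, hf.smul_left, uf_smul_right hf, huu, hub, hbu,
        hbb, mul_zero, sub_zero]
    have hsum : f x0 u • u = w0 + θ2 • b0 := by rw [hw0_def, sub_add_cancel]
    by_cases hdep : ∃ α : F, w0 = α • b0
    · obtain ⟨α, hα⟩ := hdep
      refine ⟨(f x0 u)⁻¹ * (α + θ2), b0, hb0, ?_⟩
      rw [hα, ← add_smul] at hsum
      rw [mul_smul, ← hsum, inv_smul_smul₀ hν]
    · push Not at hdep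
      have hw00 : w0 ≠ 0 := fun h => hdep 0 (by rw [h, zero_smul])
      have hind : ∀ α : F, b0 ≠ α • w0 := by
        intro α h
        have hα : α ≠ 0 := by
          intro h0; rw [h0, zero_smul] at h; exact hb00 h
        apply hdep α⁻¹
        rw [h, smul_smul, inv_mul_cancel₀ hα, one_smul]
      have hc : UMC hf F₀ M (w0 + θ2 • b0) := by rw [← hsum]; exact hu'
      have hθ2' := u_two_term C hN hn hw0 hw00 hb0 hw0w0 hbb hw0b hind hc
      refine ⟨(f x0 u)⁻¹, f x0 u • u, ?_, ?_⟩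
      · rw [hsum]; exact hw0.add (Rat.smul hθ2' hb0)
      · rw [inv_smul_smul₀ hν]

/-- basic facts on an image which is a multiple of a vector -/
lemma img_facts (hf : IsUnitaryForm σ f) {g : GL ι F} (hg : Isom f g) {x v : ι → F} {lam : F}
    (hx0 : x ≠ 0) (hxx : f x x = 0) (h : (g : Matrix ι ι F) *ᵥ x = lam • v) :
    lam ≠ 0 ∧ v ≠ 0 ∧ f v v = 0 ∧ σ lam ≠ 0 := by
  have hgx0 : (g : Matrix ι ι F) *ᵥ x ≠ 0 := fun h0 => hx0 (gl_mulVec_eq_zero h0)
  have hlam : lam ≠ 0 := by
    intro h0; apply hgx0; rw [h, h0, zero_smul]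
  have hv0 : v ≠ 0 := by
    intro h0; apply hgx0; rw [h, h0, smul_zero]
  have hσ : σ lam ≠ 0 := by
    intro h0
    apply hlam
    have := congrArg σ h0
    rwa [hf.involutive, map_zero] at this
  refine ⟨hlam, hv0, ?_, hσ⟩
  have h1 := hg x x
  rw [h, hf.smul_left, uf_smul_right hf, hxx] at h1
  rcases mul_eq_zero.mp h1 with h2 | h2
  · exact absurd h2 hlam
  · rcases mul_eq_zero.mp h2 with h3 | h3
    · exact absurd h3 hσ
    · exact h3

/-- an element of `M` mapping one rational isotropic point to a rational point maps all of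
them to rational points -/
lemma image_rat_of_one [Finite F] (C : UCtx hf F₀ M) (hN : UNoBad hf F₀ M)
    (hn : 7 ≤ Fintype.card ι) {g : GL ι F} (hg : g ∈ M) {a : ι → F} (ha : Rat F₀ a)
    (ha0 : a ≠ 0) (haa : f a a = 0)
    (hga : ∃ (lam : F) (v : ι → F), Rat F₀ v ∧ (g : Matrix ι ι F) *ᵥ a = lam • v)
    (e : ι → F) (he : Rat F₀ e) (hee : f e e = 0) :
    ∃ (lam : F) (v : ι → F), Rat F₀ v ∧ (g : Matrix ι ι F) *ᵥ e = lam • v := by
  have hrat := C.rat
  have hst := C.sig
  have hgI : Isom f g := C.isom' hg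
  by_cases he0 : e = 0
  · exact ⟨0, 0, Rat.zero, by rw [he0, Matrix.mulVec_zero, smul_zero]⟩
  obtain ⟨b', hb', hb'0, hb'b', hk⟩ := exists_rat_iso hf hrat hst 2 ![a, e]
    (by intro k; fin_cases k; exacts [ha, he]) (by omega)
  have hb'a : f b' a = 0 := hk 0
  have hb'e : f b' e = 0 := hk 1
  have heb' : f e b' = 0 := uf_eq_zero_symm hf hb'e
  obtain ⟨lam, v, hv, hgav⟩ := hga
  obtain ⟨hlam, hv0, hvv, hσlam⟩ := img_facts hf hgI ha0 haa hgav
  have h1 : f ((g : Matrix ι ι F) *ᵥ b') v = 0 := by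
    have h2 := hgI b' a
    rw [hgav, uf_smul_right hf, hb'a] at h2
    exact (mul_eq_zero.mp h2).resolve_left hσlam
  have hgb'iso : f ((g : Matrix ι ι F) *ᵥ b') ((g : Matrix ι ι F) *ᵥ b') = 0 := by
    rw [hgI]; exact hb'b'
  obtain ⟨lam', v', hv', hgb'v'⟩ :=
    uNG C hN hn ((UMC.of_rat C hb' hb'b').map C hg) hgb'iso hv hv0 hvv h1
  obtain ⟨hlam', hv'0, hv'v', hσlam'⟩ := img_facts hf hgI hb'0 hb'b' hgb'v'
  have h3 : f ((g : Matrix ι ι F) *ᵥ e) v' = 0 := by
    have h2 := hgI e b'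
    rw [hgb'v', uf_smul_right hf, heb'] at h2
    exact (mul_eq_zero.mp h2).resolve_left hσlam'
  have hgeiso : f ((g : Matrix ι ι F) *ᵥ e) ((g : Matrix ι ι F) *ᵥ e) = 0 := by
    rw [hgI]; exact hee
  exact uNG C hN hn ((UMC.of_rat C he hee).map C hg) hgeiso hv' hv'0 hv'v' h3

end Cfsg.Agent.Helper93.SubfL.USf
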