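import Cfsg.Agent.Lib.Helper93.USfC
import Cfsg.Agent.Lib.Helper98.USfP1

set_option autoImplicit false
set_option linter.unusedSectionVars false
set_option linter.unusedVariables false
set_option linter.unusedSimpArgs false
set_option linter.style.haveILetI false

/-!
# Subfield subgroups of `SU_n` (odd index): the section of a degenerate three-space
-/

namespace Cfsg.Agent.Helper93.SubfL.USf

open Matrix Cfsg.Geo Cfsg.Agent.Helper93
open Cfsg.Agent.Helper93.SubfL.SpSf (RatForm isomGroup mem_isomGroup sq_lemma subfield_top_of)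
open Cfsg.Agent.Helper98.Ident Cfsg.Agent.Helper98.Dickson

section lift3

variable {ι : Type} [Fintype ι] [DecidableEq ι] {F : Type*} [Field F]
variable {M : Subgroup (GL ι F)}

/-- the element `h` of `SL₂` is induced, up to a sign and modulo `w`, on `⟨e1, e2, w⟩ / ⟨w⟩` by an
element of `M` fixing `w` -/
def L3 (M : Subgroup (GL ι F)) (w e1 e2 : ι → F) (h : S2 F) : Prop :=
  ∃ d ∈ M, ∃ s : F, s * s = 1 ∧ (d : Matrix ι ι F) *ᵥ w = w ∧
    (∃ ξ : F, (d : Matrix ι ι F) *ᵥ e1 = s • (h.1 0 0 • e1 + h.1 1 0 • e2) + ξ • w) ∧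
    (∃ ξ : F, (d : Matrix ι ι F) *ᵥ e2 = s • (h.1 0 1 • e1 + h.1 1 1 • e2) + ξ • w)

lemma L3.one (w e1 e2 : ι → F) : L3 M w e1 e2 1 := by
  refine ⟨1, M.one_mem, 1, one_mul 1, gl_one_apply w, ⟨0, ?_⟩, ⟨0, ?_⟩⟩
  · rw [gl_one_apply, one_ent00, one_ent10]
    simp only [one_smul, zero_smul, add_zero]
  · rw [gl_one_apply, one_ent01, one_ent11]
    simp only [one_smul, zero_smul, add_zero, zero_add]

lemma L3.mul {w e1 e2 : ι → F} {h1 h2 : S2 F} (H1 : L3 M w e1 e2 h1) (H2 : L3 M w e1 e2 h2) :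
    L3 M w e1 e2 (h1 * h2) := by
  obtain ⟨d1, hd1, s1, hs1, hw1, ⟨ξ11, he1⟩, ⟨ξ12, hu1⟩⟩ := H1
  obtain ⟨d2, hd2, s2, hs2, hw2, ⟨ξ21, he2⟩, ⟨ξ22, hu2⟩⟩ := H2
  refine ⟨d1 * d2, M.mul_mem hd1 hd2, s1 * s2, by rw [mul_mul_mul_comm, hs1, hs2, mul_one], ?_,
    ⟨s2 * (h2.1 0 0 * ξ11 + h2.1 1 0 * ξ12) + ξ21, ?_⟩,
    ⟨s2 * (h2.1 0 1 * ξ11 + h2.1 1 1 * ξ12) + ξ22, ?_⟩⟩
  · rw [gl_mul_apply, hw2, hw1]
  · rw [gl_mul_apply, he2]
    simp only [Matrix.mulVec_add, Matrix.mulVec_smul]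
    rw [he1, hu1, hw1, mul_ent, mul_ent]
    module
  · rw [gl_mul_apply, hu2]
    simp only [Matrix.mulVec_add, Matrix.mulVec_smul]
    rw [he1, hu1, hw1, mul_ent, mul_ent]
    module

lemma L3.inv {w e1 e2 : ι → F} {h : S2 F} (H : L3 M w e1 e2 h) : L3 M w e1 e2 h⁻¹ := by
  obtain ⟨d, hd, s, hs, hw, ⟨ξ1, he⟩, ⟨ξ2, hu⟩⟩ := H
  have hdet := det_eq h
  have hw' : ((d⁻¹ : GL ι F) : Matrix ι ι F) *ᵥ w = w := by
    have := gl_inv_apply_apply d w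
    rwa [hw] at this
  refine ⟨d⁻¹, M.inv_mem hd, s, hs, hw', ⟨-(s * (h.1 1 1 * ξ1 - h.1 1 0 * ξ2)), ?_⟩,
    ⟨-(s * (h.1 0 0 * ξ2 - h.1 0 1 * ξ1)), ?_⟩⟩
  · rw [inv_ent00, inv_ent10]
    have key : (d : Matrix ι ι F) *ᵥ (s • (h.1 1 1 • e1 + (-h.1 1 0) • e2)
        + (-(s * (h.1 1 1 * ξ1 - h.1 1 0 * ξ2))) • w) = e1 := by
      simp only [Matrix.mulVec_add, Matrix.mulVec_smul]
      rw [he, hu, hw]
      have e1' : s • (h.1 1 1 • (s • (h.1 0 0 • e1 + h.1 1 0 • e2) + ξ1 • w)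
          + (-h.1 1 0) • (s • (h.1 0 1 • e1 + h.1 1 1 • e2) + ξ2 • w))
          + (-(s * (h.1 1 1 * ξ1 - h.1 1 0 * ξ2))) • w
          = (s * s * (h.1 0 0 * h.1 1 1 - h.1 0 1 * h.1 1 0)) • e1 := by module
      rw [e1', hs, hdet, one_mul, one_smul]
    have h7 := gl_inv_apply_apply d (s • (h.1 1 1 • e1 + (-h.1 1 0) • e2)
        + (-(s * (h.1 1 1 * ξ1 - h.1 1 0 * ξ2))) • w)
    rw [key] at h7
    exact h7
  · rw [inv_ent01, inv_ent11]
    have key : (d : Matrix ι ι F) *ᵥ (s • ((-h.1 0 1) • e1 + h.1 0 0 • e2)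
        + (-(s * (h.1 0 0 * ξ2 - h.1 0 1 * ξ1))) • w) = e2 := by
      simp only [Matrix.mulVec_add, Matrix.mulVec_smul]
      rw [he, hu, hw]
      have e1' : s • ((-h.1 0 1) • (s • (h.1 0 0 • e1 + h.1 1 0 • e2) + ξ1 • w)
          + h.1 0 0 • (s • (h.1 0 1 • e1 + h.1 1 1 • e2) + ξ2 • w))
          + (-(s * (h.1 0 0 * ξ2 - h.1 0 1 * ξ1))) • w
          = (s * s * (h.1 0 0 * h.1 1 1 - h.1 0 1 * h.1 1 0)) • e2 := by module
      rw [e1', hs, hdet, one_mul, one_smul]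
    have h7 := gl_inv_apply_apply d (s • ((-h.1 0 1) • e1 + h.1 0 0 • e2)
        + (-(s * (h.1 0 0 * ξ2 - h.1 0 1 * ξ1))) • w)
    rw [key] at h7
    exact h7

theorem l3_closure {w e1 e2 : ι → F} (gens : Set (S2 F))
    (hgens : ∀ h ∈ gens, L3 M w e1 e2 h) : ∀ h ∈ Subgroup.closure gens, L3 M w e1 e2 h := by
  intro h hh
  induction hh using Subgroup.closure_induction with
  | mem x hx => exact hgens x hx
  | one => exact L3.one w e1 e2
  | mul x y _ _ hx hy => exact hx.mul hy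
  | inv x _ hx => exact hx.inv

lemma l3_center {w e1 e2 : ι → F} {h : S2 F} (hz : h ∈ Subgroup.center (S2 F)) :
    L3 M w e1 e2 h := by
  obtain ⟨h10, h01, hd, h00⟩ := center_entries hz
  have hs : h.1 0 0 * h.1 0 0 = 1 := by
    rcases h00 with h' | h' <;> rw [h'] <;> ring
  refine ⟨1, M.one_mem, h.1 0 0, hs, gl_one_apply w, ⟨0, ?_⟩, ⟨0, ?_⟩⟩
  · rw [gl_one_apply, h10]
    simp only [zero_smul, add_zero, smul_smul]
    rw [hs, one_smul]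
  · rw [gl_one_apply, h01, ← hd]
    simp only [zero_smul, add_zero, zero_add, smul_smul]
    rw [hs, one_smul]

/-- the entries of the torus element built from two Weyl elements -/
lemma torus_ent {a b : F} (ha : a ≠ 0) (hb : b ≠ 0) :
    ((uu a * ll (-a⁻¹) * uu a) * (uu b * ll (-b⁻¹) * uu b)⁻¹ : S2 F).1 0 1 = 0 ∧
    ((uu a * ll (-a⁻¹) * uu a) * (uu b * ll (-b⁻¹) * uu b)⁻¹ : S2 F).1 1 1 = a⁻¹ * b := by
  have ea : a * a⁻¹ = 1 := mul_inv_cancel₀ ha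
  have eb : b * b⁻¹ = 1 := mul_inv_cancel₀ hb
  constructor
  · simp only [mul_ent, inv_ent00, inv_ent01, inv_ent10, inv_ent11, uu_00, uu_01, uu_10, uu_11,
      ll_00, ll_01, ll_10, ll_11]
    linear_combination (((1 + b * -b⁻¹) * b + b) - a * (1 + b * -b⁻¹)) * ea + (-a) * eb
  · simp only [mul_ent, inv_ent00, inv_ent01, inv_ent10, inv_ent11, uu_00, uu_01, uu_10, uu_11,
      ll_00, ll_01, ll_10, ll_11]
    linear_combination (-a⁻¹ * b - -a⁻¹ * a - 1) * eb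

end lift3

section rl

variable {ι : Type} [Fintype ι] [DecidableEq ι] {F : Type*} [Field F]
variable {σ : F ≃+* F} {F₀ : Subfield F} {f : (ι → F) → (ι → F) → F} {M : Subgroup (GL ι F)}
variable {hf : IsUnitaryForm σ f}

/-- for a totally isotropic pair `u, v` of centres in general position and a rational isotropic
`b`, the vector of `⟨u, v⟩` orthogonal to `b` lies in a rational plane through `b` -/
theorem rl_lemma [Fintype F] (C : UCtx hf F₀ M) (hN : UNoBad hf F₀ M)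
    (hn : 7 ≤ Fintype.card ι) {r : ℕ} (hr : r.Prime) (hcard : Fintype.card F = Nat.card F₀ ^ r)
    {u v : ι → F} (huu : f u u = 0) (hvv : f v v = 0) (huv : f u v = 0)
    (hmc : ∀ μ ∈ F₀, UMC hf F₀ M (u + μ • v)) (hmv : UMC hf F₀ M v)
    {b : ι → F} (hb : Rat F₀ b) (hb0 : b ≠ 0) (hbb : f b b = 0)
    (hBu : f u b ≠ 0) (hρ : f v b / f u b ∉ F₀) :
    ∃ (α β : F) (c0 : ι → F), Rat F₀ c0 ∧ f v b • u - f u b • v = α • b + β • c0 := by
  classical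
  obtain ⟨p, hp⟩ := CharP.exists F
  haveI := hp
  haveI : Fact p.Prime := ⟨CharP.char_is_prime F p⟩
  have hrat := C.rat
  have hst := C.sig
  obtain ⟨θ, hθF, hθ0, hθσ⟩ := hst.theta
  obtain ⟨μ₀, hμ₀, hμne⟩ := hst.mov
  have hσθ : σ θ = -θ := by linear_combination hθσ
  obtain ⟨Bu, hBu_def⟩ : ∃ Bu : F, Bu = f u b := ⟨_, rfl⟩
  obtain ⟨Bv, hBv_def⟩ : ∃ Bv : F, Bv = f v b := ⟨_, rfl⟩
  rw [← hBu_def] at hBu
  rw [← hBu_def, ← hBv_def] at hρ ⊢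
  have hvu : f v u = 0 := uf_eq_zero_symm hf huv
  have hbu : f b u = σ Bu := by rw [hBu_def]; exact hf.herm b u
  have hbv : f b v = σ Bv := by rw [hBv_def]; exact hf.herm b v
  have hub : f u b = Bu := hBu_def.symm
  have hvb : f v b = Bv := hBv_def.symm
  have hσBu : σ Bu ≠ 0 := by
    intro h0
    apply hBu
    have := congrArg σ h0
    rwa [hst.inv, map_zero] at this
  have hBu1 : Bu⁻¹ * Bu = 1 := inv_mul_cancel₀ hBu
  obtain ⟨ρ, hρ_def⟩ : ∃ ρ : F, ρ = Bv / Bu := ⟨_, rfl⟩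
  rw [← hρ_def] at hρ
  have hρBu : ρ * Bu = Bv := by rw [hρ_def, div_mul_cancel₀ _ hBu]
  obtain ⟨w, hw_def⟩ : ∃ w : ι → F, w = Bv • u - Bu • v := ⟨_, rfl⟩
  obtain ⟨e1, he1_def⟩ : ∃ e1 : ι → F, e1 = Bu⁻¹ • u := ⟨_, rfl⟩
  rw [← hw_def]
  have hwu : f w u = 0 := by
    rw [hw_def, uf_sub_left hf, hf.smul_left, hf.smul_left, huu, hvu, mul_zero, mul_zero,
      sub_zero]
  have hwv : f w v = 0 := by
    rw [hw_def, uf_sub_left hf, hf.smul_left, hf.smul_left, huv, hvv, mul_zero, mul_zero,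
      sub_zero]
  have hwb : f w b = 0 := by
    rw [hw_def, uf_sub_left hf, hf.smul_left, hf.smul_left, hub, hvb]; ring
  -- the three kinds of lifts
  have lift1 : ∀ μ ∈ F₀, ∀ γ ∈ F₀, γ + σ γ = 0 →
      L3 M w e1 b (uu (γ * ((Bu + μ * Bv) * σ (Bu + μ * Bv)))) := by
    intro μ hμ γ hγ hγσ
    have hiso : f (u + μ • v) (u + μ • v) = 0 := uf_iso_add_smul hf huu hvv huv μ
    refine ⟨uref hf (u + μ • v) γ, hmc μ hμ γ hγ hγσ, 1, one_mul 1, ?_, ⟨0, ?_⟩,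
      ⟨-(γ * (σ Bu + σ μ * σ Bv) * μ * Bu⁻¹), ?_⟩⟩
    · rw [uref_apply_iso hf _ _ hiso, uf_add_right hf, uf_smul_right hf, hwu, hwv]
      simp only [mul_zero, add_zero, zero_smul]
    · rw [he1_def, Matrix.mulVec_smul, uref_apply_iso hf _ _ hiso, uf_add_right hf,
        uf_smul_right hf, huu, huv, uu_00, uu_10]
      simp only [mul_zero, add_zero, zero_smul, one_smul]
    · rw [uref_apply_iso hf _ _ hiso, uf_add_right hf, uf_smul_right hf, hbu, hbv, uu_01, uu_11,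
        hw_def, he1_def, map_add, map_mul]
      ext i
      simp only [Pi.add_apply, Pi.smul_apply, Pi.sub_apply, smul_eq_mul]
      linear_combination (-(γ * (σ Bu + σ μ * σ Bv)) * (u i + μ * v i)) * hBu1
  have lift2 : ∀ γ ∈ F₀, γ + σ γ = 0 → L3 M w e1 b (uu (γ * (Bv * σ Bv))) := by
    intro γ hγ hγσ
    refine ⟨uref hf v γ, hmv γ hγ hγσ, 1, one_mul 1, ?_, ⟨0, ?_⟩,
      ⟨-(γ * σ Bv * Bu⁻¹), ?_⟩⟩
    · rw [uref_apply_iso hf _ _ hvv, hwv]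
      simp only [mul_zero, add_zero, zero_smul]
    · rw [he1_def, Matrix.mulVec_smul, uref_apply_iso hf _ _ hvv, huv, uu_00, uu_10]
      simp only [mul_zero, add_zero, zero_smul, one_smul]
    · rw [uref_apply_iso hf _ _ hvv, hbv, uu_01, uu_11, hw_def, he1_def]
      ext i
      simp only [Pi.add_apply, Pi.smul_apply, Pi.sub_apply, smul_eq_mul]
      linear_combination (-(γ * σ Bv * v i)) * hBu1
  have lift3 : ∀ γ ∈ F₀, γ + σ γ = 0 → L3 M w e1 b (ll γ) := by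
    intro γ hγ hγσ
    refine ⟨uref hf b γ, UMC.of_rat C hb hbb γ hγ hγσ, 1, one_mul 1, ?_, ⟨0, ?_⟩, ⟨0, ?_⟩⟩
    · rw [uref_apply_iso hf _ _ hbb, hwb]
      simp only [mul_zero, add_zero, zero_smul]
    · rw [he1_def, Matrix.mulVec_smul, uref_apply_iso hf _ _ hbb, hub, ll_00, ll_10]
      ext i
      simp only [Pi.add_apply, Pi.smul_apply, Pi.sub_apply, smul_eq_mul]
      linear_combination (γ * b i) * hBu1
    · rw [uref_apply_iso hf _ _ hbb, hbb, ll_01, ll_11]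
      simp only [mul_zero, add_zero, zero_smul, one_smul, zero_add]
  obtain ⟨gens, hgens⟩ : ∃ gens : Set (S2 F), gens = {h |
      (∃ μ ∈ F₀, ∃ γ ∈ F₀, γ + σ γ = 0 ∧ h = uu (γ * ((Bu + μ * Bv) * σ (Bu + μ * Bv)))) ∨
      (∃ γ ∈ F₀, γ + σ γ = 0 ∧ h = uu (γ * (Bv * σ Bv))) ∨
      (∃ γ ∈ F₀, γ + σ γ = 0 ∧ h = ll γ) ∨ h ∈ Subgroup.center (S2 F)} := ⟨_, rfl⟩
  obtain ⟨K, hK⟩ : ∃ K : Subgroup (S2 F), K = Subgroup.closure gens := ⟨_, rfl⟩
  have hlift : ∀ h ∈ K, L3 M w e1 b h := by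
    rw [hK]
    apply l3_closure
    intro h hh
    rw [hgens] at hh
    rcases hh with ⟨μ, hμ, γ, hγ, hγσ, rfl⟩ | ⟨γ, hγ, hγσ, rfl⟩ | ⟨γ, hγ, hγσ, rfl⟩ | hz
    · exact lift1 μ hμ γ hγ hγσ
    · exact lift2 γ hγ hγσ
    · exact lift3 γ hγ hγσ
    · exact l3_center hz
  have hcen : Subgroup.center (S2 F) ≤ K := by
    intro z hz
    rw [hK]
    apply Subgroup.subset_closure
    rw [hgens]
    exact Or.inr (Or.inr (Or.inr hz))
  have hu1K : ∀ μ ∈ F₀, ∀ γ ∈ F₀, γ + σ γ = 0 →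
      uu (γ * ((Bu + μ * Bv) * σ (Bu + μ * Bv))) ∈ K := by
    intro μ hμ γ hγ hγσ
    rw [hK]
    apply Subgroup.subset_closure
    rw [hgens]
    exact Or.inl ⟨μ, hμ, γ, hγ, hγσ, rfl⟩
  have hu2K : ∀ γ ∈ F₀, γ + σ γ = 0 → uu (γ * (Bv * σ Bv)) ∈ K := by
    intro γ hγ hγσ
    rw [hK]
    apply Subgroup.subset_closure
    rw [hgens]
    exact Or.inr (Or.inl ⟨γ, hγ, hγσ, rfl⟩)
  have hlK : ∀ γ ∈ F₀, γ + σ γ = 0 → ll γ ∈ K := by
    intro γ hγ hγσ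
    rw [hK]
    apply Subgroup.subset_closure
    rw [hgens]
    exact Or.inr (Or.inr (Or.inl ⟨γ, hγ, hγσ, rfl⟩))
  obtain ⟨x0, hx0_def⟩ : ∃ x0 : F, x0 = θ * (Bu * σ Bu) := ⟨_, rfl⟩
  have hx00 : x0 ≠ 0 := by rw [hx0_def]; exact mul_ne_zero hθ0 (mul_ne_zero hBu hσBu)
  have hx0N : ∀ μ ∈ F₀, uu (x0 * ((1 + μ * ρ) * σ (1 + μ * ρ))) ∈ K := by
    intro μ hμ
    have h := hu1K μ hμ θ hθF hθσ
    have e : θ * ((Bu + μ * Bv) * σ (Bu + μ * Bv)) = x0 * ((1 + μ * ρ) * σ (1 + μ * ρ)) := by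
      have e1 : Bu + μ * Bv = (1 + μ * ρ) * Bu := by linear_combination (-μ) * hρBu
      rw [e1, map_mul, hx0_def]
      ring
    rwa [e] at h
  have hx0ρ : uu (x0 * (ρ * σ ρ)) ∈ K := by
    have h := hu2K θ hθF hθσ
    have e : θ * (Bv * σ Bv) = x0 * (ρ * σ ρ) := by
      rw [← hρBu, map_mul, hx0_def]; ring
    rwa [e] at h
  have hx0K0 : ∀ κ0 ∈ F₀, σ κ0 = κ0 → uu (x0 * κ0) ∈ K := by
    intro κ0 hκ0 hκσ
    have hγσ : θ * κ0 + σ (θ * κ0) = 0 := by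
      rw [map_mul, hκσ, hσθ]; ring
    have h := hu1K 0 F₀.zero_mem (θ * κ0) (F₀.mul_mem hθF hκ0) hγσ
    have e : θ * κ0 * ((Bu + 0 * Bv) * σ (Bu + 0 * Bv)) = x0 * κ0 := by
      rw [zero_mul, add_zero, hx0_def]; ring
    rwa [e] at h
  obtain ⟨t1, ht1σ, ht1F, ht1K⟩ : ∃ t1 : F, σ t1 = t1 ∧ t1 ∉ F₀ ∧ uu (x0 * t1) ∈ K := by
    by_cases h1 : ρ * σ ρ ∈ F₀
    swap
    · exact ⟨ρ * σ ρ, by rw [map_mul, hst.inv, mul_comm], h1, hx0ρ⟩
    by_cases h2 : (1 + ρ) * σ (1 + ρ) ∈ F₀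
    swap
    · refine ⟨(1 + ρ) * σ (1 + ρ), by rw [map_mul, hst.inv, mul_comm], h2, ?_⟩
      have := hx0N 1 F₀.one_mem
      rwa [one_mul] at this
    by_cases h3 : (1 + μ₀ * ρ) * σ (1 + μ₀ * ρ) ∈ F₀
    swap
    · exact ⟨(1 + μ₀ * ρ) * σ (1 + μ₀ * ρ), by rw [map_mul, hst.inv, mul_comm], h3,
        hx0N μ₀ hμ₀⟩
    exfalso
    apply hρ
    have t1 : ρ + σ ρ ∈ F₀ := by
      have e : ρ + σ ρ = (1 + ρ) * σ (1 + ρ) - 1 - ρ * σ ρ := by
        rw [map_add, map_one]; ring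
      rw [e]; exact F₀.sub_mem (F₀.sub_mem h2 F₀.one_mem) h1
    have t2 : μ₀ * ρ + σ μ₀ * σ ρ ∈ F₀ := by
      have e : μ₀ * ρ + σ μ₀ * σ ρ
          = (1 + μ₀ * ρ) * σ (1 + μ₀ * ρ) - 1 - (μ₀ * σ μ₀) * (ρ * σ ρ) := by
        rw [map_add, map_one, map_mul]; ring
      rw [e]
      exact F₀.sub_mem (F₀.sub_mem h3 F₀.one_mem)
        (F₀.mul_mem (F₀.mul_mem hμ₀ (hst.stab _ hμ₀)) h1)
    have hd : σ μ₀ - μ₀ ≠ 0 := sub_ne_zero.2 hμne
    have e : ρ = (σ μ₀ * (ρ + σ ρ) - (μ₀ * ρ + σ μ₀ * σ ρ)) / (σ μ₀ - μ₀) := by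
      rw [eq_div_iff hd]; ring
    rw [e]
    exact F₀.div_mem (F₀.sub_mem (F₀.mul_mem (hst.stab _ hμ₀) t1) t2)
      (F₀.sub_mem (hst.stab _ hμ₀) hμ₀)
  have hu0 : uu x0 ∈ K := by
    have := hx0K0 1 F₀.one_mem (map_one σ)
    rwa [mul_one] at this
  have hl0 : ll θ ∈ K := hlK θ hθF hθσ
  have ht10 : t1 ≠ 0 := fun h => ht1F (h ▸ F₀.zero_mem)
  have ht11 : t1 ≠ 1 := fun h => ht1F (h ▸ F₀.one_mem)
  have ht1m : t1 + 1 ≠ 0 := fun h =>
    ht1F (by rw [eq_neg_of_add_eq_zero_left h]; exact F₀.neg_mem F₀.one_mem)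
  have hS : ({0, 1, t1, t1 + 1} : Finset F).card = 4 := by
    have e1 : t1 ∉ ({t1 + 1} : Finset F) := by
      rw [Finset.mem_singleton]
      intro h
      exact one_ne_zero (α := F) (by linear_combination -h)
    have e2 : (1 : F) ∉ ({t1, t1 + 1} : Finset F) := by
      rw [Finset.mem_insert, Finset.mem_singleton]
      rintro (h | h)
      · exact ht11 h.symm
      · exact ht10 (by linear_combination -h)
    have e3 : (0 : F) ∉ ({1, t1, t1 + 1} : Finset F) := by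
      rw [Finset.mem_insert, Finset.mem_insert, Finset.mem_singleton]
      rintro (h | h | h)
      · exact zero_ne_one h
      · exact ht10 h.symm
      · exact ht1m h.symm
    rw [Finset.card_insert_of_notMem e3, Finset.card_insert_of_notMem e2,
      Finset.card_insert_of_notMem e1, Finset.card_singleton]
  have h4 : 4 ≤ Nat.card {a : F // uu a ∈ K} := by
    have hinj : Function.Injective (fun a : F => x0 * a) := mul_right_injective₀ hx00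
    have hS' : (({0, 1, t1, t1 + 1} : Finset F).image (fun a : F => x0 * a)).card = 4 := by
      rw [Finset.card_image_of_injective _ hinj, hS]
    have hsub : (↑(({0, 1, t1, t1 + 1} : Finset F).image (fun a : F => x0 * a)) : Set F)
        ⊆ {a : F | uu a ∈ K} := by
      intro a ha
      rw [Finset.mem_coe, Finset.mem_image] at ha
      obtain ⟨c, hc, rfl⟩ := ha
      rw [Finset.mem_insert, Finset.mem_insert, Finset.mem_insert, Finset.mem_singleton] at hc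
      rcases hc with h | h | h | h
      · rw [h]
        show uu (x0 * 0) ∈ K
        rw [mul_zero, uu_zero]; exact K.one_mem
      · rw [h]
        show uu (x0 * 1) ∈ K
        rw [mul_one]; exact hu0
      · rw [h]; exact ht1K
      · rw [h]
        show uu (x0 * (t1 + 1)) ∈ K
        rw [mul_add, mul_one, ← uu_mul]; exact K.mul_mem ht1K hu0
    have h := Set.ncard_le_ncard hsub (Set.toFinite _)
    rw [Set.ncard_coe_finset, hS'] at h
    rw [← Nat.card_coe_set_eq] at h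
    exact h
  obtain ⟨k, s, hs0, hks⟩ := dk p K hcen hx00 hu0 hθ0 hl0 h4
  have hsx : s * x0 ∈ k := (hks x0).1 hu0
  have hsx0 : s * x0 ≠ 0 := mul_ne_zero hs0 hx00
  have hk_iff : ∀ t : F, uu (x0 * t) ∈ K ↔ t ∈ k := by
    intro t
    rw [hks (x0 * t)]
    constructor
    · intro h
      have := k.mul_mem (k.inv_mem hsx) h
      rwa [← mul_assoc s x0 t, inv_mul_cancel_left₀ hsx0] at this
    · intro h
      rw [← mul_assoc]
      exact k.mul_mem hsx h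
  have hK0k : ∀ x ∈ F₀, σ x = x → x ∈ k := fun x hx hxσ => (hk_iff x).1 (hx0K0 x hx hxσ)
  have ht1k : t1 ∈ k := (hk_iff t1).1 ht1K
  have hfixk : ∀ z : F, σ z = z → z ∈ k := fix_le_of hst hr hcard k hK0k ht1k ht1σ ht1F
  have hσx0 : σ x0 = -x0 := by
    rw [hx0_def, map_mul, map_mul, hst.inv, hσθ]; ring
  have hUU : ∀ c : F, c + σ c = 0 → uu c ∈ K := by
    intro c hc
    have hσc : σ c = -c := by linear_combination hc
    have hz : σ (c / x0) = c / x0 := by rw [map_div₀, hσc, hσx0, neg_div_neg_eq]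
    have := (hk_iff (c / x0)).2 (hfixk _ hz)
    rwa [mul_comm, div_mul_cancel₀ _ hx00] at this
  have hγ' : -θ⁻¹ + σ (-θ⁻¹) = 0 := by
    have := theta_inv (σ := σ) hθσ
    rw [map_neg]
    linear_combination -this
  have hn1 : uu (-θ⁻¹) * ll θ * uu (-θ⁻¹) ∈ K :=
    K.mul_mem (K.mul_mem (hUU _ hγ') hl0) (hUU _ hγ')
  have e8 : θ⁻¹ * θ = 1 := inv_mul_cancel₀ hθ0
  have h00 : (uu (-θ⁻¹) * ll θ * uu (-θ⁻¹) : S2 F).1 0 0 = 0 := by
    simp only [mul_ent, uu_00, uu_01, uu_10, uu_11, ll_00, ll_01, ll_10, ll_11]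
    linear_combination (-1 : F) * e8
  have h10 : (uu (-θ⁻¹) * ll θ * uu (-θ⁻¹) : S2 F).1 1 0 = θ := by
    simp only [mul_ent, uu_00, uu_01, uu_10, uu_11, ll_00, ll_01, ll_10, ll_11]
    ring
  have hLL : ∀ c : F, c + σ c = 0 → ll c ∈ K := by
    intro c hc
    have hσc : σ c = -c := by linear_combination hc
    have ht : -c / θ ^ 2 + σ (-c / θ ^ 2) = 0 := by
      rw [map_div₀, map_neg, map_pow, hσc, hσθ, neg_neg, neg_sq]
      ring
    have h1 := K.mul_mem (K.mul_mem hn1 (hUU _ ht)) (K.inv_mem hn1)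
    rw [conj_w _ h00, h10] at h1
    have e : -(-c / θ ^ 2) * θ ^ 2 = c := by
      rw [neg_div, neg_neg, div_mul_cancel₀ _ (pow_ne_zero 2 hθ0)]
    rwa [e] at h1
  obtain ⟨lam, hlamσ, hlam2⟩ : ∃ lam : F, σ lam = lam ∧ lam * lam ∉ F₀ := by
    by_cases h1 : t1 * t1 ∈ F₀
    · by_cases h2 : (1 + t1) * (1 + t1) ∈ F₀
      · exact absurd (sq_lemma h1 h2) ht1F
      · exact ⟨1 + t1, by rw [map_add, map_one, ht1σ], h2⟩
    · exact ⟨t1, ht1σ, h1⟩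
  have hlam0 : lam ≠ 0 := by
    intro h; apply hlam2; rw [h, mul_zero]; exact F₀.zero_mem
  have hlθ0 : lam * θ ≠ 0 := mul_ne_zero hlam0 hθ0
  have hlθσ : lam * θ + σ (lam * θ) = 0 := by
    rw [map_mul, hlamσ, hσθ]; ring
  have hlθ' : -(lam * θ)⁻¹ + σ (-(lam * θ)⁻¹) = 0 := by
    have := theta_inv (σ := σ) hlθσ
    rw [map_neg]
    linear_combination -this
  have hTK : (uu (lam * θ) * ll (-(lam * θ)⁻¹) * uu (lam * θ))
      * (uu θ * ll (-θ⁻¹) * uu θ)⁻¹ ∈ K :=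
    K.mul_mem (K.mul_mem (K.mul_mem (hUU _ hlθσ) (hLL _ hlθ')) (hUU _ hlθσ))
      (K.inv_mem (K.mul_mem (K.mul_mem (hUU _ hθσ) (hLL _ hγ')) (hUU _ hθσ)))
  obtain ⟨hT01, hT11⟩ := torus_ent hlθ0 hθ0
  obtain ⟨m, hmM, s', hs', hmw, ⟨ξ1, hme1⟩, ⟨ξ2, hmb⟩⟩ := hlift _ hTK
  rw [hT01, hT11] at hmb
  have e9 : (lam * θ)⁻¹ * θ = lam⁻¹ := by
    rw [mul_inv, mul_assoc, inv_mul_cancel₀ hθ0, mul_one]
  have hmb' : (m : Matrix ι ι F) *ᵥ b = (s' * lam⁻¹) • b + ξ2 • w := by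
    rw [hmb, e9, zero_smul, zero_add, smul_smul]
  have hmI : Isom f m := C.isom' hmM
  have hmbiso : f ((m : Matrix ι ι F) *ᵥ b) ((m : Matrix ι ι F) *ᵥ b) = 0 := by
    rw [hmI]; exact hbb
  have hmbb : f ((m : Matrix ι ι F) *ᵥ b) b = 0 := by
    rw [hmb', hf.add_left, hf.smul_left, hf.smul_left, hbb, hwb, mul_zero, mul_zero, add_zero]
  have hmcb : UMC hf F₀ M ((m : Matrix ι ι F) *ᵥ b) := (UMC.of_rat C hb hbb).map C hmM
  obtain ⟨lam2, v2, hv2, hmbv⟩ := uNG C hN hn hmcb hmbiso hb hb0 hbb hmbb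
  by_cases hξ : ξ2 = 0
  · exfalso
    rw [hξ, zero_smul, add_zero] at hmb'
    rw [hmb'] at hmcb
    have h1 := hmcb θ hθF hθσ
    rw [uref_smul] at h1
    have h2 := hN b _ hb hb0 hbb h1
    have hσs : σ s' = s' := by
      have h3 : (s' - 1) * (s' + 1) = 0 := by linear_combination hs'
      rcases mul_eq_zero.mp h3 with h4 | h4
      · rw [sub_eq_zero.mp h4, map_one]
      · rw [eq_neg_of_add_eq_zero_left h4, map_neg, map_one]
    have e : θ * (s' * lam⁻¹) * σ (s' * lam⁻¹) = θ * (lam * lam)⁻¹ := by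
      rw [map_mul, hσs, map_inv₀, hlamσ, mul_inv]
      linear_combination (θ * lam⁻¹ * lam⁻¹) * hs'
    rw [e] at h2
    apply hlam2
    have h3 : (lam * lam)⁻¹ ∈ F₀ := by
      have : (lam * lam)⁻¹ = θ⁻¹ * (θ * (lam * lam)⁻¹) := by rw [inv_mul_cancel_left₀ hθ0]
      rw [this]
      exact F₀.mul_mem (F₀.inv_mem hθF) h2
    have := F₀.inv_mem h3
    rwa [inv_inv] at this
  · refine ⟨-(ξ2⁻¹ * (s' * lam⁻¹)), ξ2⁻¹ * lam2, v2, hv2, ?_⟩
    have h1 : ξ2 • w = lam2 • v2 - (s' * lam⁻¹) • b := by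
      rw [← hmbv, hmb', add_sub_cancel_left]
    have h2 : w = ξ2⁻¹ • (ξ2 • w) := by rw [inv_smul_smul₀ hξ]
    rw [h2, h1]
    module

end rl

end Cfsg.Agent.Helper93.SubfL.USf
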