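import Cfsg.Agent.Lib.Helper93.USfD

set_option autoImplicit false
set_option linter.unusedSectionVars false
set_option linter.unusedVariables false
set_option linter.unusedSimpArgs false
set_option linter.style.haveILetI false

/-!
# Subfield subgroups of `SU_n` (odd index): an overgroup without irrational parameters is the
subfield group
-/

namespace Cfsg.Agent.Helper93.SubfL.USf

open Matrix Cfsg.Geo Cfsg.Agent.Helper93
open Cfsg.Agent.Helper93.SubfL.SpSf (RatForm isomGroup mem_isomGroup sq_lemma subfield_top_of)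

variable {ι : Type} [Fintype ι] [DecidableEq ι] {F : Type*} [Field F]
variable {σ : F ≃+* F} {F₀ : Subfield F} {f : (ι → F) → (ι → F) → F} {M : Subgroup (GL ι F)}
variable {hf : IsUnitaryForm σ f}

/-- no element of `M` maps all rational isotropic points to irrational points -/
theorem no_generic [Fintype F] (C : UCtx hf F₀ M) (hN : UNoBad hf F₀ M)
    (hn : 9 ≤ Fintype.card ι) {r : ℕ} (hr : r.Prime) (hcard : Fintype.card F = Nat.card F₀ ^ r)
    {g : GL ι F} (hg : g ∈ M)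
    (hno : ∀ e : ι → F, Rat F₀ e → e ≠ 0 → f e e = 0 →
      ¬ ∃ (lam : F) (v : ι → F), Rat F₀ v ∧ (g : Matrix ι ι F) *ᵥ e = lam • v) : False := by
  have hrat := C.rat
  have hst := C.sig
  have hn7 : 7 ≤ Fintype.card ι := by omega
  have hgI : Isom f g := C.isom' hg
  have hgen : ∀ e : ι → F, Rat F₀ e → e ≠ 0 → f e e = 0 → ∀ b : ι → F, Rat F₀ b → b ≠ 0 →
      f b b = 0 → f ((g : Matrix ι ι F) *ᵥ e) b ≠ 0 := by
    intro e he he0 hee b hb hb0 hbb h0
    apply hno e he he0 hee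
    have hiso : f ((g : Matrix ι ι F) *ᵥ e) ((g : Matrix ι ι F) *ᵥ e) = 0 := by
      rw [hgI]; exact hee
    exact uNG C hN hn7 ((UMC.of_rat C he hee).map C hg) hiso hb hb0 hbb h0
  obtain ⟨a, ha, ha0, haa, -⟩ := exists_rat_iso hf hrat hst 0 (fun k => k.elim0)
    (fun k => k.elim0) (by omega)
  obtain ⟨pa, hpa, hapa⟩ := exists_rat_dual1 hf hrat ha ha0 F₀.one_mem
  obtain ⟨a', ha', ha'0, ha'a', hk⟩ := exists_rat_iso hf hrat hst 2 ![a, pa]
    (by intro k; fin_cases k; exacts [ha, hpa]) (by omega)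
  have ha'a : f a' a = 0 := hk 0
  have ha'pa : f a' pa = 0 := hk 1
  have haa' : f a a' = 0 := uf_eq_zero_symm hf ha'a
  have hind : ∀ α : F, a' ≠ α • a := by
    intro α h
    have h1 : f a' pa = α * f a pa := by rw [← hf.smul_left, ← h]
    rw [ha'pa, hapa, mul_one] at h1
    apply ha'0
    rw [h, ← h1, zero_smul]
  obtain ⟨u, hu_def⟩ : ∃ u : ι → F, u = (g : Matrix ι ι F) *ᵥ a := ⟨_, rfl⟩
  obtain ⟨v, hv_def⟩ : ∃ v : ι → F, v = (g : Matrix ι ι F) *ᵥ a' := ⟨_, rfl⟩
  have huu : f u u = 0 := by rw [hu_def, hgI]; exact haa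
  have hvv : f v v = 0 := by rw [hv_def, hgI]; exact ha'a'
  have huv : f u v = 0 := by rw [hu_def, hv_def, hgI]; exact haa'
  have hmc : ∀ μ ∈ F₀, UMC hf F₀ M (u + μ • v) := by
    intro μ hμ
    have e : u + μ • v = (g : Matrix ι ι F) *ᵥ (a + μ • a') := by
      rw [Matrix.mulVec_add, Matrix.mulVec_smul, hu_def, hv_def]
    rw [e]
    exact (UMC.of_rat C (ha.add (Rat.smul hμ ha'))
      (uf_iso_add_smul hf haa ha'a' haa' μ)).map C hg
  have hmv : UMC hf F₀ M v := by rw [hv_def]; exact (UMC.of_rat C ha' ha'a').map C hg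
  have hgu : ∀ b : ι → F, Rat F₀ b → b ≠ 0 → f b b = 0 → f u b ≠ 0 := by
    intro b hb hb0 hbb
    rw [hu_def]; exact hgen a ha ha0 haa b hb hb0 hbb
  have hρall : ∀ b : ι → F, Rat F₀ b → b ≠ 0 → f b b = 0 → f v b / f u b ∉ F₀ := by
    intro b hb hb0 hbb hmem
    have hub0 := hgu b hb hb0 hbb
    have ha''0 : a' - (f v b / f u b) • a ≠ 0 := fun h => hind _ (sub_eq_zero.mp h)
    have ha''iso : f (a' - (f v b / f u b) • a) (a' - (f v b / f u b) • a) = 0 := by
      simp only [uf_sub_left hf, uf_sub_right hf, hf.smul_left, uf_smul_right hf, haa, ha'a',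
        haa', ha'a, mul_zero, sub_zero]
    have h1 := hgen _ (ha'.sub (Rat.smul hmem ha)) ha''0 ha''iso b hb hb0 hbb
    apply h1
    rw [Matrix.mulVec_sub, Matrix.mulVec_smul, ← hu_def, ← hv_def, uf_sub_left hf, hf.smul_left,
      div_mul_cancel₀ _ hub0, sub_self]
  obtain ⟨w, hw_def⟩ : ∃ w : ι → F, w = f v a • u - f u a • v := ⟨_, rfl⟩
  have hua0 : f u a ≠ 0 := hgu a ha ha0 haa
  have hvu : f v u = 0 := uf_eq_zero_symm hf huv
  have hw0 : w ≠ 0 := by
    intro h0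
    rw [hw_def] at h0
    have h1 : v = (f v a / f u a) • u := by
      have h2 : f u a • v = f v a • u := (sub_eq_zero.mp h0).symm
      rw [div_eq_inv_mul, mul_smul, ← h2, inv_smul_smul₀ hua0]
    apply hind (f v a / f u a)
    have h3 : (g : Matrix ι ι F) *ᵥ (a' - (f v a / f u a) • a) = 0 := by
      rw [Matrix.mulVec_sub, Matrix.mulVec_smul, ← hu_def, ← hv_def]
      exact sub_eq_zero.mpr h1
    exact sub_eq_zero.mp (gl_mulVec_eq_zero h3)
  have hww : f w w = 0 := by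
    rw [hw_def]
    simp only [uf_sub_left hf, uf_sub_right hf, hf.smul_left, uf_smul_right hf, huu, hvv, huv,
      hvu, mul_zero, sub_zero]
  have huw : f u w = 0 := by
    rw [hw_def, uf_sub_right hf, uf_smul_right hf, uf_smul_right hf, huu, huv, mul_zero,
      mul_zero, sub_zero]
  have key : ∃ (τ : F) (r0 : ι → F), Rat F₀ r0 ∧ w = τ • r0 := by
    obtain ⟨α, β, c0, hc0, hwc⟩ := rl_lemma C hN hn7 hr hcard huu hvv huv hmc hmv ha ha0 haa
      hua0 (hρall a ha ha0 haa)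
    rw [← hw_def] at hwc
    by_cases hdep : ∃ α' : F, c0 = α' • a
    · obtain ⟨α', hα'⟩ := hdep
      refine ⟨α + β * α', a, ha, ?_⟩
      rw [hwc, hα', smul_smul, add_smul]
    · push Not at hdep
      obtain ⟨p1, hp1, hap1, hcp1⟩ :=
        exists_rat_dual2 hf hrat ha ha0 hc0 hdep F₀.one_mem F₀.zero_mem
      obtain ⟨p2, hp2, hap2, hcp2⟩ :=
        exists_rat_dual2 hf hrat ha ha0 hc0 hdep F₀.zero_mem F₀.one_mem
      obtain ⟨b2, hb2, hb20, hb2b2, hk2⟩ := exists_rat_iso hf hrat hst 4 ![a, c0, p1, p2]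
        (by intro k; fin_cases k; exacts [ha, hc0, hp1, hp2]) (by omega)
      have hb2a : f b2 a = 0 := hk2 0
      have hb2c : f b2 c0 = 0 := hk2 1
      have hb2p1 : f b2 p1 = 0 := hk2 2
      have hb2p2 : f b2 p2 = 0 := hk2 3
      have hab2 : f a b2 = 0 := uf_eq_zero_symm hf hb2a
      have hcb2 : f c0 b2 = 0 := uf_eq_zero_symm hf hb2c
      have hwb2 : f w b2 = 0 := by
        rw [hwc, hf.add_left, hf.smul_left, hf.smul_left, hab2, hcb2, mul_zero, mul_zero,
          add_zero]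
      have hub20 : f u b2 ≠ 0 := hgu b2 hb2 hb20 hb2b2
      obtain ⟨α2, β2, c2, hc2, hwc2⟩ := rl_lemma C hN hn7 hr hcard huu hvv huv hmc hmv hb2 hb20
        hb2b2 hub20 (hρall b2 hb2 hb20 hb2b2)
      have hrel : f v a * f u b2 = f u a * f v b2 := by
        rw [hw_def, uf_sub_left hf, hf.smul_left, hf.smul_left] at hwb2
        linear_combination hwb2
      have hτ : f v b2 • u - f u b2 • v = (f u b2 / f u a) • w := by
        rw [hw_def, smul_sub, smul_smul, smul_smul]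
        have e1 : f u b2 / f u a * f v a = f v b2 := by
          rw [div_mul_eq_mul_div, div_eq_iff hua0]
          linear_combination hrel
        have e2 : f u b2 / f u a * f u a = f u b2 := div_mul_cancel₀ _ hua0
        rw [e1, e2]
      rw [hτ] at hwc2
      have hτ0 : f u b2 / f u a ≠ 0 := div_ne_zero hub20 hua0
      have hα : f w p1 = α := by
        rw [hwc, hf.add_left, hf.smul_left, hf.smul_left, hap1, hcp1, mul_one, mul_zero,
          add_zero]
      have hβ : f w p2 = β := by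
        rw [hwc, hf.add_left, hf.smul_left, hf.smul_left, hap2, hcp2, mul_one, mul_zero,
          zero_add]
      have hα' : (f u b2 / f u a) * f w p1 = β2 * f c2 p1 := by
        rw [← hf.smul_left, hwc2, hf.add_left, hf.smul_left, hf.smul_left, hb2p1, mul_zero,
          zero_add]
      have hβ' : (f u b2 / f u a) * f w p2 = β2 * f c2 p2 := by
        rw [← hf.smul_left, hwc2, hf.add_left, hf.smul_left, hf.smul_left, hb2p2, mul_zero,
          zero_add]
      refine ⟨(f u b2 / f u a)⁻¹ * β2, f c2 p1 • a + f c2 p2 • c0,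
        (Rat.smul (hrat _ _ hc2 hp1) ha).add (Rat.smul (hrat _ _ hc2 hp2) hc0), ?_⟩
      have h5 : (f u b2 / f u a) • w = β2 • (f c2 p1 • a + f c2 p2 • c0) := by
        have e1 : (f u b2 / f u a) * α = β2 * f c2 p1 := by rw [← hα]; exact hα'
        have e2 : (f u b2 / f u a) * β = β2 * f c2 p2 := by rw [← hβ]; exact hβ'
        rw [hwc, smul_add, smul_add, smul_smul, smul_smul, smul_smul, smul_smul, e1, e2]
      rw [mul_smul, ← h5, inv_smul_smul₀ hτ0]
  obtain ⟨τ, r0, hr0, hwr⟩ := key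
  have hτ0 : τ ≠ 0 := by
    intro h; apply hw0; rw [hwr, h, zero_smul]
  have hr00 : r0 ≠ 0 := by
    intro h; apply hw0; rw [hwr, h, smul_zero]
  have hστ : σ τ ≠ 0 := by
    intro h0; apply hτ0
    have := congrArg σ h0
    rwa [hst.inv, map_zero] at this
  have hr0iso : f r0 r0 = 0 := by
    rw [hwr, hf.smul_left, uf_smul_right hf] at hww
    rcases mul_eq_zero.mp hww with h | h
    · exact absurd h hτ0
    · rcases mul_eq_zero.mp h with h' | h'
      · exact absurd h' hστ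
      · exact h'
  have hur0 : f u r0 = 0 := by
    rw [hwr, uf_smul_right hf] at huw
    exact (mul_eq_zero.mp huw).resolve_left hστ
  exact hgu r0 hr0 hr00 hr0iso hur0

/-- an overgroup all of whose transvections at rational centres have rational parameters is
contained in the subfield group -/
theorem u_le_of_noBad [Fintype F] (C : UCtx hf F₀ M) (hN : UNoBad hf F₀ M)
    (hn : 9 ≤ Fintype.card ι) {r : ℕ} (hr : r.Prime) (hcard : Fintype.card F = Nat.card F₀ ^ r) :
    M ≤ HS F₀ f := by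
  have hrat := C.rat
  have hst := C.sig
  have hn7 : 7 ≤ Fintype.card ι := by omega
  obtain ⟨θ, hθF, hθ0, hθσ⟩ := hst.theta
  have claimA : ∀ g ∈ M, ∀ e : ι → F, Rat F₀ e → f e e = 0 →
      ∃ (lam : F) (v : ι → F), Rat F₀ v ∧ (g : Matrix ι ι F) *ᵥ e = lam • v := by
    intro g hg
    by_cases hex : ∃ a : ι → F, Rat F₀ a ∧ a ≠ 0 ∧ f a a = 0 ∧
        ∃ (lam : F) (v : ι → F), Rat F₀ v ∧ (g : Matrix ι ι F) *ᵥ a = lam • v
    · obtain ⟨a, ha, ha0, haa, hga⟩ := hex
      exact fun e he hee => image_rat_of_one C hN hn7 hg ha ha0 haa hga e he hee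
    · exfalso
      apply no_generic C hN hn hr hcard hg
      intro e he he0 hee hcon
      exact hex ⟨e, he, he0, hee, hcon⟩
  have claimA' : ∀ g ∈ M, ∀ w : ι → F, Rat F₀ w → w ≠ 0 → f w w = 0 →
      ∃ (mu : F) (v : ι → F), Rat F₀ v ∧ mu ≠ 0 ∧ mu * σ mu ∈ F₀ ∧
        (g : Matrix ι ι F) *ᵥ w = mu • v := by
    intro g hg w hw hw0 hww
    obtain ⟨mu, v, hv, hgw⟩ := claimA g hg w hw hww
    obtain ⟨hmu, hv0, hvv, -⟩ := img_facts hf (C.isom' hg) hw0 hww hgw
    refine ⟨mu, v, hv, hmu, ?_, hgw⟩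
    have hmc : UMC hf F₀ M (mu • v) := by rw [← hgw]; exact (UMC.of_rat C hw hww).map C hg
    have h1 := hmc θ hθF hθσ
    rw [uref_smul] at h1
    have h2 := hN v _ hv hv0 hvv h1
    have e : mu * σ mu = θ⁻¹ * (θ * mu * σ mu) := by
      rw [mul_assoc θ, inv_mul_cancel_left₀ hθ0]
    rw [e]
    exact F₀.mul_mem (F₀.inv_mem hθF) h2
  intro g hg
  refine Subgroup.mem_inf.2 ⟨?_, C.isom hg⟩
  have hgI : Isom f g := C.isom' hg
  obtain ⟨e0, he0, he00, he0e0, -⟩ := exists_rat_iso hf hrat hst 0 (fun k => k.elim0)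
    (fun k => k.elim0) (by omega)
  obtain ⟨lam, v0, hv0, hlam, hlamN, hge0⟩ := claimA' g hg e0 he0 he00 he0e0
  have ratio : ∀ (w w' : ι → F), Rat F₀ w → Rat F₀ w' → f w w' ≠ 0 →
      ∀ (mu : F) (v : ι → F) (mu' : F) (v' : ι → F), Rat F₀ v → Rat F₀ v' → mu * σ mu ∈ F₀ →
      mu ≠ 0 → (g : Matrix ι ι F) *ᵥ w = mu • v → (g : Matrix ι ι F) *ᵥ w' = mu' • v' →
      mu' * mu⁻¹ ∈ F₀ := by
    intro w w' hw hw' hww mu v mu' v' hv hv' hmuN hmu hgw hgw'
    have h1 := hgI w w'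
    rw [hgw, hgw', hf.smul_left, uf_smul_right hf] at h1
    have hvv : f v v' ∈ F₀ := hrat _ _ hv hv'
    have hwwF : f w w' ∈ F₀ := hrat _ _ hw hw'
    have hvv0 : f v v' ≠ 0 := by
      intro h
      rw [h, mul_zero, mul_zero] at h1
      exact hww h1.symm
    have hσmu : σ mu ≠ 0 := by
      intro h0; apply hmu
      have := congrArg σ h0
      rwa [hst.inv, map_zero] at this
    have hX : mu * σ mu' ∈ F₀ := by
      have e : mu * σ mu' = f w w' * (f v v')⁻¹ := by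
        rw [← h1, mul_assoc, mul_assoc, mul_inv_cancel₀ hvv0, mul_one]
      rw [e]; exact F₀.mul_mem hwwF (F₀.inv_mem hvv)
    have hY : σ (mu * σ mu' * (mu * σ mu)⁻¹) ∈ F₀ :=
      hst.stab _ (F₀.mul_mem hX (F₀.inv_mem hmuN))
    have e : σ (mu * σ mu' * (mu * σ mu)⁻¹) = mu' * mu⁻¹ := by
      rw [map_mul, map_mul, map_inv₀, map_mul, hst.inv, hst.inv, mul_inv]
      have e1 : σ mu * (σ mu)⁻¹ = 1 := mul_inv_cancel₀ hσmu
      linear_combination (mu' * mu⁻¹) * e1
    rwa [e] at hY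
  have hiso_case : ∀ x : ι → F, Rat F₀ x → f x x = 0 →
      Rat F₀ (lam⁻¹ • ((g : Matrix ι ι F) *ᵥ x)) := by
    intro x hx hxx
    by_cases hx0 : x = 0
    · rw [hx0, Matrix.mulVec_zero, smul_zero]; exact Rat.zero
    obtain ⟨mu, v, hv, hmu, hmuN, hgx⟩ := claimA' g hg x hx hx0 hxx
    obtain ⟨w', hw', hw'w', h1, h2⟩ := exists_common_iso hf hrat hst he0 he00 he0e0 hx hx0 hxx
    have hw'0 : w' ≠ 0 := by
      intro h
      rw [h, uf_zero_right hf] at h1
      exact h1 rfl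
    obtain ⟨mu', v', hv', hmu', hmu'N, hgw'⟩ := claimA' g hg w' hw' hw'0 hw'w'
    have r1 : mu' * lam⁻¹ ∈ F₀ :=
      ratio e0 w' he0 hw' h1 lam v0 mu' v' hv0 hv' hlamN hlam hge0 hgw'
    have r2 : mu' * mu⁻¹ ∈ F₀ :=
      ratio x w' hx hw' h2 mu v mu' v' hv hv' hmuN hmu hgx hgw'
    have r3 : mu * lam⁻¹ ∈ F₀ := by
      have : mu * lam⁻¹ = (mu' * lam⁻¹) * (mu' * mu⁻¹)⁻¹ := by
        field_simp
      rw [this]
      exact F₀.mul_mem r1 (F₀.inv_mem r2)
    rw [hgx, smul_smul, mul_comm lam⁻¹ mu]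
    exact Rat.smul r3 hv
  apply mem_H1_of hlam
  intro x hx
  obtain ⟨a0, ha0, ha00, ha0a0, hk⟩ := exists_rat_iso hf hrat hst 1 ![x]
    (by intro k; fin_cases k; exact hx) (by omega)
  have ha0x : f a0 x = 0 := hk 0
  have hxa0 : f x a0 = 0 := uf_eq_zero_symm hf ha0x
  obtain ⟨z1, z2, z3, c2, c3, hz1, hz2, hz3, h11, h22, h33, -, -, -, hc2, hc3, hsum⟩ :=
    iso_decomp hf hrat hst (by omega) ha0 ha00 ha0a0 hx hxa0
  rw [hsum]
  simp only [Matrix.mulVec_add, Matrix.mulVec_smul, smul_add]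
  refine ((hiso_case z1 hz1 h11).add ?_).add ?_
  · rw [smul_comm]; exact Rat.smul hc2 (hiso_case z2 hz2 h22)
  · rw [smul_comm]; exact Rat.smul hc3 (hiso_case z3 hz3 h33)

end Cfsg.Agent.Helper93.SubfL.USf
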