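import Cfsg.Agent.Lib.Helper93.USfE
import Cfsg.Agent.Lib.Helper93.SpSfF

set_option autoImplicit false
set_option linter.unusedSectionVars false
set_option linter.unusedVariables false
set_option linter.unusedSimpArgs false
set_option linter.style.haveILetI false

/-!
# Subfield subgroups of `SU_n` (odd index): the maximality theorem
-/

namespace Cfsg.Agent.Helper93.SubfL.USf

open Matrix Cfsg.Geo Cfsg.Agent.Helper93
open Cfsg.Agent.Helper93.SubfL.SpSf (RatForm isomGroup mem_isomGroup sq_lemma subfield_top_of)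

variable {ι : Type} [Fintype ι] [DecidableEq ι] {F : Type*} [Field F]
variable {σ : F ≃+* F} {F₀ : Subfield F} {f : (ι → F) → (ι → F) → F}

/-- the subfield group is a proper subgroup of the special isometry group -/
lemma hs_lt [Fintype F] (hf : IsUnitaryForm σ f) (hrat : RatForm F₀ f) (hst : SigSt σ F₀)
    (hn : 3 ≤ Fintype.card ι) {r : ℕ} (hr : r.Prime)
    (hcard : Fintype.card F = Nat.card F₀ ^ r) :
    HS F₀ f < isomGroup f ⊓ specialLinear ι F := by
  unfold HS
  refine lt_of_le_of_ne inf_le_right ?_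
  intro heq
  obtain ⟨θ, hθF, hθ0, hθσ⟩ := hst.theta
  obtain ⟨μ₀, hμ₀, hμne⟩ := hst.mov
  obtain ⟨a0, ha0⟩ := exists_not_mem_subfield hr hcard
  obtain ⟨x, y, hxσ, hyσ, hxy, -⟩ := hst.decomp hμne a0
  obtain ⟨ζ, hζσ, hζF⟩ : ∃ ζ : F, σ ζ = ζ ∧ ζ ∉ F₀ := by
    by_cases hx : x ∈ F₀
    · by_cases hy : y ∈ F₀
      · exfalso; apply ha0; rw [hxy]; exact F₀.add_mem hx (F₀.mul_mem hμ₀ hy)
      · exact ⟨y, hyσ, hy⟩
    · exact ⟨x, hxσ, hx⟩
  have hc : θ * ζ + σ (θ * ζ) = 0 := by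
    rw [map_mul, hζσ]; linear_combination ζ * hθσ
  have hcF : θ * ζ ∉ F₀ := by
    intro h
    apply hζF
    have : ζ = θ⁻¹ * (θ * ζ) := by rw [inv_mul_cancel_left₀ hθ0]
    rw [this]; exact F₀.mul_mem (F₀.inv_mem hθF) h
  obtain ⟨w, hw, hw0, hww, -⟩ := exists_rat_iso hf hrat hst 0 (fun k => k.elim0)
    (fun k => k.elim0) (by omega)
  have hmem : uref hf w (θ * ζ) ∈ isomGroup f ⊓ specialLinear ι F :=
    Subgroup.mem_inf.2 ⟨(mem_isomGroup _).2 (uref_isom hf w _ (uvalid_of_iso hww hc)),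
      uref_mem_SL hf _ hww⟩
  rw [← heq] at hmem
  have hH := (Subgroup.mem_inf.1 hmem).1
  obtain ⟨lam, hlam, hl⟩ := mem_subfield_imp hH
  obtain ⟨p, hp, hpp, hwp, hpw⟩ := hyp_partner1 hf hrat hst hw hw0 hww
  obtain ⟨y1, hy1, hy1'⟩ := hl w ((ratVec_one_iff _).2 hw)
  obtain ⟨z1, hz1, hz1'⟩ := hl p ((ratVec_one_iff _).2 hp)
  rw [ratVec_one_iff] at hy1 hz1
  rw [uref_apply_iso hf w _ hww, hww, mul_zero, zero_smul, add_zero] at hy1'
  rw [uref_apply_iso hf w _ hww, hpw, mul_one] at hz1'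
  obtain ⟨i, hi⟩ := Function.ne_iff.mp hw0
  have hi' : w i ≠ 0 := hi
  have h1 := congrFun hy1' i
  rw [Pi.smul_apply, smul_eq_mul] at h1
  have hyi : y1 i ≠ 0 := by
    intro h
    rw [h, mul_zero] at h1
    exact hi' h1
  have hlamF : lam ∈ F₀ := by
    have : lam = w i * (y1 i)⁻¹ := by
      rw [h1, mul_assoc, mul_inv_cancel₀ hyi, mul_one]
    rw [this]
    exact F₀.mul_mem (hw i) (F₀.inv_mem (hy1 i))
  have h3 := congrFun hz1' i
  rw [Pi.add_apply, Pi.smul_apply, Pi.smul_apply, smul_eq_mul, smul_eq_mul] at h3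
  apply hcF
  have h4 : θ * ζ * w i = lam * z1 i - p i := by linear_combination h3
  have e : θ * ζ = (lam * z1 i - p i) * (w i)⁻¹ := by
    rw [← h4, mul_assoc, mul_inv_cancel₀ hi', mul_one]
  rw [e]
  exact F₀.mul_mem (F₀.sub_mem (F₀.mul_mem hlamF (hz1 i)) (hp i)) (F₀.inv_mem (hw i))

/-- the subfield group in standard position is maximal in the special isometry group of a
rational unitary form, given the treatment of irrational parameters -/
theorem su_subfield_max_one [Fintype F] (hf : IsUnitaryForm σ f) (hrat : RatForm F₀ f)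
    (hst : SigSt σ F₀) (hn : 9 ≤ Fintype.card ι) {r : ℕ} (hr : r.Prime)
    (hcard : Fintype.card F = Nat.card F₀ ^ r)
    (hbad : ∀ M' : Subgroup (GL ι F), UCtx hf F₀ M' → ¬ UNoBad hf F₀ M' →
      isomGroup f ⊓ specialLinear ι F ≤ M') :
    IsMaximalIn (isomGroup f ⊓ specialLinear ι F) (HS F₀ f) := by
  refine ⟨hs_lt hf hrat hst (by omega) hr hcard, ?_⟩
  intro M' hHM hMG
  have C : UCtx hf F₀ M' := ⟨hrat, hst, hHM, hMG⟩
  by_cases hN : UNoBad hf F₀ M'
  · left
    exact le_antisymm (u_le_of_noBad C hN hn hr hcard) hHM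
  · right
    exact le_antisymm hMG (hbad M' C hN)

/-- twisting a unitary form by a change of basis -/
lemma twist_unitary (hf : IsUnitaryForm σ f) (P : GL ι F) :
    IsUnitaryForm σ (fun u v : ι → F =>
      (1 : F) * f ((P : Matrix ι ι F) *ᵥ u) ((P : Matrix ι ι F) *ᵥ v)) := by
  refine ⟨hf.ne_refl, hf.involutive, ?_, ?_, ?_, ?_⟩
  · intro x y v
    beta_reduce
    rw [Matrix.mulVec_add, hf.add_left, mul_add]
  · intro c x v
    beta_reduce
    rw [Matrix.mulVec_smul, hf.smul_left]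
    ring
  · intro v w
    beta_reduce
    rw [one_mul, one_mul]
    exact hf.herm _ _
  · intro v hv
    have hPv : (P : Matrix ι ι F) *ᵥ v ≠ 0 := by
      intro h0
      apply hv
      have := gl_inv_apply_apply P v
      rw [← this, h0, Matrix.mulVec_zero]
    obtain ⟨⟨x, hx⟩, ⟨x', hx'⟩⟩ := hf.nondegenerate _ hPv
    refine ⟨⟨((P⁻¹ : GL ι F) : Matrix ι ι F) *ᵥ x, ?_⟩,
      ⟨((P⁻¹ : GL ι F) : Matrix ι ι F) *ᵥ x', ?_⟩⟩
    · beta_reduce
      rw [gl_apply_inv_apply, one_mul]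
      exact hx
    · beta_reduce
      rw [gl_apply_inv_apply, one_mul]
      exact hx'

/-- the subfield groups of a unitary form (odd index) are maximal in its special isometry
group, given the treatment of irrational parameters -/
theorem su_subfield_max [Fintype F] (hf : IsUnitaryForm σ f) (hst : SigSt σ F₀)
    (hn : 9 ≤ Fintype.card ι) {r : ℕ} (hr : r.Prime)
    (hcard : Fintype.card F = Nat.card F₀ ^ r) (P : GL ι F)
    (hP : IsFormRationalStructure f F₀ 1 P)
    (hbad : ∀ (f' : (ι → F) → (ι → F) → F) (hf' : IsUnitaryForm σ f')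
      (M' : Subgroup (GL ι F)), UCtx hf' F₀ M' → ¬ UNoBad hf' F₀ M' →
      isomGroup f' ⊓ specialLinear ι F ≤ M') :
    IsMaximalIn (isomGroup f ⊓ specialLinear ι F)
      (subfieldSubgroup F₀ P ⊓ (isomGroup f ⊓ specialLinear ι F)) := by
  have hf' := twist_unitary hf P
  have hrat' : RatForm F₀ (fun u v : ι → F =>
      (1 : F) * f ((P : Matrix ι ι F) *ᵥ u) ((P : Matrix ι ι F) *ᵥ v)) :=
    fun u v hu hv => hP u v hu hv
  have h := isMaximalIn_map (MulAut.conj P)
    (su_subfield_max_one hf' hrat' hst hn hr hcard (hbad _ hf'))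
  unfold HS at h
  simp only [Subgroup.map_inf _ _ (MulAut.conj P).toMonoidHom (MulAut.conj P).injective] at h
  rw [SpSf.isom_map_conj (f := f) 1 one_ne_zero P, SL_map_conj, ← subfield_conj] at h
  exact h

end Cfsg.Agent.Helper93.SubfL.USf
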