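import Cfsg.Agent.Lib.Helper93.UTI

set_option autoImplicit false
set_option linter.unusedSectionVars false

namespace Cfsg.Agent.Helper93

open Matrix Cfsg.Geo

variable {ι : Type} [Fintype ι] [DecidableEq ι] {F : Type*} [Field F]
variable {σ : F ≃+* F} {f : (ι → F) → (ι → F) → F}

lemma ufvec_vecMul_inv (hf : IsUnitaryForm σ f) (p : GL ι F) (hp : Isom f p) (w : ι → F) :
    fvec f w ᵥ* ((p⁻¹ : GL ι F) : Matrix ι ι F) = fvec f ((p : Matrix ι ι F) *ᵥ w) := by
  apply vec_ext_dot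
  intro x
  rw [← Matrix.dotProduct_mulVec, ufvec_dot hf, ufvec_dot hf, hp.inv_left]

lemma InA.uadd (hf : IsUnitaryForm σ f) {M : Subgroup (GL ι F)} {u w w' : ι → F}
    (h1 : InA f M u w) (h2 : InA f M u w') : InA f M u (w + w') := by
  obtain ⟨s1, m1⟩ := h1
  obtain ⟨s2, m2⟩ := h2
  have h3 := M.mul_mem m1 m2
  rw [tv_mul_tv] at h3
  have e : fvec f w + fvec f w' = fvec f (w + w') := (ufvec_add hf w w').symm
  refine ⟨by rw [← e, add_dotProduct, s1, s2, add_zero], ?_⟩
  rw [tv_congr _ e rfl] at h3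
  exact h3

lemma InA.uneg (hf : IsUnitaryForm σ f) {M : Subgroup (GL ι F)} {u w : ι → F}
    (h1 : InA f M u w) : InA f M u (-w) := by
  obtain ⟨s1, m1⟩ := h1
  have h3 := M.inv_mem m1
  rw [← tv_neg_eq_inv] at h3
  have e : - fvec f w = fvec f (-w) := by
    funext j
    exact (uf_neg_right hf _ w).symm
  refine ⟨by rw [← e, neg_dotProduct, s1, neg_zero], ?_⟩
  rw [tv_congr _ e rfl] at h3
  exact h3

lemma InA.usub (hf : IsUnitaryForm σ f) {M : Subgroup (GL ι F)} {u w w' : ι → F}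
    (h1 : InA f M u w) (h2 : InA f M u w') : InA f M u (w - w') := by
  rw [sub_eq_add_neg]
  exact h1.uadd hf (h2.uneg hf)

lemma InA.uconj (hf : IsUnitaryForm σ f) {M : Subgroup (GL ι F)} {u w : ι → F}
    (h1 : InA f M u w) (p : GL ι F) (hpM : p ∈ M) (hp : Isom f p) :
    InA f M ((p : Matrix ι ι F) *ᵥ u) ((p : Matrix ι ι F) *ᵥ w) := by
  obtain ⟨s1, m1⟩ := h1
  have h3 := M.mul_mem (M.mul_mem hpM m1) (M.inv_mem hpM)
  rw [conj_tv] at h3
  have e := ufvec_vecMul_inv hf p hp w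
  refine ⟨?_, ?_⟩
  · rw [ufvec_dot hf, hp, ← ufvec_dot hf]; exact s1
  · rw [tv_congr _ e rfl] at h3
    exact h3

lemma InA.side (hf : IsUnitaryForm σ f) {M : Subgroup (GL ι F)} {u w : ι → F}
    (h1 : InA f M u w) : f u w = 0 := by
  obtain ⟨s1, _⟩ := h1
  rw [← ufvec_dot hf]; exact s1

lemma tv_centre_mul (φ a b : ι → F) (ha : φ ⬝ᵥ a = 0) (hb : φ ⬝ᵥ b = 0) :
    tv φ a ha * tv φ b hb = tv φ (a + b) (by rw [dotProduct_add, ha, hb, add_zero]) := by
  apply gl_ext
  intro x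
  rw [gl_mul_apply, tv_coe, tv_coe, tv_coe, tvMat_mulVec, tvMat_mulVec, tvMat_mulVec,
    dotProduct_add, dotProduct_smul, hb, smul_zero, add_zero, smul_add]
  abel

lemma InA.centre_sub {M : Subgroup (GL ι F)} {a b w : ι → F}
    (h1 : InA f M a w) (h2 : InA f M b w) : InA f M (a - b) w := by
  obtain ⟨s1, m1⟩ := h1
  obtain ⟨s2, m2⟩ := h2
  have h3 := M.mul_mem m1 (M.inv_mem m2)
  rw [tv_inv, tv_centre_mul] at h3
  have e : a + -b = a - b := by abel
  refine ⟨by rw [dotProduct_sub, s1, s2, sub_zero], ?_⟩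
  rw [tv_congr _ rfl e] at h3
  exact h3

lemma InA.centre_smul (hf : IsUnitaryForm σ f) {M : Subgroup (GL ι F)} {z w : ι → F} {k : F}
    (h : InA f M (k • z) w) : InA f M z (σ k • w) := by
  obtain ⟨s1, m1⟩ := h
  have e : fvec f (σ k • w) = k • fvec f w := by rw [ufvec_smul hf, hf.involutive]
  have s2 : fvec f (σ k • w) ⬝ᵥ z = 0 := by
    rw [e, smul_dotProduct, ← dotProduct_smul]; exact s1
  refine ⟨s2, ?_⟩
  have e2 : tv (fvec f (σ k • w)) z s2 = tv (fvec f w) (k • z) s1 := by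
    apply gl_ext
    intro x
    rw [tv_coe, tv_coe, tvMat_mulVec, tvMat_mulVec, e, smul_dotProduct, smul_smul, smul_eq_mul,
      mul_comm]
  rw [e2]; exact m1

lemma InA_zero_centre (M : Subgroup (GL ι F)) (w : ι → F) : InA f M 0 w := by
  refine ⟨dotProduct_zero _, ?_⟩
  have e : tv (fvec f w) (0 : ι → F) (dotProduct_zero _) = 1 := by
    apply gl_ext
    intro x
    rw [tv_coe, tvMat_mulVec, smul_zero, add_zero, gl_one_apply]
  rw [e]; exact M.one_mem

/-- conjugating by a (non-unitary) transvection with isotropic centre `u'` perpendicular to `u` -/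
lemma InA.conj_tv' (hf : IsUnitaryForm σ f) {M : Subgroup (GL ι F)} {u w u' : ι → F} (κ : F)
    (h1 : InA f M u w) (he : InA f M u' (κ • u')) (huu' : f u u' = 0) :
    InA f M u (w - (κ * f w u') • u') := by
  have hside := h1.side hf
  obtain ⟨s1, m1⟩ := h1
  obtain ⟨s2, m2⟩ := he
  have h3 := M.mul_mem (M.mul_mem m2 m1) (M.inv_mem m2)
  rw [conj_tv] at h3
  have ec : ((tv (fvec f (κ • u')) u' s2 : GL ι F) : Matrix ι ι F) *ᵥ u = u := by
    rw [tv_coe, tvMat_mulVec, ufvec_dot hf, uf_smul_right hf, huu', mul_zero, zero_smul, add_zero]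
  have ef : fvec f w ᵥ* (((tv (fvec f (κ • u')) u' s2)⁻¹ : GL ι F) : Matrix ι ι F)
      = fvec f (w - (κ * f w u') • u') := by
    apply vec_ext_dot
    intro x
    rw [← Matrix.dotProduct_mulVec, tv_inv, tv_coe, tvMat_mulVec, ufvec_dot hf, ufvec_dot hf,
      ufvec_dot hf, hf.add_left, hf.smul_left, uf_sub_right hf, uf_smul_right hf,
      uf_smul_right hf, uf_neg_left hf, map_mul, ← hf.herm u' w]
    ring
  refine ⟨?_, ?_⟩
  · rw [ufvec_dot hf, uf_sub_right hf, uf_smul_right hf, huu', mul_zero, sub_zero]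
    exact hside
  · rw [tv_congr _ ef ec] at h3
    exact h3

/-- an invertible map preserving orthogonality to isotropic vectors is a similarity -/
theorem mem_similarityGroup_of_iso_perp [Finite F] (hf : IsUnitaryForm σ f)
    (hn : 7 ≤ Fintype.card ι) (g : GL ι F)
    (h : ∀ x v, f v v = 0 → f x v = 0 →
      f ((g : Matrix ι ι F) *ᵥ x) ((g : Matrix ι ι F) *ᵥ v) = 0) :
    g ∈ similarityGroup f := by
  have hlin : ∀ v, f v v = 0 → ∃ c : F, ∀ x,
      f ((g : Matrix ι ι F) *ᵥ x) ((g : Matrix ι ι F) *ᵥ v) = c * f x v := by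
    intro v hv
    let ψ : ι → F := fvec f ((g : Matrix ι ι F) *ᵥ v) ᵥ* (g : Matrix ι ι F)
    have hψ : ∀ x, ψ ⬝ᵥ x = f ((g : Matrix ι ι F) *ᵥ x) ((g : Matrix ι ι F) *ᵥ v) := by
      intro x
      show (fvec f ((g : Matrix ι ι F) *ᵥ v) ᵥ* (g : Matrix ι ι F)) ⬝ᵥ x = _
      rw [← Matrix.dotProduct_mulVec, ufvec_dot hf]
    obtain ⟨c, hc⟩ := exists_smul_of_ker_le (fvec f v) ψ (by
      intro x hx
      rw [ufvec_dot hf] at hx
      rw [hψ]
      exact h x v hv hx)
    refine ⟨c, fun x => ?_⟩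
    rw [← hψ, hc, smul_dotProduct, ufvec_dot hf, smul_eq_mul]
  choose! lam hlam using hlin
  have hswap : ∀ v w, f v v = 0 → f w w = 0 → f v w ≠ 0 → lam w = σ (lam v) := by
    intro v w hv hw hvw
    have h1 := hlam w hw v
    have h2 := hlam v hv w
    rw [hf.herm ((g : Matrix ι ι F) *ᵥ v) ((g : Matrix ι ι F) *ᵥ w), h2, map_mul,
      ← hf.herm v w] at h1
    exact (mul_right_cancel₀ hvw h1).symm
  obtain ⟨θ, hθ0, hθ⟩ := uf_exists_theta hf
  -- partner
  have hpartner : ∀ v, f v v = 0 → v ≠ 0 → ∃ w, f w w = 0 ∧ f v w ≠ 0 := by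
    intro v hv hv0
    obtain ⟨_, ⟨z0, hz0⟩⟩ := hf.nondegenerate v hv0
    obtain ⟨l, hl⟩ := uf_iso_adjust hf hv hz0
    refine ⟨z0 + l • v, hl, ?_⟩
    rw [uf_add_right hf, uf_smul_right hf, hv, mul_zero, add_zero]; exact hz0
  have hfixed : ∀ v, f v v = 0 → v ≠ 0 → σ (lam v) = lam v := by
    intro v hv hv0
    obtain ⟨w, hw, hvw⟩ := hpartner v hv hv0
    have hwv : f w v ≠ 0 := uf_ne_zero_symm hf hvw
    obtain ⟨t, ht⟩ : ∃ t, t = θ / f w v := ⟨_, rfl⟩
    have ht0 : t ≠ 0 := by rw [ht]; exact div_ne_zero hθ0 hwv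
    have htw : t * f w v = θ := by rw [ht, div_mul_cancel₀ _ hwv]
    have hσt : σ t * f v w = σ θ := by
      rw [← htw, map_mul, ← hf.herm v w]
    have huu : f (v + t • w) (v + t • w) = 0 := by
      rw [hf.add_left, uf_add_right hf, uf_add_right hf, hf.smul_left, hf.smul_left,
        uf_smul_right hf, uf_smul_right hf, hv, hw, hσt, htw]
      linear_combination hθ
    have hvu : f v (v + t • w) ≠ 0 := by
      rw [uf_add_right hf, uf_smul_right hf, hv, zero_add, hσt]
      intro h0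
      apply hθ0
      have := congrArg σ h0
      rwa [hf.involutive, map_zero] at this
    have huw : f (v + t • w) w ≠ 0 := by
      rw [hf.add_left, hf.smul_left, hw, mul_zero, add_zero]; exact hvw
    have e1 := hswap v w hv hw hvw
    have e2 := hswap v _ hv huu hvu
    have e3 := hswap _ w huu hw huw
    rw [e2, hf.involutive] at e3
    rw [← e1, e3]
  have hconst1 : ∀ v w, f v v = 0 → f w w = 0 → v ≠ 0 → f v w ≠ 0 → lam w = lam v := by
    intro v w hv hw hv0 hvw
    rw [hswap v w hv hw hvw, hfixed v hv hv0]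
  have hconst : ∀ v w, f v v = 0 → f w w = 0 → v ≠ 0 → w ≠ 0 → lam w = lam v := by
    intro v w hv hw hv0 hw0
    obtain ⟨z, hzz, hvz, hzw⟩ : ∃ z, f z z = 0 ∧ f v z ≠ 0 ∧ f z w ≠ 0 := by
      by_cases hspan : w ∈ Submodule.span F {v}
      · obtain ⟨m, hm⟩ := Submodule.mem_span_singleton.mp hspan
        have hm0 : m ≠ 0 := by
          rintro rfl
          rw [zero_smul] at hm
          exact hw0 hm.symm
        obtain ⟨z, hzz, hvz⟩ := hpartner v hv hv0
        refine ⟨z, hzz, hvz, ?_⟩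
        rw [← hm, uf_smul_right hf]
        refine mul_ne_zero ?_ (uf_ne_zero_symm hf hvz)
        intro h0
        apply hm0
        have := congrArg σ h0
        rwa [hf.involutive, map_zero] at this
      · have hind := indep_of_not_mem_span hspan hv0
        obtain ⟨z, _, hzz, hzw, hzv⟩ := uf_exists_iso_prescribed hf ⊤ (nondeg_top hf)
          (finrank_top_ge hn) (Submodule.mem_top : w ∈ ⊤) (Submodule.mem_top : v ∈ ⊤) hind 1 1
        refine ⟨z, hzz, uf_ne_zero_symm hf (by rw [hzv]; exact one_ne_zero), ?_⟩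
        rw [hzw]; exact one_ne_zero
    have hz0 : z ≠ 0 := by
      rintro rfl
      exact hvz (uf_zero_right hf v)
    rw [hconst1 z w hzz hw hz0 hzw, hconst1 v z hv hzz hv0 hvz]
  by_cases hex : ∃ v0 : ι → F, v0 ≠ 0 ∧ f v0 v0 = 0
  · obtain ⟨v0, hv00, hv0⟩ := hex
    have hiso : ∀ x y, f y y = 0 →
        f ((g : Matrix ι ι F) *ᵥ x) ((g : Matrix ι ι F) *ᵥ y) = lam v0 * f x y := by
      intro x y hy
      by_cases hy0 : y = 0
      · rw [hy0, Matrix.mulVec_zero, uf_zero_right hf, uf_zero_right hf, mul_zero]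
      · rw [hlam y hy x, hconst v0 y hv0 hy hv00 hy0]
    have hall : ∀ x y,
        f ((g : Matrix ι ι F) *ᵥ x) ((g : Matrix ι ι F) *ᵥ y) = lam v0 * f x y := by
      intro x y
      obtain ⟨b1, b2, hb12, hb1, hb2, _, _⟩ :=
        uf_exists_iso_decomp hf hn (0 : ι → F) y (uf_zero_right hf y)
      rw [hb12, Matrix.mulVec_add, uf_add_right hf, uf_add_right hf, hiso x b1 hb1,
        hiso x b2 hb2, mul_add]
    have hc0 : lam v0 ≠ 0 := by
      intro h0
      have hgv : (g : Matrix ι ι F) *ᵥ v0 ≠ 0 := by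
        intro hz
        apply hv00
        have := congrArg (fun y => ((g⁻¹ : GL ι F) : Matrix ι ι F) *ᵥ y) hz
        simpa [Matrix.mulVec_mulVec, ← Units.val_mul] using this
      obtain ⟨⟨y, hy⟩, _⟩ := hf.nondegenerate _ hgv
      apply hy
      have := hall (((g⁻¹ : GL ι F) : Matrix ι ι F) *ᵥ y) v0
      rw [gl_apply_inv_apply, h0, zero_mul] at this
      exact this
    exact ⟨Units.mk0 (lam v0) hc0, fun x y => by rw [Units.val_mk0]; exact hall x y⟩
  · push Not at hex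
    have hzero : ∀ y : ι → F, y = 0 := by
      intro y
      obtain ⟨b1, b2, hb12, hb1, hb2, _, _⟩ :=
        uf_exists_iso_decomp hf hn (0 : ι → F) y (uf_zero_right hf y)
      have e1 : b1 = 0 := by
        by_contra hne
        exact hex b1 hne hb1
      have e2 : b2 = 0 := by
        by_contra hne
        exact hex b2 hne hb2
      rw [hb12, e1, e2, add_zero]
    refine ⟨1, fun x y => ?_⟩
    rw [hzero y, Matrix.mulVec_zero, uf_zero_right hf, uf_zero_right hf, mul_zero]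

end Cfsg.Agent.Helper93
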