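import Cfsg.Agent.Lib.Helper93.UGP
import Cfsg.Agent.Lib.Helper13.Herm
import Cfsg.Agent.Lib.Helper14.HermCount
import Cfsg.Prelude.Def_LieClassical

set_option autoImplicit false
set_option linter.unusedSectionVars false

namespace Cfsg.Agent.Helper93

open Matrix Cfsg.Geo

variable {F : Type*} [Field F] [Fintype F] {q : ℕ}

/-- the involution `x ↦ x ^ q` of the field with `q ^ 2` elements -/
noncomputable def frobQ (hF : Fintype.card F = q ^ 2) : F ≃+* F where
  toFun := fun x => x ^ q
  invFun := fun x => x ^ q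
  left_inv := fun x => Cfsg.Agent.Helper13.frob_frob hF x
  right_inv := fun x => Cfsg.Agent.Helper13.frob_frob hF x
  map_mul' := fun x y => mul_pow x y q
  map_add' := fun x y => Cfsg.Agent.Helper13.frob_add hF x y

lemma frobQ_apply (hF : Fintype.card F = q ^ 2) (x : F) : frobQ hF x = x ^ q := rfl

lemma hermForm_single_left' (n : ℕ) (i : Fin n) (u : Fin n → F) :
    Cfsg.hermForm n F q (Pi.single i 1) u = (u i) ^ q := by
  unfold Cfsg.hermForm
  rw [Finset.sum_eq_single i]
  · simp
  · intro j _ hj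
    simp [hj]
  · simp

theorem hermForm_unitary (hF : Fintype.card F = q ^ 2) (n : ℕ) :
    IsUnitaryForm (frobQ hF) (Cfsg.hermForm n F q) where
  ne_refl := by
    classical
    intro h
    have hall : ∀ x : F, x ^ q = x := fun x => by
      have := RingEquiv.congr_fun h x
      simpa [frobQ_apply] using this
    have h1 := Cfsg.Agent.Helper14.card_fixSet_le hF
    have h2 : Cfsg.Agent.Helper14.fixSet F q = Finset.univ := by
      ext x
      simp [Cfsg.Agent.Helper14.mem_fixSet, hall x]
    rw [h2, Finset.card_univ, hF] at h1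
    have := Cfsg.Agent.Helper14.two_le_q hF
    nlinarith
  involutive := fun a => Cfsg.Agent.Helper13.frob_frob hF a
  add_left := fun x y v => Cfsg.Agent.Helper13.hermForm_add_left x y v
  smul_left := fun c x v => Cfsg.Agent.Helper13.hermForm_smul_left c x v
  herm := fun v w => (Cfsg.Agent.Helper13.hermForm_conj hF w v).symm
  nondegenerate := by
    intro v hv
    obtain ⟨j, hj⟩ := Function.ne_iff.mp hv
    have hj' : v j ≠ 0 := hj
    have h1 : Cfsg.hermForm n F q (Pi.single j 1) v ≠ 0 := by
      rw [hermForm_single_left']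
      exact pow_ne_zero _ hj'
    refine ⟨⟨_, h1⟩, ⟨Pi.single j 1, ?_⟩⟩
    rw [← Cfsg.Agent.Helper13.hermForm_conj hF]
    exact pow_ne_zero _ h1

lemma mem_GU_iff_isom (n : ℕ) (g : GL (Fin n) F) :
    g ∈ Cfsg.GU n F q ↔ Isom (Cfsg.hermForm n F q) g := Iff.rfl

lemma mem_SU_iff (n : ℕ) (g : GL (Fin n) F) :
    g ∈ Cfsg.GU n F q ⊓ specialLinear (Fin n) F ↔
      Isom (Cfsg.hermForm n F q) g ∧ g ∈ specialLinear (Fin n) F := Iff.rfl

end Cfsg.Agent.Helper93
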