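import Cfsg.Agent.Lib.Helper93.UPair

set_option autoImplicit false
set_option linter.unusedSectionVars false

namespace Cfsg.Agent.Helper93

open Matrix Cfsg.Geo

variable {ι : Type} [Fintype ι] [DecidableEq ι] {F : Type*} [Field F]
variable {σ : F ≃+* F} {f : (ι → F) → (ι → F) → F}
variable {F₀ : Subfield F} {P : GL ι F} {ζ : F}

/-! ### the fixed field of the involution -/

lemma fld_decomp (hinv : ∀ a : F, σ (σ a) = a) (hfix : ∀ x : F, x ∈ F₀ ↔ σ x = x) {ω : F}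
    (hω : σ ω ≠ ω) (x : F) : ∃ a ∈ F₀, ∃ b ∈ F₀, x = a + ω * b := by
  have hne : ω - σ ω ≠ 0 := sub_ne_zero.2 (Ne.symm hω)
  obtain ⟨b, hb⟩ : ∃ b, b = (x - σ x) / (ω - σ ω) := ⟨_, rfl⟩
  have hb' : b * (ω - σ ω) = x - σ x := by rw [hb, div_mul_cancel₀ _ hne]
  have hbF : σ b = b := by
    have h1 : σ b * (σ ω - ω) = σ x - x := by
      have := congrArg σ hb'
      rwa [map_mul, map_sub, map_sub, hinv, hinv] at this
    have h2 : (σ b - b) * (ω - σ ω) = 0 := by linear_combination -h1 - hb'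
    rcases mul_eq_zero.1 h2 with h | h
    · exact sub_eq_zero.1 h
    · exact absurd h hne
  refine ⟨x - ω * b, (hfix _).2 ?_, b, (hfix _).2 hbF, by ring⟩
  rw [map_sub, map_mul, hbF]
  linear_combination hb'

lemma fld_decomp_unique (hfix : ∀ x : F, x ∈ F₀ ↔ σ x = x) {ω : F} (hω : σ ω ≠ ω) {a b : F}
    (ha : a ∈ F₀) (hb : b ∈ F₀) (h : a + ω * b ∈ F₀) : b = 0 := by
  by_contra hb0
  apply hω
  have h1 : ω * b ∈ F₀ := by
    have := F₀.sub_mem h ha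
    rwa [add_sub_cancel_left] at this
  have h2 : ω ∈ F₀ := by
    have := F₀.mul_mem h1 (F₀.inv_mem hb)
    rwa [mul_assoc, mul_inv_cancel₀ hb0, mul_one] at this
  exact (hfix ω).1 h2

lemma trz_div_mem (hfix : ∀ x : F, x ∈ F₀ ↔ σ x = x) (hζ : ζ + σ ζ = 0) {c : F}
    (hc : c + σ c = 0) : c / ζ ∈ F₀ := by
  have hσζ : σ ζ = -ζ := by linear_combination hζ
  have h1 : σ c = -c := by linear_combination hc
  rw [hfix, map_div₀, hσζ, h1, neg_div_neg_eq]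

lemma trz_of_mem (hfix : ∀ x : F, x ∈ F₀ ↔ σ x = x) (hζ : ζ + σ ζ = 0) {r : F} (hr : r ∈ F₀) :
    r * ζ + σ (r * ζ) = 0 := by
  rw [map_mul, (hfix r).1 hr]
  linear_combination r * hζ

/-! ### rational vectors -/

/-- the vectors of the `F₀`-span of the columns of `P` -/
def RatVec (F₀ : Subfield F) (P : GL ι F) (x : ι → F) : Prop :=
  ∃ u : ι → F, (∀ i, u i ∈ F₀) ∧ (P : Matrix ι ι F) *ᵥ u = x

lemma RatVec.zero : RatVec F₀ P 0 := ⟨0, fun _ => F₀.zero_mem, Matrix.mulVec_zero _⟩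

lemma RatVec.add {x y : ι → F} (hx : RatVec F₀ P x) (hy : RatVec F₀ P y) :
    RatVec F₀ P (x + y) := by
  obtain ⟨u, hu, rfl⟩ := hx
  obtain ⟨v, hv, rfl⟩ := hy
  exact ⟨u + v, fun i => F₀.add_mem (hu i) (hv i), Matrix.mulVec_add _ _ _⟩

lemma RatVec.smul {x : ι → F} {c : F} (hc : c ∈ F₀) (hx : RatVec F₀ P x) :
    RatVec F₀ P (c • x) := by
  obtain ⟨u, hu, rfl⟩ := hx
  exact ⟨c • u, fun i => F₀.mul_mem hc (hu i), Matrix.mulVec_smul _ _ _⟩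

lemma RatVec.neg {x : ι → F} (hx : RatVec F₀ P x) : RatVec F₀ P (-x) := by
  have := RatVec.smul (F₀.neg_mem F₀.one_mem) hx
  rwa [neg_one_smul] at this

lemma RatVec.sub {x y : ι → F} (hx : RatVec F₀ P x) (hy : RatVec F₀ P y) :
    RatVec F₀ P (x - y) := by
  rw [sub_eq_add_neg]
  exact hx.add hy.neg

lemma ratVec_col (F₀ : Subfield F) (P : GL ι F) (i : ι) :
    RatVec F₀ P ((P : Matrix ι ι F) *ᵥ Pi.single i 1) :=
  ⟨Pi.single i 1, fun j => by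
    by_cases h : j = i
    · rw [h, Pi.single_eq_same]; exact F₀.one_mem
    · rw [Pi.single_eq_of_ne h]; exact F₀.zero_mem, rfl⟩

lemma rat_decomp (hinv : ∀ a : F, σ (σ a) = a) (hfix : ∀ x : F, x ∈ F₀ ↔ σ x = x) (P : GL ι F)
    {ω : F} (hω : σ ω ≠ ω) (x : ι → F) :
    ∃ a b, RatVec F₀ P a ∧ RatVec F₀ P b ∧ x = a + ω • b := by
  have hcoord : ∀ i, ∃ a ∈ F₀, ∃ b ∈ F₀,
      (((P⁻¹ : GL ι F) : Matrix ι ι F) *ᵥ x) i = a + ω * b :=
    fun i => fld_decomp hinv hfix hω _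
  choose ua hua ub hub huab using hcoord
  refine ⟨(P : Matrix ι ι F) *ᵥ ua, (P : Matrix ι ι F) *ᵥ ub, ⟨ua, hua, rfl⟩, ⟨ub, hub, rfl⟩, ?_⟩
  have e : ua + ω • ub = ((P⁻¹ : GL ι F) : Matrix ι ι F) *ᵥ x := by
    funext i
    rw [huab i]
    rfl
  rw [← Matrix.mulVec_smul, ← Matrix.mulVec_add, e, gl_apply_inv_apply]

lemma ratVec_smul_mem {a : ι → F} (ha : RatVec F₀ P a) (ha0 : a ≠ 0) {c : F}
    (hca : RatVec F₀ P (c • a)) : c ∈ F₀ := by
  obtain ⟨u, hu, rfl⟩ := ha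
  obtain ⟨u', hu', h⟩ := hca
  rw [← Matrix.mulVec_smul] at h
  have h2 : u' = c • u := by
    have := congrArg (fun z => ((P⁻¹ : GL ι F) : Matrix ι ι F) *ᵥ z) h
    simpa only [gl_inv_apply_apply] using this
  have hu0 : u ≠ 0 := by
    rintro rfl
    exact ha0 (Matrix.mulVec_zero _)
  obtain ⟨i, hi⟩ : ∃ i, u i ≠ 0 := by
    by_contra hcon
    push Not at hcon
    exact hu0 (funext hcon)
  have h3 : u' i = c * u i := by rw [h2]; rfl
  have h4 : c = u' i * (u i)⁻¹ := by rw [h3, mul_assoc, mul_inv_cancel₀ hi, mul_one]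
  rw [h4]
  exact F₀.mul_mem (hu' i) (F₀.inv_mem (hu i))

/-- the data of a rational structure on which `ζ f` is an `F₀`-valued alternating form -/
structure RatStr (σ : F ≃+* F) (f : (ι → F) → (ι → F) → F) (F₀ : Subfield F) (ζ : F)
    (P : GL ι F) : Prop where
  fix : ∀ x : F, x ∈ F₀ ↔ σ x = x
  zeta0 : ζ ≠ 0
  zeta : ζ + σ ζ = 0
  form : ∀ a b, RatVec F₀ P a → RatVec F₀ P b → ζ * f a b ∈ F₀
  alt : ∀ a, RatVec F₀ P a → f a a = 0

lemma RatStr.skew (hf : IsUnitaryForm σ f) (hR : RatStr σ f F₀ ζ P) {a b : ι → F}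
    (ha : RatVec F₀ P a) (hb : RatVec F₀ P b) : f b a = -f a b := by
  have h1 := (hR.fix _).1 (hR.form a b ha hb)
  rw [map_mul, ← hf.herm b a] at h1
  have hσζ : σ ζ = -ζ := by linear_combination hR.zeta
  rw [hσζ] at h1
  have h2 : ζ * (f b a + f a b) = 0 := by linear_combination -h1
  rcases mul_eq_zero.1 h2 with h | h
  · exact absurd h hR.zeta0
  · linear_combination h

lemma RatStr.comp (hf : IsUnitaryForm σ f) (hR : RatStr σ f F₀ ζ P) {ω : F} (hω : σ ω ≠ ω)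
    {y1 y2 e : ι → F} (h1 : RatVec F₀ P y1) (h2 : RatVec F₀ P y2) (he : RatVec F₀ P e)
    (h : ζ * f (y1 + ω • y2) e ∈ F₀) : f y2 e = 0 := by
  have e1 : ζ * f (y1 + ω • y2) e = ζ * f y1 e + ω * (ζ * f y2 e) := by
    rw [hf.add_left, hf.smul_left]; ring
  rw [e1] at h
  have h3 := fld_decomp_unique hR.fix hω (hR.form _ _ h1 he) (hR.form _ _ h2 he) h
  rcases mul_eq_zero.1 h3 with h4 | h4
  · exact absurd h4 hR.zeta0
  · exact h4

lemma RatStr.exists_pair (hf : IsUnitaryForm σ f) (hR : RatStr σ f F₀ ζ P) {a : ι → F}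
    (ha0 : a ≠ 0) : ∃ y, RatVec F₀ P y ∧ f y a ≠ 0 := by
  obtain ⟨ω, hω⟩ := uf_exists_ne hf
  obtain ⟨⟨z, hz⟩, _⟩ := hf.nondegenerate a ha0
  obtain ⟨z1, z2, h1, h2, rfl⟩ := rat_decomp hf.involutive hR.fix P hω z
  by_cases h : f z1 a = 0
  · refine ⟨z2, h2, fun h' => hz ?_⟩
    rw [hf.add_left, hf.smul_left, h, h', mul_zero, add_zero]
  · exact ⟨z1, h1, h⟩

lemma RatStr.exists_dual2 [Finite F] (hf : IsUnitaryForm σ f) (hR : RatStr σ f F₀ ζ P)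
    (hn : 7 ≤ Fintype.card ι) {a b : ι → F} (ha : RatVec F₀ P a) (hb : RatVec F₀ P b)
    (hind : ∀ s t : F, s • a + t • b = 0 → s = 0 ∧ t = 0) {α β : F} (hα : α ∈ F₀)
    (hβ : β ∈ F₀) : ∃ y, RatVec F₀ P y ∧ ζ * f y a = α ∧ ζ * f y b = β := by
  obtain ⟨ω, hω⟩ := uf_exists_ne hf
  obtain ⟨y', -, -, hya, hyb⟩ := uf_exists_iso_prescribed hf ⊤ (nondeg_top hf)
    (finrank_top_ge hn) (Submodule.mem_top : a ∈ ⊤) (Submodule.mem_top : b ∈ ⊤) hind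
    (α / ζ) (β / ζ)
  obtain ⟨y1, y2, h1, h2, rfl⟩ := rat_decomp hf.involutive hR.fix P hω y'
  have e1 : ζ * f (y1 + ω • y2) a = α := by rw [hya, mul_comm, div_mul_cancel₀ _ hR.zeta0]
  have e2 : ζ * f (y1 + ω • y2) b = β := by rw [hyb, mul_comm, div_mul_cancel₀ _ hR.zeta0]
  have h2a : f y2 a = 0 := hR.comp hf hω h1 h2 ha (by rw [e1]; exact hα)
  have h2b : f y2 b = 0 := hR.comp hf hω h1 h2 hb (by rw [e2]; exact hβ)
  refine ⟨y1, h1, ?_, ?_⟩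
  · rw [← e1, hf.add_left, hf.smul_left, h2a, mul_zero, add_zero]
  · rw [← e2, hf.add_left, hf.smul_left, h2b, mul_zero, add_zero]

lemma RatStr.coeff_mem [Finite F] (hf : IsUnitaryForm σ f) (hR : RatStr σ f F₀ ζ P)
    (hn : 7 ≤ Fintype.card ι) {w1 w2 : ι → F} (h1 : RatVec F₀ P w1) (h2 : RatVec F₀ P w2)
    (hind : ∀ s t : F, s • w1 + t • w2 = 0 → s = 0 ∧ t = 0) {c1 c2 : F}
    (hw : RatVec F₀ P (c1 • w1 + c2 • w2)) : c1 ∈ F₀ ∧ c2 ∈ F₀ := by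
  constructor
  · obtain ⟨y, hy, hy1, hy2⟩ := hR.exists_dual2 hf hn h1 h2 hind F₀.one_mem F₀.zero_mem
    have hr := hR.form _ _ hw hy
    have e : ζ * f (c1 • w1 + c2 • w2) y = -c1 := by
      rw [hf.add_left, hf.smul_left, hf.smul_left, hR.skew hf hy h1, hR.skew hf hy h2]
      linear_combination (-c1) * hy1 + (-c2) * hy2
    rw [e] at hr
    have := F₀.neg_mem hr
    rwa [neg_neg] at this
  · obtain ⟨y, hy, hy1, hy2⟩ := hR.exists_dual2 hf hn h1 h2 hind F₀.zero_mem F₀.one_mem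
    have hr := hR.form _ _ hw hy
    have e : ζ * f (c1 • w1 + c2 • w2) y = -c2 := by
      rw [hf.add_left, hf.smul_left, hf.smul_left, hR.skew hf hy h1, hR.skew hf hy h2]
      linear_combination (-c1) * hy1 + (-c2) * hy2
    rw [e] at hr
    have := F₀.neg_mem hr
    rwa [neg_neg] at this

/-! ### membership in the subfield group -/

lemma mem_subfield_imp {g : GL ι F} (hg : g ∈ subfieldSubgroup F₀ P) :
    ∃ lam : F, lam ≠ 0 ∧ ∀ x, RatVec F₀ P x →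
      ∃ y, RatVec F₀ P y ∧ (g : Matrix ι ι F) *ᵥ x = lam • y := by
  unfold subfieldSubgroup at hg
  obtain ⟨k, hk, rfl⟩ := Subgroup.mem_map.1 hg
  rw [← SetLike.mem_coe, Subgroup.mul_normal] at hk
  obtain ⟨a, ha, s, hs, rfl⟩ := Set.mem_mul.1 hk
  obtain ⟨a0, rfl⟩ := ha
  obtain ⟨c, hc⟩ := (mem_scalars_iff s).1 hs
  refine ⟨c, c.ne_zero, ?_⟩
  rintro _ ⟨u, hu, rfl⟩
  refine ⟨(P : Matrix ι ι F) *ᵥ (((Matrix.GeneralLinearGroup.map (F₀.subtype : F₀ →+* F) a0 :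
    GL ι F) : Matrix ι ι F) *ᵥ u), ⟨_, ?_, rfl⟩, ?_⟩
  · intro i
    show ∑ j, ((Matrix.GeneralLinearGroup.map (F₀.subtype : F₀ →+* F) a0 : GL ι F) :
      Matrix ι ι F) i j * u j ∈ F₀
    exact F₀.sum_mem (fun j _ => F₀.mul_mem (a0 i j).2 (hu j))
  · show ((P * (Matrix.GeneralLinearGroup.map (F₀.subtype : F₀ →+* F) a0 * s) * P⁻¹ : GL ι F) :
      Matrix ι ι F) *ᵥ ((P : Matrix ι ι F) *ᵥ u) = _
    rw [gl_mul_apply, gl_mul_apply, gl_inv_apply_apply, gl_mul_apply, hc, Matrix.smul_mulVec,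
      Matrix.one_mulVec, Matrix.mulVec_smul, Matrix.mulVec_smul]

lemma mem_subfield_of {g : GL ι F} {lam : F} (hlam : lam ≠ 0)
    (h : ∀ x, RatVec F₀ P x → RatVec F₀ P (lam⁻¹ • ((g : Matrix ι ι F) *ᵥ x))) :
    g ∈ subfieldSubgroup F₀ P := by
  have hdet : ((lam⁻¹ • (1 : Matrix ι ι F))).det ≠ 0 := by
    rw [Matrix.det_smul, Matrix.det_one, mul_one]
    exact pow_ne_zero _ (inv_ne_zero hlam)
  obtain ⟨s, hs⟩ : ∃ s : GL ι F, (s : Matrix ι ι F) = lam⁻¹ • (1 : Matrix ι ι F) :=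
    ⟨Matrix.GeneralLinearGroup.mkOfDetNeZero _ hdet, rfl⟩
  have hsmem : s ∈ scalars ι F :=
    (mem_scalars_iff s).2 ⟨Units.mk0 lam⁻¹ (inv_ne_zero hlam), hs⟩
  have hsapp : ∀ x : ι → F, (s : Matrix ι ι F) *ᵥ x = lam⁻¹ • x := by
    intro x
    rw [hs, Matrix.smul_mulVec, Matrix.one_mulVec]
  obtain ⟨B, hB⟩ : ∃ B : GL ι F, B = P⁻¹ * g * P * s := ⟨_, rfl⟩
  have hBapp : ∀ x, (B : Matrix ι ι F) *ᵥ x
      = lam⁻¹ • (((P⁻¹ : GL ι F) : Matrix ι ι F) *ᵥ ((g : Matrix ι ι F) *ᵥ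
        ((P : Matrix ι ι F) *ᵥ x))) := by
    intro x
    rw [hB, gl_mul_apply, gl_mul_apply, gl_mul_apply, hsapp]
    simp only [Matrix.mulVec_smul]
  have hBent : ∀ i j, (B : Matrix ι ι F) i j ∈ F₀ := by
    intro i j
    obtain ⟨u, hu, hPu⟩ := h _ (ratVec_col F₀ P j)
    have e : (B : Matrix ι ι F) *ᵥ Pi.single j 1 = u := by
      rw [hBapp, ← Matrix.mulVec_smul, ← hPu, gl_inv_apply_apply]
    have e2 : (B : Matrix ι ι F) i j = u i := by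
      rw [← e, Matrix.mulVec_single_one]
      rfl
    rw [e2]
    exact hu i
  let M0 : Matrix ι ι F₀ := fun i j => ⟨(B : Matrix ι ι F) i j, hBent i j⟩
  have hM0 : M0.map (F₀.subtype : F₀ →+* F) = (B : Matrix ι ι F) := by
    ext i j
    rfl
  have hdet0 : M0.det ≠ 0 := by
    intro h0
    have h1 : (F₀.subtype : F₀ →+* F) M0.det = ((B : Matrix ι ι F)).det := by
      rw [RingHom.map_det, RingHom.mapMatrix_apply, hM0]
    rw [h0, map_zero] at h1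
    exact ((Matrix.isUnit_iff_isUnit_det _).1 B.isUnit).ne_zero h1.symm
  have hBmem : B ∈ (Matrix.GeneralLinearGroup.map (F₀.subtype : F₀ →+* F)).range := by
    refine ⟨Matrix.GeneralLinearGroup.mkOfDetNeZero M0 hdet0, ?_⟩
    apply Units.ext
    ext i j
    rfl
  unfold subfieldSubgroup
  refine Subgroup.mem_map.2 ⟨B * s⁻¹,
    Subgroup.mul_mem_sup hBmem ((scalars ι F).inv_mem hsmem), ?_⟩
  show P * (B * s⁻¹) * P⁻¹ = g
  rw [hB]
  group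

end Cfsg.Agent.Helper93
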