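import Cfsg.Agent.Lib.Helper93.USub
import Cfsg.Agent.Lib.Helper93.UND
import Cfsg.Agent.Lib.Helper14.HermCount

set_option autoImplicit false
set_option linter.unusedSectionVars false

namespace Cfsg.Agent.Helper93

open Matrix Cfsg.Geo

variable {ι : Type} [Fintype ι] [DecidableEq ι] {F : Type*} [Field F]
variable {σ : F ≃+* F} {f : (ι → F) → (ι → F) → F}
variable {F₀ : Subfield F} {P : GL ι F} {ζ : F}

lemma uref_mem_subfield (hf : IsUnitaryForm σ f) (hR : RatStr σ f F₀ ζ P) {a : ι → F}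
    (ha : RatVec F₀ P a) {κ : F} (hκ : κ + σ κ = 0) :
    uref hf a κ ∈ subfieldSubgroup F₀ P ∧
      ∀ x, RatVec F₀ P x → RatVec F₀ P (((uref hf a κ : GL ι F) : Matrix ι ι F) *ᵥ x) := by
  have hmaps : ∀ x, RatVec F₀ P x →
      RatVec F₀ P (((uref hf a κ : GL ι F) : Matrix ι ι F) *ᵥ x) := by
    intro x hx
    rw [uref_apply_iso hf a κ (hR.alt a ha)]
    refine hx.add (RatVec.smul ?_ ha)
    have e : κ * f x a = κ / ζ * (ζ * f x a) := by
      rw [← mul_assoc, div_mul_cancel₀ _ hR.zeta0]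
    rw [e]
    exact F₀.mul_mem (trz_div_mem hR.fix hR.zeta hκ) (hR.form x a hx ha)
  refine ⟨mem_subfield_of (lam := 1) one_ne_zero (fun x hx => ?_), hmaps⟩
  rw [inv_one, one_smul]
  exact hmaps x hx

lemma rat_move (hf : IsUnitaryForm σ f) (hR : RatStr σ f F₀ ζ P) (N : Subgroup (GL ι F))
    (hN : ∀ c, RatVec F₀ P c → ∀ κ, κ + σ κ = 0 → uref hf c κ ∈ N) {x y : ι → F}
    (hx : RatVec F₀ P x) (hy : RatVec F₀ P y) (hxy : f x y ≠ 0) :
    ∃ h ∈ N, (h : Matrix ι ι F) *ᵥ x = y ∧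
      (∀ z, RatVec F₀ P z → RatVec F₀ P ((h : Matrix ι ι F) *ᵥ z)) ∧
      (∀ z, f z (y - x) = 0 → (h : Matrix ι ι F) *ᵥ z = z) := by
  have hc : RatVec F₀ P (y - x) := hy.sub hx
  have hcc : f (y - x) (y - x) = 0 := hR.alt _ hc
  have hr : ζ * f x y ∈ F₀ := hR.form x y hx hy
  have e : (f x y)⁻¹ = (ζ * f x y)⁻¹ * ζ := by
    rw [mul_inv, mul_comm ζ⁻¹, mul_assoc, inv_mul_cancel₀ hR.zeta0, mul_one]
  have hκ : (f x y)⁻¹ + σ (f x y)⁻¹ = 0 := by
    rw [e]
    exact trz_of_mem hR.fix hR.zeta (F₀.inv_mem hr)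
  refine ⟨uref hf (y - x) (f x y)⁻¹, hN _ hc _ hκ, ?_, (uref_mem_subfield hf hR hc hκ).2, ?_⟩
  · rw [uref_apply_iso hf _ _ hcc, uf_sub_right hf, hR.alt x hx, sub_zero,
      inv_mul_cancel₀ hxy, one_smul]
    abel
  · intro z hz
    exact uref_fix hf _ _ hcc z hz

lemma rat_trans1 (hf : IsUnitaryForm σ f) (hR : RatStr σ f F₀ ζ P) (N : Subgroup (GL ι F))
    (hN : ∀ c, RatVec F₀ P c → ∀ κ, κ + σ κ = 0 → uref hf c κ ∈ N) {a0 a : ι → F}
    (ha0 : RatVec F₀ P a0) (ha : RatVec F₀ P a) (h0 : a0 ≠ 0) (h1 : a ≠ 0) :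
    ∃ h ∈ N, (h : Matrix ι ι F) *ᵥ a0 = a ∧
      (∀ z, RatVec F₀ P z → RatVec F₀ P ((h : Matrix ι ι F) *ᵥ z)) := by
  obtain ⟨p, hp, hpa0⟩ := hR.exists_pair hf h0
  obtain ⟨q, hq, hqa⟩ := hR.exists_pair hf h1
  obtain ⟨m, hm, hm1, hm2⟩ : ∃ m, RatVec F₀ P m ∧ f m a0 ≠ 0 ∧ f m a ≠ 0 := by
    by_cases h3 : f p a = 0
    · by_cases h4 : f q a0 = 0
      · refine ⟨p + q, hp.add hq, ?_, ?_⟩
        · rw [hf.add_left, h4, add_zero]; exact hpa0
        · rw [hf.add_left, h3, zero_add]; exact hqa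
      · exact ⟨q, hq, h4, hqa⟩
    · exact ⟨p, hp, hpa0, h3⟩
  obtain ⟨g1, hg1N, hg1, hg1R, _⟩ := rat_move hf hR N hN ha0 hm (uf_ne_zero_symm hf hm1)
  obtain ⟨g2, hg2N, hg2, hg2R, _⟩ := rat_move hf hR N hN hm ha hm2
  refine ⟨g2 * g1, N.mul_mem hg2N hg1N, ?_, ?_⟩
  · rw [gl_mul_apply, hg1, hg2]
  · intro z hz
    rw [gl_mul_apply]
    exact hg2R _ (hg1R z hz)

lemma rat_trans2 [Finite F] (hf : IsUnitaryForm σ f) (hR : RatStr σ f F₀ ζ P)
    (hn : 7 ≤ Fintype.card ι) (N : Subgroup (GL ι F))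
    (hN : ∀ c, RatVec F₀ P c → ∀ κ, κ + σ κ = 0 → uref hf c κ ∈ N)
    (hNI : ∀ h ∈ N, Isom f h) {a0 b0 a b : ι → F}
    (ha0 : RatVec F₀ P a0) (hb0 : RatVec F₀ P b0) (ha : RatVec F₀ P a) (hb : RatVec F₀ P b)
    (hi0 : ∀ s t : F, s • a0 + t • b0 = 0 → s = 0 ∧ t = 0)
    (hi : ∀ s t : F, s • a + t • b = 0 → s = 0 ∧ t = 0)
    (ho0 : f a0 b0 = 0) (ho : f a b = 0) :
    ∃ h ∈ N, (h : Matrix ι ι F) *ᵥ a0 = a ∧ (h : Matrix ι ι F) *ᵥ b0 = b := by
  have ha00 : a0 ≠ 0 := by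
    rintro rfl
    have := hi0 1 0 (by rw [smul_zero, zero_smul, add_zero])
    exact one_ne_zero this.1
  have ha_0 : a ≠ 0 := by
    rintro rfl
    have := hi 1 0 (by rw [smul_zero, zero_smul, add_zero])
    exact one_ne_zero this.1
  obtain ⟨h1, h1N, h1a, h1R⟩ := rat_trans1 hf hR N hN ha0 ha ha00 ha_0
  have h1I : Isom f h1 := hNI h1 h1N
  obtain ⟨b1, hb1⟩ : ∃ b1, b1 = (h1 : Matrix ι ι F) *ᵥ b0 := ⟨_, rfl⟩
  have hb1R : RatVec F₀ P b1 := by rw [hb1]; exact h1R b0 hb0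
  have hab1 : f a b1 = 0 := by rw [hb1, ← h1a, h1I]; exact ho0
  have hi1 : ∀ s t : F, s • a + t • b1 = 0 → s = 0 ∧ t = 0 := by
    intro s t hst
    apply hi0 s t
    apply gl_mulVec_eq_zero (g := h1)
    rw [Matrix.mulVec_add, Matrix.mulVec_smul, Matrix.mulVec_smul, h1a, ← hb1]
    exact hst
  obtain ⟨p, hp, hp1, hp2⟩ := hR.exists_dual2 hf hn ha hb1R hi1 F₀.zero_mem F₀.one_mem
  obtain ⟨q, hq, hq1, hq2⟩ := hR.exists_dual2 hf hn ha hb hi F₀.zero_mem F₀.one_mem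
  have hpa : f p a = 0 := (mul_eq_zero.1 hp1).resolve_left hR.zeta0
  have hqa : f q a = 0 := (mul_eq_zero.1 hq1).resolve_left hR.zeta0
  have hpb1 : f p b1 ≠ 0 := by
    intro h0
    rw [h0, mul_zero] at hp2
    exact zero_ne_one hp2
  have hqb : f q b ≠ 0 := by
    intro h0
    rw [h0, mul_zero] at hq2
    exact zero_ne_one hq2
  obtain ⟨m, hm, hma, hm1, hm2⟩ :
      ∃ m, RatVec F₀ P m ∧ f m a = 0 ∧ f m b1 ≠ 0 ∧ f m b ≠ 0 := by
    by_cases h3 : f p b = 0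
    · by_cases h4 : f q b1 = 0
      · refine ⟨p + q, hp.add hq, ?_, ?_, ?_⟩
        · rw [hf.add_left, hpa, hqa, add_zero]
        · rw [hf.add_left, h4, add_zero]; exact hpb1
        · rw [hf.add_left, h3, zero_add]; exact hqb
      · exact ⟨q, hq, hqa, h4, hqb⟩
    · exact ⟨p, hp, hpa, hpb1, h3⟩
  have ham : f a m = 0 := uf_eq_zero_symm hf hma
  obtain ⟨g1, hg1N, hg1, _, hg1fix⟩ :=
    rat_move hf hR N hN hb1R hm (uf_ne_zero_symm hf hm1)
  obtain ⟨g2, hg2N, hg2, _, hg2fix⟩ := rat_move hf hR N hN hm hb hm2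
  have hg1a : (g1 : Matrix ι ι F) *ᵥ a = a := by
    apply hg1fix
    rw [uf_sub_right hf, ham, hab1, sub_zero]
  have hg2a : (g2 : Matrix ι ι F) *ᵥ a = a := by
    apply hg2fix
    rw [uf_sub_right hf, ho, ham, sub_zero]
  refine ⟨g2 * g1 * h1, N.mul_mem (N.mul_mem hg2N hg1N) h1N, ?_, ?_⟩
  · rw [gl_mul_apply, gl_mul_apply, h1a, hg1a, hg2a]
  · rw [gl_mul_apply, gl_mul_apply, ← hb1, hg1, hg2]

lemma exists_ratVec_ne_zero (F₀ : Subfield F) (P : GL ι F) (hn : 0 < Fintype.card ι) :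
    ∃ p0, RatVec F₀ P p0 ∧ p0 ≠ 0 := by
  have hne : Nonempty ι := Fintype.card_pos_iff.1 hn
  obtain ⟨i0⟩ := hne
  refine ⟨_, ratVec_col F₀ P i0, ?_⟩
  intro h0
  have h1 := gl_mulVec_eq_zero h0
  have h2 := congrFun h1 i0
  rw [Pi.single_eq_same] at h2
  exact one_ne_zero h2

lemma mem_subfield_of_ratpt [Finite F] (hf : IsUnitaryForm σ f) (hR : RatStr σ f F₀ ζ P)
    (hn : 7 ≤ Fintype.card ι) (g : GL ι F)
    (h : ∀ e, RatVec F₀ P e →
      ∃ μ : F, ∃ e', RatVec F₀ P e' ∧ (g : Matrix ι ι F) *ᵥ e = μ • e') :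
    g ∈ subfieldSubgroup F₀ P := by
  obtain ⟨p0, hp0, hp00⟩ := exists_ratVec_ne_zero F₀ P (by omega)
  obtain ⟨lam, w0, hw0, hgp0⟩ := h p0 hp0
  have hlam0 : lam ≠ 0 := by
    rintro rfl
    rw [zero_smul] at hgp0
    exact hp00 (gl_mulVec_eq_zero hgp0)
  apply mem_subfield_of hlam0
  intro x hx
  by_cases hdep : ∃ c : F, x = c • p0
  · obtain ⟨c, rfl⟩ := hdep
    have hc : c ∈ F₀ := ratVec_smul_mem hp0 hp00 hx
    have e : lam⁻¹ • ((g : Matrix ι ι F) *ᵥ (c • p0)) = c • w0 := by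
      calc lam⁻¹ • ((g : Matrix ι ι F) *ᵥ (c • p0)) = lam⁻¹ • (c • (lam • w0)) := by
            rw [Matrix.mulVec_smul, hgp0]
        _ = (lam⁻¹ * lam) • (c • w0) := by rw [smul_comm c lam w0, ← smul_smul]
        _ = c • w0 := by rw [inv_mul_cancel₀ hlam0, one_smul]
    rw [e]
    exact RatVec.smul hc hw0
  · push Not at hdep
    have hx0 : x ≠ 0 := by
      intro h0
      exact hdep 0 (by rw [h0, zero_smul])
    obtain ⟨μ, w, hw, hgx⟩ := h x hx
    obtain ⟨ν, w', hw', hgxp⟩ := h (x + p0) (hx.add hp0)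
    have hindxp : ∀ s t : F, s • p0 + t • x = 0 → s = 0 ∧ t = 0 := indep_of_not_smul hp00 hdep
    have hμ0 : μ ≠ 0 := by
      rintro rfl
      rw [zero_smul] at hgx
      exact hx0 (gl_mulVec_eq_zero hgx)
    have hν0 : ν ≠ 0 := by
      rintro rfl
      rw [zero_smul] at hgxp
      have h1 := gl_mulVec_eq_zero hgxp
      have := hindxp 1 1 (by rw [one_smul, one_smul, add_comm]; exact h1)
      exact one_ne_zero this.1
    have hindw : ∀ s t : F, s • w0 + t • w = 0 → s = 0 ∧ t = 0 := by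
      intro s t hst
      have h1 : (g : Matrix ι ι F) *ᵥ ((s * lam⁻¹) • p0 + (t * μ⁻¹) • x) = 0 := by
        rw [Matrix.mulVec_add, Matrix.mulVec_smul, Matrix.mulVec_smul, hgp0, hgx, smul_smul,
          smul_smul, mul_assoc, mul_assoc, inv_mul_cancel₀ hlam0, inv_mul_cancel₀ hμ0, mul_one,
          mul_one]
        exact hst
      have h2 := hindxp _ _ (gl_mulVec_eq_zero h1)
      constructor
      · exact (mul_eq_zero.1 h2.1).resolve_right (inv_ne_zero hlam0)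
      · exact (mul_eq_zero.1 h2.2).resolve_right (inv_ne_zero hμ0)
    have hsum : ν • w' = lam • w0 + μ • w := by
      rw [← hgxp, Matrix.mulVec_add, hgx, hgp0, add_comm]
    have hw'eq : w' = (ν⁻¹ * lam) • w0 + (ν⁻¹ * μ) • w := by
      calc w' = ν⁻¹ • (ν • w') := by rw [smul_smul, inv_mul_cancel₀ hν0, one_smul]
        _ = ν⁻¹ • (lam • w0 + μ • w) := by rw [hsum]
        _ = (ν⁻¹ * lam) • w0 + (ν⁻¹ * μ) • w := by rw [smul_add, smul_smul, smul_smul]
    rw [hw'eq] at hw'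
    obtain ⟨hc1, hc2⟩ := hR.coeff_mem hf hn hw0 hw hindw hw'
    have hmem : lam⁻¹ * μ ∈ F₀ := by
      have h3 := F₀.mul_mem (F₀.inv_mem hc1) hc2
      have e : (ν⁻¹ * lam)⁻¹ * (ν⁻¹ * μ) = lam⁻¹ * μ := by
        rw [mul_inv, inv_inv]
        calc ν * lam⁻¹ * (ν⁻¹ * μ) = (ν * ν⁻¹) * (lam⁻¹ * μ) := by ring
          _ = lam⁻¹ * μ := by rw [mul_inv_cancel₀ hν0, one_mul]
      rwa [e] at h3
    rw [hgx, smul_smul]
    exact RatVec.smul hmem hw

theorem usub_sp_max [Finite F] (hf : IsUnitaryForm σ f) (hn : 13 ≤ Fintype.card ι)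
    (hR : RatStr σ f F₀ ζ P) (G : Subgroup (GL ι F))
    (hG : ∀ g, g ∈ G ↔ Isom f g ∧ g ∈ specialLinear ι F) :
    IsMaximalIn G (subfieldSubgroup F₀ P ⊓ G) := by
  have hn7 : 7 ≤ Fintype.card ι := by omega
  obtain ⟨ω, hω⟩ := uf_exists_ne hf
  have hTG : ∀ t ∈ TU hf, t ∈ G := fun t ht => (hG t).2 ⟨TU_isom hf t ht, TU_le_SL hf ht⟩
  have hHtv : ∀ c, RatVec F₀ P c → ∀ κ, κ + σ κ = 0 →
      uref hf c κ ∈ subfieldSubgroup F₀ P ⊓ G :=
    fun c hc κ hκ => ⟨(uref_mem_subfield hf hR hc hκ).1,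
      hTG _ (uref_mem_TU hf (hR.alt c hc) hκ)⟩
  have hiso_iff : ∀ a b, RatVec F₀ P a → RatVec F₀ P b →
      (f (a + ω • b) (a + ω • b) = 0 ↔ f a b = 0) := by
    intro a b ha hb
    have e : f (a + ω • b) (a + ω • b) = (σ ω - ω) * f a b := by
      rw [hf.add_left, uf_add_right hf, uf_add_right hf, hf.smul_left, hf.smul_left,
        uf_smul_right hf, uf_smul_right hf, hR.alt a ha, hR.alt b hb, hR.skew hf ha hb]
      ring
    rw [e]
    constructor
    · intro h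
      exact (mul_eq_zero.1 h).resolve_left (sub_ne_zero.2 hω)
    · intro h
      rw [h, mul_zero]
  have hdep : ∀ a b, RatVec F₀ P a → RatVec F₀ P b →
      (¬ ∀ s t : F, s • a + t • b = 0 → s = 0 ∧ t = 0) →
      ∃ μ : F, ∃ e', RatVec F₀ P e' ∧ a + ω • b = μ • e' := by
    intro a b ha hb hnot
    push Not at hnot
    obtain ⟨s, t, hst, hne⟩ := hnot
    by_cases ht : t = 0
    · have hs : s ≠ 0 := fun h => hne h ht
      rw [ht, zero_smul, add_zero] at hst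
      have ha0' : a = 0 := (smul_eq_zero.1 hst).resolve_left hs
      exact ⟨ω, b, hb, by rw [ha0', zero_add]⟩
    · have hb' : b = (-(t⁻¹ * s)) • a := by
        have h1 : t • b = -(s • a) := eq_neg_of_add_eq_zero_right hst
        calc b = t⁻¹ • (t • b) := by rw [smul_smul, inv_mul_cancel₀ ht, one_smul]
          _ = t⁻¹ • (-(s • a)) := by rw [h1]
          _ = (-(t⁻¹ * s)) • a := by rw [smul_neg, smul_smul, neg_smul]
      refine ⟨1 + ω * (-(t⁻¹ * s)), a, ha, ?_⟩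
      rw [hb', smul_smul, add_smul, one_smul]
  constructor
  · refine SetLike.lt_iff_le_and_exists.2 ⟨inf_le_right, ?_⟩
    obtain ⟨e1, he1, he10⟩ := exists_ratVec_ne_zero F₀ P (by omega)
    obtain ⟨p, hp, hpe1⟩ := hR.exists_pair hf he10
    obtain ⟨y', _, hy'0, hy1, hy2, _⟩ := uexists_ne_zero_perp3 hf ⊤
      (by rw [finrank_top, Module.finrank_fintype_fun_eq_card]; omega) e1 p p
    obtain ⟨y1, y2, hy1R, hy2R, rfl⟩ := rat_decomp hf.involutive hR.fix P hω y'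
    have c1 : f y2 e1 = 0 :=
      hR.comp hf hω hy1R hy2R he1 (by rw [hy1, mul_zero]; exact F₀.zero_mem)
    have c2 : f y2 p = 0 :=
      hR.comp hf hω hy1R hy2R hp (by rw [hy2, mul_zero]; exact F₀.zero_mem)
    have c3 : f y1 e1 = 0 := by
      rw [hf.add_left, hf.smul_left, c1, mul_zero, add_zero] at hy1
      exact hy1
    have c4 : f y1 p = 0 := by
      rw [hf.add_left, hf.smul_left, c2, mul_zero, add_zero] at hy2
      exact hy2
    obtain ⟨e2, he2, he20, he2e1, he2p⟩ :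
        ∃ e2, RatVec F₀ P e2 ∧ e2 ≠ 0 ∧ f e2 e1 = 0 ∧ f e2 p = 0 := by
      by_cases h : y1 = 0
      · refine ⟨y2, hy2R, ?_, c1, c2⟩
        intro h2
        apply hy'0
        rw [h, h2, smul_zero, add_zero]
      · exact ⟨y1, hy1R, h, c3, c4⟩
    have hind : ∀ s t : F, s • e1 + t • e2 = 0 → s = 0 ∧ t = 0 := by
      intro s t hst
      have h1 : f (s • e1 + t • e2) p = 0 := by rw [hst, uf_zero_left hf]
      rw [hf.add_left, hf.smul_left, hf.smul_left, he2p, mul_zero, add_zero] at h1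
      have hs : s = 0 := (mul_eq_zero.1 h1).resolve_right (uf_ne_zero_symm hf hpe1)
      rw [hs, zero_smul, zero_add] at hst
      rcases smul_eq_zero.1 hst with h | h
      · exact ⟨hs, h⟩
      · exact absurd h he20
    have he12 : f e1 e2 = 0 := uf_eq_zero_symm hf he2e1
    have haiso : f (e1 + ω • e2) (e1 + ω • e2) = 0 := (hiso_iff e1 e2 he1 he2).2 he12
    have hane : e1 + ω • e2 ≠ 0 := by
      intro h0
      have := hind 1 ω (by rw [one_smul]; exact h0)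
      exact one_ne_zero this.1
    obtain ⟨t, htT, μ, hμ⟩ := TU_transitive hf hn7 (x := e1) hane
      (by rw [haiso]; exact hR.alt e1 he1)
    refine ⟨t, hTG t htT, ?_⟩
    rintro ⟨hsub, _⟩
    obtain ⟨lam, hlam0, hmap⟩ := mem_subfield_imp hsub
    obtain ⟨y, hyR, hy⟩ := hmap e1 he1
    rw [hμ] at hy
    have hμ0 : μ ≠ 0 := by
      rintro rfl
      rw [zero_smul] at hμ
      exact he10 (gl_mulVec_eq_zero hμ)
    have hy' : y = (lam⁻¹ * μ) • e1 + (lam⁻¹ * μ * ω) • e2 := by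
      calc y = lam⁻¹ • (lam • y) := by rw [smul_smul, inv_mul_cancel₀ hlam0, one_smul]
        _ = lam⁻¹ • (μ • (e1 + ω • e2)) := by rw [hy]
        _ = (lam⁻¹ * μ) • e1 + (lam⁻¹ * μ * ω) • e2 := by module
    rw [hy'] at hyR
    obtain ⟨hc1, hc2⟩ := hR.coeff_mem hf hn7 he1 he2 hind hyR
    apply hω
    apply (hR.fix ω).1
    have hc0 : lam⁻¹ * μ ≠ 0 := mul_ne_zero (inv_ne_zero hlam0) hμ0
    have := F₀.mul_mem (F₀.inv_mem hc1) hc2
    rwa [← mul_assoc, inv_mul_cancel₀ hc0, one_mul] at this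
  · intro M hHM hMG
    by_cases hMH : M ≤ subfieldSubgroup F₀ P ⊓ G
    · left; exact le_antisymm hMH hHM
    · right
      apply le_antisymm hMG
      obtain ⟨g, hgM, hgH⟩ := SetLike.not_le_iff_exists.1 hMH
      have hMI : ∀ m ∈ M, Isom f m := fun m hm => ((hG m).1 (hMG hm)).1
      have hgI : Isom f g := hMI g hgM
      have hgS : g ∉ subfieldSubgroup F₀ P := fun h => hgH ⟨h, hMG hgM⟩
      have hMtv : ∀ c, RatVec F₀ P c → ∀ κ, κ + σ κ = 0 → uref hf c κ ∈ M :=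
        fun c hc κ hκ => hHM (hHtv c hc κ hκ)
      have hRC : ∀ c, RatVec F₀ P c → UCtr hf M c := fun c hc => ⟨hR.alt c hc, hMtv c hc⟩
      have hstepC : ∃ e, RatVec F₀ P e ∧
          ¬ ∃ μ : F, ∃ e', RatVec F₀ P e' ∧ (g : Matrix ι ι F) *ᵥ e = μ • e' := by
        by_contra hcon
        apply hgS
        apply mem_subfield_of_ratpt hf hR hn7 g
        intro e he
        by_contra h2
        exact hcon ⟨e, he, h2⟩
      obtain ⟨e, he, hnr⟩ := hstepC
      have hCx : UCtr hf M ((g : Matrix ι ι F) *ᵥ e) := (hRC e he).conj hf g hgM hgI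
      obtain ⟨a0, b0, ha0, hb0, hx0⟩ :=
        rat_decomp hf.involutive hR.fix P hω ((g : Matrix ι ι F) *ᵥ e)
      rw [hx0] at hCx hnr
      have ho0 : f a0 b0 = 0 := (hiso_iff a0 b0 ha0 hb0).1 hCx.1
      have hindep0 : ∀ s t : F, s • a0 + t • b0 = 0 → s = 0 ∧ t = 0 := by
        by_contra hnot
        exact hnr (hdep a0 b0 ha0 hb0 hnot)
      have hclaim : ∀ a b, RatVec F₀ P a → RatVec F₀ P b → f a b = 0 →
          UCtr hf M (a + ω • b) := by
        intro a b ha hb hab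
        by_cases hind : ∀ s t : F, s • a + t • b = 0 → s = 0 ∧ t = 0
        · obtain ⟨h, hhM, hha, hhb⟩ :=
            rat_trans2 hf hR hn7 M hMtv hMI ha0 hb0 ha hb hindep0 hind ho0 hab
          have := hCx.conj hf h hhM (hMI h hhM)
          rwa [Matrix.mulVec_add, Matrix.mulVec_smul, hha, hhb] at this
        · obtain ⟨μ, e', he', heq⟩ := hdep a b ha hb hind
          rw [heq]
          exact (hRC e' he').smul hf μ
      have hAll : ∀ x : ι → F, f x x = 0 → UCtr hf M x := by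
        intro x hxx
        obtain ⟨a, b, ha, hb, rfl⟩ := rat_decomp hf.involutive hR.fix P hω x
        exact hclaim a b ha hb ((hiso_iff a b ha hb).1 hxx)
      intro g' hg'
      have hTM : TU hf ≤ M := by
        unfold TU
        rw [Subgroup.closure_le]
        rintro t ⟨a, c, ha, hc, rfl⟩
        exact (hAll a ha).2 c hc
      obtain ⟨hI', hS'⟩ := (hG g').1 hg'
      exact hTM (isom_SL_mem_TU hf hn7 g' hI' hS')

/-- the subfield of order `q` is the fixed field of the `q`-power map -/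
lemma mem_subfield_iff_frob {K : Type*} [Field K] [Fintype K] {q : ℕ}
    (hF : Fintype.card K = q ^ 2) (K₀ : Subfield K) (hcard : Fintype.card K = Nat.card K₀ ^ 2)
    (x : K) : x ∈ K₀ ↔ x ^ q = x := by
  classical
  have hq : Nat.card K₀ = q := by
    have h1 : Nat.card K₀ ^ 2 = q ^ 2 := by rw [← hcard, hF]
    exact Nat.pow_left_injective (by norm_num : (2 : ℕ) ≠ 0) h1
  have hmem : ∀ y : K, y ∈ K₀ → y ^ q = y := by
    intro y hy
    have h1 : (⟨y, hy⟩ : K₀) ^ Fintype.card K₀ = ⟨y, hy⟩ := FiniteField.pow_card _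
    have h2 := congrArg (fun z : K₀ => (z : K)) h1
    rw [← Nat.card_eq_fintype_card, hq] at h2
    simpa using h2
  constructor
  · exact hmem x
  · intro hx
    have hsub : Finset.univ.filter (fun y : K => y ∈ K₀) ⊆ Cfsg.Agent.Helper14.fixSet K q := by
      intro y hy
      rw [Finset.mem_filter] at hy
      exact (Cfsg.Agent.Helper14.mem_fixSet y).2 (hmem y hy.2)
    have hcardf : (Finset.univ.filter (fun y : K => y ∈ K₀)).card = q := by
      rw [← hq, Nat.card_eq_fintype_card]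
      exact (Fintype.card_of_subtype _ (fun y => by simp)).symm
    have hle : (Cfsg.Agent.Helper14.fixSet K q).card
        ≤ (Finset.univ.filter (fun y : K => y ∈ K₀)).card := by
      rw [hcardf]
      exact Cfsg.Agent.Helper14.card_fixSet_le hF
    have heq := Finset.eq_of_subset_of_card_le hsub hle
    have hxm : x ∈ Finset.univ.filter (fun y : K => y ∈ K₀) := by
      rw [heq]
      exact (Cfsg.Agent.Helper14.mem_fixSet x).2 hx
    exact (Finset.mem_filter.1 hxm).2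

end Cfsg.Agent.Helper93
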